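import Mathlib
import Cfsg.Prelude.Def_Sporadic_a

/-!
# Leech lattice of the Prelude: explicit description.

`leechSet` is an additive subgroup (only needs: `golayCode` linear and contains the all-ones word),
so `leechLattice` is exactly `leechSet`; explicit word attached to a vector.
-/

set_option autoImplicit false

namespace Cfsg.Agent.Lib.Sporadic.LeechBasic

open Cfsg

/-- support₂ is injective. -/
theorem support₂_injective {α : Type*} [Fintype α] :
    Function.Injective (support₂ : (α → ZMod 2) → Finset α) := by
  intro u v h
  funext i
  have h' : u i ≠ 0 ↔ v i ≠ 0 := by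
    have := Finset.ext_iff.mp h i
    simpa [support₂] using this
  have key : ∀ a b : ZMod 2, (a ≠ 0 ↔ b ≠ 0) → a = b := by decide
  exact key _ _ h'

theorem support₂_mem_supports_iff {α : Type*} [Fintype α] (C : Set (α → ZMod 2))
    (w : α → ZMod 2) : support₂ w ∈ supports C ↔ w ∈ C := by
  constructor
  · rintro ⟨v, hv, hvw⟩
    rwa [← support₂_injective hvw]
  · intro h; exact ⟨w, h, rfl⟩

/-- The binary word of a vector: `i ↦ ⌊x i / 2⌋ mod 2`. -/
def wd {α : Type*} (x : α → ℤ) : α → ZMod 2 := fun i => ((x i / 2 : ℤ) : ZMod 2)

theorem zmod2_cast_ne_zero_iff (a : ℤ) : ((a : ℤ) : ZMod 2) ≠ 0 ↔ a % 2 = 1 := by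
  rw [Ne, ZMod.intCast_zmod_eq_zero_iff_dvd]
  push_cast
  omega

theorem mem_support₂ {α : Type*} [Fintype α] (w : α → ZMod 2) (i : α) :
    i ∈ support₂ w ↔ w i ≠ 0 := by
  unfold support₂
  simp

theorem mem_support₂_wd {α : Type*} [Fintype α] (x : α → ℤ) (i : α) :
    i ∈ support₂ (wd x) ↔ (x i / 2) % 2 = 1 := by
  rw [mem_support₂]
  exact zmod2_cast_ne_zero_iff _

/-- Explicit description of `leechSet`. -/
theorem mem_leechSet_iff (x : GolayPt → ℤ) :
    x ∈ leechSet ↔ ∃ m : ℤ, (m = 0 ∨ m = 1) ∧ (∀ i, x i % 2 = m) ∧ (∑ i, x i) % 8 = 4 * m ∧
      wd x ∈ (golayCode : Set (GolayPt → ZMod 2)) := by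
  have h1 : (1 : GolayPt → ZMod 2) ∈ golayCode := Submodule.subset_span (Or.inr rfl)
  constructor
  · rintro ⟨m, hm, hs, hk⟩
    refine ⟨m % 2, ?_, ?_, ?_, ?_⟩
    · omega
    · intro i
      have := hm i
      unfold Int.ModEq at this
      omega
    · unfold Int.ModEq at hs
      omega
    · have := hk (m % 2 + 2)
      have heq : (Finset.univ.filter fun i => x i ≡ m % 2 + 2 [ZMOD 4]) = support₂ (wd x) := by
        ext i
        rw [mem_support₂_wd]
        simp only [Finset.mem_filter, Finset.mem_univ, true_and]
        have := hm i
        unfold Int.ModEq at this ⊢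
        omega
      rw [heq] at this
      exact (support₂_mem_supports_iff _ _).mp this
  · rintro ⟨m, hm, hp, hs, hw⟩
    refine ⟨m, ?_, ?_, ?_⟩
    · intro i
      have := hp i
      unfold Int.ModEq
      omega
    · unfold Int.ModEq
      omega
    · intro k
      -- four cases according to `k` relative to `m`
      by_cases hk2 : (k - m) % 2 = 1
      · have heq : (Finset.univ.filter fun i => x i ≡ k [ZMOD 4]) = support₂ (0 : GolayPt → ZMod 2) := by
          ext i
          rw [mem_support₂]
          simp only [Finset.mem_filter, Finset.mem_univ, true_and, Pi.zero_apply, ne_eq,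
            not_true_eq_false, iff_false]
          have := hp i
          unfold Int.ModEq
          omega
        rw [heq]
        exact (support₂_mem_supports_iff _ _).mpr (golayCode.zero_mem)
      · by_cases hk4 : (k - m) % 4 = 2
        · have heq : (Finset.univ.filter fun i => x i ≡ k [ZMOD 4]) = support₂ (wd x) := by
            ext i
            rw [mem_support₂_wd]
            simp only [Finset.mem_filter, Finset.mem_univ, true_and]
            have := hp i
            unfold Int.ModEq
            omega
          rw [heq]
          exact (support₂_mem_supports_iff _ _).mpr hw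
        · have heq : (Finset.univ.filter fun i => x i ≡ k [ZMOD 4]) = support₂ (1 + wd x) := by
            ext i
            have key : ∀ a : ℤ, ((1 : ZMod 2) + (a : ZMod 2) ≠ 0) ↔ a % 2 = 0 := by
              intro a
              have : ((1 : ZMod 2) + (a : ZMod 2)) = ((1 + a : ℤ) : ZMod 2) := by push_cast; ring
              rw [this, zmod2_cast_ne_zero_iff]
              omega
            rw [mem_support₂]
            simp only [Finset.mem_filter, Finset.mem_univ, true_and, Pi.add_apply,
              Pi.one_apply, wd]
            rw [key]
            have := hp i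
            unfold Int.ModEq
            omega
          rw [heq]
          exact (support₂_mem_supports_iff _ _).mpr (golayCode.add_mem h1 hw)

/-- The carrier: `leechSet` as an additive subgroup. -/
def leechSub : AddSubgroup (GolayPt → ℤ) where
  carrier := leechSet
  zero_mem' := by
    rw [mem_leechSet_iff]
    refine ⟨0, Or.inl rfl, by simp, by simp, ?_⟩
    have : wd (0 : GolayPt → ℤ) = 0 := by
      funext i; simp [wd]
    rw [this]
    exact golayCode.zero_mem
  add_mem' := by
    intro x y hx hy
    change x ∈ leechSet at hx
    change y ∈ leechSet at hy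
    change x + y ∈ leechSet
    rw [mem_leechSet_iff] at hx hy ⊢
    obtain ⟨m, hm, hp, hs, hw⟩ := hx
    obtain ⟨n, hn, hq, ht, hv⟩ := hy
    have h1 : (1 : GolayPt → ZMod 2) ∈ golayCode := Submodule.subset_span (Or.inr rfl)
    refine ⟨(m + n) % 2, ?_, ?_, ?_, ?_⟩
    · omega
    · intro i
      have := hp i
      have := hq i
      simp only [Pi.add_apply]
      omega
    · simp only [Pi.add_apply, Finset.sum_add_distrib]
      omega
    · by_cases hmn : m = 1 ∧ n = 1
      · have : wd (x + y) = wd x + wd y + 1 := by
          funext i
          have h1 := hp i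
          have h2 := hq i
          simp only [wd, Pi.add_apply, Pi.one_apply]
          have e : (x i + y i) / 2 = x i / 2 + y i / 2 + 1 := by omega
          rw [e]; push_cast; rfl
        rw [this]
        exact golayCode.add_mem (golayCode.add_mem hw hv) h1
      · have : wd (x + y) = wd x + wd y := by
          funext i
          have h1 := hp i
          have h2 := hq i
          simp only [wd, Pi.add_apply]
          have e : (x i + y i) / 2 = x i / 2 + y i / 2 := by omega
          rw [e]; push_cast; rfl
        rw [this]
        exact golayCode.add_mem hw hv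
  neg_mem' := by
    intro x hx
    change x ∈ leechSet at hx
    change -x ∈ leechSet
    rw [mem_leechSet_iff] at hx ⊢
    obtain ⟨m, hm, hp, hs, hw⟩ := hx
    have h1 : (1 : GolayPt → ZMod 2) ∈ golayCode := Submodule.subset_span (Or.inr rfl)
    refine ⟨m, hm, ?_, ?_, ?_⟩
    · intro i
      have := hp i
      simp only [Pi.neg_apply]
      omega
    · simp only [Pi.neg_apply, Finset.sum_neg_distrib]
      omega
    · rcases hm with rfl | rfl
      · have : wd (-x) = wd x := by
          funext i
          have h1 := hp i
          simp only [wd, Pi.neg_apply]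
          have e : (-x i) / 2 = -(x i / 2) := by omega
          rw [e]; push_cast
          exact (neg_eq_of_add_eq_zero_left (by
            have : ∀ a : ZMod 2, a + a = 0 := by decide
            exact this _))
        rw [this]; exact hw
      · have : wd (-x) = wd x + 1 := by
          funext i
          have h1 := hp i
          simp only [wd, Pi.neg_apply, Pi.add_apply, Pi.one_apply]
          have e : (-x i) / 2 = -(x i / 2) - 1 := by omega
          rw [e]; push_cast
          have : ∀ a : ZMod 2, -a - 1 = a + 1 := by decide
          exact this _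
        rw [this]
        exact golayCode.add_mem hw h1

theorem coe_leechSub : (leechSub : Set (GolayPt → ℤ)) = leechSet := rfl

theorem leechLattice_eq : leechLattice = leechSub := by
  unfold leechLattice
  rw [← coe_leechSub, AddSubgroup.closure_eq]

theorem mem_leechLattice_iff_set (x : GolayPt → ℤ) : x ∈ leechLattice ↔ x ∈ leechSet := by
  rw [leechLattice_eq]; rfl

/-- Main explicit description of the lattice. -/
theorem mem_leechLattice_iff (x : GolayPt → ℤ) :
    x ∈ leechLattice ↔ ∃ m : ℤ, (m = 0 ∨ m = 1) ∧ (∀ i, x i % 2 = m) ∧ (∑ i, x i) % 8 = 4 * m ∧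
      wd x ∈ (golayCode : Set (GolayPt → ZMod 2)) := by
  rw [mem_leechLattice_iff_set, mem_leechSet_iff]

end Cfsg.Agent.Lib.Sporadic.LeechBasic
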