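import Cfsg.Agent.Lib.Sporadic.M24OctadStab

/-!
# Sextets: every tetrad lies in a unique sextet, there are 1771 sextets, and the action of `M24`
-/

namespace Cfsg.Agent.Lib.Sporadic.M24Sextet

open Cfsg Cfsg.Agent.Lib.Sporadic.GolayCore Cfsg.Agent.Lib.Sporadic.M24Tbl
open Cfsg.Agent.Lib.Sporadic.M24Chain Cfsg.Agent.Lib.Sporadic.M24Basic
open Cfsg.Agent.Lib.Sporadic.M24Act Cfsg.Agent.Lib.Sporadic.M24Lists
open Cfsg.Agent.Lib.Sporadic.M24Orbit Cfsg.Agent.Lib.Sporadic.M24Count
open scoped Pointwise

/-- The family of subsets given by a list of masks. -/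
def famOf (L : List ℕ) : Finset (Finset GolayPt) := (L.map ofMask).toFinset

@[simp] theorem mem_famOf {L : List ℕ} {s : Finset GolayPt} :
    s ∈ famOf L ↔ ∃ m ∈ L, ofMask m = s := by
  simp [famOf]

/-- The standard tetrad. -/
def t0Mask : ℕ := 8388615

/-- The standard sextet, as masks. -/
def sx0 : List ℕ := [8388615, 147496, 268544, 1082880, 2621632, 4268048]

/-- The octads through the standard tetrad. -/
def oct5 : List ℕ := [8536111, 8657159, 9471495, 11010247, 12656663]

theorem oct5_complete : ∀ m ∈ octadList, (t0Mask &&& m == t0Mask) = true → m ∈ oct5 := by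
  decide +kernel

/-- Validity check of a sextet given by six masks. -/
def validSx (L : List ℕ) : Bool :=
  decide (L.length = 6) && decide L.Nodup && L.all (fun a => a < 2 ^ 24 ∧ popc a = 4) &&
    L.all fun a => L.all fun b => a == b || isOctad (a ||| b)

theorem famOf_card_of_nodup {L : List ℕ} (hn : L.Nodup) (hlt : ∀ a ∈ L, a < 2 ^ 24) :
    (famOf L).card = L.length := by
  unfold famOf
  rw [List.toFinset_card_of_nodup, List.length_map]
  exact hn.map_on fun a ha b hb h => (ofMask_inj (hlt a ha) (hlt b hb)).1 h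

theorem famOf_mem_sextets {L : List ℕ} (h : validSx L = true) : famOf L ∈ sextets := by
  simp only [validSx, Bool.and_eq_true, decide_eq_true_eq, List.all_eq_true, Bool.or_eq_true,
    beq_iff_eq] at h
  obtain ⟨⟨⟨h1, h2⟩, h3⟩, h4⟩ := h
  refine ⟨by rw [famOf_card_of_nodup h2 (fun a ha => (h3 a ha).1), h1], ?_, ?_⟩
  · intro t ht
    obtain ⟨m, hm, rfl⟩ := mem_famOf.1 ht
    rw [card_ofMask]
    exact (h3 m hm).2
  · intro t ht u hu hne
    obtain ⟨m, hm, rfl⟩ := mem_famOf.1 ht
    obtain ⟨n, hn, rfl⟩ := mem_famOf.1 hu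
    rw [← ofMask_or]
    rcases h4 m hm n hn with h5 | h5
    · exact absurd (by rw [h5]) hne
    · exact isOctad_ofMask h5

theorem sx0_valid : validSx sx0 = true := by decide +kernel

theorem sx0_mem : famOf sx0 ∈ sextets := famOf_mem_sextets sx0_valid

theorem subset_iff_mask' {s t : Finset GolayPt} : s ⊆ t ↔ toMask s &&& toMask t = toMask s := by
  rw [← toMask_inter]
  constructor
  · intro h
    rw [Finset.inter_eq_left.2 h]
  · intro h
    have h1 : ofMask (toMask (s ∩ t)) = ofMask (toMask s) := by rw [h]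
    simp only [ofMask_toMask] at h1
    exact Finset.inter_eq_left.1 h1

theorem sextets_disjoint {S : Finset (Finset GolayPt)} (hS : S ∈ sextets) {t u : Finset GolayPt}
    (ht : t ∈ S) (hu : u ∈ S) (hne : t ≠ u) : Disjoint t u := by
  have h1 := hS.2.2 t ht u hu hne
  have h2 : (t ∪ u).card = 8 := h1.2
  have h3 := hS.2.1 t ht
  have h4 := hS.2.1 u hu
  rw [← Finset.card_union_eq_card_add_card] 
  rw [h2, h3, h4]

theorem smul_mem_sextets {g : Equiv.Perm GolayPt} (hg : g ∈ M24) {S : Finset (Finset GolayPt)}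
    (hS : S ∈ sextets) : g • S ∈ sextets := by
  refine ⟨by rw [Finset.card_smul_finset]; exact hS.1, ?_, ?_⟩
  · intro t ht
    obtain ⟨u, hu, rfl⟩ := Finset.mem_smul_finset.1 ht
    rw [Finset.card_smul_finset]
    exact hS.2.1 u hu
  · intro t ht u hu hne
    obtain ⟨t', ht', rfl⟩ := Finset.mem_smul_finset.1 ht
    obtain ⟨u', hu', rfl⟩ := Finset.mem_smul_finset.1 hu
    rw [← Finset.smul_finset_union]
    apply smul_mem_octads hg
    apply hS.2.2 t' ht' u' hu'
    rintro rfl
    exact hne rfl

theorem smul_mem_sextets_iff {g : Equiv.Perm GolayPt} (hg : g ∈ M24) {S : Finset (Finset GolayPt)} :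
    g • S ∈ sextets ↔ S ∈ sextets := by
  refine ⟨fun h => ?_, smul_mem_sextets hg⟩
  have := smul_mem_sextets (M24.inv_mem hg) h
  rwa [inv_smul_smul] at this

theorem mem_sx0_of_union {u : Finset GolayPt} (hu : u.card = 4) (h : ofMask t0Mask ∪ u ∈ octads) :
    u ∈ famOf sx0 := by
  have hT : toMask (ofMask t0Mask) = t0Mask := toMask_ofMask (by decide +kernel)
  have hcT : (ofMask t0Mask).card = 4 := by decide +kernel
  have h2 : (ofMask t0Mask ∪ u).card = 8 := h.2
  have hdis : Disjoint (ofMask t0Mask) u := by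
    rw [← Finset.card_union_eq_card_add_card, h2, hcT, hu]
  have h3 := (mem_octads_iff _).1 h
  have h4 : toMask (ofMask t0Mask ∪ u) ∈ oct5 := oct5_complete _ h3 (by
    have := subset_iff_mask'.1 (Finset.subset_union_left (s₁ := ofMask t0Mask) (s₂ := u))
    rw [hT] at this
    simp [this])
  set o := toMask (ofMask t0Mask ∪ u) with ho
  have h5 : ofMask o = ofMask t0Mask ∪ u := by rw [ho, ofMask_toMask]
  have hsx : ∀ m ∈ oct5, (m ^^^ t0Mask) ∈ sx0 ∧ ofMask (m ^^^ t0Mask) = ofMask m \ ofMask t0Mask := by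
    decide +kernel
  obtain ⟨h6, h7⟩ := hsx o h4
  refine mem_famOf.2 ⟨_, h6, ?_⟩
  rw [h7, h5, Finset.union_sdiff_left, Finset.sdiff_eq_self_of_disjoint hdis.symm]

theorem t0_mem_sx0 : ofMask t0Mask ∈ famOf sx0 := by
  refine mem_famOf.2 ⟨t0Mask, by decide +kernel, rfl⟩

theorem unique_t0 {S : Finset (Finset GolayPt)} (hS : S ∈ sextets) (h : ofMask t0Mask ∈ S) :
    S = famOf sx0 := by
  apply Finset.eq_of_subset_of_card_le
  · intro u hu
    by_cases hne : u = ofMask t0Mask
    · rw [hne]; exact t0_mem_sx0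
    · exact mem_sx0_of_union (hS.2.1 u hu) (hS.2.2 _ h _ hu (Ne.symm hne))
  · rw [hS.1, sx0_mem.1]

/-- Every tetrad lies in a unique sextet. -/
theorem existsUnique_sextet {t : Finset GolayPt} (ht : t.card = 4) :
    ∃! S : Finset (Finset GolayPt), S ∈ sextets ∧ t ∈ S := by
  obtain ⟨g, hg, rfl⟩ := exists_smul_eq_of_card (s := ofMask t0Mask) (t := t)
    (by rw [ht]; decide +kernel) (by decide +kernel)
  refine ⟨g • famOf sx0, ⟨smul_mem_sextets hg sx0_mem,
    Finset.smul_mem_smul_finset t0_mem_sx0⟩, ?_⟩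
  rintro S ⟨hS, hmem⟩
  have h1 : g⁻¹ • S ∈ sextets := smul_mem_sextets (M24.inv_mem hg) hS
  have h2 : ofMask t0Mask ∈ g⁻¹ • S := by
    have := Finset.smul_mem_smul_finset (a := g⁻¹) hmem
    rwa [inv_smul_smul] at this
  have h3 := unique_t0 h1 h2
  rw [← h3, smul_inv_smul]

/-- The sextet of a tetrad. -/
noncomputable def sextetOf (t : Finset GolayPt) : Finset (Finset GolayPt) :=
  if ht : t.card = 4 then (existsUnique_sextet ht).choose else ∅

theorem sextetOf_mem {t : Finset GolayPt} (ht : t.card = 4) : sextetOf t ∈ sextets := by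
  unfold sextetOf
  rw [dif_pos ht]
  exact (existsUnique_sextet ht).choose_spec.1.1

theorem mem_sextetOf {t : Finset GolayPt} (ht : t.card = 4) : t ∈ sextetOf t := by
  unfold sextetOf
  rw [dif_pos ht]
  exact (existsUnique_sextet ht).choose_spec.1.2

theorem sextetOf_eq {S : Finset (Finset GolayPt)} (hS : S ∈ sextets) {t : Finset GolayPt}
    (ht : t ∈ S) : sextetOf t = S := by
  have hc := hS.2.1 t ht
  exact (existsUnique_sextet hc).unique ⟨sextetOf_mem hc, mem_sextetOf hc⟩ ⟨hS, ht⟩

theorem smul_sextetOf {g : Equiv.Perm GolayPt} (hg : g ∈ M24) {t : Finset GolayPt}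
    (ht : t.card = 4) : g • sextetOf t = sextetOf (g • t) := by
  symm
  apply sextetOf_eq (smul_mem_sextets hg (sextetOf_mem ht))
  exact Finset.smul_mem_smul_finset (mem_sextetOf ht)

/-- The tetrads of a sextet cover the points. -/
theorem sextet_cover {S : Finset (Finset GolayPt)} (hS : S ∈ sextets) (p : GolayPt) :
    ∃ t ∈ S, p ∈ t := by
  have h1 : (S.biUnion id).card = 24 := by
    rw [Finset.card_biUnion]
    · have : ∑ u ∈ S, (id u).card = ∑ u ∈ S, 4 :=
        Finset.sum_congr rfl (fun t ht => hS.2.1 t ht)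
      rw [this]
      simp [hS.1]
    · intro t ht u hu hne
      exact sextets_disjoint hS ht hu hne
  have h2 : S.biUnion id = Finset.univ := by
    apply Finset.eq_univ_of_card
    rw [h1]
    rfl
  have h3 : p ∈ S.biUnion id := by rw [h2]; exact Finset.mem_univ p
  obtain ⟨t, ht, hp⟩ := Finset.mem_biUnion.1 h3
  exact ⟨t, ht, hp⟩

/-- Two tetrads with union an octad lie in one sextet. -/
theorem sextetOf_eq_of_union {t u : Finset GolayPt} (ht : t.card = 4) (hu : u.card = 4)
    (h : t ∪ u ∈ octads) : sextetOf t = sextetOf u := by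
  have hS := sextetOf_mem ht
  have h2 : (t ∪ u).card = 8 := h.2
  have hdis : Disjoint t u := by
    rw [← Finset.card_union_eq_card_add_card, h2, ht, hu]
  obtain ⟨p, hp⟩ : u.Nonempty := by
    rw [← Finset.card_pos, hu]; norm_num
  obtain ⟨v, hv, hpv⟩ := sextet_cover hS p
  have hne : t ≠ v := by
    rintro rfl
    exact Finset.disjoint_left.1 hdis hpv hp
  have h3 := hS.2.2 t (mem_sextetOf ht) v hv hne
  have hv4 := hS.2.1 v hv
  have hdis' := sextets_disjoint hS (mem_sextetOf ht) hv hne
  have h4 : t ∪ u = t ∪ v := by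
    apply eq_of_octads_of_five h h3
    have h5 : insert p t ⊆ (t ∪ u) ∩ (t ∪ v) := by
      intro x hx
      rcases Finset.mem_insert.1 hx with rfl | hx
      · exact Finset.mem_inter.2 ⟨Finset.mem_union_right _ hp, Finset.mem_union_right _ hpv⟩
      · exact Finset.mem_inter.2 ⟨Finset.mem_union_left _ hx, Finset.mem_union_left _ hx⟩
    have h6 : (insert p t).card = 5 := by
      rw [Finset.card_insert_of_notMem, ht]
      exact fun hpt => Finset.disjoint_left.1 hdis hpt hp
    rw [← h6]
    exact Finset.card_le_card h5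
  have h7 : u = v := by
    have h8 := congrArg (· \ t) h4
    simp only [Finset.union_sdiff_left] at h8
    rwa [Finset.sdiff_eq_self_of_disjoint hdis.symm, Finset.sdiff_eq_self_of_disjoint hdis'.symm] at h8
  rw [h7]
  exact (sextetOf_eq hS hv).symm

/-- Mask test that two tetrads lie in one sextet. -/
def sameSx (a b : ℕ) : Bool := a == b || isOctad (a ||| b)

theorem sextetOf_eq_of_sameSx {a b : ℕ} (ha : popc a = 4) (hb : popc b = 4)
    (h : sameSx a b = true) : sextetOf (ofMask a) = sextetOf (ofMask b) := by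
  simp only [sameSx, Bool.or_eq_true, beq_iff_eq] at h
  rcases h with h | h
  · rw [h]
  · have ha' : (ofMask a).card = 4 := by rw [card_ofMask]; exact ha
    have hb' : (ofMask b).card = 4 := by rw [card_ofMask]; exact hb
    apply sextetOf_eq_of_union ha' hb'
    rw [← ofMask_or]
    exact isOctad_ofMask h

/-- The number of sextets. -/
theorem ncard_sextets : sextets.ncard = 1771 := by
  classical
  have hfin : sextets.Finite := Set.toFinite _
  have hF : ∀ S, S ∈ hfin.toFinset ↔ S ∈ sextets := fun S => hfin.mem_toFinset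
  have h1 : (Finset.powersetCard 4 (Finset.univ : Finset GolayPt)) = hfin.toFinset.biUnion id := by
    ext t
    simp only [Finset.mem_powersetCard, Finset.subset_univ, true_and, Finset.mem_biUnion, id]
    constructor
    · intro ht
      exact ⟨sextetOf t, (hF _).2 (sextetOf_mem ht), mem_sextetOf ht⟩
    · rintro ⟨S, hS, ht⟩
      exact ((hF _).1 hS).2.1 t ht
  have h2 : (hfin.toFinset.biUnion id).card = ∑ S ∈ hfin.toFinset, 6 := by
    rw [Finset.card_biUnion]
    · apply Finset.sum_congr rfl
      intro S hS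
      exact ((hF _).1 hS).1
    · intro S hS S' hS' hne
      show Disjoint S S'
      rw [Finset.disjoint_left]
      intro t ht ht'
      apply hne
      rw [← sextetOf_eq ((hF _).1 hS) ht, sextetOf_eq ((hF _).1 hS') ht']
  rw [← h1, Finset.card_powersetCard] at h2
  have h3 : (Finset.univ : Finset GolayPt).card = 24 := rfl
  rw [h3, Finset.sum_const, smul_eq_mul] at h2
  have h4 : Nat.choose 24 4 = 10626 := by decide +kernel
  rw [h4] at h2
  rw [Set.ncard_eq_toFinset_card _ hfin]
  omega

/-- `M24` is transitive on sextets. -/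
theorem exists_smul_sextet {S S' : Finset (Finset GolayPt)} (hS : S ∈ sextets) (hS' : S' ∈ sextets) :
    ∃ g ∈ M24, g • S = S' := by
  obtain ⟨t, ht⟩ : S.Nonempty := by
    rw [← Finset.card_pos, hS.1]; norm_num
  obtain ⟨t', ht'⟩ : S'.Nonempty := by
    rw [← Finset.card_pos, hS'.1]; norm_num
  have hc := hS.2.1 t ht
  have hc' := hS'.2.1 t' ht'
  obtain ⟨g, hg, hgt⟩ := exists_smul_eq_of_card (s := t) (t := t') (by rw [hc, hc']) (by rw [hc]; norm_num)
  refine ⟨g, hg, ?_⟩
  rw [← sextetOf_eq hS ht, smul_sextetOf hg hc, hgt, sextetOf_eq hS' ht']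

theorem orbit_sextet {S : Finset (Finset GolayPt)} (hS : S ∈ sextets) :
    MulAction.orbit M24 S = sextets := by
  ext s
  constructor
  · rintro ⟨⟨g, hg⟩, rfl⟩
    exact smul_mem_sextets hg hS
  · intro hs
    obtain ⟨g, hg, hgs⟩ := exists_smul_sextet hS hs
    exact ⟨⟨g, hg⟩, hgs⟩

/-- A sextet stabiliser has order 138240. -/
theorem card_stab_sextet {S : Finset (Finset GolayPt)} (hS : S ∈ sextets) :
    Nat.card (MulAction.stabilizer M24 S) = 138240 := by
  have h := Subgroup.index_mul_card (MulAction.stabilizer M24 S)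
  rw [MulAction.index_stabilizer, card_M24, orbit_sextet hS, ncard_sextets] at h
  omega

end Cfsg.Agent.Lib.Sporadic.M24Sextet
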