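import Mathlib
import Cfsg.Agent.Lib.Sporadic.LeechMcLData

/-!
# The McLaughlin configuration

For minimal vectors `a`, `b` with inner product `-8`, the 275 minimal vectors with inner products
`16` and `8` with them; the stabiliser of `a, b` is transitive on them, with rank 3.
-/

set_option autoImplicit false

namespace Cfsg.Agent.Lib.Sporadic.LeechMcL

open Cfsg Cfsg.Agent.Lib.Sporadic.GolayCore Cfsg.Agent.Lib.Sporadic.LeechBasic
  Cfsg.Agent.Lib.Sporadic.LeechNorm Cfsg.Agent.Lib.Sporadic.LeechFacts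
  Cfsg.Agent.Lib.Sporadic.LeechAut Cfsg.Agent.Lib.Sporadic.LeechMat
  Cfsg.Agent.Lib.Sporadic.LeechOrb Cfsg.Agent.Lib.Sporadic.LeechShape
  Cfsg.Agent.Lib.Sporadic.LeechKey Cfsg.Agent.Lib.Sporadic.LeechClasses
  Cfsg.Agent.Lib.Sporadic.LeechA0 Cfsg.Agent.Lib.Sporadic.LeechEnum
  Cfsg.Agent.Lib.Sporadic.LeechMcLData

abbrev Lat := leechLattice

/-- The coordinates of a lattice vector. -/
abbrev co (x : leechLattice) : GolayPt → ℤ := (x : GolayPt → ℤ)

def b0El : leechLattice := ⟨vecOf b0L, inLattice_sound b0L_ok⟩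

def x0El : leechLattice := ⟨vecOf x0L, inLattice_sound x0L_ok⟩

theorem sqNorm_a0 : sqNorm (co a0) = 32 := by
  show sqNorm (vecOf a0L) = 32
  rw [sqNorm_vecOf]
  decide +kernel

theorem sqNorm_b0 : sqNorm (co b0El) = 32 := by
  show sqNorm (vecOf b0L) = 32
  rw [sqNorm_vecOf]
  decide +kernel

theorem dot_a0_b0 : dotInt (co a0) (co b0El) = -8 := by
  show dotInt (vecOf a0L) (vecOf b0L) = -8
  rw [dotInt_vecOf]
  decide +kernel

theorem mem_FM {g : Co0} : g ∈ StabL FM ↔ g • a0 = a0 ∧ g • b0El = b0El := by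
  constructor
  · intro h
    exact ⟨h a0L (by simp) _, h b0L (by simp) _⟩
  · rintro ⟨h1, h2⟩ l hl hl'
    simp only [List.mem_cons, List.not_mem_nil, or_false] at hl
    rcases hl with rfl | rfl
    · exact h1
    · exact h2

theorem mem_FU {g : Co0} : g ∈ StabL FU ↔ g • a0 = a0 ∧ g • b0El = b0El ∧ g • x0El = x0El := by
  constructor
  · intro h
    exact ⟨h a0L (by simp) _, h b0L (by simp) _, h x0L (by simp) _⟩
  · rintro ⟨h1, h2, h3⟩ l hl hl'
    simp only [List.mem_cons, List.not_mem_nil, or_false] at hl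
    rcases hl with rfl | rfl | rfl
    · exact h1
    · exact h2
    · exact h3

/-- Any pair of minimal vectors with inner product `-8` can be moved to the standard pair. -/
theorem exists_std_pair (v b : leechLattice) (hv : sqNorm (co v) = 32) (hb : sqNorm (co b) = 32)
    (hd : dotInt (co v) (co b) = -8) : ∃ g : Co0, g • v = a0 ∧ g • b = b0El := by
  obtain ⟨h, hh⟩ := Cfsg.Agent.Lib.Sporadic.LeechMin.co0_transitive_min v a0 hv sqNorm_a0
  have h1 : dotInt (co a0) (co (h • b)) = -8 := by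
    rw [← hh, co0_dotInt]
    exact hd
  obtain ⟨k, hk1, hk2⟩ := co2_trans_m8 a0 (h • b) b0El sqNorm_a0
    (by rw [co0_sqNorm]; exact hb) sqNorm_b0 h1 dot_a0_b0
  exact ⟨k * h, by rw [mul_smul, hh, hk1], by rw [mul_smul, hk2]⟩

theorem sqNorm_sub (a b : GolayPt → ℤ) : sqNorm (a - b) = sqNorm a + sqNorm b - 2 * dotInt a b := by
  rw [sub_eq_add_neg, sqNorm_add, sqNorm_neg, dotInt_neg_right]
  ring

theorem dotInt_sub_left (a b c : GolayPt → ℤ) : dotInt (a - b) c = dotInt a c - dotInt b c := by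
  unfold dotInt
  rw [← Finset.sum_sub_distrib]
  apply Finset.sum_congr rfl
  intro i _
  simp only [Pi.sub_apply]
  ring

theorem dotInt_add_left (a b c : GolayPt → ℤ) : dotInt (a + b) c = dotInt a c + dotInt b c := by
  unfold dotInt
  rw [← Finset.sum_add_distrib]
  apply Finset.sum_congr rfl
  intro i _
  simp only [Pi.add_apply]
  ring

/-- The set of `x` of inner products `16`, `8` with `a`, `b`. -/
def McLSet (a b : leechLattice) : Set leechLattice :=
  {x | sqNorm (co x) = 32 ∧ dotInt (co a) (co x) = 16 ∧ dotInt (co b) (co x) = 8}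

theorem mem_McLSet_smul (g : Co0) (a b x : leechLattice) :
    g • x ∈ McLSet (g • a) (g • b) ↔ x ∈ McLSet a b := by
  unfold McLSet
  simp only [Set.mem_ofPred_eq]
  rw [co0_sqNorm, co0_dotInt, co0_dotInt]

theorem dot_b0_vecF (y : ℕ → ℕ) : dotInt (vecOf b0L) (vecF y) =
    ((y 0 + y 1 + y 2 + y 4 + y 5 + y 6 + y 7 + y 8 + y 9 + y 10 + y 11 + y 12 + y 13 + y 14 + y 15 +
      y 16 + y 17 + y 18 + y 19 + y 20 + y 21 + y 22 + y 23 : ℕ) : ℤ) - 3 * (y 3 : ℤ) - 80 := by
  have h1 : ∀ p : GolayPt, vecOf b0L p * vecF y p =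
      (fun n => (if n = 3 then (-3 : ℤ) else 1) * ((y n : ℤ) - 4)) (idx p) := by
    intro p
    unfold b0L
    rw [vecOf_rangeL]
    rfl
  unfold dotInt
  refine (Finset.sum_congr rfl fun p _ => h1 p).trans
    ((sum_golayPt (fun n => (if n = 3 then (-3 : ℤ) else 1) * ((y n : ℤ) - 4))).trans ?_)
  simp only [List.range_succ, List.range_zero, List.map_append, List.map_cons, List.map_nil,
    List.sum_append, List.sum_cons, List.sum_nil]
  norm_num
  ring

theorem vecF_pt (y : ℕ → ℕ) {i : ℕ} (hi : i < 24) : vecF y (pt i) = (y i : ℤ) - 4 := by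
  simp only [vecF, idx_pt hi]

theorem P275_of (y : ℕ → ℕ) (h : dotInt (vecOf a0L) (vecF y) = 16 ∧ dotInt (vecOf b0L) (vecF y) = 8) :
    P275 y = true := by
  obtain ⟨h1, h2⟩ := h
  have h3 := dot_a0 (vecF y)
  have h4 : (a0 : GolayPt → ℤ) = vecOf a0L := rfl
  rw [h4, h1, vecF_pt y (by norm_num), vecF_pt y (by norm_num)] at h3
  rw [dot_b0_vecF] at h2
  unfold P275
  rw [Bool.and_eq_true, Nat.beq_eq, Nat.beq_eq]
  show y 3 + y 5 = 12 ∧ _
  push_cast at h2
  omega

theorem X275_mem_lat : ∀ l ∈ X275, vecOf l ∈ leechLattice := by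
  intro l hl
  exact (exact_sound gensM_sound tree275 (by
    show vecOf (X275.getD 0 []) ∈ leechLattice
    have : X275.getD 0 [] = x0L := by decide +kernel
    rw [this]
    exact inLattice_sound x0L_ok) l hl).right_mem

theorem X275_len : ∀ l ∈ X275, l.length = 24 := by
  intro l hl
  have := List.all_eq_true.1 X275_checks l hl
  simp only [Bool.and_eq_true, beq_iff_eq] at this
  exact this.1.1.1

/-- The standard set is the explicit list. -/
theorem McLSet_std : McLSet a0 b0El = latSet X275 := by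
  ext x
  constructor
  · rintro ⟨h1, h2, h3⟩
    obtain ⟨l, hl, e⟩ := sub_of_scan (Q := fun w => dotInt (vecOf a0L) w = 16 ∧ dotInt (vecOf b0L) w = 8)
      P275_of scan275 x.2 h1 ⟨h2, h3⟩
    exact ⟨l, hl, e⟩
  · rintro ⟨l, hl, e⟩
    have := List.all_eq_true.1 X275_checks l hl
    simp only [Bool.and_eq_true, beq_iff_eq] at this
    obtain ⟨⟨⟨_, h2⟩, h3⟩, h4⟩ := this
    refine ⟨?_, ?_, ?_⟩
    · show sqNorm (x : GolayPt → ℤ) = 32
      rw [← e, sqNorm_vecOf, h2]
    · show dotInt (vecOf a0L) (x : GolayPt → ℤ) = 16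
      rw [← e, dotInt_vecOf, h3]
    · show dotInt (vecOf b0L) (x : GolayPt → ℤ) = 8
      rw [← e, dotInt_vecOf, h4]

theorem ncard_McLSet_std : (McLSet a0 b0El).ncard = 275 := by
  rw [McLSet_std, ncard_latSet X275_nodup X275_len X275_mem_lat]
  decide +kernel

theorem x0El_mem : x0El ∈ McLSet a0 b0El := by
  rw [McLSet_std]
  exact ⟨x0L, by decide +kernel, rfl⟩

/-- The standard set is in one orbit. -/
theorem orbit_std {x : leechLattice} (hx : x ∈ McLSet a0 b0El) : ∃ k ∈ StabL FM, k • x = x0El := by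
  rw [McLSet_std] at hx
  obtain ⟨l, hl, e⟩ := hx
  have h0 : X275.getD 0 [] = x0L := by decide +kernel
  have h1 := exact_sound gensM_sound tree275 (by
    rw [h0]
    exact inLattice_sound x0L_ok) l hl
  rw [h0] at h1
  obtain ⟨_, _, k, hk, e1⟩ := h1.symm
  refine ⟨k, hk, ?_⟩
  have hm : vecOf l ∈ leechLattice := by rw [e]; exact x.2
  have e2 : x = ⟨vecOf l, hm⟩ := Subtype.ext e.symm
  rw [e2]
  exact e1

theorem ncard_McLSet {a b : leechLattice} {g : Co0} (ha : g • a = a0) (hb : g • b = b0El) :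
    (McLSet a b).ncard = 275 := by
  have e : McLSet a0 b0El = (fun x => g • x) '' McLSet a b := by
    ext x
    constructor
    · intro hx
      refine ⟨g⁻¹ • x, ?_, smul_inv_smul _ _⟩
      rw [← mem_McLSet_smul g, smul_inv_smul, ha, hb]
      exact hx
    · rintro ⟨y, hy, rfl⟩
      rw [← ha, ← hb]
      exact (mem_McLSet_smul g a b y).2 hy
  rw [← ncard_McLSet_std, e, Set.ncard_image_of_injective _ (MulAction.injective g)]

theorem trans_McLSet {a b x x' : leechLattice} {g : Co0} (ha : g • a = a0) (hb : g • b = b0El)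
    (hx : x ∈ McLSet a b) (hx' : x' ∈ McLSet a b) : ∃ h : Co0, h • a = a ∧ h • b = b ∧ h • x = x' := by
  have h1 : g • x ∈ McLSet a0 b0El := by
    rw [← ha, ← hb]
    exact (mem_McLSet_smul g a b x).2 hx
  have h2 : g • x' ∈ McLSet a0 b0El := by
    rw [← ha, ← hb]
    exact (mem_McLSet_smul g a b x').2 hx'
  obtain ⟨k, hk, e⟩ := orbit_std h1
  obtain ⟨k', hk', e'⟩ := orbit_std h2
  rw [mem_FM] at hk hk'
  have e3 : k'⁻¹ • a0 = a0 := by
    conv_lhs => rw [← hk'.1]
    rw [inv_smul_smul]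
  have e4 : k'⁻¹ • b0El = b0El := by
    conv_lhs => rw [← hk'.2]
    rw [inv_smul_smul]
  refine ⟨g⁻¹ * (k'⁻¹ * (k * g)), ?_, ?_, ?_⟩
  · simp only [mul_smul]
    rw [ha, hk.1, e3, ← ha, inv_smul_smul]
  · simp only [mul_smul]
    rw [hb, hk.2, e4, ← hb, inv_smul_smul]
  · simp only [mul_smul]
    rw [e, ← e', inv_smul_smul, inv_smul_smul]

/-- The sets of the statements, in terms of `a = v`, `b = u - v`. -/
theorem mem_stmt_iff {u v : leechLattice} (hu : sqNorm (co u) = 48) (x : leechLattice) :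
    (sqNorm (co x) = 32 ∧ sqNorm (co u - co x) = 32 ∧ dotInt (co v) (co x) = 16) ↔
      x ∈ McLSet v (u - v) := by
  have e : co (u - v) = co u - co v := rfl
  unfold McLSet
  simp only [Set.mem_ofPred_eq]
  rw [sqNorm_sub, e, dotInt_sub_left, hu]
  constructor
  · rintro ⟨h1, h2, h3⟩
    refine ⟨h1, h3, ?_⟩
    rw [h1] at h2
    omega
  · rintro ⟨h1, h2, h3⟩
    refine ⟨h1, ?_, h2⟩
    rw [h1]
    omega

theorem dot_pair {u v : leechLattice} (hu : sqNorm (co u) = 48) (hv : sqNorm (co v) = 32)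
    (hb : sqNorm (co u - co v) = 32) : dotInt (co v) (co (u - v)) = -8 := by
  have e : co (u - v) = co u - co v := rfl
  rw [e]
  rw [sqNorm_sub, hu, hv] at hb
  have : dotInt (co v) (co u - co v) = dotInt (co u) (co v) - sqNorm (co v) := by
    rw [dotInt_comm, dotInt_sub_left]
    have e2 : dotInt (co v) (co v) = sqNorm (co v) := by
      unfold dotInt sqNorm
      apply Finset.sum_congr rfl
      intro i _
      ring
    rw [e2]
  rw [this, hv]
  omega

/-- The McLaughlin configuration. -/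
theorem s1580 (u v : leechLattice) (hu : sqNorm (co u) = 48)
    (hv : sqNorm (co v) = 32 ∧ sqNorm (co u - co v) = 32) :
    {x : leechLattice | sqNorm (co x) = 32 ∧ sqNorm (co u - co x) = 32 ∧ dotInt (co v) (co x) = 16}.ncard = 275 ∧
    ∀ x ∈ {x : leechLattice | sqNorm (co x) = 32 ∧ sqNorm (co u - co x) = 32 ∧ dotInt (co v) (co x) = 16},
    ∀ x' ∈ {x : leechLattice | sqNorm (co x) = 32 ∧ sqNorm (co u - co x) = 32 ∧ dotInt (co v) (co x) = 16},
      ∃ g : Co0, g • u = u ∧ g • v = v ∧ g • x = x' := by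
  obtain ⟨hv1, hv2⟩ := hv
  obtain ⟨g, hg1, hg2⟩ := exists_std_pair v (u - v) hv1 hv2 (dot_pair hu hv1 hv2)
  have hset : {x : leechLattice | sqNorm (co x) = 32 ∧ sqNorm (co u - co x) = 32 ∧ dotInt (co v) (co x) = 16} =
      McLSet v (u - v) := by
    ext x
    exact mem_stmt_iff hu x
  rw [hset]
  refine ⟨ncard_McLSet hg1 hg2, ?_⟩
  intro x hx x' hx'
  obtain ⟨h, h1, h2, h3⟩ := trans_McLSet hg1 hg2 hx hx'
  refine ⟨h, ?_, h1, h3⟩
  have e : u = v + (u - v) := by abel
  rw [e, co0_map_add, h1, h2]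

/-! ### Rank three -/

theorem mem_X112 {y : leechLattice} : y ∈ latSet X112 ↔ y ∈ McLSet a0 b0El ∧ dotInt (co x0El) (co y) = 8 := by
  rw [McLSet_std]
  constructor
  · rintro ⟨l, hl, e⟩
    rw [← X112_eq, List.mem_filter] at hl
    refine ⟨⟨l, hl.1, e⟩, ?_⟩
    show dotInt (vecOf x0L) (y : GolayPt → ℤ) = 8
    rw [← e, dotInt_vecOf]
    simpa using hl.2
  · rintro ⟨⟨l, hl, e⟩, h⟩
    refine ⟨l, ?_, e⟩
    rw [← X112_eq, List.mem_filter]
    refine ⟨hl, ?_⟩
    have h' : dotInt (vecOf x0L) (y : GolayPt → ℤ) = 8 := h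
    rw [← e, dotInt_vecOf] at h'
    simpa using h'

theorem x0L_len : x0L.length = 24 := by decide +kernel

theorem mem_X162 {y : leechLattice} :
    y ∈ latSet X162 ↔ y ∈ McLSet a0 b0El ∧ y ≠ x0El ∧ dotInt (co x0El) (co y) = 16 := by
  rw [McLSet_std]
  constructor
  · rintro ⟨l, hl, e⟩
    rw [← X162_eq, List.mem_filter] at hl
    simp only [Bool.and_eq_true, bne_iff_ne, beq_iff_eq] at hl
    refine ⟨⟨l, hl.1, e⟩, ?_, ?_⟩
    · intro h
      apply hl.2.1
      apply vecOf_inj _ (X275_len l hl.1) x0L_len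
      rw [e, h]
      rfl
    · show dotInt (vecOf x0L) (y : GolayPt → ℤ) = 16
      rw [← e, dotInt_vecOf]
      exact hl.2.2
  · rintro ⟨⟨l, hl, e⟩, h, h2⟩
    refine ⟨l, ?_, e⟩
    rw [← X162_eq, List.mem_filter]
    simp only [Bool.and_eq_true, bne_iff_ne, beq_iff_eq]
    refine ⟨hl, ?_, ?_⟩
    · rintro rfl
      apply h
      exact Subtype.ext e.symm
    · have h' : dotInt (vecOf x0L) (y : GolayPt → ℤ) = 16 := h2
      rwa [← e, dotInt_vecOf] at h'

theorem X112_sub : ∀ l ∈ X112, l ∈ X275 := by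
  intro l hl
  rw [← X112_eq, List.mem_filter] at hl
  exact hl.1

theorem X162_sub : ∀ l ∈ X162, l ∈ X275 := by
  intro l hl
  rw [← X162_eq, List.mem_filter] at hl
  exact hl.1

theorem ncard_X112 : (latSet X112).ncard = 112 := by
  rw [ncard_latSet X112_nodup (fun l hl => X275_len l (X112_sub l hl))
    (fun l hl => X275_mem_lat l (X112_sub l hl))]
  decide +kernel

theorem ncard_X162 : (latSet X162).ncard = 162 := by
  rw [ncard_latSet X162_nodup (fun l hl => X275_len l (X162_sub l hl))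
    (fun l hl => X275_mem_lat l (X162_sub l hl))]
  decide +kernel

/-- Elements of an explicit list with a tree are in one orbit. -/
theorem orbit_list {K : Subgroup Co0} {gens : List (List ℤ → List ℤ)}
    (hg : ∀ f ∈ gens, ∀ l, vecOf l ∈ leechLattice → SameIn K (vecOf l) (vecOf (f l)))
    {reps : List (List ℤ)} {cert : List (ℕ × ℕ × ℕ)} (h : exactOK gens reps cert = true)
    (hroot : vecOf (reps.getD 0 []) ∈ leechLattice) {y y' : leechLattice} (hy : y ∈ latSet reps)
    (hy' : y' ∈ latSet reps) : ∃ k ∈ K, k • y = y' := by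
  obtain ⟨l, hl, e⟩ := hy
  obtain ⟨l', hl', e'⟩ := hy'
  have h1 := (exact_sound hg h hroot l hl).symm.trans (exact_sound hg h hroot l' hl')
  obtain ⟨hm, hm', k, hk, e1⟩ := h1
  refine ⟨k, hk, ?_⟩
  have e2 : y = ⟨vecOf l, hm⟩ := Subtype.ext e.symm
  have e3 : y' = ⟨vecOf l', hm'⟩ := Subtype.ext e'.symm
  rw [e2, e3]
  exact e1

/-- Moving a point of the configuration to the standard one. -/
theorem exists_std_triple {a b x : leechLattice} {g : Co0} (ha : g • a = a0) (hb : g • b = b0El)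
    (hx : x ∈ McLSet a b) : ∃ G : Co0, G • a = a0 ∧ G • b = b0El ∧ G • x = x0El := by
  have h1 : g • x ∈ McLSet a0 b0El := by
    rw [← ha, ← hb]
    exact (mem_McLSet_smul g a b x).2 hx
  obtain ⟨k, hk, e⟩ := orbit_std h1
  rw [mem_FM] at hk
  exact ⟨k * g, by rw [mul_smul, ha, hk.1], by rw [mul_smul, hb, hk.2], by rw [mul_smul, e]⟩

theorem image_card {S T : Set leechLattice} (G : Co0) (h : ∀ y, G • y ∈ T ↔ y ∈ S) : S.ncard = T.ncard := by
  have e : T = (fun x => G • x) '' S := by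
    ext x
    constructor
    · intro hx
      refine ⟨G⁻¹ • x, (h _).1 (by rw [smul_inv_smul]; exact hx), smul_inv_smul _ _⟩
    · rintro ⟨y, hy, rfl⟩
      exact (h y).2 hy
  rw [e, Set.ncard_image_of_injective _ (MulAction.injective G)]

/-- The McLaughlin group has rank 3 on 275 points. -/
theorem s1581 (u v x : leechLattice) (hu : sqNorm (co u) = 48)
    (hv : sqNorm (co v) = 32 ∧ sqNorm (co u - co v) = 32)
    (hx : x ∈ {x : leechLattice | sqNorm (co x) = 32 ∧ sqNorm (co u - co x) = 32 ∧ dotInt (co v) (co x) = 16}) :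
    {y : leechLattice | y ∈ {x : leechLattice | sqNorm (co x) = 32 ∧ sqNorm (co u - co x) = 32 ∧ dotInt (co v) (co x) = 16} ∧ dotInt (co x) (co y) = 8}.ncard = 112 ∧
    {y : leechLattice | y ∈ {x : leechLattice | sqNorm (co x) = 32 ∧ sqNorm (co u - co x) = 32 ∧ dotInt (co v) (co x) = 16} ∧ y ≠ x ∧ dotInt (co x) (co y) = 16}.ncard = 162 ∧
    ∀ y ∈ {x : leechLattice | sqNorm (co x) = 32 ∧ sqNorm (co u - co x) = 32 ∧ dotInt (co v) (co x) = 16},
    ∀ y' ∈ {x : leechLattice | sqNorm (co x) = 32 ∧ sqNorm (co u - co x) = 32 ∧ dotInt (co v) (co x) = 16},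
      y ≠ x → y' ≠ x → dotInt (co x) (co y) = dotInt (co x) (co y') →
      ∃ g : Co0, g • u = u ∧ g • v = v ∧ g • x = x ∧ g • y = y' := by
  obtain ⟨hv1, hv2⟩ := hv
  obtain ⟨g, hg1, hg2⟩ := exists_std_pair v (u - v) hv1 hv2 (dot_pair hu hv1 hv2)
  have hset : {x : leechLattice | sqNorm (co x) = 32 ∧ sqNorm (co u - co x) = 32 ∧ dotInt (co v) (co x) = 16} =
      McLSet v (u - v) := by
    ext x
    exact mem_stmt_iff hu x
  rw [hset] at hx ⊢
  obtain ⟨G, hGa, hGb, hGx⟩ := exists_std_triple hg1 hg2 hx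
  have hG : ∀ y, G • y ∈ McLSet a0 b0El ↔ y ∈ McLSet v (u - v) := by
    intro y
    rw [← hGa, ← hGb]
    exact mem_McLSet_smul G _ _ y
  have hdot : ∀ y, dotInt (co x0El) (co (G • y)) = dotInt (co x) (co y) := by
    intro y
    rw [← hGx]
    exact co0_dotInt G x y
  refine ⟨?_, ?_, ?_⟩
  · rw [← ncard_X112]
    apply image_card G
    intro y
    rw [mem_X112, hG, hdot]
    rfl
  · rw [← ncard_X162]
    apply image_card G
    intro y
    rw [mem_X162, hG, hdot]
    have : G • y ≠ x0El ↔ y ≠ x := by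
      rw [← hGx]
      exact (MulAction.injective G).ne_iff
    rw [this]
    rfl
  · intro y hy y' hy' hne hne' hyy
    have h1 := (hG y).2 hy
    have h2 := (hG y').2 hy'
    have hne1 : G • y ≠ x0El := by
      rw [← hGx]
      exact (MulAction.injective G).ne hne
    have hne2 : G • y' ≠ x0El := by
      rw [← hGx]
      exact (MulAction.injective G).ne hne'
    have hcases : ∀ z : leechLattice, z ∈ McLSet a0 b0El → z ≠ x0El →
        dotInt (co x0El) (co z) = 8 ∨ dotInt (co x0El) (co z) = 16 := by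
      intro z hz hne
      rw [McLSet_std] at hz
      obtain ⟨l, hl, e⟩ := hz
      have h3 := List.all_eq_true.1 X275_cases l hl
      simp only [Bool.or_eq_true, beq_iff_eq] at h3
      have e4 : dotInt (co x0El) (co z) = dotL x0L l := by
        show dotInt (vecOf x0L) (z : GolayPt → ℤ) = _
        rw [← e, dotInt_vecOf]
      rw [e4]
      rcases h3 with (h3 | h3) | h3
      · exfalso
        apply hne
        apply Subtype.ext
        rw [← e, h3]
        rfl
      · exact Or.inl h3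
      · exact Or.inr h3
    have hd : dotInt (co x0El) (co (G • y)) = dotInt (co x0El) (co (G • y')) := by
      rw [hdot, hdot, hyy]
    have hU : ∃ m ∈ StabL FU, m • (G • y) = G • y' := by
      rcases hcases _ h1 hne1 with h8 | h16
      · exact orbit_list gensU_sound tree112 (inLattice_sound X112_root_ok)
          (mem_X112.2 ⟨h1, h8⟩) (mem_X112.2 ⟨h2, by rw [← hd]; exact h8⟩)
      · exact orbit_list gensU_sound tree162 (inLattice_sound X162_root_ok)
          (mem_X162.2 ⟨h1, hne1, h16⟩) (mem_X162.2 ⟨h2, hne2, by rw [← hd]; exact h16⟩)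
    obtain ⟨m, hm, e⟩ := hU
    rw [mem_FU] at hm
    obtain ⟨hm1, hm2, hm3⟩ := hm
    have fix : ∀ z z0 : leechLattice, G • z = z0 → m • z0 = z0 → (G⁻¹ * (m * G)) • z = z := by
      intro z z0 h4 h5
      simp only [mul_smul]
      rw [h4, h5, ← h4, inv_smul_smul]
    refine ⟨G⁻¹ * (m * G), ?_, fix _ _ hGa hm1, fix _ _ hGx hm3, ?_⟩
    · have e1 : u = v + (u - v) := by abel
      rw [e1, co0_map_add, fix _ _ hGa hm1, fix _ _ hGb hm2]
    · simp only [mul_smul]
      rw [e, inv_smul_smul]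

end Cfsg.Agent.Lib.Sporadic.LeechMcL
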