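import Mathlib
import Cfsg.Prelude.Def_Sporadic_a
import Cfsg.Agent.Lib.Sporadic.LeechBasic

/-!
# Norm congruences in the Leech lattice, given weight facts on the code.

All statements take as hypotheses the two code facts
`hd : ∀ w ∈ golayCode, 4 ∣ wt w` and `hm : ∀ w ∈ golayCode, w ≠ 0 → 8 ≤ wt w`.
-/

set_option autoImplicit false

namespace Cfsg.Agent.Lib.Sporadic.LeechNorm

open Cfsg Cfsg.Agent.Lib.Sporadic.LeechBasic

/-- coordinate sum of the floor-half bits is the weight of the word -/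
theorem sum_bits {α : Type*} [Fintype α] (x : α → ℤ) :
    (∑ i, ((x i / 2) % 2)) = ((support₂ (wd x)).card : ℤ) := by
  classical
  have : (support₂ (wd x)) = Finset.univ.filter (fun i => (x i / 2) % 2 = 1) := by
    ext i
    rw [mem_support₂_wd]; simp
  rw [this, Finset.card_filter]
  push_cast
  apply Finset.sum_congr rfl
  intro i _
  split_ifs with h
  · exact h
  · omega

theorem sq_even (v : ℤ) (h : v % 2 = 0) : (16 : ℤ) ∣ v ^ 2 - 4 * ((v / 2) % 2) := by
  obtain ⟨a, rfl⟩ : ∃ a, v = 2 * a := ⟨v / 2, by omega⟩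
  have e : 2 * a / 2 = a := by omega
  rw [e]
  obtain ⟨b, r, hr, rfl⟩ : ∃ b r : ℤ, (r = 0 ∨ r = 1) ∧ a = 2 * b + r :=
    ⟨a / 2, a % 2, by omega, by omega⟩
  have e2 : (2 * b + r) % 2 = r := by omega
  rw [e2]
  rcases hr with rfl | rfl
  · exact ⟨b ^ 2, by ring⟩
  · exact ⟨b ^ 2 + b, by ring⟩

theorem sq_odd (v : ℤ) (h : v % 2 = 1) : (16 : ℤ) ∣ v ^ 2 - (2 * v - 1 + 4 * ((v / 2) % 2)) := by
  obtain ⟨t, r, hr, rfl⟩ : ∃ t r : ℤ, (r = 0 ∨ r = 1) ∧ v = 4 * t + 2 * r + 1 :=
    ⟨v / 4, (v / 2) % 2, by omega, by omega⟩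
  have e : (4 * t + 2 * r + 1) / 2 % 2 = r := by omega
  rw [e]
  rcases hr with rfl | rfl
  · exact ⟨t ^ 2, by ring⟩
  · exact ⟨t ^ 2 + t, by ring⟩

theorem card_golayPt : Fintype.card GolayPt = 24 := by
  simp [ZMod.card]

section
variable (hd : ∀ w ∈ (golayCode : Set (GolayPt → ZMod 2)), (4 : ℕ) ∣ (support₂ w).card)

include hd

theorem sixteen_dvd_sqNorm (x : GolayPt → ℤ) (hx : x ∈ leechLattice) : (16 : ℤ) ∣ sqNorm x := by
  rw [mem_leechLattice_iff] at hx
  obtain ⟨m, hm, hp, hs, hw⟩ := hx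
  have hW : (4 : ℤ) ∣ ((support₂ (wd x)).card : ℤ) := by
    exact_mod_cast hd _ hw
  rcases hm with rfl | rfl
  · have h1 : (16 : ℤ) ∣ ∑ i, (x i ^ 2 - 4 * ((x i / 2) % 2)) :=
      Finset.dvd_sum fun i _ => sq_even _ (hp i)
    rw [Finset.sum_sub_distrib, ← Finset.mul_sum, sum_bits] at h1
    unfold sqNorm
    omega
  · have h1 : (16 : ℤ) ∣ ∑ i, (x i ^ 2 - (2 * x i - 1 + 4 * ((x i / 2) % 2))) :=
      Finset.dvd_sum fun i _ => sq_odd _ (hp i)
    rw [Finset.sum_sub_distrib, Finset.sum_add_distrib, Finset.sum_sub_distrib, ← Finset.mul_sum,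
      ← Finset.mul_sum, sum_bits] at h1
    have hc : (∑ i : GolayPt, (1 : ℤ)) = 24 := by
      simp [Finset.card_univ, ZMod.card]
    rw [hc] at h1
    unfold sqNorm
    omega

end

/-- if all coordinates are divisible by 4 and the sum by 8, the norm is divisible by 32. -/
theorem thirtytwo_dvd_of_four_dvd (x : GolayPt → ℤ) (h4 : ∀ i, (4 : ℤ) ∣ x i)
    (hs : (8 : ℤ) ∣ ∑ i, x i) : (32 : ℤ) ∣ sqNorm x := by
  have h1 : (32 : ℤ) ∣ ∑ i, (x i ^ 2 - 4 * x i) := by
    apply Finset.dvd_sum
    intro i _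
    obtain ⟨b, hb⟩ := h4 i
    rw [hb]
    have : (2 : ℤ) ∣ b ^ 2 - b := by
      have := Int.even_mul_pred_self b
      rw [even_iff_two_dvd] at this
      have e : b ^ 2 - b = b * (b - 1) := by ring
      rw [e]; exact this
    obtain ⟨c, hc⟩ := this
    exact ⟨c, by linear_combination 16 * hc⟩
  rw [Finset.sum_sub_distrib, ← Finset.mul_sum] at h1
  unfold sqNorm
  omega

theorem sqNorm_nonneg {α : Type*} [Fintype α] (x : α → ℤ) : 0 ≤ sqNorm x :=
  Finset.sum_nonneg fun i _ => sq_nonneg _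

theorem sqNorm_eq_zero {α : Type*} [Fintype α] (x : α → ℤ) (h : sqNorm x = 0) : x = 0 := by
  funext i
  have := (Finset.sum_eq_zero_iff_of_nonneg (fun i _ => sq_nonneg (x i))).mp h i (Finset.mem_univ i)
  simpa using this

section
variable (hd : ∀ w ∈ (golayCode : Set (GolayPt → ZMod 2)), (4 : ℕ) ∣ (support₂ w).card)
  (hm : ∀ w ∈ (golayCode : Set (GolayPt → ZMod 2)), w ≠ 0 → 8 ≤ (support₂ w).card)

include hd hm

theorem min_norm (x : GolayPt → ℤ) (hx : x ∈ leechLattice) (h0 : x ≠ 0) : 32 ≤ sqNorm x := by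
  have h16 := sixteen_dvd_sqNorm hd x hx
  have hpos : 0 < sqNorm x := by
    rcases (sqNorm_nonneg x).lt_or_eq with h | h
    · exact h
    · exact absurd (sqNorm_eq_zero x h.symm) h0
  rw [mem_leechLattice_iff] at hx
  obtain ⟨m, hm', hp, hs, hw⟩ := hx
  rcases hm' with rfl | rfl
  · by_cases hw0 : wd x = 0
    · -- all coordinates divisible by 4
      have h4 : ∀ i, (4 : ℤ) ∣ x i := by
        intro i
        have h1 := hp i
        have h2 : ¬ i ∈ support₂ (wd x) := by
          rw [mem_support₂, hw0]; simp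
        rw [mem_support₂_wd] at h2
        omega
      have h32 := thirtytwo_dvd_of_four_dvd x h4 (by omega)
      omega
    · have h8 := hm _ hw hw0
      -- each coordinate in the support contributes at least 4
      have h1 : ∑ i ∈ support₂ (wd x), (4 : ℤ) ≤ ∑ i ∈ support₂ (wd x), x i ^ 2 := by
        apply Finset.sum_le_sum
        intro i hi
        rw [mem_support₂_wd] at hi
        have h2 := hp i
        have h3 : x i ≠ 0 := by
          intro h; rw [h] at hi; simp at hi
        have : 2 ≤ |x i| := by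
          have : 0 < |x i| := abs_pos.mpr h3
          by_contra hlt
          have h4 : |x i| = 1 := by omega
          rcases abs_eq (by norm_num : (0 : ℤ) ≤ 1) |>.mp h4 with h5 | h5 <;> rw [h5] at h2 <;> simp at h2
        nlinarith [abs_nonneg (x i), sq_abs (x i)]
      have h2 : ∑ i ∈ support₂ (wd x), x i ^ 2 ≤ sqNorm x :=
        Finset.sum_le_sum_of_subset_of_nonneg (Finset.subset_univ _) (fun i _ _ => sq_nonneg _)
      simp only [Finset.sum_const, nsmul_eq_mul] at h1
      have h3 : (8 : ℤ) ≤ ((support₂ (wd x)).card : ℤ) := by exact_mod_cast h8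
      nlinarith
  · -- all coordinates odd: norm at least 24, then 32 by divisibility
    have h1 : ∑ i : GolayPt, (1 : ℤ) ≤ sqNorm x := by
      apply Finset.sum_le_sum
      intro i _
      have h2 := hp i
      have h3 : x i ≠ 0 := by
        intro h; rw [h] at h2; simp at h2
      have : 0 < x i ^ 2 := by positivity
      omega
    have hc : (∑ i : GolayPt, (1 : ℤ)) = 24 := by
      simp [Finset.card_univ, ZMod.card]
    omega

end

/-- Polarization. -/
theorem sqNorm_add {α : Type*} [Fintype α] (u v : α → ℤ) :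
    sqNorm (u + v) = sqNorm u + sqNorm v + 2 * dotInt u v := by
  unfold sqNorm dotInt
  rw [Finset.mul_sum, ← Finset.sum_add_distrib, ← Finset.sum_add_distrib]
  apply Finset.sum_congr rfl
  intro i _
  simp only [Pi.add_apply]
  ring

theorem sqNorm_neg {α : Type*} [Fintype α] (u : α → ℤ) : sqNorm (-u) = sqNorm u := by
  unfold sqNorm
  apply Finset.sum_congr rfl
  intro i _
  simp

theorem dotInt_neg_right {α : Type*} [Fintype α] (u v : α → ℤ) : dotInt u (-v) = - dotInt u v := by
  unfold dotInt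
  rw [← Finset.sum_neg_distrib]
  apply Finset.sum_congr rfl
  intro i _
  simp

theorem dotInt_comm {α : Type*} [Fintype α] (u v : α → ℤ) : dotInt u v = dotInt v u := by
  unfold dotInt
  apply Finset.sum_congr rfl
  intro i _
  ring

/-- The parallelogram analysis: two distinct vectors of a lattice of min norm 32, norms `≤ 64`,
congruent mod twice the lattice. -/
theorem short_congruent (hmin : ∀ x ∈ leechLattice, x ≠ 0 → 32 ≤ sqNorm x)
    (x y : GolayPt → ℤ) (hx : x ∈ leechLattice) (hy : y ∈ leechLattice) (hxy : x ≠ y)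
    (hxn : sqNorm x ≤ 64) (hyn : sqNorm y ≤ 64) (hc : ∃ z ∈ leechLattice, x - y = 2 • z) :
    x = -y ∨ (sqNorm x = 64 ∧ sqNorm y = 64 ∧ dotInt x y = 0) := by
  obtain ⟨u, hu, hxyu⟩ := hc
  -- v = y + u, so x = v + u, y = v - u
  set v := y + u with hv
  have hvL : v ∈ leechLattice := leechLattice.add_mem hy hu
  have hx' : x = v + u := by
    have : x = y + 2 • u := by rw [← hxyu]; abel
    rw [this, hv, two_smul]; abel
  have hy' : y = v + -u := by
    rw [hv]; abel
  by_cases hv0 : v = 0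
  · left
    rw [hx', hy', hv0]; simp
  · right
    have hu0 : u ≠ 0 := by
      intro h
      rw [h, smul_zero] at hxyu
      exact hxy (sub_eq_zero.mp hxyu)
    have h1 := hmin u hu hu0
    have h2 := hmin v hvL hv0
    have e1 : sqNorm x = sqNorm v + sqNorm u + 2 * dotInt v u := by
      rw [hx', sqNorm_add]
    have e2 : sqNorm y = sqNorm v + sqNorm u - 2 * dotInt v u := by
      rw [hy', sqNorm_add, sqNorm_neg, dotInt_neg_right]; ring
    have e3 : dotInt x y = sqNorm v - sqNorm u := by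
      rw [hx', hy']
      unfold dotInt sqNorm
      rw [← Finset.sum_sub_distrib]
      apply Finset.sum_congr rfl
      intro i _
      simp only [Pi.add_apply, Pi.neg_apply]
      ring
    refine ⟨by omega, by omega, by omega⟩

end Cfsg.Agent.Lib.Sporadic.LeechNorm
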