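import Mathlib
import Cfsg.Agent.Lib.Compute.Golay
import Cfsg.Agent.Lib.Sporadic.LeechNorm

/-!
# Weight facts on the code, and the resulting norm facts on the Leech lattice.
-/

set_option autoImplicit false

namespace Cfsg.Agent.Lib.Sporadic.LeechFacts

open Cfsg Cfsg.Agent.Lib.Compute.Golay Cfsg.Agent.Lib.Sporadic.LeechBasic
  Cfsg.Agent.Lib.Sporadic.LeechNorm

theorem codeMasks_weights_aux :
    codeMasks.all (fun m => pop m % 4 == 0 && (m == 0 || decide (8 ≤ pop m))) = true := by
  decide +kernel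

theorem codeMasks_weights : ∀ m ∈ codeMasks, pop m % 4 = 0 ∧ (m ≠ 0 → 8 ≤ pop m) := by
  intro m hm
  have := List.all_eq_true.mp codeMasks_weights_aux m hm
  simp only [Bool.and_eq_true, beq_iff_eq, Bool.or_eq_true, decide_eq_true_eq] at this
  refine ⟨this.1, fun h0 => ?_⟩
  rcases this.2 with h | h
  · exact absurd h h0
  · exact h

theorem code_four_dvd : ∀ w ∈ (golayCode : Set (GolayPt → ZMod 2)), (4 : ℕ) ∣ (support₂ w).card := by
  intro w hw
  obtain ⟨m, hm, rfl⟩ := exists_mask_of_mem_code hw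
  rw [support_maskWord, card_maskSupport]
  exact Nat.dvd_of_mod_eq_zero (codeMasks_weights m hm).1

theorem code_min_eight :
    ∀ w ∈ (golayCode : Set (GolayPt → ZMod 2)), w ≠ 0 → 8 ≤ (support₂ w).card := by
  intro w hw hw0
  obtain ⟨m, hm, rfl⟩ := exists_mask_of_mem_code hw
  rw [support_maskWord, card_maskSupport]
  apply (codeMasks_weights m hm).2
  rintro rfl
  exact hw0 maskWord_zero

theorem sixteen_dvd (x : GolayPt → ℤ) (hx : x ∈ leechLattice) : (16 : ℤ) ∣ sqNorm x :=
  sixteen_dvd_sqNorm code_four_dvd x hx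

theorem min_norm_32 (x : GolayPt → ℤ) (hx : x ∈ leechLattice) (h0 : x ≠ 0) : 32 ≤ sqNorm x :=
  min_norm code_four_dvd code_min_eight x hx h0

end Cfsg.Agent.Lib.Sporadic.LeechFacts
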