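import Mathlib
import Cfsg.Agent.Lib.Sporadic.LeechFacts
import Cfsg.Agent.Lib.Sporadic.M24Tbl

/-!
# Monomial automorphisms of the Leech lattice

Sign changes along code words and coordinate permutations in `M24` are lattice automorphisms;
they are packaged as elements of `Co0`.  Also: negation.
-/

set_option autoImplicit false

namespace Cfsg.Agent.Lib.Sporadic.LeechAut

open Cfsg Cfsg.Agent.Lib.Sporadic.LeechBasic Cfsg.Agent.Lib.Sporadic.LeechNorm
  Cfsg.Agent.Lib.Sporadic.LeechFacts
open scoped Pointwise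

/-! ### Integer lifts of binary words -/

/-- Integer lift of a binary word. -/
def lift01 {α : Type*} (d : α → ZMod 2) (i : α) : ℤ := ((d i).val : ℤ)

theorem lift01_cases {α : Type*} (d : α → ZMod 2) (i : α) :
    lift01 d i = 0 ∨ lift01 d i = 1 := by
  unfold lift01
  have : ∀ a : ZMod 2, ((a.val : ℕ) : ℤ) = 0 ∨ ((a.val : ℕ) : ℤ) = 1 := by decide
  exact this _

theorem lift01_cast {α : Type*} (d : α → ZMod 2) (i : α) : ((lift01 d i : ℤ) : ZMod 2) = d i := by
  unfold lift01
  have : ∀ a : ZMod 2, (((a.val : ℕ) : ℤ) : ZMod 2) = a := by decide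
  exact this _

theorem lift01_eq_ite {α : Type*} (d : α → ZMod 2) (i : α) :
    lift01 d i = if d i ≠ 0 then 1 else 0 := by
  unfold lift01
  have : ∀ a : ZMod 2, ((a.val : ℕ) : ℤ) = if a ≠ 0 then 1 else 0 := by decide
  exact this _

theorem sum_lift01 {α : Type*} [Fintype α] (d : α → ZMod 2) :
    ∑ i, lift01 d i = ((support₂ d).card : ℤ) := by
  classical
  have : (support₂ d) = Finset.univ.filter (fun i => d i ≠ 0) := rfl
  rw [this, Finset.card_filter]
  push_cast
  exact Finset.sum_congr rfl fun i _ => lift01_eq_ite d i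

theorem lift01_add {α : Type*} (u v : α → ZMod 2) (i : α) :
    lift01 (u + v) i = lift01 u i + lift01 v i - 2 * (lift01 u i * lift01 v i) := by
  unfold lift01
  simp only [Pi.add_apply]
  have : ∀ a b : ZMod 2, (((a + b).val : ℕ) : ℤ) =
      ((a.val : ℕ) : ℤ) + ((b.val : ℕ) : ℤ) - 2 * (((a.val : ℕ) : ℤ) * ((b.val : ℕ) : ℤ)) := by decide
  exact this _ _

/-- Two words of the code meet evenly. -/
theorem inter_even {u v : GolayPt → ZMod 2} (hu : u ∈ (golayCode : Set (GolayPt → ZMod 2)))
    (hv : v ∈ (golayCode : Set (GolayPt → ZMod 2))) :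
    (2 : ℤ) ∣ ∑ i, (lift01 u i * lift01 v i) := by
  have h1 : ((4 : ℕ) : ℤ) ∣ ((support₂ (u + v)).card : ℤ) :=
    by exact_mod_cast code_four_dvd _ (golayCode.add_mem hu hv)
  have h2 : ((4 : ℕ) : ℤ) ∣ ((support₂ u).card : ℤ) := by exact_mod_cast code_four_dvd _ hu
  have h3 : ((4 : ℕ) : ℤ) ∣ ((support₂ v).card : ℤ) := by exact_mod_cast code_four_dvd _ hv
  have h4 : ((support₂ (u + v)).card : ℤ) = ((support₂ u).card : ℤ) + ((support₂ v).card : ℤ)
      - 2 * ∑ i, (lift01 u i * lift01 v i) := by
    rw [← sum_lift01, ← sum_lift01, ← sum_lift01, Finset.mul_sum, ← Finset.sum_add_distrib,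
      ← Finset.sum_sub_distrib]
    exact Finset.sum_congr rfl fun i _ => lift01_add u v i
  push_cast at h1 h2 h3
  omega

/-- Coordinates of a lattice vector modulo 4 in terms of its word. -/
theorem coord_mod_four (v m : ℤ) (hm : m = 0 ∨ m = 1) (h : v % 2 = m) (w : ZMod 2)
    (hw : w = ((v / 2 : ℤ) : ZMod 2)) : (4 : ℤ) ∣ v - (m + 2 * ((w.val : ℕ) : ℤ)) := by
  have h0 : ((v / 2 : ℤ) : ZMod 2).val = ((v / 2 % 2 : ℤ)).toNat := by
    have : ((v / 2 : ℤ) : ZMod 2) = (((v / 2 % 2 : ℤ)) : ZMod 2) := by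
      rw [ZMod.intCast_eq_intCast_iff]
      show v / 2 % ((2 : ℕ) : ℤ) = (v / 2 % 2) % ((2 : ℕ) : ℤ)
      push_cast
      omega
    rw [this]
    have hr : v / 2 % 2 = 0 ∨ v / 2 % 2 = 1 := by omega
    rcases hr with hr | hr <;> rw [hr] <;> rfl
  rw [hw, h0]
  have hr : v / 2 % 2 = 0 ∨ v / 2 % 2 = 1 := by omega
  rcases hr with hr | hr <;> rw [hr] <;> simp <;> omega

/-- The key congruence: the sum of a lattice vector over a code word is divisible by 4. -/
theorem sum_over_code {x : GolayPt → ℤ} (hx : x ∈ leechLattice) {u : GolayPt → ZMod 2}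
    (hu : u ∈ (golayCode : Set (GolayPt → ZMod 2))) :
    (4 : ℤ) ∣ ∑ i, (lift01 u i * x i) := by
  rw [mem_leechLattice_iff] at hx
  obtain ⟨m, hm, hp, hs, hw⟩ := hx
  have h1 : (4 : ℤ) ∣ ∑ i, (lift01 u i * x i - lift01 u i * (m + 2 * lift01 (wd x) i)) := by
    apply Finset.dvd_sum
    intro i _
    have := coord_mod_four (x i) m hm (hp i) (wd x i) rfl
    rw [← mul_sub]
    exact Dvd.dvd.mul_left this _
  have h2 : ∑ i, (lift01 u i * (m + 2 * lift01 (wd x) i)) =
      m * ((support₂ u).card : ℤ) + 2 * ∑ i, (lift01 u i * lift01 (wd x) i) := by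
    rw [← sum_lift01, Finset.mul_sum, Finset.mul_sum, ← Finset.sum_add_distrib]
    apply Finset.sum_congr rfl
    intro i _
    ring
  rw [Finset.sum_sub_distrib, h2] at h1
  have h3 : ((4 : ℕ) : ℤ) ∣ ((support₂ u).card : ℤ) := by exact_mod_cast code_four_dvd _ hu
  push_cast at h3
  obtain ⟨a, ha⟩ := inter_even hu hw
  obtain ⟨b, hb⟩ := h3
  rw [ha, hb] at h1
  have e : m * (4 * b) + 2 * (2 * a) = 4 * (m * b + a) := by ring
  rw [e] at h1
  exact (dvd_sub_left (Dvd.intro _ rfl)).mp h1

/-! ### Sign changes -/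

/-- Sign change along a set of coordinates. -/
def signChange (c : Finset GolayPt) (x : GolayPt → ℤ) : GolayPt → ℤ :=
  fun i => if i ∈ c then -x i else x i

theorem signChange_signChange (c : Finset GolayPt) (x : GolayPt → ℤ) :
    signChange c (signChange c x) = x := by
  funext i
  unfold signChange
  split_ifs <;> simp

theorem signChange_add (c : Finset GolayPt) (x y : GolayPt → ℤ) :
    signChange c (x + y) = signChange c x + signChange c y := by
  funext i
  unfold signChange
  simp only [Pi.add_apply]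
  split_ifs <;> ring

theorem sqNorm_signChange (c : Finset GolayPt) (x : GolayPt → ℤ) :
    sqNorm (signChange c x) = sqNorm x := by
  unfold sqNorm signChange
  apply Finset.sum_congr rfl
  intro i _
  split_ifs <;> ring

theorem signChange_mem {c : Finset GolayPt}
    (hc : c ∈ supports (golayCode : Set (GolayPt → ZMod 2))) {x : GolayPt → ℤ}
    (hx : x ∈ leechLattice) : signChange c x ∈ leechLattice := by
  obtain ⟨u, hu, rfl⟩ := hc
  have hx' := hx
  rw [mem_leechLattice_iff] at hx' ⊢
  obtain ⟨m, hm, hp, hs, hw⟩ := hx'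
  have hmem : ∀ i, i ∈ support₂ u ↔ u i ≠ 0 := fun i => mem_support₂ u i
  refine ⟨m, hm, fun i => ?_, ?_, ?_⟩
  · have := hp i
    unfold signChange
    split_ifs <;> omega
  · -- sum
    have e : ∑ i, signChange (support₂ u) x i = ∑ i, x i - 2 * ∑ i, (lift01 u i * x i) := by
      rw [Finset.mul_sum, ← Finset.sum_sub_distrib]
      apply Finset.sum_congr rfl
      intro i _
      unfold signChange
      rw [lift01_eq_ite]
      by_cases h : u i ≠ 0
      · rw [if_pos ((hmem i).mpr h), if_pos h]; ring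
      · rw [if_neg (fun h' => h ((hmem i).mp h')), if_neg h]; ring
    rw [e]
    obtain ⟨a, ha⟩ := sum_over_code hx hu
    rw [ha]
    omega
  · have e : wd (signChange (support₂ u) x) = wd x + (m : ZMod 2) • u := by
      funext i
      simp only [wd, signChange, Pi.add_apply, Pi.smul_apply, smul_eq_mul]
      have h1 := hp i
      by_cases h : u i ≠ 0
      · rw [if_pos ((hmem i).mpr h)]
        have e1 : (-x i) / 2 = -(x i / 2) - m := by
          rcases hm with rfl | rfl <;> omega
        have h2 : u i = 1 := by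
          have : ∀ a : ZMod 2, a ≠ 0 → a = 1 := by decide
          exact this _ h
        rw [e1, h2]
        push_cast
        have : ∀ a b : ZMod 2, -a - b = a + b * 1 := by decide
        exact this _ _
      · rw [if_neg (fun h' => h ((hmem i).mp h'))]
        have h2 : u i = 0 := by
          simpa using h
        rw [h2]
        simp
    rw [e]
    exact golayCode.add_mem hw (golayCode.smul_mem _ hu)

/-! ### Coordinate permutations -/

/-- Permutation of coordinates, as in `Cfsg.signedPerm`. -/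
def permV (σ : Equiv.Perm GolayPt) (x : GolayPt → ℤ) : GolayPt → ℤ := fun i => x (σ.symm i)

theorem permV_add (σ : Equiv.Perm GolayPt) (x y : GolayPt → ℤ) :
    permV σ (x + y) = permV σ x + permV σ y := rfl

theorem sqNorm_permV (σ : Equiv.Perm GolayPt) (x : GolayPt → ℤ) :
    sqNorm (permV σ x) = sqNorm x := by
  unfold sqNorm permV
  exact Equiv.sum_comp σ.symm fun i => x i ^ 2

theorem word_perm_mem {σ : Equiv.Perm GolayPt} (hσ : σ ∈ M24) {w : GolayPt → ZMod 2}
    (hw : w ∈ (golayCode : Set (GolayPt → ZMod 2))) :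
    (fun i => w (σ.symm i)) ∈ (golayCode : Set (GolayPt → ZMod 2)) := by
  have h1 : support₂ w ∈ supports (golayCode : Set (GolayPt → ZMod 2)) := ⟨w, hw, rfl⟩
  have h2 := Cfsg.Agent.Lib.Sporadic.M24Tbl.smul_mem_supports hσ h1
  have h3 : σ • support₂ w = support₂ (fun i => w (σ.symm i)) := by
    ext p
    rw [Finset.mem_smul_finset, mem_support₂]
    constructor
    · rintro ⟨q, hq, rfl⟩
      rw [mem_support₂] at hq
      simpa using hq
    · intro h
      exact ⟨σ.symm p, (mem_support₂ _ _).mpr h, by simp⟩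
  rw [h3] at h2
  exact (support₂_mem_supports_iff _ _).mp h2

theorem permV_mem {σ : Equiv.Perm GolayPt} (hσ : σ ∈ M24) {x : GolayPt → ℤ}
    (hx : x ∈ leechLattice) : permV σ x ∈ leechLattice := by
  rw [mem_leechLattice_iff] at hx ⊢
  obtain ⟨m, hm, hp, hs, hw⟩ := hx
  refine ⟨m, hm, fun i => hp _, ?_, word_perm_mem hσ hw⟩
  have : ∑ i, permV σ x i = ∑ i, x i := Equiv.sum_comp σ.symm x
  rw [this]; exact hs

theorem permV_permV_inv (σ : Equiv.Perm GolayPt) (x : GolayPt → ℤ) :
    permV σ (permV σ⁻¹ x) = x := by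
  funext i
  simp [permV, Equiv.Perm.inv_def]

theorem permV_inv_permV (σ : Equiv.Perm GolayPt) (x : GolayPt → ℤ) :
    permV σ⁻¹ (permV σ x) = x := by
  funext i
  simp [permV, Equiv.Perm.inv_def]

/-! ### Packaging as elements of `Co0` -/

/-- Sign change as an element of `Co0`. -/
def signCo0 (c : Finset GolayPt) (hc : c ∈ supports (golayCode : Set (GolayPt → ZMod 2))) : Co0 :=
  ⟨{ toFun := fun v => ⟨signChange c v, signChange_mem hc v.2⟩
     invFun := fun v => ⟨signChange c v, signChange_mem hc v.2⟩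
     left_inv := fun v => Subtype.ext (signChange_signChange c v)
     right_inv := fun v => Subtype.ext (signChange_signChange c v) },
    fun v w => Subtype.ext (signChange_add c v w), fun v => sqNorm_signChange c v⟩

theorem coe_signCo0_smul (c : Finset GolayPt)
    (hc : c ∈ supports (golayCode : Set (GolayPt → ZMod 2))) (v : leechLattice) :
    ((signCo0 c hc • v : leechLattice) : GolayPt → ℤ) = signChange c v := rfl

/-- Coordinate permutation as an element of `Co0`. -/
def permCo0 (σ : Equiv.Perm GolayPt) (hσ : σ ∈ M24) : Co0 :=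
  ⟨{ toFun := fun v => ⟨permV σ v, permV_mem hσ v.2⟩
     invFun := fun v => ⟨permV σ⁻¹ v, permV_mem (M24.inv_mem hσ) v.2⟩
     left_inv := fun v => Subtype.ext (permV_inv_permV σ v)
     right_inv := fun v => Subtype.ext (permV_permV_inv σ v) },
    fun _ _ => rfl, fun v => sqNorm_permV σ v⟩

theorem coe_permCo0_smul (σ : Equiv.Perm GolayPt) (hσ : σ ∈ M24) (v : leechLattice) :
    ((permCo0 σ hσ • v : leechLattice) : GolayPt → ℤ) = permV σ v := rfl

/-- Negation as an element of `Co0`. -/
def negCo0 : Co0 :=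
  ⟨{ toFun := fun v => -v
     invFun := fun v => -v
     left_inv := fun v => neg_neg v
     right_inv := fun v => neg_neg v },
    fun v w => neg_add v w, fun v => sqNorm_neg _⟩

theorem coe_negCo0_smul (v : leechLattice) :
    ((negCo0 • v : leechLattice) : GolayPt → ℤ) = -(v : GolayPt → ℤ) := rfl

/-- elements of `Co0` are additive -/
theorem co0_map_add (g : Co0) (v w : leechLattice) : g • (v + w) = g • v + g • w := g.2.1 v w

theorem co0_sqNorm (g : Co0) (v : leechLattice) :
    sqNorm ((g • v : leechLattice) : GolayPt → ℤ) = sqNorm (v : GolayPt → ℤ) := g.2.2 v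

/-- the action of an element of `Co0` as an additive homomorphism -/
def co0AddHom (g : Co0) : leechLattice →+ leechLattice :=
  AddMonoidHom.mk' (fun v => g • v) (fun v w => co0_map_add g v w)

theorem co0AddHom_apply (g : Co0) (v : leechLattice) : co0AddHom g v = g • v := rfl

theorem co0_map_neg (g : Co0) (v : leechLattice) : g • (-v) = -(g • v) :=
  map_neg (co0AddHom g) v

theorem co0_map_zsmul (g : Co0) (n : ℤ) (v : leechLattice) : g • (n • v) = n • (g • v) :=
  map_zsmul (co0AddHom g) n v

theorem co0_map_sum {ι : Type*} (g : Co0) (s : Finset ι) (f : ι → leechLattice) :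
    g • (∑ i ∈ s, f i) = ∑ i ∈ s, g • f i :=
  map_sum (co0AddHom g) f s

/-- Negation is central. -/
theorem negCo0_mem_center : negCo0 ∈ Subgroup.center Co0 := by
  rw [Subgroup.mem_center_iff]
  intro g
  apply Subtype.ext
  apply Equiv.ext
  intro v
  exact co0_map_neg g v

/-! ### Explicit lattice vectors -/

theorem sqNorm_single (i : GolayPt) (a : ℤ) : sqNorm (Pi.single i a : GolayPt → ℤ) = a ^ 2 := by
  unfold sqNorm
  rw [Finset.sum_eq_single i]
  · simp
  · intro b _ hb; simp [Pi.single_eq_of_ne hb]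
  · simp

theorem mem_L_of_four_dvd (x : GolayPt → ℤ) (h4 : ∀ i, (4 : ℤ) ∣ x i) (hs : (8 : ℤ) ∣ ∑ i, x i) :
    x ∈ leechLattice := by
  rw [mem_leechLattice_iff]
  refine ⟨0, Or.inl rfl, fun i => ?_, by rw [mul_zero]; exact Int.emod_eq_zero_of_dvd hs, ?_⟩
  · have := h4 i; omega
  · have : wd x = 0 := by
      funext i
      simp only [wd, Pi.zero_apply]
      rw [ZMod.intCast_zmod_eq_zero_iff_dvd]
      push_cast
      have := h4 i; omega
    rw [this]
    exact golayCode.zero_mem

theorem single_sum (i : GolayPt) (a : ℤ) : ∑ k, (Pi.single i a : GolayPt → ℤ) k = a := by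
  rw [Finset.sum_eq_single i]
  · simp
  · intro b _ hb; simp [Pi.single_eq_of_ne hb]
  · simp

/-- The lattice vectors `8 e_i`. -/
def u8 (i : GolayPt) : leechLattice :=
  ⟨Pi.single i 8, mem_L_of_four_dvd _ (fun k => by
      by_cases h : k = i
      · subst h; simp
      · simp [Pi.single_eq_of_ne h])
    (by rw [single_sum])⟩

theorem coe_u8 (i : GolayPt) : (u8 i : GolayPt → ℤ) = Pi.single i 8 := rfl

theorem negCo0_ne_one : negCo0 ≠ 1 := by
  intro h
  have h1 : negCo0 • u8 none = (1 : Co0) • u8 none := by rw [h]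
  have h2 := congrArg (fun v : leechLattice => (v : GolayPt → ℤ) none) h1
  simp only [coe_negCo0_smul, one_smul, coe_u8] at h2
  simp at h2

end Cfsg.Agent.Lib.Sporadic.LeechAut
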