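import Mathlib
import Cfsg.Agent.S0393
import Cfsg.Agent.Lib.Compute.LeechCount
import Cfsg.Agent.Lib.Sporadic.LeechFacts

/-!
# Congruence classes modulo twice the rank-24 lattice

The quotient by twice the lattice has `2 ^ 24` elements, the vector `0` and the vectors of sum of
squares `32`, `48`, `64` lie in pairwise different classes except for the obvious identifications,
at most `2`, `2`, `48` vectors in each class.  The count `1 + 98280 + 8386560 + 8292375 = 2 ^ 24`
shows that all classes are represented and that each cross has exactly `48` members.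
-/

set_option autoImplicit false

namespace Cfsg.Agent.Lib.Sporadic.LeechClasses

open Cfsg Cfsg.Agent.Lib.Sporadic.LeechNorm Cfsg.Agent.Lib.Sporadic.LeechFacts

abbrev V := GolayPt → ℤ

/-- Doubling on integer vectors. -/
def dbl : V →+ V := nsmulAddMonoidHom 2

theorem dbl_apply (x : V) : dbl x = 2 • x := rfl

theorem dbl_injective : Function.Injective dbl := by
  intro x y h
  funext i
  have := congrFun h i
  simp only [dbl_apply, Pi.smul_apply, nsmul_eq_mul] at this
  push_cast at this
  omega

/-- Reduction modulo two. -/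
def redTwo : V →+ (GolayPt → ZMod 2) where
  toFun x := fun i => ((x i : ℤ) : ZMod 2)
  map_zero' := by funext i; simp
  map_add' := by intro x y; funext i; simp

theorem redTwo_surjective : Function.Surjective redTwo := by
  intro w
  refine ⟨fun i => ((w i).val : ℤ), ?_⟩
  funext i
  show (((w i).val : ℤ) : ZMod 2) = w i
  simp

theorem redTwo_ker : redTwo.ker = (⊤ : AddSubgroup V).map dbl := by
  ext x
  rw [AddMonoidHom.mem_ker, AddSubgroup.mem_map]
  constructor
  · intro h
    have h2 : ∀ i, (2 : ℤ) ∣ x i := by
      intro i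
      have := congrFun h i
      exact (ZMod.intCast_zmod_eq_zero_iff_dvd _ 2).1 this
    refine ⟨fun i => x i / 2, trivial, ?_⟩
    funext i
    simp only [dbl_apply, Pi.smul_apply, nsmul_eq_mul]
    push_cast
    have := h2 i
    omega
  · rintro ⟨y, -, rfl⟩
    funext i
    show (((2 • y) i : ℤ) : ZMod 2) = 0
    simp only [Pi.smul_apply, nsmul_eq_mul]
    rw [ZMod.intCast_zmod_eq_zero_iff_dvd]
    exact ⟨y i, by push_cast; ring⟩

theorem index_two_top : ((⊤ : AddSubgroup V).map dbl).index = 2 ^ 24 := by
  rw [← redTwo_ker, AddSubgroup.index_ker, AddMonoidHom.range_eq_top.mpr redTwo_surjective]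
  rw [Nat.card_congr (AddSubgroup.topEquiv : (⊤ : AddSubgroup (GolayPt → ZMod 2)) ≃+ _).toEquiv]
  rw [Nat.card_eq_fintype_card, Fintype.card_fun, card_golayPt]
  simp [ZMod.card]

/-- Twice the lattice, as a subgroup of integer vectors. -/
def twoL : AddSubgroup V := leechLattice.map dbl

theorem mem_twoL {x : V} : x ∈ twoL ↔ ∃ z ∈ leechLattice, x = 2 • z := by
  unfold twoL
  rw [AddSubgroup.mem_map]
  constructor
  · rintro ⟨z, hz, rfl⟩; exact ⟨z, hz, rfl⟩
  · rintro ⟨z, hz, rfl⟩; exact ⟨z, hz, rfl⟩

theorem twoL_le : twoL ≤ leechLattice := by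
  intro x hx
  obtain ⟨z, hz, rfl⟩ := mem_twoL.1 hx
  exact nsmul_mem hz 2

/-- The relative index of twice the lattice in the lattice. -/
theorem relIndex_twoL : twoL.relIndex leechLattice = 2 ^ 24 := by
  have h1 := AddSubgroup.relIndex_mul_index twoL_le
  have hle : twoL ≤ (⊤ : AddSubgroup V).map dbl := AddSubgroup.map_mono le_top
  have h2 := AddSubgroup.relIndex_mul_index hle
  have h3 : twoL.relIndex ((⊤ : AddSubgroup V).map dbl) = leechLattice.index := by
    unfold twoL
    rw [AddSubgroup.relIndex_map_map_of_injective _ _ dbl_injective, AddSubgroup.relIndex_top_right]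
  rw [index_two_top, h3, Cfsg.Agent.S0393.result] at h2
  rw [Cfsg.Agent.S0393.result] at h1
  have : twoL.relIndex leechLattice * 2 ^ 36 = 2 ^ 24 * 2 ^ 36 := by
    rw [h1, ← h2]; ring
  exact Nat.eq_of_mul_eq_mul_right (by norm_num) this

/-- The quotient of the lattice by twice the lattice. -/
abbrev Q := leechLattice ⧸ twoL.addSubgroupOf leechLattice

theorem card_Q : Nat.card Q = 2 ^ 24 := by
  have := relIndex_twoL
  rw [AddSubgroup.relIndex] at this
  exact this

instance : Finite Q := Nat.finite_of_card_ne_zero (by rw [card_Q]; norm_num)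

/-- The class of a lattice vector. -/
def cl (x : leechLattice) : Q := QuotientAddGroup.mk x

theorem cl_eq_iff (x y : leechLattice) :
    cl x = cl y ↔ ∃ z ∈ leechLattice, (x : V) - (y : V) = 2 • z := by
  unfold cl
  rw [eq_comm, QuotientAddGroup.eq, AddSubgroup.mem_addSubgroupOf, mem_twoL]
  constructor
  · rintro ⟨z, hz, h⟩
    refine ⟨z, hz, ?_⟩
    rw [← h]
    simp [sub_eq_add_neg, add_comm]
  · rintro ⟨z, hz, h⟩
    refine ⟨z, hz, ?_⟩
    rw [← h]
    simp [sub_eq_add_neg, add_comm]

/-! ### Bounding the number of vectors in a class -/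

/-- Pairwise orthogonal vectors of non-zero norm number at most `24`. -/
theorem card_le_24 (P : Finset V) (hne : ∀ v ∈ P, sqNorm v ≠ 0)
    (horth : ∀ v ∈ P, ∀ w ∈ P, v ≠ w → dotInt v w = 0) : P.card ≤ 24 := by
  classical
  have hsmul : ∀ (u w : V) (c : ℤ), dotInt u (c • w) = c * dotInt u w := by
    intro u w c
    unfold dotInt
    rw [Finset.mul_sum]
    apply Finset.sum_congr rfl
    intro i _
    simp only [Pi.smul_apply, smul_eq_mul]
    ring
  have hli : LinearIndependent ℤ (fun v : P => (v : V)) := by
    rw [linearIndependent_iff']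
    intro s g hsum j hj
    let L : V →ₗ[ℤ] ℤ :=
      { toFun := fun w => dotInt (j : V) w
        map_add' := by
          intro u v
          unfold dotInt
          rw [← Finset.sum_add_distrib]
          apply Finset.sum_congr rfl
          intro i _
          simp only [Pi.add_apply]
          ring
        map_smul' := by
          intro c u
          exact hsmul _ _ c }
    have h1 := congrArg L hsum
    rw [map_sum, map_zero, Finset.sum_eq_single j] at h1
    · have h2 : L (g j • (j : V)) = g j * dotInt (j : V) (j : V) := hsmul _ _ _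
      rw [h2] at h1
      have hne' : dotInt (j : V) (j : V) ≠ 0 := by
        have : dotInt (j : V) (j : V) = sqNorm (j : V) := by
          unfold dotInt sqNorm
          apply Finset.sum_congr rfl
          intro i _
          ring
        rw [this]
        exact hne j j.2
      exact (mul_eq_zero.1 h1).resolve_right hne'
    · intro i _ hij
      have h3 : L (g i • (i : V)) = g i * dotInt (j : V) (i : V) := hsmul _ _ _
      rw [h3, horth j j.2 i i.2 (fun h => hij (Subtype.ext h.symm))]
      simp
    · intro h
      exact absurd hj h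
  have := hli.fintype_card_le_finrank
  simp only [Fintype.card_coe] at this
  have h24 : Module.finrank ℤ V = 24 := by
    rw [Module.finrank_fintype_fun_eq_card, card_golayPt]
  omega

/-- Vectors of non-zero norm, pairwise equal, opposite or orthogonal number at most `48`. -/
theorem card_le_48 (S : Finset V) (hne : ∀ v ∈ S, sqNorm v ≠ 0)
    (hrel : ∀ x ∈ S, ∀ y ∈ S, y = x ∨ y = -x ∨ dotInt x y = 0) : S.card ≤ 48 := by
  classical
  let F := S.powerset.filter (fun P => ∀ v ∈ P, ∀ w ∈ P, v ≠ w → dotInt v w = 0)
  have hmemF : ∀ P : Finset V, P ∈ F ↔ P ⊆ S ∧ ∀ v ∈ P, ∀ w ∈ P, v ≠ w → dotInt v w = 0 := by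
    intro P
    simp only [F, Finset.mem_filter, Finset.mem_powerset]
  have hF : F.Nonempty := ⟨∅, by simp [hmemF]⟩
  obtain ⟨P, hP, hmax⟩ := Finset.exists_max_image F Finset.card hF
  obtain ⟨hPS, hPo⟩ := (hmemF P).1 hP
  have hcard : P.card ≤ 24 := card_le_24 P (fun v hv => hne v (hPS hv)) hPo
  have hsub : S ⊆ P ∪ P.image (fun v => -v) := by
    intro y hy
    by_contra hcon
    rw [Finset.mem_union, not_or] at hcon
    obtain ⟨hyP, hyN⟩ := hcon
    have hmem : insert y P ∈ F := by
      refine (hmemF _).2 ⟨Finset.insert_subset hy hPS, ?_⟩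
      have key : ∀ v ∈ P, dotInt v y = 0 := by
        intro v hv
        rcases hrel v (hPS hv) y hy with h | h | h
        · subst h
          exact absurd hv hyP
        · exfalso
          apply hyN
          refine Finset.mem_image.2 ⟨v, hv, ?_⟩
          rw [h]
        · exact h
      intro v hv w hw hvw
      rw [Finset.mem_insert] at hv hw
      rcases hv with rfl | hv
      · rcases hw with rfl | hw
        · exact absurd rfl hvw
        · rw [dotInt_comm]
          exact key w hw
      · rcases hw with rfl | hw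
        · exact key v hv
        · exact hPo v hv w hw hvw
    have := hmax _ hmem
    rw [Finset.card_insert_of_notMem hyP] at this
    omega
  have h1 := Finset.card_le_card hsub
  have h2 := Finset.card_union_le P (P.image (fun v => -v))
  have h3 : (P.image (fun v => -v)).card ≤ P.card := Finset.card_image_le
  omega

/-! ### The pigeonhole count -/




attribute [local instance] Classical.propDecidable

noncomputable instance : Fintype Q := Fintype.ofFinite Q

/-- There are finitely many integer vectors of a given norm. -/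
theorem finite_sphere (N : ℤ) : {x : V | sqNorm x = N}.Finite := by
  classical
  refine Set.Finite.subset (Finset.finite_toSet (Fintype.piFinset fun _ : GolayPt => Finset.Icc (-N) N)) ?_
  intro x hx
  rw [Finset.mem_coe, Fintype.mem_piFinset]
  intro i
  rw [Finset.mem_Icc]
  have h1 : x i ^ 2 ≤ sqNorm x := by
    unfold sqNorm
    exact Finset.single_le_sum (f := fun i => x i ^ 2) (fun j _ => sq_nonneg (x j)) (Finset.mem_univ i)
  have hx' : sqNorm x = N := hx
  rw [hx'] at h1
  constructor <;> nlinarith [sq_nonneg (x i - 1), sq_nonneg (x i + 1), sq_nonneg (x i)]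

/-- The finite set of lattice vectors of norm `N`. -/
noncomputable def X (N : ℤ) : Finset leechLattice :=
  Set.Finite.toFinset (s := {x : leechLattice | sqNorm (x : V) = N})
    ((finite_sphere N).preimage Subtype.val_injective.injOn)

theorem mem_X {N : ℤ} {x : leechLattice} : x ∈ X N ↔ sqNorm (x : V) = N := by
  simp [X]

theorem card_X {N : ℕ} (hN : N ≤ 64) :
    (X (N : ℤ)).card = Cfsg.Agent.Lib.Compute.LeechCount.total N := by
  rw [← Cfsg.Agent.Lib.Compute.LeechCount.ncard_norm hN]
  have : {x : V | x ∈ leechLattice ∧ sqNorm x = (N : ℤ)} = Subtype.val '' (X (N : ℤ) : Set leechLattice) := by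
    ext x
    simp only [Set.mem_ofPred_eq, Set.mem_image, Finset.mem_coe, mem_X]
    constructor
    · rintro ⟨h1, h2⟩
      exact ⟨⟨x, h1⟩, h2, rfl⟩
    · rintro ⟨y, hy, rfl⟩
      exact ⟨y.2, hy⟩
  show _ = Set.ncard {x : V | x ∈ leechLattice ∧ sqNorm x = (N : ℤ)}
  rw [this, Set.ncard_image_of_injective _ Subtype.val_injective, Set.ncard_coe_finset]

theorem card_X32 : (X 32).card = 196560 := by
  have := card_X (N := 32) (by norm_num)
  rw [Cfsg.Agent.Lib.Compute.LeechCount.total_32] at this
  exact this

theorem card_X48 : (X 48).card = 16773120 := by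
  have := card_X (N := 48) (by norm_num)
  rw [Cfsg.Agent.Lib.Compute.LeechCount.total_48] at this
  exact this

theorem card_X64 : (X 64).card = 398034000 := by
  have := card_X (N := 64) (by norm_num)
  rw [Cfsg.Agent.Lib.Compute.LeechCount.total_64] at this
  exact this

/-- Short congruence, in terms of lattice elements. -/
theorem short_cong (x y : leechLattice) (hxy : x ≠ y) (hx : sqNorm (x : V) ≤ 64) (hy : sqNorm (y : V) ≤ 64)
    (h : cl x = cl y) :
    x = -y ∨ (sqNorm (x : V) = 64 ∧ sqNorm (y : V) = 64 ∧ dotInt (x : V) (y : V) = 0) := by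
  rcases short_congruent min_norm_32 (x : V) (y : V) x.2 y.2 (fun h => hxy (Subtype.ext h)) hx hy
    ((cl_eq_iff x y).1 h) with h1 | h1
  · left
    exact Subtype.ext h1
  · right
    exact h1

/-- A class contains at most two vectors of a given norm below `64`. -/
theorem fib_small (N : ℤ) (hN : N < 64) (hN0 : 0 < N) (c : Q) :
    ((X N).filter fun x => cl x = c).card ≤ 2 := by
  classical
  by_cases hne : ((X N).filter fun x => cl x = c).Nonempty
  · obtain ⟨z, hz⟩ := hne
    obtain ⟨hz1, hz2⟩ := Finset.mem_filter.1 hz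
    have hsub : ((X N).filter fun x => cl x = c) ⊆ {z, -z} := by
      intro w hw
      obtain ⟨hw1, hw2⟩ := Finset.mem_filter.1 hw
      have nz := mem_X.1 hz1
      have nw := mem_X.1 hw1
      by_cases hwz : w = z
      · simp [hwz]
      · rcases short_cong w z hwz (by omega) (by omega) (hw2.trans hz2.symm) with h | h
        · simp [h]
        · omega
    exact (Finset.card_le_card hsub).trans Finset.card_le_two
  · rw [Finset.not_nonempty_iff_eq_empty.1 hne]
    simp

/-- A class contains at most `48` vectors of norm `64`. -/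
theorem fib_48 (c : Q) : ((X 64).filter fun x => cl x = c).card ≤ 48 := by
  classical
  set S := (X 64).filter fun x => cl x = c with hS
  have hinj : (S.image Subtype.val).card = S.card :=
    Finset.card_image_of_injective _ Subtype.val_injective
  rw [← hinj]
  apply card_le_48
  · intro v hv
    obtain ⟨y, hy, rfl⟩ := Finset.mem_image.1 hv
    have := mem_X.1 (Finset.mem_filter.1 hy).1
    rw [this]
    norm_num
  · intro a ha b hb
    obtain ⟨x, hx, rfl⟩ := Finset.mem_image.1 ha
    obtain ⟨y, hy, rfl⟩ := Finset.mem_image.1 hb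
    obtain ⟨hx1, hx2⟩ := Finset.mem_filter.1 hx
    obtain ⟨hy1, hy2⟩ := Finset.mem_filter.1 hy
    have nx := mem_X.1 hx1
    have ny := mem_X.1 hy1
    by_cases hxy : x = y
    · left
      rw [hxy]
    · rcases short_cong x y hxy (by omega) (by omega) (hx2.trans hy2.symm) with h | h
      · right; left
        rw [h]
        simp
      · right; right
        exact h.2.2

/-- The images of the norm shells under reduction. -/
noncomputable def I (N : ℤ) : Finset Q :=
  (X N).image cl

theorem mem_I {N : ℤ} {c : Q} : c ∈ I N ↔ ∃ x ∈ X N, cl x = c := by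
  classical
  simp [I]

theorem I_disjoint {M N : ℤ} (hMN : M ≠ N) (hM : M ≤ 64) (hN : N ≤ 64) (hM0 : 0 < M) (hN0 : 0 < N) :
    Disjoint (I M) (I N) := by
  classical
  rw [Finset.disjoint_left]
  intro c hc hc'
  obtain ⟨x, hx, rfl⟩ := mem_I.1 hc
  obtain ⟨y, hy, hxy⟩ := mem_I.1 hc'
  have nx := mem_X.1 hx
  have ny := mem_X.1 hy
  have hne : x ≠ y := by
    intro h
    rw [h] at nx
    omega
  rcases short_cong x y hne (by omega) (by omega) hxy.symm with h | h
  · rw [h] at nx
    simp only [NegMemClass.coe_neg, sqNorm_neg] at nx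
    omega
  · omega

theorem cl_zero_notMem {N : ℤ} (hN : N ≤ 64) (hN0 : 0 < N) : cl 0 ∉ I N := by
  classical
  intro h
  obtain ⟨x, hx, hxc⟩ := mem_I.1 h
  have nx := mem_X.1 hx
  have hne : x ≠ 0 := by
    intro h0
    rw [h0] at nx
    simp [sqNorm] at nx
    omega
  rcases short_cong x 0 hne (by omega) (by simp [sqNorm]) hxc with h | h
  · apply hne
    rw [h]
    simp
  · simp [sqNorm] at h

theorem I_card_bounds :
    (I 32).card = 98280 ∧ (I 48).card = 8386560 ∧ (I 64).card = 8292375 ∧
      ({cl 0} ∪ I 32 ∪ I 48 ∪ I 64 : Finset Q) = Finset.univ := by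
  have hQ : Fintype.card Q = 2 ^ 24 := by
    rw [← Nat.card_eq_fintype_card, card_Q]
  have h32 : 196560 ≤ 2 * (I 32).card := by
    rw [← card_X32]
    apply Finset.card_le_mul_card_image
    intro c _
    exact fib_small 32 (by norm_num) (by norm_num) c
  have h48 : 16773120 ≤ 2 * (I 48).card := by
    rw [← card_X48]
    apply Finset.card_le_mul_card_image
    intro c _
    exact fib_small 48 (by norm_num) (by norm_num) c
  have h64 : 398034000 ≤ 48 * (I 64).card := by
    rw [← card_X64]
    apply Finset.card_le_mul_card_image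
    intro c _
    exact fib_48 c
  set U : Finset Q := {cl 0} ∪ I 32 ∪ I 48 ∪ I 64 with hU
  have d1 : Disjoint ({cl 0} : Finset Q) (I 32) :=
    Finset.disjoint_singleton_left.2 (cl_zero_notMem (by norm_num) (by norm_num))
  have d2 : Disjoint ({cl 0} ∪ I 32 : Finset Q) (I 48) := by
    rw [Finset.disjoint_union_left]
    exact ⟨Finset.disjoint_singleton_left.2 (cl_zero_notMem (by norm_num) (by norm_num)),
      I_disjoint (by norm_num) (by norm_num) (by norm_num) (by norm_num) (by norm_num)⟩
  have d3 : Disjoint ({cl 0} ∪ I 32 ∪ I 48 : Finset Q) (I 64) := by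
    rw [Finset.disjoint_union_left, Finset.disjoint_union_left]
    exact ⟨⟨Finset.disjoint_singleton_left.2 (cl_zero_notMem (by norm_num) (by norm_num)),
      I_disjoint (by norm_num) (by norm_num) (by norm_num) (by norm_num) (by norm_num)⟩,
      I_disjoint (by norm_num) (by norm_num) (by norm_num) (by norm_num) (by norm_num)⟩
  have hcard : U.card = 1 + (I 32).card + (I 48).card + (I 64).card := by
    rw [hU, Finset.card_union_of_disjoint d3, Finset.card_union_of_disjoint d2,
      Finset.card_union_of_disjoint d1, Finset.card_singleton]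
  have hle : U.card ≤ 2 ^ 24 := by
    rw [← hQ]
    exact Finset.card_le_univ U
  have e32 : (I 32).card = 98280 := by omega
  have e48 : (I 48).card = 8386560 := by omega
  have e64 : (I 64).card = 8292375 := by omega
  refine ⟨e32, e48, e64, ?_⟩
  apply Finset.eq_univ_of_card
  rw [hcard, hQ, e32, e48, e64]
  norm_num

/-- Every class contains a vector of norm at most `64`. -/
theorem exists_short (x : leechLattice) : ∃ y : leechLattice, sqNorm (y : V) ≤ 64 ∧ cl y = cl x := by
  classical
  have h := I_card_bounds.2.2.2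
  have hx : cl x ∈ ({cl 0} ∪ I 32 ∪ I 48 ∪ I 64 : Finset Q) := by
    rw [h]
    exact Finset.mem_univ _
  simp only [Finset.mem_union, Finset.mem_singleton] at hx
  rcases hx with ((hx | hx) | hx) | hx
  · exact ⟨0, by simp [sqNorm], hx.symm⟩
  · obtain ⟨y, hy, e⟩ := mem_I.1 hx
    exact ⟨y, by rw [mem_X.1 hy]; norm_num, e⟩
  · obtain ⟨y, hy, e⟩ := mem_I.1 hx
    exact ⟨y, by rw [mem_X.1 hy]; norm_num, e⟩
  · obtain ⟨y, hy, e⟩ := mem_I.1 hx
    exact ⟨y, by rw [mem_X.1 hy], e⟩

/-- Each class of norm-64 vectors has exactly `48` members. -/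
theorem fib_eq_48 (x : leechLattice) (hx : sqNorm (x : V) = 64) :
    ((X 64).filter fun y => cl y = cl x).card = 48 := by
  classical
  have hsum : (X 64).card = ∑ c ∈ I 64, ((X 64).filter fun y => cl y = c).card :=
    Finset.card_eq_sum_card_image cl (X 64)
  have hmem : cl x ∈ I 64 := mem_I.2 ⟨x, mem_X.2 hx, rfl⟩
  rw [card_X64] at hsum
  by_contra hne
  have hlt : ((X 64).filter fun y => cl y = cl x).card ≤ 47 := by
    have := fib_48 (cl x)
    omega
  rw [← Finset.add_sum_erase _ _ hmem] at hsum
  have h3 : ∑ c ∈ (I 64).erase (cl x), ((X 64).filter fun y => cl y = c).card ≤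
      ((I 64).erase (cl x)).card * 48 :=
    Finset.sum_le_card_nsmul _ _ _ (fun c _ => fib_48 c)
  rw [Finset.card_erase_of_mem hmem, I_card_bounds.2.2.1] at h3
  omega

/-- The cross through a vector of norm `64`, expressed through the fibre. -/
theorem cross_eq (x : leechLattice) :
    cross (x : V) = Subtype.val '' {y : leechLattice | sqNorm (y : V) = sqNorm (x : V) ∧ cl y = cl x} := by
  ext y
  simp only [cross, Set.mem_ofPred_eq, Set.mem_image]
  constructor
  · rintro ⟨h1, h2, h3⟩
    refine ⟨⟨y, h1⟩, ⟨h2, ?_⟩, rfl⟩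
    rw [eq_comm, cl_eq_iff]
    exact h3
  · rintro ⟨z, ⟨h1, h2⟩, rfl⟩
    refine ⟨z.2, h1, ?_⟩
    rw [eq_comm, cl_eq_iff] at h2
    exact h2

theorem cross_ncard (x : leechLattice) (hx : sqNorm (x : V) = 64) : (cross (x : V)).ncard = 48 := by
  classical
  rw [cross_eq, Set.ncard_image_of_injective _ Subtype.val_injective, ← fib_eq_48 x hx,
    ← Set.ncard_coe_finset]
  congr 1
  ext y
  simp [mem_X, hx]

end Cfsg.Agent.Lib.Sporadic.LeechClasses
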