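import Mathlib
import Cfsg.Prelude.Def_SporadicCombinatorics
import Cfsg.Agent.Lib.Sporadic.LeechAut
import Cfsg.Agent.Lib.Sporadic.M24Basic

/-!
# The stabiliser of the standard cross in `Co0`: the monomial group `2^12 : M24`.
-/

set_option autoImplicit false

namespace Cfsg.Agent.Lib.Sporadic.LeechMonomial

open Cfsg Cfsg.Agent.Lib.Compute.Golay Cfsg.Agent.Lib.Sporadic.LeechBasic
  Cfsg.Agent.Lib.Sporadic.LeechNorm Cfsg.Agent.Lib.Sporadic.LeechFacts
  Cfsg.Agent.Lib.Sporadic.LeechAut
open scoped Pointwise

/-- The number of code words. -/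
theorem card_code : Nat.card golayCode = 4096 := by
  classical
  have h1 : ((golayCode : Submodule (ZMod 2) (GolayPt → ZMod 2)) : Set (GolayPt → ZMod 2)) =
      ↑((codeMasks.toFinset).image maskWord) := by
    ext w
    rw [SetLike.mem_coe, mem_golayCode_iff, Finset.coe_image, Set.mem_image]
    constructor
    · rintro ⟨m, hm, rfl⟩
      exact ⟨m, by simpa using hm, rfl⟩
    · rintro ⟨m, hm, rfl⟩
      exact ⟨m, by simpa using hm, rfl⟩
  have h2 : Nat.card golayCode = ((golayCode : Submodule (ZMod 2) (GolayPt → ZMod 2)) : Set (GolayPt → ZMod 2)).ncard := by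
    rw [Set.ncard_eq_toFinset_card']
    simp [Nat.card_eq_fintype_card]
  rw [h2, h1, Set.ncard_coe_finset, Finset.card_image_of_injOn,
    List.toFinset_card_of_nodup codeMasks_nodup, codeMasks_length]
  intro a ha b hb h
  simp only [Finset.mem_coe, List.mem_toFinset] at ha hb
  exact maskWord_injOn (codeMasks_lt a ha) (codeMasks_lt b hb) h

/-- The number of supports of code words. -/
theorem card_supports : Nat.card (supports (golayCode : Set (GolayPt → ZMod 2))) = 4096 := by
  rw [← card_code]
  symm
  apply Nat.card_congr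
  exact Equiv.ofBijective (fun w : golayCode => ⟨support₂ (w : GolayPt → ZMod 2), ⟨w, w.2, rfl⟩⟩)
    ⟨fun a b h => Subtype.ext (support₂_injective (congrArg Subtype.val h)),
     fun ⟨s, w, hw, hs⟩ => ⟨⟨w, hw⟩, Subtype.ext hs⟩⟩

theorem eight_smul_eq_sum (v : leechLattice) : (8 : ℤ) • v = ∑ i, ((v : GolayPt → ℤ) i) • u8 i := by
  apply Subtype.ext
  funext k
  simp only [AddSubgroup.coe_zsmul, Pi.smul_apply, smul_eq_mul, AddSubgroup.val_finset_sum,
    Finset.sum_apply, coe_u8]
  rw [Finset.sum_eq_single k]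
  · simp; ring
  · intro b _ hb; simp [Pi.single_eq_of_ne (Ne.symm hb)]
  · simp

/-- The action of a lattice automorphism is determined by its action on the `8 e_i`. -/
theorem eight_smul_apply (g : Co0) (v : leechLattice) (j : GolayPt) :
    8 * ((g • v : leechLattice) : GolayPt → ℤ) j =
      ∑ i, (v : GolayPt → ℤ) i * ((g • u8 i : leechLattice) : GolayPt → ℤ) j := by
  have h1 : (8 : ℤ) • (g • v) = ∑ i, ((v : GolayPt → ℤ) i) • (g • u8 i) := by
    rw [← co0_map_zsmul, eight_smul_eq_sum, co0_map_sum]
    apply Finset.sum_congr rfl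
    intro i _
    rw [co0_map_zsmul]
  have h2 := congrArg (fun w : leechLattice => (w : GolayPt → ℤ) j) h1
  simpa only [AddSubgroup.coe_zsmul, Pi.smul_apply, smul_eq_mul, AddSubgroup.val_finset_sum,
      Finset.sum_apply] using h2

/-- two elements of `Co0` agreeing on the `8 e_i` coincide -/
theorem co0_ext_u8 {g h : Co0} (H : ∀ i, g • u8 i = h • u8 i) : g = h := by
  apply Subtype.ext
  apply Equiv.ext
  intro v
  apply Subtype.ext
  funext j
  have h1 := eight_smul_apply g v j
  have h2 := eight_smul_apply h v j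
  have h3 : ∀ i, ((g • u8 i : leechLattice) : GolayPt → ℤ) j = ((h • u8 i : leechLattice) : GolayPt → ℤ) j := by
    intro i; rw [H i]
  simp only [h3] at h1
  have h4 : 8 * ((g • v : leechLattice) : GolayPt → ℤ) j = 8 * ((h • v : leechLattice) : GolayPt → ℤ) j := by
    rw [h1, h2]
  exact mul_left_cancel₀ (by norm_num) h4

/-- The predicate of preserving the standard cross. -/
def PresCross (g : Co0) : Prop :=
  ∀ v : leechLattice, (v : GolayPt → ℤ) ∈ stdCross → ((g • v : leechLattice) : GolayPt → ℤ) ∈ stdCross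

theorem u8_mem_stdCross (i : GolayPt) : (u8 i : GolayPt → ℤ) ∈ stdCross :=
  ⟨i, 8, Or.inl rfl, rfl⟩

/-- The permutation and sign data of an element preserving the cross. -/
theorem exists_data (g : Co0) (hg : PresCross g) :
    ∃ σ : Equiv.Perm GolayPt, ∃ s : GolayPt → ℤ, (∀ i, s i = 8 ∨ s i = -8) ∧
      ∀ i, ((g • u8 i : leechLattice) : GolayPt → ℤ) = Pi.single (σ i) (s i) := by
  have h := fun i => hg (u8 i) (u8_mem_stdCross i)
  choose π s hs hπ using h
  have hinj : Function.Injective π := by
    intro i j hij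
    by_contra hne
    -- `g • u8 i = ± g • u8 j`
    have key : ∃ e : ℤ, e = 1 ∨ e = -1 ∧ True := ⟨1, Or.inl rfl⟩
    have h1 := hπ i
    have h2 := hπ j
    rw [← hij] at h2
    rcases hs i with hi | hi <;> rcases hs j with hj | hj
    · have : g • u8 i = g • u8 j := by
        apply Subtype.ext; rw [h1, h2, hi, hj]
      have h3 := smul_left_cancel g this
      have h4 := congrArg (fun v : leechLattice => (v : GolayPt → ℤ) i) h3
      simp [coe_u8, Pi.single_eq_of_ne hne] at h4
    · have : g • u8 i = g • (-(u8 j)) := by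
        rw [co0_map_neg]
        apply Subtype.ext; rw [AddSubgroup.coe_neg, h1, h2, hi, hj, Pi.single_neg, neg_neg]
      have h3 := smul_left_cancel g this
      have h4 := congrArg (fun v : leechLattice => (v : GolayPt → ℤ) i) h3
      simp [coe_u8, Pi.single_eq_of_ne hne] at h4
    · have : g • u8 i = g • (-(u8 j)) := by
        rw [co0_map_neg]
        apply Subtype.ext; rw [AddSubgroup.coe_neg, h1, h2, hi, hj, Pi.single_neg]
      have h3 := smul_left_cancel g this
      have h4 := congrArg (fun v : leechLattice => (v : GolayPt → ℤ) i) h3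
      simp [coe_u8, Pi.single_eq_of_ne hne] at h4
    · have : g • u8 i = g • u8 j := by
        apply Subtype.ext; rw [h1, h2, hi, hj]
      have h3 := smul_left_cancel g this
      have h4 := congrArg (fun v : leechLattice => (v : GolayPt → ℤ) i) h3
      simp [coe_u8, Pi.single_eq_of_ne hne] at h4
  have hbij : Function.Bijective π := Finite.injective_iff_bijective.mp hinj
  exact ⟨Equiv.ofBijective π hbij, s, hs, hπ⟩

/-- Normal form of an element preserving the standard cross. -/
theorem data_apply (g : Co0) (σ : Equiv.Perm GolayPt) (s : GolayPt → ℤ)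
    (hs : ∀ i, s i = 8 ∨ s i = -8)
    (h : ∀ i, ((g • u8 i : leechLattice) : GolayPt → ℤ) = Pi.single (σ i) (s i))
    (v : leechLattice) (k : GolayPt) :
    ((g • v : leechLattice) : GolayPt → ℤ) k =
      if s (σ.symm k) = -8 then -(v : GolayPt → ℤ) (σ.symm k) else (v : GolayPt → ℤ) (σ.symm k) := by
  have h1 := eight_smul_apply g v k
  rw [Finset.sum_eq_single (σ.symm k)] at h1
  · rw [h] at h1
    simp only [Equiv.apply_symm_apply, Pi.single_eq_same] at h1
    rcases hs (σ.symm k) with h2 | h2
    · rw [h2] at h1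
      rw [if_neg (by rw [h2]; norm_num)]
      linarith
    · rw [h2] at h1
      rw [if_pos h2]
      linarith
  · intro i _ hi
    rw [h]
    have : k ≠ σ i := by
      intro hk; apply hi; rw [hk]; simp
    simp [Pi.single_eq_of_ne this]
  · simp

/-- The set of negated coordinates. -/
noncomputable def signSet (σ : Equiv.Perm GolayPt) (s : GolayPt → ℤ) : Finset GolayPt :=
  Finset.univ.filter fun k => s (σ.symm k) = -8

theorem data_apply' (g : Co0) (σ : Equiv.Perm GolayPt) (s : GolayPt → ℤ)
    (hs : ∀ i, s i = 8 ∨ s i = -8)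
    (h : ∀ i, ((g • u8 i : leechLattice) : GolayPt → ℤ) = Pi.single (σ i) (s i))
    (v : leechLattice) :
    ((g • v : leechLattice) : GolayPt → ℤ) = signedPerm σ (signSet σ s) (v : GolayPt → ℤ) := by
  funext k
  rw [data_apply g σ s hs h v k]
  simp only [signedPerm, signSet, Finset.mem_filter, Finset.mem_univ, true_and]

theorem data_perm_mem (g : Co0) (σ : Equiv.Perm GolayPt) (s : GolayPt → ℤ)
    (hs : ∀ i, s i = 8 ∨ s i = -8)
    (h : ∀ i, ((g • u8 i : leechLattice) : GolayPt → ℤ) = Pi.single (σ i) (s i)) : σ ∈ M24 := by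
  apply Cfsg.Agent.Lib.Sporadic.M24Tbl.mem_M24_of_forall
  rintro _ ⟨w, hw, rfl⟩
  -- the vector `2 * lift w`
  let x : GolayPt → ℤ := fun i => 2 * lift01 w i
  have hwd : wd x = w := by
    funext i
    simp only [wd, x]
    have e : (2 * lift01 w i) / 2 = lift01 w i := by omega
    rw [e, lift01_cast]
  have hxL : x ∈ leechLattice := by
    rw [mem_leechLattice_iff]
    refine ⟨0, Or.inl rfl, fun i => by simp only [x]; omega, ?_, by rw [hwd]; exact hw⟩
    have : ∑ i, x i = 2 * ∑ i, lift01 w i := by
      simp only [x, Finset.mul_sum]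
    rw [this, sum_lift01]
    have h3 : ((4 : ℕ) : ℤ) ∣ ((support₂ w).card : ℤ) := by exact_mod_cast code_four_dvd _ hw
    push_cast at h3
    omega
  have hy := (g • (⟨x, hxL⟩ : leechLattice)).2
  rw [mem_leechLattice_iff] at hy
  obtain ⟨m, hm, hp, _, hw'⟩ := hy
  have e : wd ((g • (⟨x, hxL⟩ : leechLattice) : leechLattice) : GolayPt → ℤ) = fun k => w (σ.symm k) := by
    funext k
    simp only [wd]
    rw [data_apply g σ s hs h ⟨x, hxL⟩ k]
    rw [← lift01_cast w (σ.symm k)]
    rcases lift01_cases w (σ.symm k) with h0 | h0 <;> simp only [x, h0] <;> split_ifs <;> norm_num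
    all_goals decide
  rw [e] at hw'
  refine ⟨_, hw', ?_⟩
  ext p
  rw [Finset.mem_smul_finset, mem_support₂]
  constructor
  · intro hp'
    exact ⟨σ.symm p, (mem_support₂ _ _).mpr hp', by simp⟩
  · rintro ⟨q, hq, rfl⟩
    rw [mem_support₂] at hq
    simpa using hq

/-- The vector `(-3, 1, ..., 1)`. -/
def v0 : GolayPt → ℤ := fun i => if i = none then -3 else 1

theorem v0_mem : v0 ∈ leechLattice := by
  rw [mem_leechLattice_iff]
  refine ⟨1, Or.inr rfl, fun i => ?_, ?_, ?_⟩
  · unfold v0; split_ifs <;> norm_num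
  · decide
  · have : wd v0 = 0 := by
      funext i
      simp only [wd, v0, Pi.zero_apply]
      split_ifs <;> norm_num
      · decide
    rw [this]
    exact golayCode.zero_mem

theorem data_sign_mem (g : Co0) (σ : Equiv.Perm GolayPt) (s : GolayPt → ℤ)
    (hs : ∀ i, s i = 8 ∨ s i = -8)
    (h : ∀ i, ((g • u8 i : leechLattice) : GolayPt → ℤ) = Pi.single (σ i) (s i)) :
    signSet σ s ∈ supports (golayCode : Set (GolayPt → ZMod 2)) := by
  have hy := (g • (⟨v0, v0_mem⟩ : leechLattice)).2
  rw [mem_leechLattice_iff] at hy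
  obtain ⟨m, hm, hp, _, hw'⟩ := hy
  refine ⟨_, hw', ?_⟩
  ext k
  rw [mem_support₂, signSet, Finset.mem_filter]
  simp only [wd, Finset.mem_univ, true_and]
  rw [data_apply g σ s hs h ⟨v0, v0_mem⟩ k]
  have key : ∀ (b : Prop) [Decidable b] (t : ℤ) (_ : t = -3 ∨ t = 1),
      ((((if b then -t else t) / 2 : ℤ) : ZMod 2) ≠ 0 ↔ b) := by
    intro b _ t ht
    by_cases hb : b <;> rcases ht with rfl | rfl <;> simp only [hb, if_true, if_false, iff_true, iff_false]
    all_goals first | (norm_num; done) | decide
  apply key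
  show v0 (σ.symm k) = -3 ∨ v0 (σ.symm k) = 1
  simp only [v0]
  split_ifs <;> simp

/-- The element of `Co0` attached to a permutation and a sign set. -/
def monoElt (σ : M24) (c : supports (golayCode : Set (GolayPt → ZMod 2))) : Co0 :=
  signCo0 c.1 c.2 * permCo0 σ.1 σ.2

theorem monoElt_smul (σ : M24) (c : supports (golayCode : Set (GolayPt → ZMod 2)))
    (v : leechLattice) :
    ((monoElt σ c • v : leechLattice) : GolayPt → ℤ) = signedPerm σ.1 c.1 v := rfl

theorem signedPerm_single (σ : Equiv.Perm GolayPt) (c : Finset GolayPt) (i : GolayPt) (a : ℤ) :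
    signedPerm σ c (Pi.single i a) = Pi.single (σ i) (if σ i ∈ c then -a else a) := by
  funext k
  simp only [signedPerm]
  by_cases hk : k = σ i
  · subst hk
    simp
  · have h1 : σ.symm k ≠ i := by
      intro h; apply hk; rw [← h]; simp
    simp only [Pi.single_eq_of_ne h1, Pi.single_eq_of_ne hk]
    split_ifs <;> simp

theorem monoElt_pres (σ : M24) (c : supports (golayCode : Set (GolayPt → ZMod 2))) :
    PresCross (monoElt σ c) := by
  rintro v ⟨i, s, hs, hv⟩
  rw [monoElt_smul, hv, signedPerm_single]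
  refine ⟨σ.1 i, _, ?_, rfl⟩
  split_ifs <;> rcases hs with rfl | rfl <;> simp

/-- The bijection `M24 × code → stabiliser of the cross`. -/
noncomputable def monoEquiv :
    (M24 × supports (golayCode : Set (GolayPt → ZMod 2))) ≃ {g : Co0 // PresCross g} :=
  Equiv.ofBijective (fun p => ⟨monoElt p.1 p.2, monoElt_pres p.1 p.2⟩) (by
    constructor
    · rintro ⟨σ, c⟩ ⟨τ, d⟩ h
      have h0 : monoElt σ c = monoElt τ d := congrArg Subtype.val h
      have h1 : ∀ i, signedPerm σ.1 c.1 (Pi.single i 8) = signedPerm τ.1 d.1 (Pi.single i 8) := by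
        intro i
        have := congrArg (fun g : Co0 => ((g • u8 i : leechLattice) : GolayPt → ℤ)) h0
        exact this
      simp only [signedPerm_single] at h1
      have hσ : ∀ i, σ.1 i = τ.1 i := by
        intro i
        have h2 := congrFun (h1 i) (σ.1 i)
        by_contra hne
        simp only [Pi.single_eq_same, Pi.single_eq_of_ne hne] at h2
        split_ifs at h2 <;> omega
      have hστ : σ = τ := Subtype.ext (Equiv.ext hσ)
      subst hστ
      have hc : c = d := by
        apply Subtype.ext
        ext k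
        obtain ⟨i, rfl⟩ := σ.1.surjective k
        have h2 := congrFun (h1 i) (σ.1 i)
        simp only [Pi.single_eq_same] at h2
        by_cases h3 : σ.1 i ∈ c.1 <;> by_cases h4 : σ.1 i ∈ d.1 <;> simp only [h3, h4, if_true, if_false] at h2 ⊢
        · norm_num at h2
        · norm_num at h2
      rw [hc]
    · rintro ⟨g, hg⟩
      obtain ⟨σ, s, hs, h⟩ := exists_data g hg
      refine ⟨(⟨σ, data_perm_mem g σ s hs h⟩, ⟨signSet σ s, data_sign_mem g σ s hs h⟩), ?_⟩
      apply Subtype.ext
      apply co0_ext_u8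
      intro i
      apply Subtype.ext
      rw [data_apply' g σ s hs h]
      rfl)

theorem monoEquiv_apply (p : M24 × supports (golayCode : Set (GolayPt → ZMod 2))) :
    (monoEquiv p : Co0) = monoElt p.1 p.2 := rfl

/-- The order of the stabiliser of the standard cross. -/
theorem card_presCross : Nat.card {g : Co0 // PresCross g} = 4096 * 244823040 := by
  rw [← Nat.card_congr monoEquiv, Nat.card_prod, card_supports,
    Cfsg.Agent.Lib.Sporadic.M24Basic.card_M24, mul_comm]

/-- Elements preserving the cross are signed permutations. -/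
theorem presCross_form (g : Co0) (hg : PresCross g) :
    ∃ f ∈ golayMonomialMaps, ∀ v : leechLattice,
      ((g • v : leechLattice) : GolayPt → ℤ) = f (v : GolayPt → ℤ) := by
  obtain ⟨σ, s, hs, h⟩ := exists_data g hg
  exact ⟨signedPerm σ (signSet σ s), ⟨σ, data_perm_mem g σ s hs h, _,
    data_sign_mem g σ s hs h, rfl⟩, data_apply' g σ s hs h⟩

end Cfsg.Agent.Lib.Sporadic.LeechMonomial
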