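import Mathlib
import Cfsg.Agent.Lib.Sporadic.LeechAut

/-!
# Explicit generators of the Leech lattice and rational orthogonal matrices in `Co0`.

* `vecOf`: vectors from lists; `inLattice`: a kernel-computable sound test for lattice membership.
* `L_le_of_gens`: an additive subgroup containing the explicit list `genVecs` contains the lattice.
* `matCo0`: an element of `Co0` from an integer matrix `M` with `M Mᵀ = D² I`, `Mᵀ M = D² I`
  mapping the generators (both `M` and `Mᵀ`) into `D * L`, checked by `matCheck`.
-/

set_option autoImplicit false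

namespace Cfsg.Agent.Lib.Sporadic.LeechMat

open Cfsg Cfsg.Agent.Lib.Sporadic.GolayCore Cfsg.Agent.Lib.Sporadic.LeechBasic
  Cfsg.Agent.Lib.Sporadic.LeechNorm Cfsg.Agent.Lib.Sporadic.LeechFacts
  Cfsg.Agent.Lib.Sporadic.LeechAut

/-! ### Vectors from lists -/

/-- The vector with the given list of coordinates (`idx`-order). -/
def vecOf (l : List ℤ) : GolayPt → ℤ := fun p => l.getD (idx p) 0

theorem sum_golayPt (f : ℕ → ℤ) : ∑ p : GolayPt, f (idx p) = ((List.range 24).map f).sum := by
  have h1 : ∑ p : GolayPt, f (idx p) = ∑ i : Fin 24, f i :=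
    Equiv.sum_comp idxEquiv (fun i : Fin 24 => f i)
  rw [h1, Fin.sum_univ_eq_sum_range (fun i => f i) 24]
  rfl

/-- The list of values of a function at `0..23`. -/
def rangeL (f : ℕ → ℤ) : List ℤ := (List.range 24).map f

theorem vecOf_rangeL (f : ℕ → ℤ) (p : GolayPt) : vecOf (rangeL f) p = f (idx p) := by
  unfold vecOf rangeL
  have h := idx_lt p
  rw [List.getD_eq_getElem _ _ (by simpa using h)]
  simp

/-- Mask of the word of a list vector. -/
def wdMaskL (l : List ℤ) : ℕ :=
  ((List.range 24).map (fun i => if ((l.getD i 0) / 2) % 2 = 1 then 2 ^ i else 0)).sum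

/-- Sound, kernel-computable membership test. -/
def inLattice (l : List ℤ) : Bool :=
  let m := (l.getD 0 0) % 2
  (List.range 24).all (fun i => decide ((l.getD i 0) % 2 = m)) &&
  decide (((List.range 24).map (fun i => l.getD i 0)).sum % 8 = 4 * m) &&
  (List.range 24).all (fun i => (wdMaskL l).testBit i == decide (((l.getD i 0) / 2) % 2 = 1)) &&
  inCode (wdMaskL l)

theorem inLattice_sound {l : List ℤ} (h : inLattice l = true) : vecOf l ∈ leechLattice := by
  simp only [inLattice, Bool.and_eq_true, decide_eq_true_eq, List.all_eq_true, List.mem_range,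
    beq_iff_eq] at h
  obtain ⟨⟨⟨h1, h2⟩, h3⟩, h4⟩ := h
  rw [mem_leechLattice_iff]
  have hm : (l.getD 0 0) % 2 = 0 ∨ (l.getD 0 0) % 2 = 1 := by omega
  refine ⟨(l.getD 0 0) % 2, hm, fun p => h1 _ (idx_lt p), ?_, ?_⟩
  · have := sum_golayPt (fun i => l.getD i 0)
    have e : ∑ i, vecOf l i = ((List.range 24).map (fun i => l.getD i 0)).sum := this
    rw [e]; exact h2
  · have h5 := wordOf_codeList_mem (mem_codeList_of_inCode h4)
    have e : wd (vecOf l) = wordOf (wdMaskL l) := by
      funext p
      have h6 := h3 _ (idx_lt p)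
      simp only [wd, vecOf, wordOf]
      by_cases h7 : ((l.getD (idx p) 0) / 2) % 2 = 1
      · rw [if_pos (by rw [h6]; simpa using h7)]
        have h8 : ((((l.getD (idx p) 0) / 2 : ℤ)) : ZMod 2) ≠ 0 :=
          (zmod2_cast_ne_zero_iff _).mpr h7
        have : ∀ a : ZMod 2, a ≠ 0 → a = 1 := by decide
        exact this _ h8
      · rw [if_neg (by rw [h6]; simpa using h7)]
        by_contra h8
        exact h7 ((zmod2_cast_ne_zero_iff _).mp h8)
    rw [e]; exact h5

/-! ### Explicit generators -/

/-- `(-3, 1, ..., 1)` with `-3` at the extra point. -/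
def v0 : GolayPt → ℤ := fun i => if i = none then -3 else 1

/-- A basis of the code made of octads. -/
def octBasis : List ℕ :=
  [2826278, 10486557, 4645632, 14176296, 797449, 13631886, 42232, 8593633, 806987, 10093218,
    4731956, 2365978]

theorem octBasis_mem : ∀ b ∈ octBasis, b ∈ Cfsg.Agent.Lib.Compute.Golay.codeMasks := by
  decide +kernel

theorem octBasis_pop : ∀ b ∈ octBasis, Cfsg.Agent.Lib.Compute.Golay.pop b = 8 := by
  decide +kernel

theorem basis_mem_octSpan : ∀ b ∈ Cfsg.Agent.Lib.Compute.Golay.basisMasks,
    b ∈ Cfsg.Agent.Lib.Compute.Golay.xorSpan octBasis := by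
  decide +kernel

section generators

open Cfsg.Agent.Lib.Compute.Golay

variable (H : AddSubgroup (GolayPt → ℤ))

theorem four_dvd_mem_of
    (hdiff : ∀ i : GolayPt, i ≠ none → (Pi.single i 4 - Pi.single none 4 : GolayPt → ℤ) ∈ H)
    (h44 : (Pi.single none 4 + Pi.single (some 0) 4 : GolayPt → ℤ) ∈ H)
    (x : GolayPt → ℤ) (h4 : ∀ i, (4 : ℤ) ∣ x i) (hs : (8 : ℤ) ∣ ∑ i, x i) :
    x ∈ H := by
  have hdiff' : ∀ i : GolayPt, (Pi.single i 4 - Pi.single none 4 : GolayPt → ℤ) ∈ H := by
    intro i
    by_cases h : i = none
    · subst h; simp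
    · exact hdiff i h
  have h8 : (Pi.single none 8 : GolayPt → ℤ) ∈ H := by
    have h1 := H.sub_mem h44 (hdiff (some 0) (by simp))
    have e : (Pi.single none 8 : GolayPt → ℤ) =
        (Pi.single none 4 + Pi.single (some 0) 4) - (Pi.single (some 0) 4 - Pi.single none 4) := by
      funext k
      by_cases hk : k = none
      · subst hk; simp
      · by_cases hk' : k = some 0
        · subst hk'; simp
        · simp [Pi.single_eq_of_ne hk, Pi.single_eq_of_ne hk']
    rw [e]; exact h1
  choose b hb using h4
  have hsb : ∑ i, x i = 4 * ∑ i, b i := by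
    rw [Finset.mul_sum]; exact Finset.sum_congr rfl (fun i _ => hb i)
  obtain ⟨c, hc⟩ : ∃ c, ∑ i, b i = 2 * c := by
    refine ⟨(∑ i, b i) / 2, ?_⟩
    rw [hsb] at hs
    omega
  have e : x = (∑ i, (b i) • (Pi.single i 4 - Pi.single none 4 : GolayPt → ℤ)) + c • (Pi.single none 8 : GolayPt → ℤ) := by
    funext k
    simp only [Pi.add_apply, Finset.sum_apply, Pi.smul_apply, Pi.sub_apply, smul_eq_mul, mul_sub,
      Finset.sum_sub_distrib, ← Finset.sum_mul, hc]
    rw [hb k]
    rw [Finset.sum_eq_single k]
    · by_cases hk : k = none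
      · subst hk; simp; ring
      · simp [Pi.single_eq_of_ne hk]; ring
    · intro l _ hl
      simp [Pi.single_eq_of_ne (Ne.symm hl)]
    · simp
  rw [e]
  exact H.add_mem (H.sum_mem fun i _ => H.zsmul_mem (hdiff' i) _) (H.zsmul_mem h8 _)

/-- A word is realized by an even vector of `H ⊓ L` -/
def Realized (w : GolayPt → ZMod 2) : Prop :=
  ∃ y ∈ H, y ∈ leechLattice ∧ (∀ i, y i % 2 = 0) ∧ wd y = w

variable {H}

theorem realized_add {u v : GolayPt → ZMod 2} (hu : Realized H u) (hv : Realized H v) :
    Realized H (u + v) := by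
  obtain ⟨y, hy, hy', h1, rfl⟩ := hu
  obtain ⟨z, hz, hz', h2, rfl⟩ := hv
  refine ⟨y + z, H.add_mem hy hz, leechLattice.add_mem hy' hz', fun i => ?_, ?_⟩
  · have := h1 i; have := h2 i; simp only [Pi.add_apply]; omega
  · funext i
    have := h1 i; have := h2 i
    simp only [wd, Pi.add_apply]
    have e : (y i + z i) / 2 = y i / 2 + z i / 2 := by omega
    rw [e]; push_cast; rfl

theorem realized_xorSpan (bs : List ℕ) (h : ∀ b ∈ bs, Realized H (maskWord b)) :
    ∀ m ∈ xorSpan bs, Realized H (maskWord m) := by
  induction bs with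
  | nil =>
    intro m hm
    simp only [xorSpan, List.mem_singleton] at hm
    subst hm
    rw [maskWord_zero]
    refine ⟨0, H.zero_mem, leechLattice.zero_mem, by simp, ?_⟩
    funext i; simp [wd]
  | cons b bs ih =>
    intro m hm
    have hbs := ih (fun c hc => h c (List.mem_cons_of_mem _ hc))
    rcases mem_xorSpan_cons.mp hm with hm | ⟨y, hy, rfl⟩
    · exact hbs m hm
    · rw [maskWord_xor]
      exact realized_add (h b List.mem_cons_self) (hbs y hy)

/-- The generator principle: an additive subgroup containing the explicit generators contains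
the lattice. -/
theorem L_le_of_forms
    (hv0 : v0 ∈ H)
    (hoct : ∀ b ∈ octBasis, (fun i => 2 * lift01 (maskWord b) i) ∈ H)
    (hdiff : ∀ i : GolayPt, i ≠ none → (Pi.single i 4 - Pi.single none 4 : GolayPt → ℤ) ∈ H)
    (h44 : (Pi.single none 4 + Pi.single (some 0) 4 : GolayPt → ℤ) ∈ H) :
    leechLattice ≤ H := by
  have hreal : ∀ b ∈ octBasis, Realized H (maskWord b) := by
    intro b hb
    have hc := octBasis_mem b hb
    have hp := octBasis_pop b hb
    have hcard : (support₂ (maskWord b)).card = 8 := by
      rw [support_maskWord, card_maskSupport, hp]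
    let y : GolayPt → ℤ := fun i => 2 * lift01 (maskWord b) i
    have hwd : wd y = maskWord b := by
      funext i
      simp only [wd, y]
      have e : (2 * lift01 (maskWord b) i) / 2 = lift01 (maskWord b) i := by omega
      rw [e, lift01_cast]
    refine ⟨y, hoct b hb, ?_, fun i => by simp only [y]; omega, hwd⟩
    rw [mem_leechLattice_iff]
    refine ⟨0, Or.inl rfl, fun i => by simp only [y]; omega, ?_,
      by rw [hwd]; exact mem_code_of_mem_codeMasks hc⟩
    have : ∑ i, y i = 2 * ∑ i, lift01 (maskWord b) i := by
      simp only [y, Finset.mul_sum]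
    rw [this, sum_lift01, hcard]
    norm_num
  have hcode : ∀ w ∈ (golayCode : Set (GolayPt → ZMod 2)), Realized H w := by
    intro w hw
    obtain ⟨m, hm, rfl⟩ := exists_mask_of_mem_code hw
    apply realized_xorSpan basisMasks _ m hm
    intro b hb
    exact realized_xorSpan octBasis hreal b (basis_mem_octSpan b hb)
  have heven : ∀ x ∈ leechLattice, (∀ i, x i % 2 = 0) → x ∈ H := by
    intro x hx h2
    have hx' := hx
    rw [mem_leechLattice_iff] at hx'
    obtain ⟨m, hm, hp, hs, hw⟩ := hx'
    obtain ⟨y, hy, hyL, hy2, hyw⟩ := hcode _ hw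
    have hm0 : m = 0 := by rw [← hp none, h2 none]
    subst hm0
    have hyL' := hyL
    rw [mem_leechLattice_iff] at hyL'
    obtain ⟨n, hn, hq, hs', _⟩ := hyL'
    have hn0 : n = 0 := by rw [← hq none, hy2 none]
    subst hn0
    have h4 : ∀ i, (4 : ℤ) ∣ (x - y) i := by
      intro i
      have e := congrFun hyw i
      simp only [wd] at e
      have e2 : ((x i / 2 - y i / 2 : ℤ) : ZMod 2) = 0 := by
        push_cast
        rw [e]
        have : ∀ a : ZMod 2, a - a = 0 := by decide
        exact this _
      rw [ZMod.intCast_zmod_eq_zero_iff_dvd] at e2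
      push_cast at e2
      have h1 := h2 i
      have h3 := hy2 i
      simp only [Pi.sub_apply]
      omega
    have hs8 : (8 : ℤ) ∣ ∑ i, (x - y) i := by
      simp only [Pi.sub_apply, Finset.sum_sub_distrib]
      omega
    have := H.add_mem (four_dvd_mem_of H hdiff h44 _ h4 hs8) hy
    simpa using this
  have hv0L : v0 ∈ leechLattice := by
    rw [mem_leechLattice_iff]
    refine ⟨1, Or.inr rfl, fun i => ?_, ?_, ?_⟩
    · unfold v0; split_ifs <;> norm_num
    · decide
    · have : wd v0 = 0 := by
        funext i
        simp only [wd, v0, Pi.zero_apply]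
        split_ifs <;> norm_num
        · decide
      rw [this]
      exact golayCode.zero_mem
  intro x hx
  have hx' := hx
  rw [mem_leechLattice_iff] at hx'
  obtain ⟨m, hm, hp, _, _⟩ := hx'
  rcases hm with rfl | rfl
  · exact heven x hx hp
  · have h1 : x - v0 ∈ H := by
      apply heven _ (leechLattice.sub_mem hx hv0L)
      intro i
      have := hp i
      simp only [Pi.sub_apply, v0]
      split_ifs <;> omega
    have := H.add_mem h1 hv0
    simpa using this

end generators

/-- The generators as lists. -/
def genVecs : List (List ℤ) :=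
  rangeL (fun i => if i = 23 then -3 else 1) ::
  rangeL (fun i => if i = 23 ∨ i = 0 then 4 else 0) ::
  (octBasis.map fun b => rangeL (fun i => if b.testBit i then 2 else 0)) ++
  ((List.range 23).map fun j => rangeL (fun i => if i = j then 4 else if i = 23 then -4 else 0))

theorem gen_v0 : vecOf (rangeL (fun i => if i = 23 then -3 else 1)) = v0 := by
  funext p
  rw [vecOf_rangeL]
  revert p
  decide

theorem gen_44 : vecOf (rangeL (fun i => if i = 23 ∨ i = 0 then 4 else 0)) =
    (Pi.single none 4 + Pi.single (some 0) 4 : GolayPt → ℤ) := by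
  funext p
  rw [vecOf_rangeL]
  revert p
  decide

theorem gen_oct (b : ℕ) : vecOf (rangeL (fun i => if b.testBit i then 2 else 0)) =
    (fun i => 2 * lift01 (Cfsg.Agent.Lib.Compute.Golay.maskWord b) i) := by
  funext p
  rw [vecOf_rangeL]
  simp only [lift01, Cfsg.Agent.Lib.Compute.Golay.maskWord]
  have e : Cfsg.Agent.Lib.Compute.Golay.ptIdx p = idx p := by
    revert p; decide
  rw [e]
  by_cases h : b.testBit (idx p) = true
  · rw [if_pos h, if_pos h]; rfl
  · rw [if_neg h, if_neg h]; rfl

theorem gen_diff (i : GolayPt) (hi : i ≠ none) :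
    vecOf (rangeL (fun k => if k = idx i then 4 else if k = 23 then -4 else 0)) =
    (Pi.single i 4 - Pi.single none 4 : GolayPt → ℤ) := by
  funext p
  rw [vecOf_rangeL]
  revert p i
  decide

/-- The generator principle, list form. -/
theorem L_le_of_gens (H : AddSubgroup (GolayPt → ℤ)) (h : ∀ l ∈ genVecs, vecOf l ∈ H) :
    leechLattice ≤ H := by
  apply L_le_of_forms
  · rw [← gen_v0]; exact h _ List.mem_cons_self
  · intro b hb
    rw [← gen_oct]
    apply h
    refine List.mem_cons_of_mem _ (List.mem_cons_of_mem _ (List.mem_append_left _ ?_))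
    exact List.mem_map.mpr ⟨b, hb, rfl⟩
  · intro i hi
    rw [← gen_diff i hi]
    apply h
    refine List.mem_cons_of_mem _ (List.mem_cons_of_mem _ (List.mem_append_right _ ?_))
    refine List.mem_map.mpr ⟨idx i, ?_, rfl⟩
    rw [List.mem_range]
    cases i with
    | none => exact absurd rfl hi
    | some x => exact ZMod.val_lt x
  · rw [← gen_44]; exact h _ (List.mem_cons_of_mem _ List.mem_cons_self)

/-! ### Matrices -/

/-- A matrix given by a list of rows. -/
def matOf (M : List (List ℤ)) (k i : GolayPt) : ℤ := (M.getD (idx k) []).getD (idx i) 0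

/-- Action of a matrix on a vector. -/
def matAct (M : List (List ℤ)) (x : GolayPt → ℤ) (k : GolayPt) : ℤ := ∑ i, matOf M k i * x i

/-- Entry access. -/
def ent (M : List (List ℤ)) (k i : ℕ) : ℤ := (M.getD k []).getD i 0

/-- Row times list vector. -/
def matVec (M : List (List ℤ)) (l : List ℤ) : List ℤ :=
  rangeL fun k => ((List.range 24).map fun i => ent M k i * l.getD i 0).sum

theorem matAct_vecOf (M : List (List ℤ)) (l : List ℤ) (k : GolayPt) :
    matAct M (vecOf l) k = vecOf (matVec M l) k := by
  unfold matAct matVec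
  rw [vecOf_rangeL]
  exact sum_golayPt (fun i => ent M (idx k) i * l.getD i 0)

/-- Transposed matrix. -/
def transp (M : List (List ℤ)) : List (List ℤ) :=
  (List.range 24).map fun k => rangeL fun i => ent M i k

theorem matOf_transp (M : List (List ℤ)) (k i : GolayPt) : matOf (transp M) k i = matOf M i k := by
  unfold matOf transp
  have hk := idx_lt k
  have e1 : ((List.range 24).map fun k => rangeL fun i => ent M i k).getD (idx k) [] =
      rangeL fun i => ent M i (idx k) := by
    rw [List.getD_eq_getElem _ _ (by simpa using hk)]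
    simp
  rw [e1]
  exact vecOf_rangeL (fun i => ent M i (idx k)) i

/-- Check that the rows are orthogonal of length `d2`. -/
def orthCheck (M : List (List ℤ)) (d2 : ℤ) : Bool :=
  (List.range 24).all fun k => (List.range 24).all fun l =>
    decide (((List.range 24).map fun i => ent M k i * ent M l i).sum = if k = l then d2 else 0)

theorem orth_of_check {M : List (List ℤ)} {d2 : ℤ} (h : orthCheck M d2 = true) (k l : GolayPt) :
    ∑ i, matOf M k i * matOf M l i = if k = l then d2 else 0 := by
  simp only [orthCheck, List.all_eq_true, List.mem_range, decide_eq_true_eq] at h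
  have h1 := h _ (idx_lt k) _ (idx_lt l)
  have h2 := sum_golayPt (fun i => ent M (idx k) i * ent M (idx l) i)
  have e : (∑ i, matOf M k i * matOf M l i) =
      ∑ i : GolayPt, (fun i => ent M (idx k) i * ent M (idx l) i) (idx i) := rfl
  rw [e, h2, h1]
  by_cases hkl : k = l
  · subst hkl; simp
  · have : idx k ≠ idx l := fun h => hkl (idx_injective h)
    simp [hkl, this]

/-- A vector `y = (l / D)` with `D * y = l`, test. -/
def divCheck (D : ℤ) (l : List ℤ) : Bool :=
  (List.range 24).all (fun i => decide ((l.getD i 0) % D = 0)) &&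
    inLattice (rangeL fun i => (l.getD i 0) / D)

theorem divCheck_sound {D : ℤ} {l : List ℤ} (h : divCheck D l = true) :
    ∃ y ∈ leechLattice, ∀ k, vecOf l k = D * y k := by
  simp only [divCheck, Bool.and_eq_true, List.all_eq_true, List.mem_range, decide_eq_true_eq] at h
  refine ⟨vecOf (rangeL fun i => (l.getD i 0) / D), inLattice_sound h.2, fun k => ?_⟩
  rw [vecOf_rangeL]
  have h1 := h.1 _ (idx_lt k)
  have := Int.mul_ediv_cancel_of_emod_eq_zero h1
  exact this.symm

/-- Check that a matrix maps the generators to `D * L`. -/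
def genCheck (M : List (List ℤ)) (D : ℤ) : Bool :=
  genVecs.all fun l => divCheck D (matVec M l)

/-- The subgroup of vectors that the matrix maps to `D * L`. -/
def goodSub (M : List (List ℤ)) (D : ℤ) : AddSubgroup (GolayPt → ℤ) where
  carrier := {x | ∃ y ∈ leechLattice, ∀ k, matAct M x k = D * y k}
  zero_mem' := ⟨0, leechLattice.zero_mem, fun k => by simp [matAct]⟩
  add_mem' := by
    rintro a b ⟨y, hy, h1⟩ ⟨z, hz, h2⟩
    refine ⟨y + z, leechLattice.add_mem hy hz, fun k => ?_⟩
    simp only [matAct, Pi.add_apply, mul_add, Finset.sum_add_distrib] at h1 h2 ⊢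
    rw [h1 k, h2 k]
  neg_mem' := by
    rintro a ⟨y, hy, h1⟩
    refine ⟨-y, leechLattice.neg_mem hy, fun k => ?_⟩
    simp only [matAct, Pi.neg_apply, mul_neg, Finset.sum_neg_distrib] at h1 ⊢
    rw [h1 k]

theorem good_of_genCheck {M : List (List ℤ)} {D : ℤ} (h : genCheck M D = true) :
    leechLattice ≤ goodSub M D := by
  apply L_le_of_gens
  intro l hl
  obtain ⟨y, hy, hk⟩ := divCheck_sound (List.all_eq_true.mp h l hl)
  exact ⟨y, hy, fun k => by rw [matAct_vecOf]; exact hk k⟩

/-- The full check. -/
def matCheck (M : List (List ℤ)) (D : ℤ) : Bool :=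
  decide (0 < D) && orthCheck M (D ^ 2) && orthCheck (transp M) (D ^ 2) &&
    genCheck M D && genCheck (transp M) D

section co0

variable {M : List (List ℤ)} {D : ℤ} (hM : matCheck M D = true)

include hM

theorem matCheck_D : 0 < D := by
  simp only [matCheck, Bool.and_eq_true, decide_eq_true_eq] at hM
  exact hM.1.1.1.1

theorem matCheck_orth1 (k l : GolayPt) :
    ∑ i, matOf M k i * matOf M l i = if k = l then D ^ 2 else 0 := by
  simp only [matCheck, Bool.and_eq_true, decide_eq_true_eq] at hM
  exact orth_of_check hM.1.1.1.2 k l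

theorem matCheck_orth2 (i j : GolayPt) :
    ∑ k, matOf M k i * matOf M k j = if i = j then D ^ 2 else 0 := by
  simp only [matCheck, Bool.and_eq_true, decide_eq_true_eq] at hM
  have := orth_of_check hM.1.1.2 i j
  simpa only [matOf_transp] using this

theorem matCheck_good : leechLattice ≤ goodSub M D := by
  simp only [matCheck, Bool.and_eq_true, decide_eq_true_eq] at hM
  exact good_of_genCheck hM.1.2

theorem matCheck_good' : leechLattice ≤ goodSub (transp M) D := by
  simp only [matCheck, Bool.and_eq_true, decide_eq_true_eq] at hM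
  exact good_of_genCheck hM.2

/-- The image of a lattice vector. -/
theorem act_div_mem (x : leechLattice) :
    (fun k => matAct M x k / D) ∈ leechLattice := by
  obtain ⟨y, hy, h⟩ := matCheck_good hM x.2
  have hD := matCheck_D hM
  have : (fun k => matAct M x k / D) = y := by
    funext k
    rw [h k, Int.mul_ediv_cancel_left _ hD.ne']
  rw [this]; exact hy

theorem act_div_mem' (x : leechLattice) :
    (fun k => matAct (transp M) x k / D) ∈ leechLattice := by
  obtain ⟨y, hy, h⟩ := matCheck_good' hM x.2
  have hD := matCheck_D hM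
  have : (fun k => matAct (transp M) x k / D) = y := by
    funext k
    rw [h k, Int.mul_ediv_cancel_left _ hD.ne']
  rw [this]; exact hy

theorem mul_act_div (x : leechLattice) (k : GolayPt) :
    D * (matAct M x k / D) = matAct M x k := by
  obtain ⟨y, hy, h⟩ := matCheck_good hM x.2
  have hD := matCheck_D hM
  rw [h k, Int.mul_ediv_cancel_left _ hD.ne']

theorem mul_act_div' (x : leechLattice) (k : GolayPt) :
    D * (matAct (transp M) x k / D) = matAct (transp M) x k := by
  obtain ⟨y, hy, h⟩ := matCheck_good' hM x.2
  have hD := matCheck_D hM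
  rw [h k, Int.mul_ediv_cancel_left _ hD.ne']

theorem act_act_transp (x : GolayPt → ℤ) (k : GolayPt) :
    ∑ i, matOf M k i * matAct (transp M) x i = D ^ 2 * x k := by
  unfold matAct
  simp only [matOf_transp, Finset.mul_sum]
  rw [Finset.sum_comm]
  have : ∀ j, ∑ i, matOf M k i * (matOf M j i * x j) = (∑ i, matOf M k i * matOf M j i) * x j := by
    intro j
    rw [Finset.sum_mul]
    exact Finset.sum_congr rfl fun i _ => by ring
  simp only [this, matCheck_orth1 hM]
  rw [Finset.sum_eq_single k]
  · simp
  · intro b _ hb
    simp [Ne.symm hb]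
  · simp

theorem transp_act_act (x : GolayPt → ℤ) (k : GolayPt) :
    ∑ i, matOf (transp M) k i * matAct M x i = D ^ 2 * x k := by
  unfold matAct
  simp only [matOf_transp, Finset.mul_sum]
  rw [Finset.sum_comm]
  have : ∀ j, ∑ i, matOf M i k * (matOf M i j * x j) = (∑ i, matOf M i k * matOf M i j) * x j := by
    intro j
    rw [Finset.sum_mul]
    exact Finset.sum_congr rfl fun i _ => by ring
  simp only [this, matCheck_orth2 hM]
  rw [Finset.sum_eq_single k]
  · simp
  · intro b _ hb
    simp [Ne.symm hb]
  · simp

theorem sqNorm_act (x : GolayPt → ℤ) : sqNorm (matAct M x) = D ^ 2 * sqNorm x := by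
  unfold sqNorm
  have h1 : ∀ k, matAct M x k ^ 2 = ∑ i, ∑ j, (matOf M k i * x i) * (matOf M k j * x j) := by
    intro k
    rw [sq, matAct, Finset.sum_mul_sum]
  simp only [h1]
  rw [Finset.sum_comm]
  have h2 : ∀ i, ∑ k, ∑ j, (matOf M k i * x i) * (matOf M k j * x j) = D ^ 2 * x i ^ 2 := by
    intro i
    rw [Finset.sum_comm]
    have h3 : ∀ j, ∑ k, (matOf M k i * x i) * (matOf M k j * x j) =
        (∑ k, matOf M k i * matOf M k j) * (x i * x j) := by
      intro j
      rw [Finset.sum_mul]
      exact Finset.sum_congr rfl fun k _ => by ring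
    simp only [h3, matCheck_orth2 hM]
    rw [Finset.sum_eq_single i]
    · rw [if_pos rfl]; ring
    · intro b _ hb
      simp [Ne.symm hb]
    · simp
  simp only [h2, Finset.mul_sum]

/-- The element of `Co0` attached to a checked matrix. -/
noncomputable def matCo0 : Co0 :=
  ⟨{ toFun := fun x => ⟨fun k => matAct M x k / D, act_div_mem hM x⟩
     invFun := fun x => ⟨fun k => matAct (transp M) x k / D, act_div_mem' hM x⟩
     left_inv := by
       intro x
       apply Subtype.ext
       funext k
       have hD := matCheck_D hM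
       have h1 := transp_act_act hM (x : GolayPt → ℤ) k
       have h2 : (fun k => matAct M x k / D) = fun k => matAct M x k / D := rfl
       show matAct (transp M) (fun k => matAct M x k / D) k / D = (x : GolayPt → ℤ) k
       have h3 : D * matAct (transp M) (fun k => matAct M x k / D) k = D ^ 2 * (x : GolayPt → ℤ) k := by
         rw [← h1]
         unfold matAct
         rw [Finset.mul_sum]
         apply Finset.sum_congr rfl
         intro i _
         have := mul_act_div hM x i
         unfold matAct at this
         rw [← this]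
         ring
       have h4 : matAct (transp M) (fun k => matAct M x k / D) k = D * (x : GolayPt → ℤ) k := by
         apply mul_left_cancel₀ hD.ne'
         rw [h3]; ring
       rw [h4, Int.mul_ediv_cancel_left _ hD.ne']
     right_inv := by
       intro x
       apply Subtype.ext
       funext k
       have hD := matCheck_D hM
       have h1 := act_act_transp hM (x : GolayPt → ℤ) k
       show matAct M (fun k => matAct (transp M) x k / D) k / D = (x : GolayPt → ℤ) k
       have h3 : D * matAct M (fun k => matAct (transp M) x k / D) k = D ^ 2 * (x : GolayPt → ℤ) k := by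
         rw [← h1]
         unfold matAct
         rw [Finset.mul_sum]
         apply Finset.sum_congr rfl
         intro i _
         have := mul_act_div' hM x i
         unfold matAct at this
         rw [← this]
         ring
       have h4 : matAct M (fun k => matAct (transp M) x k / D) k = D * (x : GolayPt → ℤ) k := by
         apply mul_left_cancel₀ hD.ne'
         rw [h3]; ring
       rw [h4, Int.mul_ediv_cancel_left _ hD.ne'] },
    by
      intro v w
      apply Subtype.ext
      funext k
      have hD := matCheck_D hM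
      show matAct M ((v + w : leechLattice) : GolayPt → ℤ) k / D = matAct M v k / D + matAct M w k / D
      have h1 := mul_act_div hM v k
      have h2 := mul_act_div hM w k
      have e : matAct M ((v + w : leechLattice) : GolayPt → ℤ) k = matAct M v k + matAct M w k := by
        simp only [matAct, AddSubgroup.coe_add, Pi.add_apply, mul_add, Finset.sum_add_distrib]
      rw [e, ← h1, ← h2, ← mul_add, Int.mul_ediv_cancel_left _ hD.ne',
        Int.mul_ediv_cancel_left _ hD.ne', Int.mul_ediv_cancel_left _ hD.ne'],
    by
      intro v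
      have hD := matCheck_D hM
      have h1 := sqNorm_act hM (v : GolayPt → ℤ)
      have h2 : matAct M (v : GolayPt → ℤ) = fun k => D * (matAct M v k / D) := by
        funext k; rw [mul_act_div hM v k]
      have h3 : sqNorm (fun k => D * (matAct M (v : GolayPt → ℤ) k / D)) =
          D ^ 2 * sqNorm (fun k => matAct M (v : GolayPt → ℤ) k / D) := by
        unfold sqNorm
        rw [Finset.mul_sum]
        exact Finset.sum_congr rfl fun i _ => by ring
      rw [h2, h3] at h1
      have h4 : D ^ 2 ≠ 0 := pow_ne_zero _ hD.ne'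
      exact mul_left_cancel₀ h4 h1⟩

theorem matCo0_smul (v : leechLattice) (k : GolayPt) :
    ((matCo0 hM • v : leechLattice) : GolayPt → ℤ) k = matAct M v k / D := rfl

theorem mul_matCo0_smul (v : leechLattice) (k : GolayPt) :
    D * ((matCo0 hM • v : leechLattice) : GolayPt → ℤ) k = matAct M v k :=
  mul_act_div hM v k

/-- Action on an explicit list vector. -/
theorem matCo0_smul_vecOf (l : List ℤ) (hl : vecOf l ∈ leechLattice) :
    ((matCo0 hM • (⟨vecOf l, hl⟩ : leechLattice) : leechLattice) : GolayPt → ℤ) =
      fun k => vecOf (matVec M l) k / D := by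
  funext k
  rw [matCo0_smul]
  show matAct M (vecOf l) k / D = _
  rw [matAct_vecOf]

end co0

end Cfsg.Agent.Lib.Sporadic.LeechMat
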