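import Mathlib
import Cfsg.Agent.Lib.Sporadic.LeechMat
import Cfsg.Agent.Lib.Sporadic.M24Act

/-!
# Orbits of `Co0` on lattice vectors: the relation `SameOrb`, sign normalisations.
-/

set_option autoImplicit false

namespace Cfsg.Agent.Lib.Sporadic.LeechOrb

open Cfsg Cfsg.Agent.Lib.Sporadic.GolayCore Cfsg.Agent.Lib.Sporadic.LeechBasic
  Cfsg.Agent.Lib.Sporadic.LeechNorm Cfsg.Agent.Lib.Sporadic.LeechFacts
  Cfsg.Agent.Lib.Sporadic.LeechAut Cfsg.Agent.Lib.Sporadic.LeechMat
open scoped Pointwise

/-- Two lattice vectors in the same orbit of `Co0`. -/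
def SameOrb (x y : GolayPt → ℤ) : Prop :=
  ∃ (hx : x ∈ leechLattice) (hy : y ∈ leechLattice) (g : Co0),
    g • (⟨x, hx⟩ : leechLattice) = ⟨y, hy⟩

theorem SameOrb.refl {x : GolayPt → ℤ} (hx : x ∈ leechLattice) : SameOrb x x :=
  ⟨hx, hx, 1, one_smul _ _⟩

theorem SameOrb.symm {x y : GolayPt → ℤ} (h : SameOrb x y) : SameOrb y x := by
  obtain ⟨hx, hy, g, hg⟩ := h
  refine ⟨hy, hx, g⁻¹, ?_⟩
  rw [← hg, inv_smul_smul]

theorem SameOrb.trans {x y z : GolayPt → ℤ} (h : SameOrb x y) (h' : SameOrb y z) : SameOrb x z := by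
  obtain ⟨hx, hy, g, hg⟩ := h
  obtain ⟨hy', hz, g', hg'⟩ := h'
  refine ⟨hx, hz, g' * g, ?_⟩
  rw [mul_smul, hg, ← hg']

theorem SameOrb.left_mem {x y : GolayPt → ℤ} (h : SameOrb x y) : x ∈ leechLattice := h.1

theorem SameOrb.right_mem {x y : GolayPt → ℤ} (h : SameOrb x y) : y ∈ leechLattice := h.2.1

theorem sameOrb_sign {c : Finset GolayPt}
    (hc : c ∈ supports (golayCode : Set (GolayPt → ZMod 2))) {x : GolayPt → ℤ}
    (hx : x ∈ leechLattice) : SameOrb x (signChange c x) :=
  ⟨hx, signChange_mem hc hx, signCo0 c hc, rfl⟩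

theorem sameOrb_perm {σ : Equiv.Perm GolayPt} (hσ : σ ∈ M24) {x : GolayPt → ℤ}
    (hx : x ∈ leechLattice) : SameOrb x (permV σ x) :=
  ⟨hx, permV_mem hσ hx, permCo0 σ hσ, rfl⟩

theorem sameOrb_mat {M : List (List ℤ)} {D : ℤ} (hM : matCheck M D = true) {x : GolayPt → ℤ}
    (hx : x ∈ leechLattice) : SameOrb x (fun k => matAct M x k / D) :=
  ⟨hx, act_div_mem hM ⟨x, hx⟩, matCo0 hM, rfl⟩

/-- A matrix on an explicit vector. -/
theorem sameOrb_mat_vec {M : List (List ℤ)} {D : ℤ} (hM : matCheck M D = true) {l : List ℤ}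
    (hl : inLattice l = true) :
    SameOrb (vecOf l) (vecOf (rangeL fun i => (matVec M l).getD i 0 / D)) := by
  have h := sameOrb_mat hM (inLattice_sound hl)
  have e : (fun k => matAct M (vecOf l) k / D) = vecOf (rangeL fun i => (matVec M l).getD i 0 / D) := by
    funext k
    rw [matAct_vecOf, vecOf_rangeL]
    rfl
  rwa [e] at h

/-- Transport to `Co0`. -/
theorem SameOrb.exists_smul {x y : GolayPt → ℤ} (h : SameOrb x y) (hx : x ∈ leechLattice)
    (hy : y ∈ leechLattice) : ∃ g : Co0, g • (⟨x, hx⟩ : leechLattice) = ⟨y, hy⟩ := by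
  obtain ⟨_, _, g, hg⟩ := h
  exact ⟨g, hg⟩

/-! ### Sign normalisation for odd vectors -/

theorem odd_normal {x : GolayPt → ℤ} (hx : x ∈ leechLattice) (hodd : ∀ i, x i % 2 = 1) :
    ∃ c ∈ supports (golayCode : Set (GolayPt → ZMod 2)), ∀ i, (signChange c x i) % 4 = 1 := by
  have hx' := hx
  rw [mem_leechLattice_iff] at hx'
  obtain ⟨m, -, -, -, hw⟩ := hx'
  refine ⟨support₂ (wd x), ⟨_, hw, rfl⟩, fun i => ?_⟩
  have h1 := hodd i
  simp only [signChange]
  by_cases hi : i ∈ support₂ (wd x)
  · rw [if_pos hi]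
    rw [mem_support₂_wd] at hi
    omega
  · rw [if_neg hi]
    rw [mem_support₂_wd] at hi
    omega

/-- A sum of nonnegative integers equal to one has exactly one nonzero term. -/
theorem sum_eq_one_cases {α : Type*} [Fintype α] [DecidableEq α] (f : α → ℤ) (h0 : ∀ i, 0 ≤ f i)
    (h1 : ∑ i, f i = 1) : ∃ i, f i = 1 ∧ ∀ j, j ≠ i → f j = 0 := by
  have hne : ∃ i, f i ≠ 0 := by
    by_contra hc
    push Not at hc
    simp [hc] at h1
  obtain ⟨i, hi⟩ := hne
  have h2 : f i + ∑ j ∈ Finset.univ.erase i, f j = 1 := by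
    rw [Finset.add_sum_erase _ _ (Finset.mem_univ i)]; exact h1
  have h3 : 0 ≤ ∑ j ∈ Finset.univ.erase i, f j := Finset.sum_nonneg fun j _ => h0 j
  have h4 := h0 i
  have h5 : f i = 1 := by omega
  have h6 : ∑ j ∈ Finset.univ.erase i, f j = 0 := by omega
  refine ⟨i, h5, fun j hj => ?_⟩
  exact (Finset.sum_eq_zero_iff_of_nonneg (fun j _ => h0 j)).mp h6 j (Finset.mem_erase.mpr ⟨hj, Finset.mem_univ j⟩)

/-- Squares of integers `≡ 1 mod 4`. -/
theorem sq_sub_one_of_mod_four (y : ℤ) (h : y % 4 = 1) : (8 : ℤ) ∣ y ^ 2 - 1 := by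
  obtain ⟨t, rfl⟩ : ∃ t, y = 4 * t + 1 := ⟨y / 4, by omega⟩
  exact ⟨2 * t ^ 2 + t, by ring⟩

theorem eq_of_sq_eq_nine {y : ℤ} (h : y ^ 2 = 9) : y = 3 ∨ y = -3 := by
  have : (y - 3) * (y + 3) = 0 := by ring_nf; linarith
  rcases mul_eq_zero.mp this with h | h
  · left; omega
  · right; omega

theorem eq_of_sq_eq_one {y : ℤ} (h : y ^ 2 = 1) : y = 1 ∨ y = -1 := by
  have : (y - 1) * (y + 1) = 0 := by ring_nf; linarith
  rcases mul_eq_zero.mp this with h | h
  · left; omega
  · right; omega

theorem eq_of_sq_eq_four {y : ℤ} (h : y ^ 2 = 4) : y = 2 ∨ y = -2 := by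
  have : (y - 2) * (y + 2) = 0 := by ring_nf; linarith
  rcases mul_eq_zero.mp this with h | h
  · left; omega
  · right; omega

theorem eq_of_sq_eq_sixteen {y : ℤ} (h : y ^ 2 = 16) : y = 4 ∨ y = -4 := by
  have : (y - 4) * (y + 4) = 0 := by ring_nf; linarith
  rcases mul_eq_zero.mp this with h | h
  · left; omega
  · right; omega

theorem sum_one_golayPt : ∑ _i : GolayPt, (1 : ℤ) = 24 := by
  simp [Finset.card_univ, ZMod.card]

/-! ### Minimal vectors: odd case -/

theorem sqNorm_v0 : sqNorm v0 = 32 := by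
  decide

theorem min_odd {x : GolayPt → ℤ} (hx : x ∈ leechLattice) (hodd : ∀ i, x i % 2 = 1)
    (hN : sqNorm x = 32) : SameOrb x v0 := by
  obtain ⟨c, hc, h4⟩ := odd_normal hx hodd
  have h1 := sameOrb_sign hc hx
  set y := signChange c x with hy
  have hNy : sqNorm y = 32 := by rw [hy, sqNorm_signChange, hN]
  have hyL : y ∈ leechLattice := h1.right_mem
  have hdvd : ∀ i, (8 : ℤ) ∣ y i ^ 2 - 1 := fun i => sq_sub_one_of_mod_four _ (h4 i)
  choose f hf using hdvd
  have hf0 : ∀ i, 0 ≤ f i := by
    intro i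
    have h2 : y i ≠ 0 := by
      intro h; have := h4 i; rw [h] at this; norm_num at this
    have h3 : 0 < y i ^ 2 := by positivity
    have := hf i
    omega
  have hsum : ∑ i, f i = 1 := by
    have h2 : ∑ i, (y i ^ 2 - 1) = 8 * ∑ i, f i := by
      rw [Finset.mul_sum]; exact Finset.sum_congr rfl fun i _ => hf i
    rw [Finset.sum_sub_distrib, sum_one_golayPt] at h2
    have : ∑ i, y i ^ 2 = 32 := hNy
    omega
  obtain ⟨i, hi, hj⟩ := sum_eq_one_cases f hf0 hsum
  have hyi : y i = -3 := by
    have h2 := hf i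
    rw [hi] at h2
    have h3 : y i ^ 2 = 9 := by omega
    rcases eq_of_sq_eq_nine h3 with h5 | h5
    · have := h4 i; rw [h5] at this; norm_num at this
    · exact h5
  have hyj : ∀ j, j ≠ i → y j = 1 := by
    intro j hji
    have h2 := hf j
    rw [hj j hji] at h2
    have h3 : y j ^ 2 = 1 := by omega
    rcases eq_of_sq_eq_one h3 with h5 | h5
    · exact h5
    · have := h4 j; rw [h5] at this; norm_num at this
  obtain ⟨σ, hσ, hσi⟩ := Cfsg.Agent.Lib.Sporadic.M24Act.exists_map_one i none
  have h2 := sameOrb_perm hσ hyL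
  have e : permV σ y = v0 := by
    funext k
    simp only [permV, v0]
    by_cases hk : k = none
    · subst hk
      rw [if_pos rfl, ← hσi]
      simp [hyi]
    · rw [if_neg hk]
      apply hyj
      intro h
      apply hk
      rw [← hσi, ← h]
      simp
  rw [e] at h2
  exact h1.trans h2

/-! ### Flipping signs on a set of coordinates -/

/-- Vectors with coordinates `± a` on `S` and zero elsewhere. -/
def SForm (S : Finset GolayPt) (a : ℤ) (y : GolayPt → ℤ) : Prop :=
  (∀ i ∈ S, y i = a ∨ y i = -a) ∧ ∀ i, i ∉ S → y i = 0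

/-- The vector with coordinates `a` on `S` and zero elsewhere. -/
def absVec (S : Finset GolayPt) (a : ℤ) : GolayPt → ℤ := fun i => if i ∈ S then a else 0

theorem sum_SForm {S : Finset GolayPt} {a : ℤ} {y : GolayPt → ℤ} (h : SForm S a y) (ha : 0 < a) :
    ∑ i, y i = a * S.card - 2 * a * (S.filter fun i => y i = -a).card := by
  have h1 : ∑ i, y i = ∑ i ∈ S, y i := by
    symm
    apply Finset.sum_subset (Finset.subset_univ _)
    intro i _ hi
    exact h.2 i hi
  rw [h1, Finset.card_filter]
  have h2 : ∀ i ∈ S, y i = a - 2 * a * (if y i = -a then 1 else 0) := by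
    intro i hi
    rcases h.1 i hi with h3 | h3
    · rw [if_neg (by rw [h3]; omega), h3]; ring
    · rw [if_pos h3, h3]; ring
  rw [Finset.sum_congr rfl h2, Finset.sum_sub_distrib, Finset.sum_const, nsmul_eq_mul]
  push_cast
  rw [Finset.mul_sum]
  ring

/-- Flipping signs pairwise. -/
theorem flip {S : Finset GolayPt} {a : ℤ} (ha : 0 < a)
    (hpair : ∀ p ∈ S, ∀ q ∈ S, p ≠ q → ∃ c ∈ supports (golayCode : Set (GolayPt → ZMod 2)),
      c ∩ S = {p, q})
    (hpar : ∀ y ∈ leechLattice, SForm S a y → Even (S.filter fun i => y i = -a).card) :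
    ∀ y ∈ leechLattice, SForm S a y → SameOrb y (absVec S a) := by
  intro y
  induction' hn : (S.filter fun i => y i = -a).card using Nat.strong_induction_on with n ih
    generalizing y
  intro hy hf
  by_cases hK : (S.filter fun i => y i = -a).card = 0
  · have e : y = absVec S a := by
      funext i
      simp only [absVec]
      by_cases hi : i ∈ S
      · rw [if_pos hi]
        rcases hf.1 i hi with h | h
        · exact h
        · exfalso
          have : i ∈ S.filter fun i => y i = -a := Finset.mem_filter.mpr ⟨hi, h⟩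
          rw [Finset.card_eq_zero] at hK
          rw [hK] at this
          simp at this
      · rw [if_neg hi]; exact hf.2 i hi
    rw [← e]; exact SameOrb.refl hy
  · have h2 : 1 < (S.filter fun i => y i = -a).card := by
      have := hpar y hy hf
      rcases this with ⟨r, hr⟩
      omega
    obtain ⟨p, hp, q, hq, hpq⟩ := Finset.one_lt_card.mp h2
    have hp' := Finset.mem_filter.mp hp
    have hq' := Finset.mem_filter.mp hq
    obtain ⟨c, hc, hcS⟩ := hpair p hp'.1 q hq'.1 hpq
    have hmemc : ∀ i ∈ S, (i ∈ c ↔ i = p ∨ i = q) := by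
      intro i hi
      have := Finset.ext_iff.mp hcS i
      simp only [Finset.mem_inter, Finset.mem_insert, Finset.mem_singleton] at this
      constructor
      · intro h; exact this.mp ⟨h, hi⟩
      · intro h; exact (this.mpr h).1
    have h3 := sameOrb_sign hc hy
    set z := signChange c y with hz
    have hfz : SForm S a z := by
      refine ⟨fun i hi => ?_, fun i hi => ?_⟩
      · simp only [hz, signChange]
        split_ifs
        · rcases hf.1 i hi with h | h <;> rw [h] <;> simp
        · exact hf.1 i hi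
      · simp only [hz, signChange]
        rw [hf.2 i hi]; simp
    have hK' : (S.filter fun i => z i = -a) = ((S.filter fun i => y i = -a).erase p).erase q := by
      ext i
      simp only [Finset.mem_filter, Finset.mem_erase, hz, signChange]
      constructor
      · rintro ⟨hi, hzi⟩
        have hc' := hmemc i hi
        by_cases hic : i ∈ c
        · rw [if_pos hic] at hzi
          exfalso
          rcases hc'.mp hic with rfl | rfl
          · rw [hp'.2] at hzi; omega
          · rw [hq'.2] at hzi; omega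
        · rw [if_neg hic] at hzi
          have h5 : ¬ (i = p ∨ i = q) := fun h => hic (hc'.mpr h)
          push Not at h5
          exact ⟨h5.2, h5.1, hi, hzi⟩
      · rintro ⟨h1, h2', hi, hyi⟩
        refine ⟨hi, ?_⟩
        have hic : i ∉ c := fun h => by
          rcases (hmemc i hi).mp h with h | h
          · exact h2' h
          · exact h1 h
        rw [if_neg hic]; exact hyi
    have hcard : (S.filter fun i => z i = -a).card < n := by
      rw [hK', ← hn]
      calc _ ≤ ((S.filter fun i => y i = -a).erase p).card := Finset.card_erase_le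
        _ < _ := Finset.card_erase_lt_of_mem hp
    exact h3.trans (ih _ hcard z rfl h3.right_mem hfz)

/-! ### Pairs of coordinates flipped by code words: kernel checks -/

/-- The code word `m` meets the set `S` exactly in the two bits `p, q`. -/
def pairWitness (S m p q : ℕ) : Bool :=
  (List.range 24).all fun k => ((m &&& S).testBit k) == (k == p || k == q)

/-- Existence of a code word meeting `S` exactly in `p, q`. -/
def pairExists (S p q : ℕ) : Bool := codeList.any fun m => pairWitness S m p q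

/-- Check over all pairs of bits of `S`. -/
def pairsOK (S : ℕ) : Bool :=
  (List.range 24).all fun p => (List.range 24).all fun q =>
    !(S.testBit p) || !(S.testBit q) || p == q || pairExists S p q

theorem hpair_of_check {S : ℕ} (h : pairsOK S = true) :
    ∀ p ∈ ofMask S, ∀ q ∈ ofMask S, p ≠ q → ∃ c ∈ supports (golayCode : Set (GolayPt → ZMod 2)),
      c ∩ ofMask S = {p, q} := by
  intro p hp q hq hpq
  rw [mem_ofMask] at hp hq
  simp only [pairsOK, List.all_eq_true, List.mem_range] at h
  have h1 := h _ (idx_lt p) _ (idx_lt q)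
  have hne : idx p ≠ idx q := fun h => hpq (idx_injective h)
  simp only [hp, hq, Bool.not_true, Bool.false_or] at h1
  have h2 : pairExists S (idx p) (idx q) = true := by
    have h3 : (idx p == idx q) = false := by simpa using hne
    rw [h3, Bool.false_or] at h1
    exact h1
  obtain ⟨m, hm, hw⟩ := List.any_eq_true.mp h2
  refine ⟨ofMask m, (ofMask_mem_supports_iff (codeList_lt hm)).mpr hm, ?_⟩
  ext k
  simp only [pairWitness, List.all_eq_true, List.mem_range, beq_iff_eq] at hw
  have h3 := hw _ (idx_lt k)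
  rw [Finset.mem_inter, mem_ofMask, mem_ofMask, Finset.mem_insert, Finset.mem_singleton]
  rw [Nat.testBit_and] at h3
  have hkp : k = p ↔ idx k = idx p := ⟨fun h => by rw [h], fun h => idx_injective h⟩
  have hkq : k = q ↔ idx k = idx q := ⟨fun h => by rw [h], fun h => idx_injective h⟩
  rw [hkp, hkq]
  cases h4 : m.testBit (idx k) <;> cases h5 : S.testBit (idx k) <;> simp [h4, h5] at h3 ⊢ <;> tauto

end Cfsg.Agent.Lib.Sporadic.LeechOrb
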