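import Mathlib
import Cfsg.Agent.Lib.Sporadic.LeechOrb

/-!
# Conway's element `ξ_T` of `Co0`, and transitivity on minimal vectors.
-/

set_option autoImplicit false

namespace Cfsg.Agent.Lib.Sporadic.LeechMin

open Cfsg Cfsg.Agent.Lib.Sporadic.GolayCore Cfsg.Agent.Lib.Sporadic.LeechBasic
  Cfsg.Agent.Lib.Sporadic.LeechNorm Cfsg.Agent.Lib.Sporadic.LeechFacts
  Cfsg.Agent.Lib.Sporadic.LeechAut Cfsg.Agent.Lib.Sporadic.LeechMat
  Cfsg.Agent.Lib.Sporadic.LeechOrb Cfsg.Agent.Lib.Sporadic.M24Chain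
open scoped Pointwise

/-- Twice Conway's element `ξ_T` for the sextet of the tetrad `{∞, 0, 1, 2}`. -/
def xiMat : List (List ℤ) :=
  [[1,-1,-1,0,0,0,0,0,0,0,0,0,0,0,0,0,0,0,0,0,0,0,0,-1],[-1,1,-1,0,0,0,0,0,0,0,0,0,0,0,0,0,0,0,0,0,0,0,0,-1],[-1,-1,1,0,0,0,0,0,0,0,0,0,0,0,0,0,0,0,0,0,0,0,0,-1],[0,0,0,-1,0,1,0,0,0,0,0,0,0,0,1,0,0,1,0,0,0,0,0,0],[0,0,0,0,-1,0,0,0,0,0,0,0,0,1,0,0,1,0,0,0,0,0,1,0],[0,0,0,1,0,-1,0,0,0,0,0,0,0,0,1,0,0,1,0,0,0,0,0,0],[0,0,0,0,0,0,-1,1,0,0,0,0,0,0,0,0,0,0,0,1,0,1,0,0],[0,0,0,0,0,0,1,-1,0,0,0,0,0,0,0,0,0,0,0,1,0,1,0,0],[0,0,0,0,0,0,0,0,-1,0,0,1,1,0,0,0,0,0,1,0,0,0,0,0],[0,0,0,0,0,0,0,0,0,-1,1,0,0,0,0,1,0,0,0,0,1,0,0,0],[0,0,0,0,0,0,0,0,0,1,-1,0,0,0,0,1,0,0,0,0,1,0,0,0],[0,0,0,0,0,0,0,0,1,0,0,-1,1,0,0,0,0,0,1,0,0,0,0,0],[0,0,0,0,0,0,0,0,1,0,0,1,-1,0,0,0,0,0,1,0,0,0,0,0],[0,0,0,0,1,0,0,0,0,0,0,0,0,-1,0,0,1,0,0,0,0,0,1,0],[0,0,0,1,0,1,0,0,0,0,0,0,0,0,-1,0,0,1,0,0,0,0,0,0],[0,0,0,0,0,0,0,0,0,1,1,0,0,0,0,-1,0,0,0,0,1,0,0,0],[0,0,0,0,1,0,0,0,0,0,0,0,0,1,0,0,-1,0,0,0,0,0,1,0],[0,0,0,1,0,1,0,0,0,0,0,0,0,0,1,0,0,-1,0,0,0,0,0,0],[0,0,0,0,0,0,0,0,1,0,0,1,1,0,0,0,0,0,-1,0,0,0,0,0],[0,0,0,0,0,0,1,1,0,0,0,0,0,0,0,0,0,0,0,-1,0,1,0,0],[0,0,0,0,0,0,0,0,0,1,1,0,0,0,0,1,0,0,0,0,-1,0,0,0],[0,0,0,0,0,0,1,1,0,0,0,0,0,0,0,0,0,0,0,1,0,-1,0,0],[0,0,0,0,1,0,0,0,0,0,0,0,0,1,0,0,1,0,0,0,0,0,-1,0],[-1,-1,-1,0,0,0,0,0,0,0,0,0,0,0,0,0,0,0,0,0,0,0,0,1]]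

theorem xiMat_ok : matCheck xiMat 2 = true := by decide +kernel

/-! ### Lower bounds on the support -/

/-- Norm analysis for even vectors with non-zero word and `N x = 32`: an octad with `± 2`. -/
theorem even_word_form {x : GolayPt → ℤ} (hx : x ∈ leechLattice) (h2 : ∀ i, x i % 2 = 0)
    (hw0 : wd x ≠ 0) (hN : sqNorm x = 32) :
    support₂ (wd x) ∈ octads ∧ SForm (support₂ (wd x)) 2 x := by
  have hx' := hx
  rw [mem_leechLattice_iff] at hx'
  obtain ⟨m, -, -, -, hw⟩ := hx'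
  set S := support₂ (wd x) with hS
  have h8 := code_min_eight _ hw hw0
  have hmem : ∀ i ∈ S, 4 ≤ x i ^ 2 := by
    intro i hi
    rw [hS, mem_support₂_wd] at hi
    have h3 := h2 i
    have h4 : x i ≠ 0 := by
      intro h; rw [h] at hi; norm_num at hi
    have h5 : 2 ≤ |x i| := by
      have h6 : 0 < |x i| := abs_pos.mpr h4
      by_contra hlt
      have h7 : |x i| = 1 := by omega
      rcases (abs_eq (by norm_num : (0 : ℤ) ≤ 1)).mp h7 with h9 | h9 <;> rw [h9] at h3 <;> norm_num at h3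
    nlinarith [abs_nonneg (x i), sq_abs (x i)]
  have hsplit : sqNorm x = ∑ i ∈ S, x i ^ 2 + ∑ i ∈ Sᶜ, x i ^ 2 := by
    unfold sqNorm
    rw [Finset.sum_add_sum_compl]
  have hA : ∑ i ∈ S, (x i ^ 2 - 4) = ∑ i ∈ S, x i ^ 2 - 4 * (S.card : ℤ) := by
    rw [Finset.sum_sub_distrib, Finset.sum_const, nsmul_eq_mul]; ring
  have hA0 : 0 ≤ ∑ i ∈ S, (x i ^ 2 - 4) :=
    Finset.sum_nonneg fun i hi => by have := hmem i hi; omega
  have hB0 : 0 ≤ ∑ i ∈ Sᶜ, x i ^ 2 := Finset.sum_nonneg fun i _ => sq_nonneg _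
  have h8' : (8 : ℤ) ≤ (S.card : ℤ) := by exact_mod_cast h8
  have hcard : (S.card : ℤ) = 8 := by omega
  have hA1 : ∑ i ∈ S, (x i ^ 2 - 4) = 0 := by omega
  have hB1 : ∑ i ∈ Sᶜ, x i ^ 2 = 0 := by omega
  refine ⟨⟨⟨_, hw, rfl⟩, by omega⟩, fun i hi => ?_, fun i hi => ?_⟩
  · have := (Finset.sum_eq_zero_iff_of_nonneg (fun i hi => by have := hmem i hi; omega)).mp hA1 i hi
    exact eq_of_sq_eq_four (by omega)
  · have := (Finset.sum_eq_zero_iff_of_nonneg (fun i _ => sq_nonneg (x i))).mp hB1 i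
      (Finset.mem_compl.mpr hi)
    simpa using this

/-- The standard octad. -/
abbrev O0 : Finset GolayPt := ofMask octad0

/-- The standard vector of octad shape. -/
def b0 : GolayPt → ℤ := absVec O0 2

theorem pairsOK_O0 : pairsOK octad0 = true := by decide +kernel

theorem O0_card : O0.card = 8 := Cfsg.Agent.Lib.Sporadic.M24Act.octad0_mem.2

theorem even_O0 (y : GolayPt → ℤ) (hy : y ∈ leechLattice) (hf : SForm O0 2 y) :
    Even (O0.filter fun i => y i = -2).card := by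
  have h1 := sum_SForm hf (by norm_num)
  rw [O0_card] at h1
  rw [mem_leechLattice_iff] at hy
  obtain ⟨m, hm, hp, hs, _⟩ := hy
  have hi : ∃ i, i ∈ O0 := Finset.card_pos.mp (by rw [O0_card]; norm_num)
  obtain ⟨i, hi⟩ := hi
  have hm0 : m = 0 := by
    have := hp i
    rcases hf.1 i hi with h | h <;> rw [h] at this <;> simpa using this.symm
  subst hm0
  rw [h1] at hs
  rw [Nat.even_iff]
  push_cast at hs
  omega

/-- Octad-shape minimal vectors. -/
theorem min_even_word {x : GolayPt → ℤ} (hx : x ∈ leechLattice) (h2 : ∀ i, x i % 2 = 0)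
    (hw0 : wd x ≠ 0) (hN : sqNorm x = 32) : SameOrb x b0 := by
  obtain ⟨hO, hf⟩ := even_word_form hx h2 hw0 hN
  obtain ⟨σ, hσ, hσO⟩ := Cfsg.Agent.Lib.Sporadic.M24Act.exists_smul_octad hO
    Cfsg.Agent.Lib.Sporadic.M24Act.octad0_mem
  have h1 := sameOrb_perm hσ hx
  have hf' : SForm O0 2 (permV σ x) := by
    show SForm (ofMask octad0) 2 _
    rw [← hσO]
    refine ⟨fun i hi => ?_, fun i hi => ?_⟩
    · rw [Cfsg.Agent.Lib.Sporadic.M24Basic.mem_smul_iff_inv] at hi
      exact hf.1 _ hi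
    · rw [Cfsg.Agent.Lib.Sporadic.M24Basic.mem_smul_iff_inv] at hi
      exact hf.2 _ hi
  exact h1.trans (flip (by norm_num) (hpair_of_check pairsOK_O0) even_O0 _ h1.right_mem hf')

/-! ### Minimal vectors with coordinates divisible by four -/

/-- Words for the sign changes on the two standard points. -/
def mA : ℕ := 340831

theorem mA_code : mA ∈ codeList := by decide +kernel
theorem mA'_code : allMask ^^^ mA ∈ codeList := by decide +kernel
theorem all_code : allMask ∈ codeList := by decide +kernel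

/-- The standard vector of two coordinates `4`. -/
def a0 : GolayPt → ℤ := Pi.single none 4 + Pi.single (some 0) 4

theorem sq_ne_two (b : ℤ) : b ^ 2 ≠ 2 := by
  intro h
  have h1 : b ≤ 1 := by nlinarith
  have h2 : -1 ≤ b := by nlinarith
  interval_cases b <;> simp at h

theorem min_four_aux {x : GolayPt → ℤ} (h4 : ∀ i, (4 : ℤ) ∣ x i) (hN : sqNorm x = 32) :
    ∃ i j, i ≠ j ∧ (x i = 4 ∨ x i = -4) ∧ (x j = 4 ∨ x j = -4) ∧ ∀ k, k ≠ i → k ≠ j → x k = 0 := by
  choose b hb using h4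
  have hsum : ∑ i, b i ^ 2 = 2 := by
    have : sqNorm x = 16 * ∑ i, b i ^ 2 := by
      unfold sqNorm
      rw [Finset.mul_sum]
      exact Finset.sum_congr rfl fun i _ => by rw [hb i]; ring
    omega
  have hne : ∃ i, b i ≠ 0 := by
    by_contra hc
    push Not at hc
    simp [hc] at hsum
  obtain ⟨i, hi⟩ := hne
  have h1 : b i ^ 2 + ∑ j ∈ Finset.univ.erase i, b j ^ 2 = 2 := by
    rw [Finset.add_sum_erase Finset.univ (fun j => b j ^ 2) (Finset.mem_univ i)]; exact hsum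
  have h2 : 0 ≤ ∑ j ∈ Finset.univ.erase i, b j ^ 2 := Finset.sum_nonneg fun j _ => sq_nonneg _
  have h3 : 0 < b i ^ 2 := by positivity
  have h5 := sq_ne_two (b i)
  have hi1 : b i ^ 2 = 1 := by omega
  have hrest : ∑ j, (if j = i then 0 else b j ^ 2) = 1 := by
    have e : ∑ j, (if j = i then 0 else b j ^ 2) = ∑ j ∈ Finset.univ.erase i, b j ^ 2 := by
      rw [← Finset.add_sum_erase Finset.univ _ (Finset.mem_univ i)]
      simp only [if_true, zero_add]
      apply Finset.sum_congr rfl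
      intro j hj
      rw [if_neg (Finset.ne_of_mem_erase hj)]
    rw [e]; omega
  obtain ⟨j, hj1, hj0⟩ := sum_eq_one_cases _ (fun j => by split_ifs <;> positivity) hrest
  have hji : j ≠ i := by
    intro h; rw [h] at hj1; simp at hj1
  rw [if_neg hji] at hj1
  refine ⟨i, j, Ne.symm hji, ?_, ?_, fun k hki hkj => ?_⟩
  · rw [hb i]
    rcases eq_of_sq_eq_one hi1 with h | h <;> rw [h] <;> simp
  · rw [hb j]
    rcases eq_of_sq_eq_one hj1 with h | h <;> rw [h] <;> simp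
  · have := hj0 k hkj
    rw [if_neg hki] at this
    rw [hb k, pow_eq_zero_iff (by norm_num) |>.mp this]; simp

/-- Sign changes on two coordinates. -/
theorem sign_fix_two {y : GolayPt → ℤ} (hy : y ∈ leechLattice) (h1 : y none = 4 ∨ y none = -4)
    (h2 : y (some 0) = 4 ∨ y (some 0) = -4) (h0 : ∀ k, k ≠ none → k ≠ some 0 → y k = 0) :
    SameOrb y a0 := by
  have key : ∀ m ∈ codeList, (y none < 0 ↔ m.testBit 23 = true) →
      (y (some 0) < 0 ↔ m.testBit 0 = true) → SameOrb y a0 := by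
    intro m hm hb1 hb2
    have hc := (ofMask_mem_supports_iff (codeList_lt hm)).mpr hm
    have h3 := sameOrb_sign hc hy
    have e : signChange (ofMask m) y = a0 := by
      funext k
      simp only [signChange, mem_ofMask, a0, Pi.add_apply]
      by_cases hk : k = none
      · subst hk
        have : idx (none : GolayPt) = 23 := rfl
        rw [this]
        by_cases ht : m.testBit 23 = true
        · rw [if_pos ht]
          have := hb1.mpr ht
          rcases h1 with h | h <;> rw [h] at this ⊢ <;> simp at this ⊢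
        · rw [if_neg ht]
          have : ¬ y none < 0 := fun h => ht (hb1.mp h)
          rcases h1 with h | h <;> rw [h] at this ⊢ <;> simp at this ⊢
      · by_cases hk' : k = some 0
        · subst hk'
          have : idx (some 0 : GolayPt) = 0 := rfl
          rw [this]
          by_cases ht : m.testBit 0 = true
          · rw [if_pos ht]
            have := hb2.mpr ht
            rcases h2 with h | h <;> rw [h] at this ⊢ <;> simp at this ⊢
          · rw [if_neg ht]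
            have : ¬ y (some 0) < 0 := fun h => ht (hb2.mp h)
            rcases h2 with h | h <;> rw [h] at this ⊢ <;> simp at this ⊢
        · rw [h0 k hk hk']
          simp [Pi.single_eq_of_ne hk, Pi.single_eq_of_ne hk']
    rw [e] at h3; exact h3
  rcases h1 with h1 | h1 <;> rcases h2 with h2 | h2
  · apply key 0 (zero_mem_spanList _)
    · rw [h1]; simp
    · rw [h2]; simp
  · apply key mA mA_code
    · rw [h1]; constructor <;> intro h
      · omega
      · exact absurd h (by decide)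
    · rw [h2]; constructor <;> intro h
      · decide
      · omega
  · apply key (allMask ^^^ mA) mA'_code
    · rw [h1]; constructor <;> intro h
      · decide
      · omega
    · rw [h2]; constructor <;> intro h
      · omega
      · exact absurd h (by decide)
  · apply key allMask all_code
    · rw [h1]; constructor <;> intro h
      · decide
      · omega
    · rw [h2]; constructor <;> intro h
      · decide
      · omega

theorem min_four {x : GolayPt → ℤ} (hx : x ∈ leechLattice) (h4 : ∀ i, (4 : ℤ) ∣ x i)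
    (hN : sqNorm x = 32) : SameOrb x a0 := by
  obtain ⟨i, j, hij, hi, hj, h0⟩ := min_four_aux h4 hN
  obtain ⟨σ, hσ, hσi, hσj⟩ := Cfsg.Agent.Lib.Sporadic.M24Act.exists_map_two hij
    (show (none : GolayPt) ≠ some 0 by simp)
  have h1 := sameOrb_perm hσ hx
  refine h1.trans (sign_fix_two h1.right_mem ?_ ?_ ?_)
  · simp only [permV]
    rw [← hσi]; simpa using hi
  · simp only [permV]
    rw [← hσj]; simpa using hj
  · intro k hk hk'
    simp only [permV]
    apply h0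
    · intro h; apply hk; rw [← hσi, ← h]; simp
    · intro h; apply hk'; rw [← hσj, ← h]; simp

/-! ### Explicit connections by `ξ` -/

def a1L : List ℤ := rangeL fun i => if i = 23 ∨ i = 6 then 4 else 0
def xa1L : List ℤ := rangeL fun i => (matVec xiMat a1L).getD i 0 / 2
def b1L : List ℤ := rangeL fun i => if (10486557 : ℕ).testBit i then 2 else 0
def xb1L : List ℤ := rangeL fun i => (matVec xiMat b1L).getD i 0 / 2

theorem a1_ok : inLattice a1L = true := by decide +kernel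
theorem b1_ok : inLattice b1L = true := by decide +kernel

theorem a1_form : (∀ i, (4 : ℤ) ∣ vecOf a1L i) ∧ sqNorm (vecOf a1L) = 32 := by decide +kernel
theorem xa1_form : (∀ i, vecOf xa1L i % 2 = 0) ∧ wd (vecOf xa1L) (some 6) ≠ 0 ∧
    sqNorm (vecOf xa1L) = 32 := by decide +kernel
theorem b1_form : (∀ i, vecOf b1L i % 2 = 0) ∧ wd (vecOf b1L) (some 0) ≠ 0 ∧
    sqNorm (vecOf b1L) = 32 := by decide +kernel
theorem xb1_form : (∀ i, vecOf xb1L i % 2 = 1) ∧ sqNorm (vecOf xb1L) = 32 := by decide +kernel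

theorem wd_ne_zero_of {x : GolayPt → ℤ} {p : GolayPt} (h : wd x p ≠ 0) : wd x ≠ 0 := by
  intro h0; rw [h0] at h; exact h rfl

theorem a0_orb_b0 : SameOrb a0 b0 := by
  have h1 : SameOrb (vecOf a1L) a0 :=
    min_four (inLattice_sound a1_ok) a1_form.1 a1_form.2
  have h2 : SameOrb (vecOf a1L) (vecOf xa1L) := sameOrb_mat_vec xiMat_ok a1_ok
  have h3 : SameOrb (vecOf xa1L) b0 :=
    min_even_word h2.right_mem xa1_form.1 (wd_ne_zero_of xa1_form.2.1) xa1_form.2.2
  exact h1.symm.trans (h2.trans h3)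

theorem b0_orb_v0 : SameOrb b0 v0 := by
  have h1 : SameOrb (vecOf b1L) b0 :=
    min_even_word (inLattice_sound b1_ok) b1_form.1 (wd_ne_zero_of b1_form.2.1) b1_form.2.2
  have h2 : SameOrb (vecOf b1L) (vecOf xb1L) := sameOrb_mat_vec xiMat_ok b1_ok
  have h3 : SameOrb (vecOf xb1L) v0 :=
    min_odd h2.right_mem xb1_form.1 xb1_form.2
  exact h1.symm.trans (h2.trans h3)

/-- All minimal vectors are in the orbit of `v0`. -/
theorem min_orbit {x : GolayPt → ℤ} (hx : x ∈ leechLattice) (hN : sqNorm x = 32) : SameOrb x v0 := by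
  have hx' := hx
  rw [mem_leechLattice_iff] at hx'
  obtain ⟨m, hm, hp, hs, hw⟩ := hx'
  rcases hm with rfl | rfl
  · by_cases hw0 : wd x = 0
    · have h4 : ∀ i, (4 : ℤ) ∣ x i := by
        intro i
        have h1 := hp i
        have h2 : ¬ i ∈ support₂ (wd x) := by
          rw [mem_support₂, hw0]; simp
        rw [mem_support₂_wd] at h2
        omega
      exact (min_four hx h4 hN).trans (a0_orb_b0.trans b0_orb_v0)
    · exact (min_even_word hx hp hw0 hN).trans b0_orb_v0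
  · exact min_odd hx hp hN

/-- `Co0` is transitive on minimal vectors. -/
theorem co0_transitive_min (v w : leechLattice) (hv : sqNorm (v : GolayPt → ℤ) = 32)
    (hw : sqNorm (w : GolayPt → ℤ) = 32) : ∃ g : Co0, g • v = w := by
  have h1 := min_orbit v.2 hv
  have h2 := min_orbit w.2 hw
  obtain ⟨_, _, g, hg⟩ := h1.trans h2.symm
  exact ⟨g, hg⟩

end Cfsg.Agent.Lib.Sporadic.LeechMin
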