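import Mathlib
import Cfsg.Agent.Lib.Sporadic.LeechMin
import Cfsg.Agent.Lib.Sporadic.M24Dodecad

/-!
# Shapes of lattice vectors of small norm

For a vector `x`, `Ab x a` is the set of coordinates of absolute value `a`.  The sizes of these sets
satisfy linear relations (`card_sum`, `norm_sum`), from which the possible shapes are read off by
`omega`.  Sign normalisation: `flipGen`, `reduce_even`; `reduce_odd` for odd vectors.  Tables of
`M24` elements preserving a mask: `transCheck`.
-/

set_option autoImplicit false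

namespace Cfsg.Agent.Lib.Sporadic.LeechShape

open Cfsg Cfsg.Agent.Lib.Sporadic.GolayCore Cfsg.Agent.Lib.Sporadic.LeechBasic
  Cfsg.Agent.Lib.Sporadic.LeechNorm Cfsg.Agent.Lib.Sporadic.LeechFacts
  Cfsg.Agent.Lib.Sporadic.LeechAut Cfsg.Agent.Lib.Sporadic.LeechMat
  Cfsg.Agent.Lib.Sporadic.LeechOrb Cfsg.Agent.Lib.Sporadic.M24Chain
  Cfsg.Agent.Lib.Sporadic.M24Tbl Cfsg.Agent.Lib.Sporadic.M24Basic
open scoped Pointwise

/-! ### Orbits under subgroups -/

/-- Two lattice vectors in the same orbit of the subgroup `H`. -/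
def SameIn (H : Subgroup Co0) (x y : GolayPt → ℤ) : Prop :=
  ∃ (hx : x ∈ leechLattice) (hy : y ∈ leechLattice), ∃ g ∈ H, g • (⟨x, hx⟩ : leechLattice) = ⟨y, hy⟩

theorem SameIn.refl {H : Subgroup Co0} {x : GolayPt → ℤ} (hx : x ∈ leechLattice) : SameIn H x x :=
  ⟨hx, hx, 1, H.one_mem, one_smul _ _⟩

theorem SameIn.symm {H : Subgroup Co0} {x y : GolayPt → ℤ} (h : SameIn H x y) : SameIn H y x := by
  obtain ⟨hx, hy, g, hg, e⟩ := h
  refine ⟨hy, hx, g⁻¹, H.inv_mem hg, ?_⟩
  rw [← e, inv_smul_smul]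

theorem SameIn.trans {H : Subgroup Co0} {x y z : GolayPt → ℤ} (h : SameIn H x y) (h' : SameIn H y z) :
    SameIn H x z := by
  obtain ⟨hx, hy, g, hg, e⟩ := h
  obtain ⟨hy', hz, g', hg', e'⟩ := h'
  refine ⟨hx, hz, g' * g, H.mul_mem hg' hg, ?_⟩
  rw [mul_smul, e, ← e']

theorem SameIn.left_mem {H : Subgroup Co0} {x y : GolayPt → ℤ} (h : SameIn H x y) : x ∈ leechLattice := h.1

theorem SameIn.right_mem {H : Subgroup Co0} {x y : GolayPt → ℤ} (h : SameIn H x y) : y ∈ leechLattice :=
  h.2.1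

theorem SameIn.mono {H K : Subgroup Co0} (hHK : H ≤ K) {x y : GolayPt → ℤ} (h : SameIn H x y) :
    SameIn K x y := by
  obtain ⟨hx, hy, g, hg, e⟩ := h
  exact ⟨hx, hy, g, hHK hg, e⟩

theorem SameIn.orb {H : Subgroup Co0} {x y : GolayPt → ℤ} (h : SameIn H x y) : SameOrb x y := by
  obtain ⟨hx, hy, g, -, e⟩ := h
  exact ⟨hx, hy, g, e⟩

/-- The subgroup generated by sign changes and coordinate permutations. -/
def Mono : Subgroup Co0 :=
  Subgroup.closure ({g | ∃ (c : Finset GolayPt) (hc : c ∈ supports (golayCode : Set (GolayPt → ZMod 2))),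
      g = signCo0 c hc} ∪ {g | ∃ (σ : Equiv.Perm GolayPt) (hσ : σ ∈ M24), g = permCo0 σ hσ})

theorem signCo0_mem_Mono (c : Finset GolayPt)
    (hc : c ∈ supports (golayCode : Set (GolayPt → ZMod 2))) : signCo0 c hc ∈ Mono :=
  Subgroup.subset_closure (Or.inl ⟨c, hc, rfl⟩)

theorem permCo0_mem_Mono (σ : Equiv.Perm GolayPt) (hσ : σ ∈ M24) : permCo0 σ hσ ∈ Mono :=
  Subgroup.subset_closure (Or.inr ⟨σ, hσ, rfl⟩)

/-- Two lattice vectors in the same orbit of the monomial group. -/
abbrev SameM : (GolayPt → ℤ) → (GolayPt → ℤ) → Prop := SameIn Mono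

theorem sameM_sign {c : Finset GolayPt}
    (hc : c ∈ supports (golayCode : Set (GolayPt → ZMod 2))) {x : GolayPt → ℤ}
    (hx : x ∈ leechLattice) : SameM x (signChange c x) :=
  ⟨hx, signChange_mem hc hx, signCo0 c hc, signCo0_mem_Mono c hc, rfl⟩

theorem sameM_perm {σ : Equiv.Perm GolayPt} (hσ : σ ∈ M24) {x : GolayPt → ℤ}
    (hx : x ∈ leechLattice) : SameM x (permV σ x) :=
  ⟨hx, permV_mem hσ hx, permCo0 σ hσ, permCo0_mem_Mono σ hσ, rfl⟩

/-- A matrix in the subgroup, on an explicit vector. -/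
theorem sameIn_mat_vec {H : Subgroup Co0} {M : List (List ℤ)} {D : ℤ} (hM : matCheck M D = true)
    (hH : matCo0 hM ∈ H) {l : List ℤ} (hl : inLattice l = true) :
    SameIn H (vecOf l) (vecOf (rangeL fun i => (matVec M l).getD i 0 / D)) := by
  obtain ⟨hx, hy, hg⟩ := sameOrb_mat_vec hM hl
  refine ⟨hx, hy, matCo0 hM, hH, ?_⟩
  apply Subtype.ext
  have e : (fun k => matAct M (vecOf l) k / D) = vecOf (rangeL fun i => (matVec M l).getD i 0 / D) := by
    funext k
    rw [matAct_vecOf, vecOf_rangeL]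
    rfl
  exact e

/-- Coordinates of absolute value `a`. -/
def Ab (x : GolayPt → ℤ) (a : ℕ) : Finset GolayPt := Finset.univ.filter fun i => (x i).natAbs = a

theorem mem_Ab {x : GolayPt → ℤ} {a : ℕ} {i : GolayPt} : i ∈ Ab x a ↔ (x i).natAbs = a := by
  simp [Ab]

theorem natAbs_le_of_norm {x : GolayPt → ℤ} (h : sqNorm x ≤ 64) (i : GolayPt) : (x i).natAbs ≤ 8 := by
  have h1 : x i ^ 2 ≤ sqNorm x := by
    unfold sqNorm
    exact Finset.single_le_sum (f := fun i => x i ^ 2) (fun j _ => sq_nonneg (x j)) (Finset.mem_univ i)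
  have h2 : ((x i).natAbs : ℤ) ^ 2 = x i ^ 2 := Int.natAbs_sq _
  have h3 : ((x i).natAbs : ℤ) ^ 2 ≤ 64 := by omega
  have h4 : ((x i).natAbs : ℤ) ≤ 8 := by nlinarith [Int.natCast_nonneg (x i).natAbs]
  omega

theorem card_sum (x : GolayPt → ℤ) (hb : ∀ i, (x i).natAbs ≤ 8) :
    ∑ a ∈ Finset.range 9, (Ab x a).card = 24 := by
  have h := Finset.card_eq_sum_card_fiberwise (s := (Finset.univ : Finset GolayPt))
    (t := Finset.range 9) (f := fun i => (x i).natAbs)
    (fun i _ => by simp only [Finset.coe_range, Set.mem_Iio]; have := hb i; omega)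
  rw [Finset.card_univ, card_golayPt] at h
  exact h.symm

theorem norm_sum (x : GolayPt → ℤ) (hb : ∀ i, (x i).natAbs ≤ 8) :
    sqNorm x = ∑ a ∈ Finset.range 9, ((a : ℤ) ^ 2) * ((Ab x a).card : ℤ) := by
  have h := Finset.sum_fiberwise_of_maps_to (s := (Finset.univ : Finset GolayPt))
    (t := Finset.range 9) (g := fun i => (x i).natAbs)
    (fun i _ => by simp only [Finset.mem_range]; have := hb i; omega) (fun i => x i ^ 2)
  unfold sqNorm
  rw [← h]
  apply Finset.sum_congr rfl
  intro a _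
  have : ∀ i ∈ Finset.univ.filter (fun i => (x i).natAbs = a), x i ^ 2 = (a : ℤ) ^ 2 := by
    intro i hi
    rw [← Int.natAbs_sq, (Finset.mem_filter.1 hi).2]
  rw [Finset.sum_congr rfl this, Finset.sum_const, nsmul_eq_mul]
  unfold Ab
  ring

theorem Ab_card_bound (x : GolayPt → ℤ) (hN : sqNorm x ≤ 64) (a : ℕ) (ha : a ≠ 0) :
    ((a : ℤ) ^ 2) * ((Ab x a).card : ℤ) ≤ sqNorm x := by
  have h := sqNorm_nonneg x
  unfold sqNorm Ab
  have : ∀ i ∈ Finset.univ.filter (fun i => (x i).natAbs = a), x i ^ 2 = (a : ℤ) ^ 2 := by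
    intro i hi
    rw [← Int.natAbs_sq, (Finset.mem_filter.1 hi).2]
  rw [mul_comm, ← nsmul_eq_mul, ← Finset.sum_const]
  rw [← Finset.sum_congr rfl this]
  exact Finset.sum_le_sum_of_subset_of_nonneg (Finset.filter_subset _ _) (fun i _ _ => sq_nonneg _)

/-- The relations for even vectors. -/
theorem even_relations {x : GolayPt → ℤ} (hx : x ∈ leechLattice) (h2 : ∀ i, x i % 2 = 0)
    (hN : sqNorm x ≤ 64) :
    (Ab x 1).card = 0 ∧ (Ab x 3).card = 0 ∧ (Ab x 5).card = 0 ∧ (Ab x 7).card = 0 ∧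
    (4 ∣ (Ab x 2).card + (Ab x 6).card) ∧
    ((Ab x 2).card + (Ab x 6).card = 0 ∨ 8 ≤ (Ab x 2).card + (Ab x 6).card) ∧
    support₂ (wd x) = Ab x 2 ∪ Ab x 6 := by
  have hb := natAbs_le_of_norm hN
  have hodd : ∀ a : ℕ, a % 2 = 1 → (Ab x a).card = 0 := by
    intro a ha
    rw [Finset.card_eq_zero, Finset.eq_empty_iff_forall_notMem]
    intro i hi
    have h3 := mem_Ab.1 hi
    have h4 := h2 i
    omega
  have hS : support₂ (wd x) = Ab x 2 ∪ Ab x 6 := by
    ext i
    rw [mem_support₂_wd, Finset.mem_union, mem_Ab, mem_Ab]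
    have h3 := hb i
    have h4 := h2 i
    omega
  have hd : Disjoint (Ab x 2) (Ab x 6) := by
    rw [Finset.disjoint_left]
    intro i hi hi'
    have h3 := mem_Ab.1 hi
    have h4 := mem_Ab.1 hi'
    omega
  have hc : (support₂ (wd x)).card = (Ab x 2).card + (Ab x 6).card := by
    rw [hS, Finset.card_union_of_disjoint hd]
  have hx' := hx
  rw [mem_leechLattice_iff] at hx'
  obtain ⟨m, -, -, -, hw⟩ := hx'
  refine ⟨hodd 1 rfl, hodd 3 rfl, hodd 5 rfl, hodd 7 rfl, ?_, ?_, hS⟩
  · rw [← hc]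
    exact code_four_dvd _ hw
  · rw [← hc]
    by_cases h0 : wd x = 0
    · left
      rw [h0]
      simp [support₂]
    · right
      exact code_min_eight _ hw h0

/-- The relations for odd vectors. -/
theorem odd_relations {x : GolayPt → ℤ} (hodd : ∀ i, x i % 2 = 1) :
    (Ab x 0).card = 0 ∧ (Ab x 2).card = 0 ∧ (Ab x 4).card = 0 ∧ (Ab x 6).card = 0 ∧
    (Ab x 8).card = 0 := by
  have h : ∀ a : ℕ, a % 2 = 0 → (Ab x a).card = 0 := by
    intro a ha
    rw [Finset.card_eq_zero, Finset.eq_empty_iff_forall_notMem]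
    intro i hi
    have h3 := mem_Ab.1 hi
    have h4 := hodd i
    omega
  exact ⟨h 0 rfl, h 2 rfl, h 4 rfl, h 6 rfl, h 8 rfl⟩

/-- Expanded relations. -/
theorem rel_expand (x : GolayPt → ℤ) (hb : ∀ i, (x i).natAbs ≤ 8) :
    (Ab x 0).card + (Ab x 1).card + (Ab x 2).card + (Ab x 3).card + (Ab x 4).card + (Ab x 5).card +
      (Ab x 6).card + (Ab x 7).card + (Ab x 8).card = 24 ∧
    sqNorm x = (Ab x 1).card + 4 * (Ab x 2).card + 9 * (Ab x 3).card + 16 * (Ab x 4).card +
      25 * (Ab x 5).card + 36 * (Ab x 6).card + 49 * (Ab x 7).card + 64 * (Ab x 8).card := by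
  have h1 := card_sum x hb
  have h2 := norm_sum x hb
  simp only [Finset.sum_range_succ, Finset.sum_range_zero] at h1 h2
  constructor
  · omega
  · rw [h2]
    push_cast
    ring

/-! ### Moving by permutations -/

theorem Ab_permV (σ : Equiv.Perm GolayPt) (x : GolayPt → ℤ) (a : ℕ) :
    Ab (permV σ x) a = σ • Ab x a := by
  ext i
  rw [mem_smul_iff_inv, mem_Ab, mem_Ab]
  rfl

theorem permV_even {σ : Equiv.Perm GolayPt} {x : GolayPt → ℤ} (h : ∀ i, x i % 2 = 0) (i : GolayPt) :
    permV σ x i % 2 = 0 := h _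

theorem permV_odd4 {σ : Equiv.Perm GolayPt} {x : GolayPt → ℤ} (h : ∀ i, x i % 4 = 1) (i : GolayPt) :
    permV σ x i % 4 = 1 := h _

theorem natAbs_permV_le {σ : Equiv.Perm GolayPt} {x : GolayPt → ℤ} (h : ∀ i, (x i).natAbs ≤ 8)
    (i : GolayPt) : (permV σ x i).natAbs ≤ 8 := h _

/-! ### Sign normalisation -/

/-- Sign normalisation for even vectors with prescribed absolute values. -/
theorem flipGen {r : GolayPt → ℤ} (hr : r ∈ leechLattice) (hr2 : ∀ i, r i % 2 = 0)
    {E A : Finset GolayPt} (hE : ∀ i, i ∈ E ↔ r i ≠ 0) (hA : ∀ i, i ∈ A ↔ r i % 4 = 2)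
    (hpair : ∀ p ∈ A, ∀ q ∈ A, p ≠ q → ∃ c ∈ supports (golayCode : Set (GolayPt → ZMod 2)),
      c ∩ E = {p, q})
    (hsing : ∀ p ∈ E, p ∉ A → ∃ c ∈ supports (golayCode : Set (GolayPt → ZMod 2)), c ∩ E = {p}) :
    ∀ y ∈ leechLattice, (∀ i, (y i).natAbs = (r i).natAbs) → SameM y r := by
  intro y
  induction' hn : (Finset.univ.filter fun i => y i ≠ r i).card using Nat.strong_induction_on with n ih
    generalizing y
  intro hy habs
  by_cases hK : y = r
  · rw [hK]; exact SameIn.refl hr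
  have hbad : ∃ p, y p ≠ r p := by
    by_contra hc
    push Not at hc
    exact hK (funext hc)
  have hflip : ∀ i, y i ≠ r i → y i = - r i := by
    intro i hi
    have := habs i
    omega
  have hbE : ∀ i, y i ≠ r i → i ∈ E := by
    intro i hi
    rw [hE]
    intro h0
    apply hi
    have := habs i
    omega
  have hE0 : ∀ i, i ∉ E → y i = 0 := by
    intro i hi
    rw [hE] at hi
    push Not at hi
    have := habs i
    omega
  -- one step of sign change
  have step : ∀ c ∈ supports (golayCode : Set (GolayPt → ZMod 2)), ∀ B : Finset GolayPt,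
      c ∩ E = B → B.Nonempty → (∀ i ∈ B, y i ≠ r i) → SameM y r := by
    intro c hc B hcE hne hB
    have h3 := sameM_sign hc hy
    have hmem : ∀ i, i ∈ E → (i ∈ c ↔ i ∈ B) := by
      intro i hi
      rw [← hcE, Finset.mem_inter]
      tauto
    have habs' : ∀ i, (signChange c y i).natAbs = (r i).natAbs := by
      intro i
      simp only [signChange]
      have := habs i
      split_ifs <;> omega
    have hsub : (Finset.univ.filter fun i => signChange c y i ≠ r i) ⊂
        (Finset.univ.filter fun i => y i ≠ r i) := by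
      rw [Finset.ssubset_iff_of_subset]
      · obtain ⟨b, hb⟩ := hne
        refine ⟨b, ?_, ?_⟩
        · exact Finset.mem_filter.2 ⟨Finset.mem_univ _, hB b hb⟩
        · have hbE' : b ∈ E := (Finset.mem_inter.1 (hcE ▸ hb)).2
          have hbc : b ∈ c := (hmem b hbE').2 hb
          intro hh
          have h6 := (Finset.mem_filter.1 hh).2
          apply h6
          simp only [signChange, if_pos hbc]
          have := hflip b (hB b hb)
          omega
      · intro i hi
        have hi' := (Finset.mem_filter.1 hi).2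
        refine Finset.mem_filter.2 ⟨Finset.mem_univ _, ?_⟩
        intro hy'
        apply hi'
        simp only [signChange]
        split_ifs with hic
        · by_cases hiE : i ∈ E
          · have hiB := (hmem i hiE).1 hic
            exact absurd hy' (hB i hiB)
          · rw [hE0 i hiE]
            have : r i = 0 := by
              have h5 := hE0 i hiE
              rw [← hy', h5]
            rw [this]
            simp
        · exact hy'
    have hcard := Finset.card_lt_card hsub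
    rw [hn] at hcard
    exact h3.trans (ih _ hcard _ rfl h3.right_mem habs')
  by_cases hex : ∃ p, y p ≠ r p ∧ p ∉ A
  · obtain ⟨p, hp, hpA⟩ := hex
    obtain ⟨c, hc, hcE⟩ := hsing p (hbE p hp) hpA
    exact step c hc {p} hcE ⟨p, Finset.mem_singleton_self p⟩ (by
      intro i hi
      rw [Finset.mem_singleton] at hi
      rw [hi]
      exact hp)
  · push Not at hex
    -- all bad coordinates are in `A`
    have hsum : ∑ i, (r i - y i) = ∑ i, (if y i ≠ r i then 2 * r i else 0) := by
      apply Finset.sum_congr rfl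
      intro i _
      split_ifs with h
      · rw [hflip i h]; ring
      · have : y i = r i := by
          by_contra hh; exact h hh
        rw [this]; ring
    set B := Finset.univ.filter fun i => y i ≠ r i with hBdef
    have hsum2 : ∑ i, (if y i ≠ r i then 2 * r i else 0) = ∑ i ∈ B, 2 * r i := by
      rw [Finset.sum_filter]
    have hmod : ∀ i ∈ B, ∃ t, 2 * r i = 4 + 8 * t := by
      intro i hi
      have h3 := hex i (by simpa [hBdef] using hi)
      rw [hA] at h3
      exact ⟨(r i - 2) / 4, by omega⟩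
    have hsumB : ∃ t, ∑ i ∈ B, 2 * r i = 4 * (B.card : ℤ) + 8 * t := by
      choose! t ht using hmod
      refine ⟨∑ i ∈ B, t i, ?_⟩
      rw [Finset.sum_congr rfl ht, Finset.sum_add_distrib, Finset.sum_const, Finset.mul_sum]
      simp only [nsmul_eq_mul]
      push_cast
      ring
    obtain ⟨t, ht⟩ := hsumB
    have hrs : (8 : ℤ) ∣ ∑ i, r i := by
      rw [mem_leechLattice_iff] at hr
      obtain ⟨m, hm, hp, hs, _⟩ := hr
      have hm0 : m = 0 := by rw [← hp none, hr2 none]
      subst hm0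
      omega
    have hys : (8 : ℤ) ∣ ∑ i, y i := by
      have hy2 : ∀ i, y i % 2 = 0 := by
        intro i
        have h3 := habs i
        have h4 := hr2 i
        omega
      rw [mem_leechLattice_iff] at hy
      obtain ⟨m, hm, hp, hs, _⟩ := hy
      have hm0 : m = 0 := by rw [← hp none, hy2 none]
      subst hm0
      omega
    have heven : (2 : ℤ) ∣ (B.card : ℤ) := by
      have h5 : ∑ i, (r i - y i) = ∑ i, r i - ∑ i, y i := Finset.sum_sub_distrib _ _
      rw [hsum, hsum2, ht] at h5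
      omega
    have hBne : B.card ≠ 0 := by
      obtain ⟨p, hp⟩ := hbad
      have : p ∈ B := by simp [hBdef, hp]
      exact Finset.card_ne_zero_of_mem this
    have hB2 : 1 < B.card := by omega
    obtain ⟨p, hp, q, hq, hpq⟩ := Finset.one_lt_card.mp hB2
    have hp' : y p ≠ r p := by simpa [hBdef] using hp
    have hq' : y q ≠ r q := by simpa [hBdef] using hq
    obtain ⟨c, hc, hcE⟩ := hpair p (hex p hp') q (hex q hq') hpq
    refine step c hc {p, q} hcE ⟨p, by simp⟩ ?_
    intro i hi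
    simp only [Finset.mem_insert, Finset.mem_singleton] at hi
    rcases hi with rfl | rfl
    · exact hp'
    · exact hq'

/-! ### Patterns -/

/-- The odd pattern with `-3` and `5` on two masks, `1` elsewhere. -/
def patOdd (a3 a5 : ℕ) : List ℤ :=
  rangeL fun i => if a3.testBit i then -3 else if a5.testBit i then 5 else 1

theorem patOdd_apply (a3 a5 : ℕ) (p : GolayPt) :
    vecOf (patOdd a3 a5) p = if p ∈ ofMask a3 then -3 else if p ∈ ofMask a5 then 5 else 1 := by
  unfold patOdd
  rw [vecOf_rangeL]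
  simp only [mem_ofMask]

/-- Check that sign flips are available on `E` (support) with `A` (the coordinates `≡ 2 mod 4`). -/
def flipOK (E A : ℕ) : Bool :=
  (List.range 24).all fun p => (List.range 24).all fun q =>
    !(A.testBit p) || !(A.testBit q) || p == q || pairExists E p q

def singOK (E A : ℕ) : Bool :=
  (List.range 24).all fun p => !(E.testBit p) || A.testBit p || pairExists E p p

theorem pairExists_sound {E p q : ℕ} (h : pairExists E p q = true) :
    ∃ c ∈ supports (golayCode : Set (GolayPt → ZMod 2)),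
      ∀ k, k ∈ c ∩ ofMask E ↔ (idx k = p ∨ idx k = q) := by
  obtain ⟨m, hm, hw⟩ := List.any_eq_true.mp h
  refine ⟨ofMask m, (ofMask_mem_supports_iff (codeList_lt hm)).mpr hm, ?_⟩
  intro k
  simp only [pairWitness, List.all_eq_true, List.mem_range, beq_iff_eq] at hw
  have h3 := hw _ (idx_lt k)
  rw [Finset.mem_inter, mem_ofMask, mem_ofMask]
  rw [Nat.testBit_and] at h3
  cases h4 : m.testBit (idx k) <;> cases h5 : E.testBit (idx k) <;> simp [h4, h5] at h3 ⊢ <;> tauto

theorem flip_pair_of_check {E A : ℕ} (h : flipOK E A = true) :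
    ∀ p ∈ ofMask A, ∀ q ∈ ofMask A, p ≠ q → ∃ c ∈ supports (golayCode : Set (GolayPt → ZMod 2)),
      c ∩ ofMask E = {p, q} := by
  intro p hp q hq hpq
  rw [mem_ofMask] at hp hq
  simp only [flipOK, List.all_eq_true, List.mem_range] at h
  have h1 := h _ (idx_lt p) _ (idx_lt q)
  have hne : idx p ≠ idx q := fun h => hpq (idx_injective h)
  simp only [hp, hq, Bool.not_true, Bool.false_or] at h1
  have h3 : (idx p == idx q) = false := by simpa using hne
  rw [h3, Bool.false_or] at h1
  obtain ⟨c, hc, hk⟩ := pairExists_sound h1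
  refine ⟨c, hc, ?_⟩
  ext k
  rw [hk, Finset.mem_insert, Finset.mem_singleton]
  constructor
  · rintro (h | h)
    · left; exact idx_injective h
    · right; exact idx_injective h
  · rintro (h | h)
    · left; rw [h]
    · right; rw [h]

theorem flip_sing_of_check {E A : ℕ} (h : singOK E A = true) :
    ∀ p ∈ ofMask E, p ∉ ofMask A → ∃ c ∈ supports (golayCode : Set (GolayPt → ZMod 2)),
      c ∩ ofMask E = {p} := by
  intro p hp hpA
  rw [mem_ofMask] at hp hpA
  simp only [singOK, List.all_eq_true, List.mem_range] at h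
  have h1 := h _ (idx_lt p)
  simp only [hp, Bool.not_true, Bool.false_or, hpA, Bool.false_eq_true, ] at h1
  have h2 : pairExists E (idx p) (idx p) = true := by
    cases h4 : A.testBit (idx p)
    · simpa [h4] using h1
    · exact absurd h4 hpA
  obtain ⟨c, hc, hk⟩ := pairExists_sound h2
  refine ⟨c, hc, ?_⟩
  ext k
  rw [hk, Finset.mem_singleton]
  constructor
  · rintro (h | h) <;> exact idx_injective h
  · intro h; left; rw [h]

/-- The pattern of absolute values. -/
def absPat (a2 a4 a6 a8 : ℕ) (i : ℕ) : ℕ :=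
  if a2.testBit i then 2 else if a4.testBit i then 4 else if a6.testBit i then 6
    else if a8.testBit i then 8 else 0

/-- Full check for a representative. -/
def patOK (l : List ℤ) (a2 a4 a6 a8 : ℕ) : Bool :=
  inLattice l && (List.range 24).all (fun i => decide (l.getD i 0 % 2 = 0)) &&
  (List.range 24).all (fun i => decide ((l.getD i 0).natAbs = absPat a2 a4 a6 a8 i)) &&
  (List.range 24).all (fun i => (a2 ||| a6).testBit i == decide (l.getD i 0 % 4 = 2)) &&
  (List.range 24).all (fun i => (a2 ||| a4 ||| a6 ||| a8).testBit i == decide (l.getD i 0 ≠ 0)) &&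
  flipOK (a2 ||| a4 ||| a6 ||| a8) (a2 ||| a6) && singOK (a2 ||| a4 ||| a6 ||| a8) (a2 ||| a6)

theorem reduce_even {l : List ℤ} {a2 a4 a6 a8 : ℕ} (h : patOK l a2 a4 a6 a8 = true) {y : GolayPt → ℤ}
    (hy : y ∈ leechLattice) (hy2 : ∀ i, y i % 2 = 0) (hb : ∀ i, (y i).natAbs ≤ 8)
    (h2 : Ab y 2 = ofMask a2) (h4 : Ab y 4 = ofMask a4) (h6 : Ab y 6 = ofMask a6)
    (h8 : Ab y 8 = ofMask a8) : SameM y (vecOf l) := by
  simp only [patOK, Bool.and_eq_true, decide_eq_true_eq, List.all_eq_true, List.mem_range,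
    beq_iff_eq] at h
  obtain ⟨⟨⟨⟨⟨⟨hL, hev⟩, habs⟩, hA⟩, hE⟩, hf⟩, hs⟩ := h
  apply flipGen (inLattice_sound hL) (E := ofMask (a2 ||| a4 ||| a6 ||| a8)) (A := ofMask (a2 ||| a6))
  · intro i; exact hev _ (idx_lt i)
  · intro i
    rw [mem_ofMask, hE _ (idx_lt i), decide_eq_true_eq]
    rfl
  · intro i
    rw [mem_ofMask, hA _ (idx_lt i), decide_eq_true_eq]
    rfl
  · exact flip_pair_of_check hf
  · exact flip_sing_of_check hs
  · exact hy
  · intro i
    have h1 : (vecOf l i).natAbs = absPat a2 a4 a6 a8 (idx i) := habs _ (idx_lt i)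
    rw [h1]
    have e2 : a2.testBit (idx i) = true ↔ (y i).natAbs = 2 := by
      rw [← mem_ofMask, ← h2, mem_Ab]
    have e4 : a4.testBit (idx i) = true ↔ (y i).natAbs = 4 := by
      rw [← mem_ofMask, ← h4, mem_Ab]
    have e6 : a6.testBit (idx i) = true ↔ (y i).natAbs = 6 := by
      rw [← mem_ofMask, ← h6, mem_Ab]
    have e8 : a8.testBit (idx i) = true ↔ (y i).natAbs = 8 := by
      rw [← mem_ofMask, ← h8, mem_Ab]
    unfold absPat
    simp only [e2, e4, e6, e8]
    have h3 := hb i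
    have h5 := hy2 i
    split_ifs <;> omega

/-- Reduction after a permutation. -/
theorem via_perm {l : List ℤ} {a2 a4 a6 a8 : ℕ} (h : patOK l a2 a4 a6 a8 = true) {x : GolayPt → ℤ}
    (hx : x ∈ leechLattice) (hx2 : ∀ i, x i % 2 = 0) (hb : ∀ i, (x i).natAbs ≤ 8)
    {σ : Equiv.Perm GolayPt} (hσ : σ ∈ M24)
    (e2 : σ • Ab x 2 = ofMask a2) (e4 : σ • Ab x 4 = ofMask a4) (e6 : σ • Ab x 6 = ofMask a6)
    (e8 : σ • Ab x 8 = ofMask a8) : SameM x (vecOf l) :=
  (sameM_perm hσ hx).trans (reduce_even h (permV_mem hσ hx) (permV_even hx2)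
    (natAbs_permV_le hb) (by rw [Ab_permV, e2]) (by rw [Ab_permV, e4]) (by rw [Ab_permV, e6])
    (by rw [Ab_permV, e8]))

/-- Odd vectors with coordinates `≡ 1 mod 4` are determined by two sets. -/
theorem reduce_odd {a3 a5 : ℕ} {y : GolayPt → ℤ} (hy4 : ∀ i, y i % 4 = 1) (hb : ∀ i, (y i).natAbs ≤ 8)
    (h3 : Ab y 3 = ofMask a3) (h5 : Ab y 5 = ofMask a5) (h7 : Ab y 7 = ∅) :
    y = vecOf (patOdd a3 a5) := by
  funext i
  rw [patOdd_apply, ← h3, ← h5]
  simp only [mem_Ab]
  have h1 := hb i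
  have h2 := hy4 i
  have h6 : i ∉ Ab y 7 := by rw [h7]; simp
  rw [mem_Ab] at h6
  split_ifs <;> omega

/-- Absolute values under a sign change. -/
theorem Ab_signChange (c : Finset GolayPt) (x : GolayPt → ℤ) (a : ℕ) : Ab (signChange c x) a = Ab x a := by
  ext i
  rw [mem_Ab, mem_Ab]
  simp only [signChange]
  split_ifs <;> omega

/-- Odd vectors with prescribed sets of large coordinates. -/
theorem odd_via_sets {a3 a5 : ℕ} {x : GolayPt → ℤ} (hx : x ∈ leechLattice) (hodd : ∀ i, x i % 2 = 1)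
    (hb : ∀ i, (x i).natAbs ≤ 8) {σ : Equiv.Perm GolayPt} (hσ : σ ∈ M24)
    (e3 : σ • Ab x 3 = ofMask a3) (e5 : σ • Ab x 5 = ofMask a5) (e7 : Ab x 7 = ∅) :
    SameM x (vecOf (patOdd a3 a5)) := by
  obtain ⟨c, hc, h4⟩ := odd_normal hx hodd
  have h1 := sameM_sign hc hx
  set y := signChange c x with hy
  have hyL : y ∈ leechLattice := h1.right_mem
  have h2 := sameM_perm hσ hyL
  have hb' : ∀ i, (y i).natAbs ≤ 8 := by
    intro i
    rw [hy]
    simp only [signChange]
    have := hb i
    split_ifs <;> omega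
  have e : permV σ y = vecOf (patOdd a3 a5) := by
    apply reduce_odd (permV_odd4 h4) (natAbs_permV_le hb')
    · rw [Ab_permV, hy, Ab_signChange, e3]
    · rw [Ab_permV, hy, Ab_signChange, e5]
    · rw [Ab_permV, hy, Ab_signChange, e7]
      simp
  rw [e] at h2
  exact h1.trans h2

/-! ### Tables preserving a mask -/

/-- Check a list of elements of `M24` preserving the mask `E`, fixing the list of points `fix`, and
moving every point of `src` to `p0`. -/
def transCheck (E : ℕ) (fix src : List ℕ) (p0 : ℕ) (tbls : List (List ℕ)) : Bool :=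
  tbls.all (fun T => goodT T && (applyT T E == E) && fix.all (fun f => T.getD f 0 == f)) &&
  src.all (fun p => tbls.any (fun T => T.getD p 0 == p0))

theorem of_transCheck {E : ℕ} {fix src : List ℕ} {p0 : ℕ} {tbls : List (List ℕ)}
    (h : transCheck E fix src p0 tbls = true) {p : GolayPt} (hp : idx p ∈ src) :
    ∃ σ ∈ M24, σ • ofMask E = ofMask E ∧ (∀ f ∈ fix, f < 24 → σ (pt f) = pt f) ∧ σ p = pt p0 := by
  simp only [transCheck, Bool.and_eq_true, List.all_eq_true, List.any_eq_true, beq_iff_eq] at h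
  obtain ⟨h1, h2⟩ := h
  obtain ⟨T, hT, hTp⟩ := h2 _ hp
  obtain ⟨⟨hg, hE⟩, hfix⟩ := h1 T hT
  refine ⟨gPerm T hg, gPerm_mem hg, ?_, ?_, ?_⟩
  · rw [Cfsg.Agent.Lib.Sporadic.M24Dodecad.gPerm_smul_ofMask, hE]
  · intro f hf hf24
    rw [gPerm_pt hg hf24, hfix f hf]
  · have := gPerm_pt hg (idx_lt p)
    rw [pt_idx, hTp] at this
    exact this

end Cfsg.Agent.Lib.Sporadic.LeechShape
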