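import Mathlib
import Cfsg.Agent.Lib.Sporadic.LeechShape

/-!
# Configurations of `M24`: octads and dodecads with extra points; the shapes of vectors of
norms `48` and `64`.
-/

set_option autoImplicit false

namespace Cfsg.Agent.Lib.Sporadic.LeechConfig

open Cfsg Cfsg.Agent.Lib.Sporadic.GolayCore Cfsg.Agent.Lib.Sporadic.LeechBasic
  Cfsg.Agent.Lib.Sporadic.LeechNorm Cfsg.Agent.Lib.Sporadic.LeechFacts
  Cfsg.Agent.Lib.Sporadic.LeechAut Cfsg.Agent.Lib.Sporadic.LeechMat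
  Cfsg.Agent.Lib.Sporadic.LeechOrb Cfsg.Agent.Lib.Sporadic.M24Chain
  Cfsg.Agent.Lib.Sporadic.M24Tbl Cfsg.Agent.Lib.Sporadic.M24Basic
  Cfsg.Agent.Lib.Sporadic.LeechShape Cfsg.Agent.Lib.Sporadic.M24Act
  Cfsg.Agent.Lib.Sporadic.M24Dodecad
open scoped Pointwise

def outerL : List ℕ := [4, 6, 7, 8, 9, 10, 11, 12, 13, 15, 16, 18, 19, 20, 21, 22]
def innerL : List ℕ := [0, 1, 2, 3, 5, 14, 17, 23]
def doutL : List ℕ := [4, 5, 10, 11, 13, 16, 17, 18, 19, 20, 21, 22]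

def tblIn : List (List ℕ) := [
  [0,1,2,3,4,5,6,7,8,9,10,11,12,13,14,15,16,17,18,19,20,21,22,23],
  [2,0,1,3,7,14,20,12,11,18,10,21,4,8,5,6,9,23,15,22,16,19,13,17],
  [23,1,0,5,16,3,15,19,6,7,10,4,12,21,14,22,20,2,9,18,11,13,8,17],
  [14,23,1,0,4,5,16,18,8,6,10,15,21,7,3,22,9,17,13,19,12,20,11,2],
  [5,3,2,1,12,0,20,16,7,19,18,10,22,4,17,15,9,23,11,21,13,8,6,14],
  [3,14,23,5,18,17,8,6,20,9,16,13,10,21,0,22,12,1,4,19,15,11,7,2],
  [3,5,17,14,15,23,11,20,16,18,9,8,10,19,2,13,4,0,7,22,6,21,12,1],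
  [5,17,2,1,12,14,20,9,13,15,10,18,11,4,3,19,16,23,22,21,7,6,8,0]]

def tblOut : List (List ℕ) := [
  [0,1,2,3,4,5,6,7,8,9,10,11,12,13,14,15,16,17,18,19,20,21,22,23],
  [2,3,5,0,11,14,4,21,13,22,19,20,12,6,1,9,16,23,7,10,8,18,15,17],
  [23,3,0,5,13,14,9,4,20,19,18,6,12,11,17,10,7,1,16,21,22,8,15,2],
  [14,23,2,17,11,3,7,15,4,19,10,22,18,12,1,21,16,0,8,6,9,20,13,5],
  [5,0,2,14,12,17,13,10,6,4,20,7,18,11,1,22,19,23,8,16,15,9,21,3],
  [17,1,2,0,11,14,20,15,13,22,4,19,21,10,23,7,9,3,16,8,6,18,12,5],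
  [23,1,0,5,16,3,15,19,6,7,10,4,12,21,14,22,20,2,9,18,11,13,8,17],
  [2,0,1,3,7,14,20,12,11,18,10,21,4,8,5,6,9,23,15,22,16,19,13,17],
  [5,17,2,1,12,14,20,9,13,15,10,18,11,4,3,19,16,23,22,21,7,6,8,0],
  [1,0,14,3,19,2,8,18,9,11,12,7,6,20,23,4,15,17,10,13,22,16,21,5],
  [3,5,17,14,15,23,11,20,16,18,9,8,10,19,2,13,4,0,7,22,6,21,12,1],
  [3,14,23,5,18,17,8,6,20,9,16,13,10,21,0,22,12,1,4,19,15,11,7,2],
  [2,14,3,17,12,5,22,19,8,6,16,18,10,11,0,7,15,23,9,4,13,21,20,1],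
  [14,1,2,17,11,5,7,16,9,21,22,10,8,12,23,19,15,0,18,6,4,13,20,3],
  [0,17,5,14,16,1,19,21,20,9,10,12,11,6,3,8,7,2,15,22,18,4,13,23],
  [17,0,23,1,16,5,9,20,19,6,21,12,8,10,2,18,15,14,7,13,11,22,4,3]]

def tblOut2 : List (List ℕ) := [
  [0,1,2,3,4,5,6,7,8,9,10,11,12,13,14,15,16,17,18,19,20,21,22,23],
  [23,17,14,2,4,1,10,6,12,15,21,18,16,13,5,9,8,3,22,20,7,19,11,0],
  [3,17,14,5,4,0,11,13,6,12,16,18,22,15,1,19,7,23,20,21,10,9,8,2],
  [1,14,3,5,4,17,8,7,16,6,18,22,20,13,23,19,9,2,10,11,12,21,15,0],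
  [14,5,2,3,4,17,16,12,10,20,6,21,9,18,1,7,22,0,19,11,15,13,8,23],
  [0,23,3,17,4,5,21,15,8,18,16,6,10,20,2,7,19,14,13,12,9,22,11,1],
  [14,5,2,3,4,17,13,9,21,19,12,18,6,10,0,8,16,23,11,20,7,22,15,1],
  [17,2,0,5,4,23,15,12,11,7,16,10,8,6,1,22,13,14,20,18,21,9,19,3],
  [23,0,5,14,4,1,18,9,12,7,16,11,20,22,3,6,21,2,15,8,13,10,19,17],
  [2,14,0,17,4,23,16,9,11,15,22,13,10,8,3,7,6,5,19,12,18,21,20,1],
  [0,5,3,23,4,1,8,13,10,16,18,22,12,9,14,20,7,2,6,21,19,15,11,17],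
  [5,23,17,1,4,3,22,11,21,8,16,13,18,7,0,15,10,2,20,6,19,9,12,14],
  [0,5,1,17,4,23,21,20,16,7,10,18,13,11,3,9,22,2,8,15,6,19,12,14],
  [2,17,1,3,4,0,13,20,18,15,16,22,9,8,14,7,19,5,21,11,12,6,10,23],
  [2,23,14,1,4,0,22,7,18,12,9,10,11,21,5,20,16,3,15,19,8,13,6,17]]

def tblDod : List (List ℕ) := [
  [0,1,2,3,4,5,6,7,8,9,10,11,12,13,14,15,16,17,18,19,20,21,22,23],
  [8,3,12,1,21,4,15,2,9,7,17,18,6,11,14,0,20,16,22,5,19,10,13,23],
  [2,9,0,8,21,11,1,23,12,7,4,17,3,22,14,6,19,5,18,10,16,20,13,15],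
  [1,2,8,15,21,19,12,23,6,9,13,4,14,5,3,7,10,16,20,11,17,18,22,0],
  [15,23,8,12,20,10,14,1,0,7,19,22,6,4,3,9,16,5,17,13,18,21,11,2],
  [14,0,7,9,17,10,2,15,12,3,21,20,23,16,6,8,4,5,13,18,11,22,19,1],
  [1,7,12,3,11,10,9,6,15,14,5,17,23,21,0,8,13,4,16,18,19,20,22,2],
  [8,2,12,0,10,11,3,6,15,14,19,22,9,16,23,7,20,18,4,21,5,17,13,1],
  [15,2,23,6,20,11,0,14,1,8,5,17,7,13,9,3,18,21,16,4,10,19,22,12],
  [1,6,7,2,19,20,3,23,8,14,21,16,0,17,9,15,10,18,22,11,4,5,13,12],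
  [8,12,23,15,5,20,14,3,0,7,10,11,2,17,6,9,13,19,18,16,21,4,22,1],
  [9,15,14,8,21,5,23,3,7,6,19,10,12,18,0,1,20,11,13,16,17,22,4,2]]

theorem trans_in : transCheck octad0 [] innerL 0 tblIn = true := by decide +kernel
theorem trans_out : transCheck octad0 [] outerL 4 tblOut = true := by decide +kernel
theorem trans_out2 : transCheck octad0 [4] (outerL.filter (· != 4)) 6 tblOut2 = true := by decide +kernel
theorem trans_dod : transCheck dod0 [] doutL 4 tblDod = true := by decide +kernel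

def planesL : List ℕ := [5279, 10558, 18147, 21116, 45159, 52005, 57883, 75309, 90318, 115766, 118953, 133817, 138790, 140167, 150618, 153797, 157028, 180636, 185603, 190626, 198058, 201013, 210955, 213833, 231532, 262637, 280334, 298027, 346141, 352547, 402026, 416040, 418953, 421910, 430605, 442481, 459847, 475812, 542009, 545190, 551943, 608810, 622863, 657763, 663645, 684577, 689317, 692282, 705094, 737427, 742412, 786999, 806987, 843820, 919694, 1053483, 1065303, 1075305, 1103886, 1116327, 1182989, 1188915, 1192108, 1212619, 1230376, 1245726, 1265762, 1302533, 1327290, 1332261, 1460739, 1474854, 1573998, 1589901, 1722420, 1728778, 2031657, 2115979, 2121909, 2126890, 2130606, 2147405, 2162811, 2183687, 2232654, 2245426, 2255372, 2263063, 2269481, 2313249, 2377830, 2491452, 2494627, 2605066, 2627629, 2754059, 2769128, 2826278, 3031301, 3227948, 3277413, 3294342, 3297305, 3416079, 3719203, 4196943, 4213932, 4216883,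 4223245, 4243818, 4325622, 4330601, 4343317, 4346506, 4367374, 4409606, 4415544, 4424227, 4505735, 4526126, 4587803, 4597797, 4726955, 4800613, 4850476, 4900873, 5129250, 5268006, 5275709, 5325835, 5390753, 5652556, 5902343, 6292775, 6447171, 6475812, 6488205, 6570537, 6832158, 7473194]

/-- Masks of the four-point sets flipped. -/
abbrev E0 : ℕ := allMask ^^^ octad0

theorem mem_innerL {p : GolayPt} (hp : p ∈ ofMask octad0) : idx p ∈ innerL := by
  revert p; decide +kernel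

theorem mem_outerL {p : GolayPt} (hp : p ∉ ofMask octad0) : idx p ∈ outerL := by
  revert p; decide +kernel

theorem mem_outerL' {p : GolayPt} (hp : p ∉ ofMask octad0) (h4 : p ≠ pt 4) :
    idx p ∈ outerL.filter (· != 4) := by
  revert p; decide +kernel

theorem mem_doutL {p : GolayPt} (hp : p ∉ ofMask dod0) : idx p ∈ doutL := by
  revert p; decide +kernel

theorem ofMask_zero : ofMask 0 = ∅ := by decide +kernel

theorem pt4_mask : ofMask (2 ^ 4) = {pt 4} := by decide +kernel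
theorem pt0_mask : ofMask (2 ^ 0) = {pt 0} := by decide +kernel
theorem pt46_mask : ofMask (2 ^ 4 + 2 ^ 6) = {pt 4, pt 6} := by decide +kernel

theorem notMem_smul {σ : Equiv.Perm GolayPt} {O O' : Finset GolayPt} (h : σ • O = O') {p : GolayPt}
    (hp : p ∉ O) : σ p ∉ O' := by
  rw [← h, mem_smul_iff_inv]
  simpa using hp

theorem mem_smul' {σ : Equiv.Perm GolayPt} {O O' : Finset GolayPt} (h : σ • O = O') {p : GolayPt}
    (hp : p ∈ O) : σ p ∈ O' := by
  rw [← h, mem_smul_iff_inv]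
  simpa using hp

/-- An octad and an outer point. -/
theorem oct_outer_one {O P : Finset GolayPt} (hO : O ∈ octads) (hP : P.card = 1) (hd : Disjoint O P) :
    ∃ σ ∈ M24, σ • O = ofMask octad0 ∧ σ • P = ofMask (2 ^ 4) := by
  obtain ⟨p, rfl⟩ := Finset.card_eq_one.1 hP
  have hp : p ∉ O := by
    intro h
    exact Finset.disjoint_left.1 hd h (Finset.mem_singleton_self p)
  obtain ⟨σ1, h1, e1⟩ := exists_smul_octad hO octad0_mem
  have hp1 := notMem_smul e1 hp
  obtain ⟨σ2, h2, e2, -, e3⟩ := of_transCheck trans_out (mem_outerL hp1)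
  refine ⟨σ2 * σ1, M24.mul_mem h2 h1, ?_, ?_⟩
  · rw [mul_smul, e1, e2]
  · rw [pt4_mask, mul_smul, Finset.smul_finset_singleton, Finset.smul_finset_singleton]
    show ({σ2 (σ1 p)} : Finset GolayPt) = _
    rw [e3]

/-- An octad and two outer points. -/
theorem oct_outer_two {O P : Finset GolayPt} (hO : O ∈ octads) (hP : P.card = 2) (hd : Disjoint O P) :
    ∃ σ ∈ M24, σ • O = ofMask octad0 ∧ σ • P = ofMask (2 ^ 4 + 2 ^ 6) := by
  obtain ⟨p, q, hpq, rfl⟩ := Finset.card_eq_two.1 hP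
  have hp : p ∉ O := by
    intro h
    exact Finset.disjoint_left.1 hd h (by simp)
  have hq : q ∉ O := by
    intro h
    exact Finset.disjoint_left.1 hd h (by simp)
  obtain ⟨σ1, h1, e1⟩ := exists_smul_octad hO octad0_mem
  have hp1 := notMem_smul e1 hp
  have hq1 := notMem_smul e1 hq
  obtain ⟨σ2, h2, e2, -, e3⟩ := of_transCheck trans_out (mem_outerL hp1)
  have hq2 := notMem_smul e2 hq1
  have hne : σ2 (σ1 q) ≠ pt 4 := by
    rw [← e3]
    intro h
    exact hpq (σ1.injective (σ2.injective h)).symm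
  obtain ⟨σ3, h3, e4, e5, e6⟩ := of_transCheck trans_out2 (mem_outerL' hq2 hne)
  have e7 := e5 4 (by simp) (by norm_num)
  refine ⟨σ3 * σ2 * σ1, M24.mul_mem (M24.mul_mem h3 h2) h1, ?_, ?_⟩
  · rw [mul_smul, mul_smul, e1, e2, e4]
  · rw [pt46_mask]
    ext k
    rw [mem_smul_iff_inv]
    simp only [Finset.mem_insert, Finset.mem_singleton]
    constructor
    · rintro (h | h)
      · left
        have : k = (σ3 * σ2 * σ1) p := by rw [← h]; simp
        rw [this]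
        show σ3 (σ2 (σ1 p)) = _
        rw [e3, e7]
      · right
        have : k = (σ3 * σ2 * σ1) q := by rw [← h]; simp
        rw [this]
        show σ3 (σ2 (σ1 q)) = _
        exact e6
    · rintro (h | h)
      · left
        have : (σ3 * σ2 * σ1) p = pt 4 := by
          show σ3 (σ2 (σ1 p)) = _
          rw [e3, e7]
        rw [h, ← this]
        simp
      · right
        have : (σ3 * σ2 * σ1) q = pt 6 := e6
        rw [h, ← this]
        simp

/-- An octad and one of its points. -/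
theorem oct_inner {O P : Finset GolayPt} (hO : O ∈ octads) (hP : P.card = 1) (hd : P ⊆ O) :
    ∃ σ ∈ M24, σ • O = ofMask octad0 ∧ σ • P = ofMask (2 ^ 0) := by
  obtain ⟨p, rfl⟩ := Finset.card_eq_one.1 hP
  have hp : p ∈ O := hd (Finset.mem_singleton_self p)
  obtain ⟨σ1, h1, e1⟩ := exists_smul_octad hO octad0_mem
  have hp1 := mem_smul' e1 hp
  obtain ⟨σ2, h2, e2, -, e3⟩ := of_transCheck trans_in (mem_innerL hp1)
  refine ⟨σ2 * σ1, M24.mul_mem h2 h1, ?_, ?_⟩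
  · rw [mul_smul, e1, e2]
  · rw [pt0_mask, mul_smul, Finset.smul_finset_singleton, Finset.smul_finset_singleton]
    show ({σ2 (σ1 p)} : Finset GolayPt) = _
    rw [e3]

/-- A dodecad and a point outside. -/
theorem dod_outer_one {O P : Finset GolayPt} (hO : O ∈ dodecads) (hP : P.card = 1) (hd : Disjoint O P) :
    ∃ σ ∈ M24, σ • O = ofMask dod0 ∧ σ • P = ofMask (2 ^ 4) := by
  obtain ⟨p, rfl⟩ := Finset.card_eq_one.1 hP
  have hp : p ∉ O := by
    intro h
    exact Finset.disjoint_left.1 hd h (Finset.mem_singleton_self p)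
  obtain ⟨σ1, h1, e1⟩ := exists_smul_dodecad hO dod0_mem
  have hp1 := notMem_smul e1 hp
  obtain ⟨σ2, h2, e2, -, e3⟩ := of_transCheck trans_dod (mem_doutL hp1)
  refine ⟨σ2 * σ1, M24.mul_mem h2 h1, ?_, ?_⟩
  · rw [mul_smul, e1, e2]
  · rw [pt4_mask, mul_smul, Finset.smul_finset_singleton, Finset.smul_finset_singleton]
    show ({σ2 (σ1 p)} : Finset GolayPt) = _
    rw [e3]

/-! ### From the support of the word to octads and dodecads -/

theorem word_mem {x : GolayPt → ℤ} (hx : x ∈ leechLattice) :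
    support₂ (wd x) ∈ supports (golayCode : Set (GolayPt → ZMod 2)) := by
  rw [mem_leechLattice_iff] at hx
  obtain ⟨m, -, -, -, hw⟩ := hx
  exact ⟨_, hw, rfl⟩

theorem compl_mem_supports {s : Finset GolayPt}
    (h : s ∈ supports (golayCode : Set (GolayPt → ZMod 2))) :
    sᶜ ∈ supports (golayCode : Set (GolayPt → ZMod 2)) := by
  rw [mem_supports_iff] at h ⊢
  rw [toMask_compl]
  exact xor_mem_spanList allMask_mem_codeList h

theorem empty_of_card {s : Finset GolayPt} (h : s.card = 0) {σ : Equiv.Perm GolayPt} :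
    σ • s = ofMask 0 := by
  rw [Finset.card_eq_zero.1 h, ofMask_zero]
  simp

end Cfsg.Agent.Lib.Sporadic.LeechConfig
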