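import Cfsg.Agent.Lib.Sporadic.M24Count

/-!
# Enumeration of the subsets of a given size by masks, with balanced recursion
-/

namespace Cfsg.Agent.Lib.Sporadic.M24Choose

open Cfsg Cfsg.Agent.Lib.Sporadic.GolayCore

/-- All `m < 2 ^ n` with `k` bits set. -/
def chooseList : ℕ → ℕ → List ℕ
  | 0, 0 => [0]
  | 0, _ + 1 => []
  | n + 1, 0 => (chooseList n 0).map (2 * ·)
  | n + 1, k + 1 => (chooseList n (k + 1)).map (2 * ·) ++ (chooseList n k).map (2 * · + 1)

theorem mem_chooseList {n k m : ℕ} : m ∈ chooseList n k ↔ m < 2 ^ n ∧ pc n m = k := by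
  induction n generalizing k m with
  | zero =>
    cases k with
    | zero => simp [chooseList, pc]
    | succ k => simp [chooseList, pc]
  | succ n ih =>
    have hm : ∀ {m : ℕ}, m < 2 ^ (n + 1) ↔ m / 2 < 2 ^ n := by
      intro m
      rw [pow_succ]
      omega
    cases k with
    | zero =>
      simp only [chooseList, List.mem_map, ih, pc]
      constructor
      · rintro ⟨a, ⟨h1, h2⟩, rfl⟩
        refine ⟨by rw [pow_succ]; omega, ?_⟩
        have e1 : (2 * a) % 2 = 0 := by omega
        have e2 : (2 * a) / 2 = a := by omega
        rw [e1, e2, h2]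
      · rintro ⟨h1, h2⟩
        have h3 : m % 2 = 0 := by omega
        refine ⟨m / 2, ⟨hm.1 h1, by omega⟩, by omega⟩
    | succ k =>
      simp only [chooseList, List.mem_append, List.mem_map, ih, pc]
      constructor
      · rintro (⟨a, ⟨h1, h2⟩, rfl⟩ | ⟨a, ⟨h1, h2⟩, rfl⟩)
        · refine ⟨by rw [pow_succ]; omega, ?_⟩
          have e1 : (2 * a) % 2 = 0 := by omega
          have e2 : (2 * a) / 2 = a := by omega
          rw [e1, e2, h2]; omega
        · refine ⟨by rw [pow_succ]; omega, ?_⟩
          have e1 : (2 * a + 1) % 2 = 1 := by omega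
          have e2 : (2 * a + 1) / 2 = a := by omega
          rw [e1, e2, h2]; omega
      · rintro ⟨h1, h2⟩
        rcases Nat.mod_two_eq_zero_or_one m with h3 | h3
        · left
          exact ⟨m / 2, ⟨hm.1 h1, by omega⟩, by omega⟩
        · right
          exact ⟨m / 2, ⟨hm.1 h1, by omega⟩, by omega⟩

theorem chooseList_nodup (n k : ℕ) : (chooseList n k).Nodup := by
  induction n generalizing k with
  | zero =>
    cases k <;> simp [chooseList]
  | succ n ih =>
    cases k with
    | zero =>
      simp only [chooseList]
      exact (ih 0).map_on (fun a _ b _ h => by simpa using h)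
    | succ k =>
      simp only [chooseList]
      rw [List.nodup_append]
      refine ⟨(ih (k + 1)).map_on (fun a _ b _ h => by omega),
        (ih k).map_on (fun a _ b _ h => by omega), ?_⟩
      intro a ha b hb hab
      obtain ⟨a', -, rfl⟩ := List.mem_map.1 ha
      obtain ⟨b', -, rfl⟩ := List.mem_map.1 hb
      omega

/-- Balanced check over the masks with `k` bits set, below `2 ^ n`, of a predicate on `acc + w * m`. -/
def chooseAll (R : ℕ → Bool) : ℕ → ℕ → ℕ → ℕ → Bool
  | 0, 0, acc, _ => R acc
  | 0, _ + 1, _, _ => true
  | n + 1, 0, acc, w => chooseAll R n 0 acc (2 * w)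
  | n + 1, k + 1, acc, w => chooseAll R n (k + 1) acc (2 * w) && chooseAll R n k (acc + w) (2 * w)

theorem chooseAll_iff (R : ℕ → Bool) (n k acc w : ℕ) :
    chooseAll R n k acc w = true ↔ ∀ m ∈ chooseList n k, R (acc + w * m) = true := by
  induction n generalizing k acc w with
  | zero =>
    cases k <;> simp [chooseAll, chooseList]
  | succ n ih =>
    cases k with
    | zero =>
      simp only [chooseAll, ih, chooseList, List.mem_map]
      constructor
      · rintro h _ ⟨a, ha, rfl⟩
        have := h a ha
        rwa [show acc + 2 * w * a = acc + w * (2 * a) by ring] at this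
      · intro h a ha
        have := h _ ⟨a, ha, rfl⟩
        rwa [show acc + w * (2 * a) = acc + 2 * w * a by ring] at this
    | succ k =>
      simp only [chooseAll, Bool.and_eq_true, ih, chooseList, List.mem_append, List.mem_map]
      constructor
      · rintro ⟨h1, h2⟩ _ (⟨a, ha, rfl⟩ | ⟨a, ha, rfl⟩)
        · have := h1 a ha
          rwa [show acc + 2 * w * a = acc + w * (2 * a) by ring] at this
        · have := h2 a ha
          rwa [show acc + w + 2 * w * a = acc + w * (2 * a + 1) by ring] at this
      · intro h
        refine ⟨fun a ha => ?_, fun a ha => ?_⟩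
        · have := h _ (Or.inl ⟨a, ha, rfl⟩)
          rwa [show acc + w * (2 * a) = acc + 2 * w * a by ring] at this
        · have := h _ (Or.inr ⟨a, ha, rfl⟩)
          rwa [show acc + w * (2 * a + 1) = acc + w + 2 * w * a by ring] at this

/-- Balanced count over the masks with `k` bits set. -/
def chooseCount (R : ℕ → Bool) : ℕ → ℕ → ℕ → ℕ → ℕ
  | 0, 0, acc, _ => if R acc then 1 else 0
  | 0, _ + 1, _, _ => 0
  | n + 1, 0, acc, w => chooseCount R n 0 acc (2 * w)
  | n + 1, k + 1, acc, w => chooseCount R n (k + 1) acc (2 * w) + chooseCount R n k (acc + w) (2 * w)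

theorem chooseCount_eq (R : ℕ → Bool) (n k acc w : ℕ) :
    chooseCount R n k acc w = (chooseList n k).countP fun m => R (acc + w * m) := by
  induction n generalizing k acc w with
  | zero =>
    cases k <;> simp [chooseCount, chooseList]
  | succ n ih =>
    cases k with
    | zero =>
      simp only [chooseCount, ih, chooseList, List.countP_map]
      apply List.countP_congr
      intro a _
      simp only [Function.comp, decide_eq_true_eq, Bool.decide_eq_true]
      rw [show acc + w * (2 * a) = acc + 2 * w * a by ring]
    | succ k =>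
      simp only [chooseCount, ih, chooseList, List.countP_append, List.countP_map]
      congr 1
      · apply List.countP_congr
        intro a _
        simp only [Function.comp, Bool.decide_eq_true]
        rw [show acc + w * (2 * a) = acc + 2 * w * a by ring]
      · apply List.countP_congr
        intro a _
        simp only [Function.comp, Bool.decide_eq_true]
        rw [show acc + w * (2 * a + 1) = acc + w + 2 * w * a by ring]

theorem toMask_mem_chooseList {s : Finset GolayPt} {k : ℕ} (hs : s.card = k) :
    toMask s ∈ chooseList 24 k :=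
  mem_chooseList.2 ⟨toMask_lt s, by rw [← hs, card_eq_popc]⟩

/-- Checking a predicate on all subsets of a given size. -/
theorem forall_card_of_chooseAll {R : ℕ → Bool} {k : ℕ} (h : chooseAll R 24 k 0 1 = true)
    {s : Finset GolayPt} (hs : s.card = k) : R (toMask s) = true := by
  have := (chooseAll_iff R 24 k 0 1).1 h _ (toMask_mem_chooseList hs)
  simpa using this

/-- Counting the subsets of a given size satisfying a predicate. -/
theorem ncard_card_filter (Q : Finset GolayPt → Prop) (R : ℕ → Bool) (k : ℕ)
    (h : ∀ s : Finset GolayPt, s.card = k → (Q s ↔ R (toMask s) = true)) :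
    {s : Finset GolayPt | s.card = k ∧ Q s}.ncard = chooseCount R 24 k 0 1 := by
  have hc : chooseCount R 24 k 0 1 = ((chooseList 24 k).filter R).length := by
    rw [chooseCount_eq, List.countP_eq_length_filter]
    simp
  have h1 : {s : Finset GolayPt | s.card = k ∧ Q s} =
      ofMask '' {m | m ∈ (chooseList 24 k).filter R} := by
    ext s
    simp only [Set.mem_ofPred_eq, Set.mem_image, List.mem_filter]
    constructor
    · rintro ⟨hs, hq⟩
      exact ⟨toMask s, ⟨toMask_mem_chooseList hs, (h s hs).1 hq⟩, ofMask_toMask s⟩
    · rintro ⟨m, ⟨hm, hp⟩, rfl⟩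
      have hm' := mem_chooseList.1 hm
      have hs : (ofMask m).card = k := by rw [card_ofMask]; exact hm'.2
      refine ⟨hs, (h _ hs).2 ?_⟩
      rwa [toMask_ofMask hm'.1]
  rw [h1, Set.InjOn.ncard_image, hc]
  · have h2 : {m | m ∈ (chooseList 24 k).filter R} = ↑((chooseList 24 k).filter R).toFinset := by
      ext m; simp
    rw [h2, Set.ncard_coe_finset, List.toFinset_card_of_nodup ((chooseList_nodup 24 k).filter R)]
  · intro a ha b hb hab
    have ha' := (mem_chooseList.1 (List.mem_filter.1 ha).1).1
    have hb' := (mem_chooseList.1 (List.mem_filter.1 hb).1).1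
    exact (ofMask_inj ha' hb').1 hab

end Cfsg.Agent.Lib.Sporadic.M24Choose
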