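import Mathlib

/-!
# Maximality of a stabiliser from the orbit sizes of the stabiliser

If `G` acts transitively on `Ω ∋ x`, and `Ω` is partitioned in classes on which `G_x` is transitive,
`{x}` being one of them, and no proper partial sum of the class sizes containing `1` divides `|Ω|`,
then `G_x` is a maximal subgroup.
-/

namespace Cfsg.Agent.Lib.Sporadic.OrbitCoatom

open MulAction

theorem isCoatom_stabilizer_of_classes {G X : Type*} [Group G] [Finite G] [MulAction G X]
    (x : X) (Ω : Set X) (hΩ : orbit G x = Ω) {y₀ : X} (hy₀ : y₀ ∈ Ω) (hy₀x : y₀ ≠ x)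
    {k : ℕ} (cl : X → Fin k) (sz : Fin k → ℕ) (n : ℕ) (hn : Ω.ncard = n) (c0 : Fin k)
    (hc0 : cl x = c0)
    (hsz : ∀ c, {y | y ∈ Ω ∧ cl y = c}.ncard = sz c)
    (hconj : ∀ y ∈ Ω, ∀ z ∈ Ω, cl y = cl z → ∃ h ∈ stabilizer G x, h • y = z)
    (hx : ∀ y ∈ Ω, cl y = cl x → y = x)
    (hnum : ∀ S : Finset (Fin k), c0 ∈ S → (∑ c ∈ S, sz c) ∣ n → S = {c0} ∨ S = Finset.univ) :
    IsCoatom (stabilizer G x) := by
  classical
  subst hn hc0
  have hfinΩ : Ω.Finite := by
    rw [← hΩ]; exact Set.finite_range _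
  constructor
  · intro htop
    have : y₀ ∈ orbit G x := by rw [hΩ]; exact hy₀
    obtain ⟨g, rfl⟩ := this
    have hg : g ∈ stabilizer G x := by rw [htop]; trivial
    exact hy₀x hg
  · intro K hK
    have hle := hK.le
    -- the orbit of `x` under `K`
    set B : Set X := orbit K x with hB
    have hBΩ : B ⊆ Ω := by
      rintro _ ⟨k', rfl⟩
      rw [← hΩ]
      exact ⟨k'.1, rfl⟩
    have hBfin : B.Finite := hfinΩ.subset hBΩ
    have hxB : x ∈ B := mem_orbit_self x
    set S : Finset (Fin k) := hBfin.toFinset.image cl with hS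
    have hxS : cl x ∈ S := Finset.mem_image.2 ⟨x, hBfin.mem_toFinset.2 hxB, rfl⟩
    -- `B` is a union of classes
    have hBcl : ∀ y ∈ Ω, y ∈ B ↔ cl y ∈ S := by
      intro y hy
      constructor
      · intro hyB
        exact Finset.mem_image.2 ⟨y, hBfin.mem_toFinset.2 hyB, rfl⟩
      · intro hyS
        obtain ⟨z, hz, hzy⟩ := Finset.mem_image.1 hyS
        have hzB := hBfin.mem_toFinset.1 hz
        obtain ⟨h, hh, hhz⟩ := hconj z (hBΩ hzB) y hy hzy
        obtain ⟨k', hk'⟩ := hzB
        refine ⟨⟨h, hle hh⟩ * k', ?_⟩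
        have : (k' : G) • x = z := hk'
        show (h * (k' : G)) • x = y
        rw [mul_smul, this, hhz]
    -- size of `B`
    have hBcard : B.ncard = ∑ c ∈ S, sz c := by
      have h1 : B = ↑(hfinΩ.toFinset.filter fun y => cl y ∈ S) := by
        ext y
        simp only [Finset.coe_filter, Set.Finite.mem_toFinset, Set.mem_ofPred_eq]
        constructor
        · intro hy
          exact ⟨hBΩ hy, (hBcl y (hBΩ hy)).1 hy⟩
        · rintro ⟨h1, h2⟩
          exact (hBcl y h1).2 h2
      rw [h1, Set.ncard_coe_finset]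
      rw [Finset.card_eq_sum_card_fiberwise (f := cl) (t := S)]
      · apply Finset.sum_congr rfl
        intro c hc
        rw [← hsz c]
        rw [← Set.ncard_coe_finset]
        congr 1
        ext y
        simp only [Finset.coe_filter, Finset.mem_filter, Set.Finite.mem_toFinset, Set.mem_ofPred_eq]
        constructor
        · rintro ⟨⟨h1, -⟩, h2⟩
          exact ⟨h1, h2⟩
        · rintro ⟨h1, h2⟩
          exact ⟨⟨h1, h2 ▸ hc⟩, h2⟩
      · intro y hy
        exact (Finset.mem_filter.1 hy).2
    -- `|B|` divides `|Ω|`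
    have hdiv : B.ncard * K.index = Ω.ncard := by
      have h1 : (stabilizer G x).relIndex K = B.ncard := by
        rw [hB, ← index_stabilizer, Subgroup.relIndex]
        congr 1
      rw [← h1, Subgroup.relIndex_mul_index hle, index_stabilizer, hΩ]
    have hdvd : (∑ c ∈ S, sz c) ∣ Ω.ncard := by
      rw [← hBcard, ← hdiv]
      exact dvd_mul_right _ _
    rcases hnum S hxS hdvd with h | h
    · exfalso
      have : K ≤ stabilizer G x := by
        intro g hg
        have hgB : g • x ∈ B := ⟨⟨g, hg⟩, rfl⟩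
        have hc : cl (g • x) ∈ S := (hBcl _ (hBΩ hgB)).1 hgB
        rw [h, Finset.mem_singleton] at hc
        exact hx _ (hBΩ hgB) hc
      exact absurd this (not_le_of_gt hK)
    · have hBΩ' : B = Ω := by
        apply Set.Subset.antisymm hBΩ
        intro y hy
        apply (hBcl y hy).2
        rw [h]
        exact Finset.mem_univ _
      have hne : 0 < Ω.ncard := (Set.ncard_pos hfinΩ).2 ⟨y₀, hy₀⟩
      have hidx : K.index = 1 := by
        rw [hBΩ'] at hdiv
        exact Nat.eq_of_mul_eq_mul_left hne (by rw [hdiv, mul_one])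
      exact Subgroup.index_eq_one.1 hidx

end Cfsg.Agent.Lib.Sporadic.OrbitCoatom
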