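import Cfsg.Agent.Lib.Sporadic.M24Six
import Cfsg.Agent.Lib.Sporadic.M24Choose
import Cfsg.Agent.Lib.Sporadic.OrbitCoatom

/-!
# Transport of lists of points by `M24`, and of partitioned subsets; intersection-type orbits
-/

namespace Cfsg.Agent.Lib.Sporadic.M24Lists

open Cfsg Cfsg.Agent.Lib.Sporadic.GolayCore Cfsg.Agent.Lib.Sporadic.M24Tbl
open Cfsg.Agent.Lib.Sporadic.M24Chain Cfsg.Agent.Lib.Sporadic.M24Basic
open Cfsg.Agent.Lib.Sporadic.M24Act Cfsg.Agent.Lib.Sporadic.M24Six
open scoped Pointwise

/-- Embedding of `Fin n` given by a list without repetition. -/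
def listEmb (L : List GolayPt) (hL : L.Nodup) : Fin L.length ↪ GolayPt :=
  ⟨fun i => L[i], fun i j hij => by
    exact Fin.ext ((List.Nodup.getElem_inj_iff hL).1 hij)⟩

/-- `M24` moves any list of at most 5 distinct points to any other of the same length. -/
theorem exists_map_lists {L L' : List GolayPt} (hL : L.Nodup) (hL' : L'.Nodup)
    (hlen : L.length = L'.length) (h5 : L.length ≤ 5) :
    ∃ g ∈ M24, L.map g = L' := by
  let y : Fin L.length ↪ GolayPt := ⟨fun i => L'[i.val]'(by rw [← hlen]; exact i.isLt), fun i j hij => by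
    exact Fin.ext ((List.Nodup.getElem_inj_iff hL').1 hij)⟩
  obtain ⟨g, hg, hgy⟩ := exists_map_embedding h5 (listEmb L hL) y
  refine ⟨g, hg, ?_⟩
  apply List.ext_getElem (by simpa using hlen)
  intro i h1 h2
  have hi : i < L.length := by simpa using h1
  rw [List.getElem_map]
  exact hgy ⟨i, hi⟩

theorem list_special_iff (L : List GolayPt) (h6 : L.length = 6) (hL : L.Nodup) :
    Special (⟨fun i => L[i.val]'(by rw [h6]; exact i.isLt), fun i j hij => by
      exact Fin.ext ((List.Nodup.getElem_inj_iff hL).1 hij)⟩ : Fin 6 ↪ GolayPt) ↔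
      ∃ o ∈ octads, ∀ p ∈ L, p ∈ o := by
  constructor
  · rintro ⟨o, ho, h⟩
    refine ⟨o, ho, fun p hp => ?_⟩
    obtain ⟨i, hi, rfl⟩ := List.getElem_of_mem hp
    exact h ⟨i, by rwa [← h6]⟩
  · rintro ⟨o, ho, h⟩
    exact ⟨o, ho, fun i => h _ (List.getElem_mem _)⟩

/-- `M24` moves any list of 6 distinct points to another one, if both or neither lie in an octad. -/
theorem exists_map_lists_six {L L' : List GolayPt} (hL : L.Nodup) (hL' : L'.Nodup)
    (h6 : L.length = 6) (h6' : L'.length = 6)
    (hs : (∃ o ∈ octads, ∀ p ∈ L, p ∈ o) ↔ ∃ o ∈ octads, ∀ p ∈ L', p ∈ o) :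
    ∃ g ∈ M24, L.map g = L' := by
  obtain ⟨g, hg, hgy⟩ := exists_map_six _ _
    (((list_special_iff L h6 hL).trans hs).trans (list_special_iff L' h6' hL').symm)
  refine ⟨g, hg, ?_⟩
  apply List.ext_getElem (by simp [h6, h6'])
  intro i h1 h2
  have hi : i < 6 := by simpa [h6] using h1
  rw [List.getElem_map]
  exact hgy ⟨i, hi⟩

theorem smul_eq_of_map_toList {A A' : Finset GolayPt} {g : Equiv.Perm GolayPt}
    (h : A.toList.map g = A'.toList) : g • A = A' := by
  ext p
  rw [Finset.mem_smul_finset, ← Finset.mem_toList (s := A'), ← h, List.mem_map]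
  simp only [Finset.mem_toList]
  rfl

theorem nodup_toList_append {A B : Finset GolayPt} (h : Disjoint A B) :
    (A.toList ++ B.toList).Nodup := by
  rw [List.nodup_append]
  refine ⟨Finset.nodup_toList _, Finset.nodup_toList _, ?_⟩
  intro a ha b hb hab
  subst hab
  exact Finset.disjoint_left.1 h (Finset.mem_toList.1 ha) (Finset.mem_toList.1 hb)

/-- Two-part transport. -/
theorem exists_map_two_sets {A B A' B' : Finset GolayPt} (hd : Disjoint A B) (hd' : Disjoint A' B')
    (hA : A.card = A'.card) (hB : B.card = B'.card) (h5 : A.card + B.card ≤ 5) :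
    ∃ g ∈ M24, g • A = A' ∧ g • B = B' := by
  obtain ⟨g, hg, h⟩ := exists_map_lists (nodup_toList_append hd) (nodup_toList_append hd')
    (by simp [hA, hB]) (by simpa using h5)
  rw [List.map_append] at h
  have := List.append_inj h (by simp [hA])
  exact ⟨g, hg, smul_eq_of_map_toList this.1, smul_eq_of_map_toList this.2⟩

/-- Three-part transport. -/
theorem exists_map_three_sets {A B C A' B' C' : Finset GolayPt} (hAB : Disjoint A B)
    (hAC : Disjoint A C) (hBC : Disjoint B C) (hAB' : Disjoint A' B') (hAC' : Disjoint A' C')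
    (hBC' : Disjoint B' C')
    (hA : A.card = A'.card) (hB : B.card = B'.card) (hC : C.card = C'.card)
    (h5 : A.card + B.card + C.card ≤ 5) :
    ∃ g ∈ M24, g • A = A' ∧ g • B = B' ∧ g • C = C' := by
  have nd : ∀ {A B C : Finset GolayPt}, Disjoint A B → Disjoint A C → Disjoint B C →
      (A.toList ++ (B.toList ++ C.toList)).Nodup := by
    intro A B C h1 h2 h3
    rw [List.nodup_append]
    refine ⟨Finset.nodup_toList _, nodup_toList_append h3, ?_⟩
    intro a ha b hb hab
    subst hab
    rcases List.mem_append.1 hb with hb | hb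
    · exact Finset.disjoint_left.1 h1 (Finset.mem_toList.1 ha) (Finset.mem_toList.1 hb)
    · exact Finset.disjoint_left.1 h2 (Finset.mem_toList.1 ha) (Finset.mem_toList.1 hb)
  obtain ⟨g, hg, h⟩ := exists_map_lists (nd hAB hAC hBC) (nd hAB' hAC' hBC')
    (by simp [hA, hB, hC]) (by simp; omega)
  rw [List.map_append, List.map_append] at h
  have h1 := List.append_inj h (by simp [hA])
  have h2 := List.append_inj h1.2 (by simp [hB])
  exact ⟨g, hg, smul_eq_of_map_toList h1.1, smul_eq_of_map_toList h2.1, smul_eq_of_map_toList h2.2⟩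

/-- Two subsets of the same type relative to `s`, with at most 5 points involved, are conjugate
under the stabiliser of `s`. -/
theorem exists_conj_of_inter {s y z : Finset GolayPt} (hyz : y.card = z.card)
    (hi : (s ∩ y).card = (s ∩ z).card) (h5 : (s ∪ y).card ≤ 5) :
    ∃ g ∈ M24, g • s = s ∧ g • y = z := by
  have dAB : ∀ y : Finset GolayPt, Disjoint (s ∩ y) (s \ y) := fun y =>
    Finset.disjoint_left.2 fun p hp hq =>
      (Finset.mem_sdiff.1 hq).2 (Finset.mem_inter.1 hp).2
  have dAC : ∀ y : Finset GolayPt, Disjoint (s ∩ y) (y \ s) := fun y =>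
    Finset.disjoint_left.2 fun p hp hq =>
      (Finset.mem_sdiff.1 hq).2 (Finset.mem_inter.1 hp).1
  have dBC : ∀ y : Finset GolayPt, Disjoint (s \ y) (y \ s) := fun y =>
    Finset.disjoint_left.2 fun p hp hq =>
      (Finset.mem_sdiff.1 hq).2 (Finset.mem_sdiff.1 hp).1
  have cB : ∀ y : Finset GolayPt, (s \ y).card = s.card - (s ∩ y).card := fun y => by
    rw [Finset.card_sdiff]
    rw [Finset.inter_comm]
  have cC : ∀ y : Finset GolayPt, (y \ s).card = y.card - (s ∩ y).card := fun y => by
    rw [Finset.card_sdiff]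
  have cU : (s ∩ y).card + (s \ y).card + (y \ s).card = (s ∪ y).card := by
    have h1 : s ∪ y = (s ∩ y) ∪ (s \ y) ∪ (y \ s) := by
      ext p
      simp only [Finset.mem_union, Finset.mem_inter, Finset.mem_sdiff]
      tauto
    rw [h1, Finset.card_union_of_disjoint, Finset.card_union_of_disjoint (dAB y)]
    exact Finset.disjoint_union_left.2 ⟨dAC y, dBC y⟩
  obtain ⟨g, hg, h1, h2, h3⟩ := exists_map_three_sets (dAB y) (dAC y) (dBC y) (dAB z) (dAC z) (dBC z)
    hi (by rw [cB, cB, hi]) (by rw [cC, cC, hi, hyz]) (by omega)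
  refine ⟨g, hg, ?_, ?_⟩
  · have split : ∀ s y : Finset GolayPt, s = (s ∩ y) ∪ (s \ y) := by
      intro s y
      ext p
      simp only [Finset.mem_union, Finset.mem_inter, Finset.mem_sdiff]
      tauto
    have : s = (s ∩ y) ∪ (s \ y) := split s y
    have h4 : s = (s ∩ z) ∪ (s \ z) := split s z
    calc g • s = g • ((s ∩ y) ∪ (s \ y)) := by rw [← this]
      _ = g • (s ∩ y) ∪ g • (s \ y) := Finset.smul_finset_union
      _ = (s ∩ z) ∪ (s \ z) := by rw [h1, h2]
      _ = s := h4.symm
  · have split : ∀ s y : Finset GolayPt, y = (s ∩ y) ∪ (y \ s) := by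
      intro s y
      ext p
      simp only [Finset.mem_union, Finset.mem_inter, Finset.mem_sdiff]
      tauto
    have : y = (s ∩ y) ∪ (y \ s) := split s y
    have h4 : z = (s ∩ z) ∪ (z \ s) := split s z
    calc g • y = g • ((s ∩ y) ∪ (y \ s)) := by rw [← this]
      _ = g • (s ∩ y) ∪ g • (y \ s) := Finset.smul_finset_union
      _ = (s ∩ z) ∪ (z \ s) := by rw [h1, h3]
      _ = z := h4.symm

/-- Maximality transfers along conjugation. -/
theorem isCoatom_stabilizer_smul {G X : Type*} [Group G] [MulAction G X] (g : G) {x : X}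
    (h : IsCoatom (MulAction.stabilizer G x)) : IsCoatom (MulAction.stabilizer G (g • x)) := by
  rw [MulAction.stabilizer_smul_eq_stabilizer_map_conj]
  have := (OrderIso.isCoatom_iff ((MulAut.conj g).mapSubgroup) (MulAction.stabilizer G x)).2 h
  exact this

theorem finset_orbit_of_card {s : Finset GolayPt} (hk : s.card ≤ 5) :
    MulAction.orbit M24 s = {t | t.card = s.card} := by
  ext t
  constructor
  · rintro ⟨g, rfl⟩
    show (g : Equiv.Perm GolayPt) • s ∈ _
    simp [Finset.card_smul_finset]
  · intro ht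
    obtain ⟨g, hg, hgs⟩ := exists_smul_eq_of_card (s := s) (t := t) (Eq.symm ht) hk
    exact ⟨⟨g, hg⟩, hgs⟩

/-- The `hsz` hypothesis of the coatom lemma from a kernel count over subsets of a given size. -/
theorem hsz_of_masks {k K : ℕ} (cl : Finset GolayPt → Fin k) (clM : ℕ → Fin k) (sz : Fin k → ℕ)
    (hcl : ∀ t : Finset GolayPt, t.card = K → cl t = clM (toMask t))
    (hc : ∀ c, M24Choose.chooseCount (fun m => decide (clM m = c)) 24 K 0 1 = sz c) (c : Fin k) :
    {y | y ∈ {t : Finset GolayPt | t.card = K} ∧ cl y = c}.ncard = sz c := by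
  have h := M24Choose.ncard_card_filter (fun t => cl t = c) (fun m => decide (clM m = c)) K
    (by
      intro t ht
      simp [hcl t ht])
  rw [← hc, ← h]
  rfl

theorem ncard_card_eq (K : ℕ) :
    {t : Finset GolayPt | t.card = K}.ncard = M24Choose.chooseCount (fun _ => true) 24 K 0 1 := by
  have h := M24Choose.ncard_card_filter (fun _ => True) (fun _ => true) K (by simp)
  rw [← h]
  congr 1
  ext t
  simp

/-- The standard pair. -/
def s2 : Finset GolayPt := ofMask (2 ^ 23 + 2 ^ 0)

theorem card_s2 : s2.card = 2 := by decide +kernel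

theorem toMask_s2 : toMask s2 = 2 ^ 23 + 2 ^ 0 := toMask_ofMask (by norm_num)

/-- The duad stabiliser is maximal in `M24`. -/
theorem isCoatom_s2 : IsCoatom (MulAction.stabilizer M24 s2) := by
  have hle : ∀ t : Finset GolayPt, (s2 ∩ t).card ≤ 2 := fun t => by
    rw [← card_s2]; exact Finset.card_le_card Finset.inter_subset_left
  refine OrbitCoatom.isCoatom_stabilizer_of_classes s2 {t | t.card = 2} ?_
    (y₀ := ofMask (2 ^ 1 + 2 ^ 0)) (by decide +kernel) (by decide +kernel)
    (k := 3) (fun t => ⟨2 - (s2 ∩ t).card, by omega⟩)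
    ![1, 44, 231] 276 ?_ 0 (by decide +kernel) ?_ ?_ ?_ (by decide +kernel)
  · rw [finset_orbit_of_card (by rw [card_s2]; norm_num), card_s2]
  · rw [ncard_card_eq]; decide +kernel
  · apply hsz_of_masks _ (fun m => ⟨2 - popc ((2 ^ 23 + 2 ^ 0) &&& m), by omega⟩)
    · intro t _
      apply Fin.ext
      simp only
      rw [card_eq_popc, toMask_inter, toMask_s2]
    · decide +kernel
  · intro y hy z hz hc
    have hc' : (s2 ∩ y).card = (s2 ∩ z).card := by
      have h1 := congrArg Fin.val hc
      have h2 := hle y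
      have h3 := hle z
      simp only at h1
      omega
    obtain ⟨g, hg, h1, h2⟩ := exists_conj_of_inter (s := s2) (y := y) (z := z) (by rw [hy, hz]) hc' (by
      refine (Finset.card_union_le _ _).trans ?_
      rw [card_s2, hy]; norm_num)
    exact ⟨⟨g, hg⟩, (mem_stabilizer_M24_finset _ _).2 h1, h2⟩
  · intro y hy hc
    have hc' : (s2 ∩ y).card = (s2 ∩ s2).card := by
      have h1 := congrArg Fin.val hc
      have h2 := hle y
      have h3 := hle s2
      simp only at h1
      omega
    rw [Finset.inter_self, card_s2] at hc'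
    have h4 : s2 ∩ y = s2 := by
      apply Finset.eq_of_subset_of_card_le Finset.inter_subset_left
      rw [card_s2, hc']
    have h5 : s2 ⊆ y := Finset.inter_eq_left.1 h4
    exact (Finset.eq_of_subset_of_card_le h5 (by rw [card_s2]; exact le_of_eq hy)).symm

theorem isCoatom_duad {s : Finset GolayPt} (hs : s.card = 2) :
    IsCoatom (MulAction.stabilizer M24 s) := by
  obtain ⟨g, hg, hgs⟩ := exists_smul_eq_of_card (s := s2) (t := s) (by rw [card_s2, hs])
    (by rw [card_s2]; norm_num)
  have := isCoatom_stabilizer_smul (⟨g, hg⟩ : M24) isCoatom_s2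
  rwa [show (⟨g, hg⟩ : M24) • s2 = s from hgs] at this

end Cfsg.Agent.Lib.Sporadic.M24Lists
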