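import Mathlib
import Cfsg.Agent.Lib.Sporadic.LeechConfig
import Cfsg.Agent.Lib.Sporadic.M24Lists

/-!
# Transitivity of `Co0` on the vectors of norm `48` and of norm `64`.
-/

set_option autoImplicit false

namespace Cfsg.Agent.Lib.Sporadic.LeechOrbits

open Cfsg Cfsg.Agent.Lib.Sporadic.GolayCore Cfsg.Agent.Lib.Sporadic.LeechBasic
  Cfsg.Agent.Lib.Sporadic.LeechNorm Cfsg.Agent.Lib.Sporadic.LeechFacts
  Cfsg.Agent.Lib.Sporadic.LeechAut Cfsg.Agent.Lib.Sporadic.LeechMat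
  Cfsg.Agent.Lib.Sporadic.LeechOrb Cfsg.Agent.Lib.Sporadic.M24Chain
  Cfsg.Agent.Lib.Sporadic.M24Tbl Cfsg.Agent.Lib.Sporadic.M24Basic
  Cfsg.Agent.Lib.Sporadic.LeechShape Cfsg.Agent.Lib.Sporadic.M24Act
  Cfsg.Agent.Lib.Sporadic.M24Dodecad Cfsg.Agent.Lib.Sporadic.LeechConfig
  Cfsg.Agent.Lib.Sporadic.LeechMin Cfsg.Agent.Lib.Sporadic.M24Lists
open scoped Pointwise

/-- Even shape data. -/
def Sh (x : GolayPt → ℤ) (n2 n4 n6 n8 : ℕ) : Prop :=
  (∀ i, x i % 2 = 0) ∧ sqNorm x ≤ 64 ∧ (Ab x 2).card = n2 ∧ (Ab x 4).card = n4 ∧ (Ab x 6).card = n6 ∧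
    (Ab x 8).card = n8

instance (x : GolayPt → ℤ) (n2 n4 n6 n8 : ℕ) : Decidable (Sh x n2 n4 n6 n8) := by
  unfold Sh; infer_instance

/-- Odd shape data. -/
def ShO (x : GolayPt → ℤ) (n3 n5 : ℕ) : Prop :=
  (∀ i, x i % 2 = 1) ∧ sqNorm x ≤ 64 ∧ (Ab x 3).card = n3 ∧ (Ab x 5).card = n5 ∧ (Ab x 7).card = 0

instance (x : GolayPt → ℤ) (n3 n5 : ℕ) : Decidable (ShO x n3 n5) := by
  unfold ShO; infer_instance

/-! ### Representatives -/
def r8L : List ℤ := [0,0,0,0,0,0,0,0,0,0,0,0,0,0,0,0,0,0,0,0,0,0,0,8]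
def r4L : List ℤ := [4,4,4,0,0,0,0,0,0,0,0,0,0,0,0,0,0,0,0,0,0,0,0,4]
def r244L : List ℤ := [2,2,2,2,4,2,4,0,0,0,0,0,0,0,2,0,0,2,0,0,0,0,0,2]
def r6L : List ℤ := [-6,2,2,2,0,2,0,0,0,0,0,0,0,0,2,0,0,2,0,0,0,0,0,2]
def r124L : List ℤ := [-2,2,2,2,4,0,2,2,2,2,0,0,2,0,2,2,0,0,0,0,0,0,0,2]
def d12L : List ℤ := [2,2,2,2,0,0,2,2,2,2,0,0,2,0,2,2,0,0,0,0,0,0,0,2]
def d84L : List ℤ := [-2,2,2,2,4,2,0,0,0,0,0,0,0,0,2,0,0,2,0,0,0,0,0,2]

theorem r8L_ok : patOK r8L 0 0 0 (2^23) = true := by decide +kernel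
theorem r4L_ok : patOK r4L 0 (2^23+2^0+2^1+2^2) 0 0 = true := by decide +kernel
theorem r244L_ok : patOK r244L (octad0) (2^4+2^6) 0 0 = true := by decide +kernel
theorem r6L_ok : patOK r6L (octad0^^^1) 0 1 0 = true := by decide +kernel
theorem r124L_ok : patOK r124L (dod0) (2^4) 0 0 = true := by decide +kernel
theorem d12L_ok : patOK d12L (dod0) 0 0 0 = true := by decide +kernel
theorem d84L_ok : patOK d84L (octad0) (2^4) 0 0 = true := by decide +kernel

/-! ### Even shapes -/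

theorem Sh.rel {x : GolayPt → ℤ} {n2 n4 n6 n8 : ℕ} (h : Sh x n2 n4 n6 n8) :
    ∀ i, (x i).natAbs ≤ 8 := natAbs_le_of_norm h.2.1

theorem word_eq_of_n6 {x : GolayPt → ℤ} (hx : x ∈ leechLattice) (h2 : ∀ i, x i % 2 = 0)
    (hN : sqNorm x ≤ 64) (h6 : (Ab x 6).card = 0) : Ab x 2 ∈ supports (golayCode : Set (GolayPt → ZMod 2)) := by
  have hS := (even_relations hx h2 hN).2.2.2.2.2.2
  rw [Finset.card_eq_zero.1 h6, Finset.union_empty] at hS
  rw [← hS]
  exact word_mem hx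

theorem s_8 {x : GolayPt → ℤ} (hx : x ∈ leechLattice) (h : Sh x 0 0 0 1) : SameM x (vecOf r8L) := by
  obtain ⟨hx2, hN, h2, h4, h6, h8⟩ := h
  obtain ⟨σ, hσ, e⟩ := exists_smul_eq_of_card (s := Ab x 8) (t := ofMask (2 ^ 23))
    (by rw [h8, card_ofMask]; decide +kernel) (by rw [h8]; norm_num)
  exact via_perm r8L_ok hx hx2 (natAbs_le_of_norm hN) hσ (empty_of_card h2) (empty_of_card h4)
    (empty_of_card h6) e

theorem s_4 {x : GolayPt → ℤ} (hx : x ∈ leechLattice) (h : Sh x 0 4 0 0) : SameM x (vecOf r4L) := by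
  obtain ⟨hx2, hN, h2, h4, h6, h8⟩ := h
  obtain ⟨σ, hσ, e⟩ := exists_smul_eq_of_card (s := Ab x 4) (t := ofMask (2 ^ 23 + 2 ^ 0 + 2 ^ 1 + 2 ^ 2))
    (by rw [h4, card_ofMask]; decide +kernel) (by rw [h4]; norm_num)
  exact via_perm r4L_ok hx hx2 (natAbs_le_of_norm hN) hσ (empty_of_card h2) e
    (empty_of_card h6) (empty_of_card h8)

theorem disj_Ab (x : GolayPt → ℤ) {a b : ℕ} (hab : a ≠ b) : Disjoint (Ab x a) (Ab x b) := by
  rw [Finset.disjoint_left]
  intro i hi hi'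
  rw [mem_Ab] at hi hi'
  omega

theorem s_244 {x : GolayPt → ℤ} (hx : x ∈ leechLattice) (h : Sh x 8 2 0 0) : SameM x (vecOf r244L) := by
  obtain ⟨hx2, hN, h2, h4, h6, h8⟩ := h
  have hO : Ab x 2 ∈ octads := ⟨word_eq_of_n6 hx hx2 hN h6, h2⟩
  obtain ⟨σ, hσ, e1, e2⟩ := oct_outer_two hO h4 (disj_Ab x (by norm_num))
  exact via_perm r244L_ok hx hx2 (natAbs_le_of_norm hN) hσ e1 e2 (empty_of_card h6) (empty_of_card h8)

theorem s_84 {x : GolayPt → ℤ} (hx : x ∈ leechLattice) (h : Sh x 8 1 0 0) : SameM x (vecOf d84L) := by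
  obtain ⟨hx2, hN, h2, h4, h6, h8⟩ := h
  have hO : Ab x 2 ∈ octads := ⟨word_eq_of_n6 hx hx2 hN h6, h2⟩
  obtain ⟨σ, hσ, e1, e2⟩ := oct_outer_one hO h4 (disj_Ab x (by norm_num))
  exact via_perm d84L_ok hx hx2 (natAbs_le_of_norm hN) hσ e1 e2 (empty_of_card h6) (empty_of_card h8)

theorem s_124 {x : GolayPt → ℤ} (hx : x ∈ leechLattice) (h : Sh x 12 1 0 0) : SameM x (vecOf r124L) := by
  obtain ⟨hx2, hN, h2, h4, h6, h8⟩ := h
  have hO : Ab x 2 ∈ dodecads := ⟨word_eq_of_n6 hx hx2 hN h6, h2⟩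
  obtain ⟨σ, hσ, e1, e2⟩ := dod_outer_one hO h4 (disj_Ab x (by norm_num))
  exact via_perm r124L_ok hx hx2 (natAbs_le_of_norm hN) hσ e1 e2 (empty_of_card h6) (empty_of_card h8)

theorem s_12 {x : GolayPt → ℤ} (hx : x ∈ leechLattice) (h : Sh x 12 0 0 0) : SameM x (vecOf d12L) := by
  obtain ⟨hx2, hN, h2, h4, h6, h8⟩ := h
  have hO : Ab x 2 ∈ dodecads := ⟨word_eq_of_n6 hx hx2 hN h6, h2⟩
  obtain ⟨σ, hσ, e1⟩ := exists_smul_dodecad hO dod0_mem
  exact via_perm d12L_ok hx hx2 (natAbs_le_of_norm hN) hσ e1 (empty_of_card h4) (empty_of_card h6)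
    (empty_of_card h8)

theorem s_6 {x : GolayPt → ℤ} (hx : x ∈ leechLattice) (h : Sh x 7 0 1 0) : SameM x (vecOf r6L) := by
  obtain ⟨hx2, hN, h2, h4, h6, h8⟩ := h
  have hS := (even_relations hx hx2 hN).2.2.2.2.2.2
  have hd := disj_Ab x (a := 2) (b := 6) (by norm_num)
  have hO : Ab x 2 ∪ Ab x 6 ∈ octads :=
    ⟨by rw [← hS]; exact word_mem hx, by rw [Finset.card_union_of_disjoint hd, h2, h6]⟩
  obtain ⟨σ, hσ, e1, e2⟩ := oct_inner hO h6 Finset.subset_union_right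
  have e3 : σ • Ab x 2 = ofMask (octad0 ^^^ 1) := by
    have h1 : Ab x 2 = (Ab x 2 ∪ Ab x 6) \ Ab x 6 := by
      rw [Finset.union_sdiff_right, Finset.sdiff_eq_self_of_disjoint hd]
    rw [h1, Finset.smul_finset_sdiff, e1, e2]
    decide +kernel
  exact via_perm r6L_ok hx hx2 (natAbs_le_of_norm hN) hσ e3 (empty_of_card h4) e2 (empty_of_card h8)

/-! ### The vectors of shape `2 ^ 16` -/

/-- The support of the vectors of shape `2 ^ 16`. -/
abbrev E16 : Finset GolayPt := ofMask E0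

def planeOK (E : ℕ) (P : List ℕ) : Bool :=
  P.all (fun m => inCode m && (popc (m &&& E) == 4)) &&
  (List.range 24).all fun a => (List.range 24).all fun b => (List.range 24).all fun c =>
    !(E.testBit a) || !(E.testBit b) || !(E.testBit c) || a == b || a == c || b == c ||
      P.any fun m => m.testBit a && m.testBit b && m.testBit c

theorem planeOK_ok : planeOK E0 planesL = true := by decide +kernel

theorem exists_plane_of {E : ℕ} {P : List ℕ} (h : planeOK E P = true) {a b c : GolayPt}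
    (ha : a ∈ ofMask E) (hb : b ∈ ofMask E) (hc : c ∈ ofMask E) (hab : a ≠ b)
    (hac : a ≠ c) (hbc : b ≠ c) : ∃ m ∈ supports (golayCode : Set (GolayPt → ZMod 2)),
      a ∈ m ∧ b ∈ m ∧ c ∈ m ∧ (m ∩ ofMask E).card = 4 := by
  simp only [planeOK, Bool.and_eq_true, List.all_eq_true, List.mem_range, beq_iff_eq] at h
  obtain ⟨h1, h2⟩ := h
  have h3 := h2 _ (idx_lt a) _ (idx_lt b) _ (idx_lt c)
  rw [mem_ofMask] at ha hb hc
  have hab' : idx a ≠ idx b := fun h => hab (idx_injective h)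
  have hac' : idx a ≠ idx c := fun h => hac (idx_injective h)
  have hbc' : idx b ≠ idx c := fun h => hbc (idx_injective h)
  simp only [ha, hb, hc, Bool.not_true, Bool.false_or, beq_eq_false_iff_ne.2 hab',
    beq_eq_false_iff_ne.2 hac', beq_eq_false_iff_ne.2 hbc', List.any_eq_true, Bool.and_eq_true] at h3
  obtain ⟨m, hm, ⟨h4, h5⟩, h6⟩ := h3
  obtain ⟨hm1, hm2⟩ := h1 m hm
  have hm3 : m ∈ codeList := mem_codeList_of_inCode hm1
  refine ⟨ofMask m, (ofMask_mem_supports_iff (codeList_lt hm3)).mpr hm3, ?_, ?_, ?_, ?_⟩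
  · exact mem_ofMask.2 h4
  · exact mem_ofMask.2 h5
  · exact mem_ofMask.2 h6
  · rw [← ofMask_and, card_ofMask]
    exact hm2

theorem exists_plane {a b c : GolayPt} (ha : a ∈ E16) (hb : b ∈ E16) (hc : c ∈ E16) (hab : a ≠ b)
    (hac : a ≠ c) (hbc : b ≠ c) : ∃ m ∈ supports (golayCode : Set (GolayPt → ZMod 2)),
      a ∈ m ∧ b ∈ m ∧ c ∈ m ∧ (m ∩ E16).card = 4 :=
  exists_plane_of planeOK_ok ha hb hc hab hac hbc

def rpL : List ℤ := [0,0,0,0,2,0,2,2,2,2,2,2,2,2,0,2,2,0,2,2,2,2,2,0]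
def rmL : List ℤ := [0,0,0,0,-2,0,-2,2,2,2,2,2,2,2,0,2,2,0,2,2,2,2,2,0]

theorem rp_eq : vecOf rpL = absVec E16 2 := by
  funext p
  revert p
  decide +kernel

theorem rm_apply (p : GolayPt) : vecOf rmL p = if p ∉ E16 then 0 else if p = pt 4 ∨ p = pt 6 then -2 else 2 := by
  revert p
  decide +kernel

/-- The plus representative is in the lattice. -/
theorem rp_mem : inLattice rpL = true := by decide +kernel
theorem rm_mem : inLattice rmL = true := by decide +kernel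

theorem sign16 : ∀ y ∈ leechLattice, SForm E16 2 y → SameM y (vecOf rpL) ∨ SameM y (vecOf rmL) := by
  intro y
  induction' hn : (E16.filter fun i => y i = -2).card using Nat.strong_induction_on with n ih
    generalizing y
  intro hy hf
  have hsum := sum_SForm hf (by norm_num)
  have hcE : E16.card = 16 := by decide +kernel
  rw [hcE] at hsum
  have hev : Even (E16.filter fun i => y i = -2).card := by
    rw [mem_leechLattice_iff] at hy
    obtain ⟨m, hm, hp, hs, _⟩ := hy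
    have hne : ∃ i, i ∈ E16 := ⟨pt 4, by decide +kernel⟩
    obtain ⟨i, hi⟩ := hne
    have hm0 : m = 0 := by
      have := hp i
      rcases hf.1 i hi with h | h <;> rw [h] at this <;> simpa using this.symm
    subst hm0
    rw [hsum] at hs
    rw [Nat.even_iff]
    push_cast at hs
    omega
  set M := E16.filter fun i => y i = -2 with hM
  by_cases h3 : 2 < M.card
  · -- flip a plane
    obtain ⟨a, b, c, ha, hb, hc, hab, hac, hbc⟩ := Finset.two_lt_card_iff.1 h3
    have ha' := Finset.mem_filter.1 ha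
    have hb' := Finset.mem_filter.1 hb
    have hc' := Finset.mem_filter.1 hc
    obtain ⟨m, hm, ham, hbm, hcm, hcard⟩ := exists_plane ha'.1 hb'.1 hc'.1 hab hac hbc
    have h4 := sameM_sign hm hy
    set z := signChange m y with hz
    have hfz : SForm E16 2 z := by
      refine ⟨fun i hi => ?_, fun i hi => ?_⟩
      · simp only [hz, signChange]
        split_ifs
        · rcases hf.1 i hi with h | h <;> rw [h] <;> simp
        · exact hf.1 i hi
      · simp only [hz, signChange]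
        rw [hf.2 i hi]; simp
    -- the new minus set
    have hsub : (E16.filter fun i => z i = -2) ⊆ (M \ {a, b, c}) ∪ ((m ∩ E16) \ {a, b, c}) := by
      intro i hi
      obtain ⟨hi1, hi2⟩ := Finset.mem_filter.1 hi
      simp only [Finset.mem_union, Finset.mem_sdiff, Finset.mem_inter, Finset.mem_insert,
        Finset.mem_singleton]
      by_cases him : i ∈ m
      · right
        refine ⟨⟨him, hi1⟩, ?_⟩
        have : y i = 2 := by
          simp only [hz, signChange, if_pos him] at hi2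
          omega
        rintro (rfl | rfl | rfl)
        · rw [ha'.2] at this; omega
        · rw [hb'.2] at this; omega
        · rw [hc'.2] at this; omega
      · left
        have : y i = -2 := by
          simp only [hz, signChange, if_neg him] at hi2
          exact hi2
        refine ⟨Finset.mem_filter.2 ⟨hi1, this⟩, ?_⟩
        rintro (rfl | rfl | rfl)
        · exact him ham
        · exact him hbm
        · exact him hcm
    have hABC : ({a, b, c} : Finset GolayPt).card = 3 := by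
      rw [Finset.card_insert_of_notMem, Finset.card_insert_of_notMem, Finset.card_singleton]
      · simpa using hbc
      · simp [hab, hac]
    have hs1 : ({a, b, c} : Finset GolayPt) ⊆ M := by
      intro i hi
      simp only [Finset.mem_insert, Finset.mem_singleton] at hi
      rcases hi with rfl | rfl | rfl <;> assumption
    have hs2 : ({a, b, c} : Finset GolayPt) ⊆ m ∩ E16 := by
      intro i hi
      simp only [Finset.mem_insert, Finset.mem_singleton] at hi
      rcases hi with rfl | rfl | rfl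
      · exact Finset.mem_inter.2 ⟨ham, ha'.1⟩
      · exact Finset.mem_inter.2 ⟨hbm, hb'.1⟩
      · exact Finset.mem_inter.2 ⟨hcm, hc'.1⟩
    have hc1 : (M \ {a, b, c}).card = M.card - 3 := by
      rw [Finset.card_sdiff_of_subset hs1, hABC]
    have hc2 : ((m ∩ E16) \ {a, b, c}).card = 1 := by
      rw [Finset.card_sdiff_of_subset hs2, hABC, hcard]
    have hlt : (E16.filter fun i => z i = -2).card < n := by
      have := Finset.card_le_card hsub
      have h5 := Finset.card_union_le (M \ {a, b, c}) ((m ∩ E16) \ {a, b, c})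
      rw [hc1, hc2] at h5
      omega
    rcases ih _ hlt z rfl h4.right_mem hfz with h | h
    · exact Or.inl (h4.trans h)
    · exact Or.inr (h4.trans h)
  · have hle : M.card = 0 ∨ M.card = 2 := by
      rw [Nat.even_iff] at hev
      omega
    rcases hle with h0 | h2
    · left
      rw [rp_eq]
      have e : y = absVec E16 2 := by
        funext i
        simp only [absVec]
        by_cases hi : i ∈ E16
        · rw [if_pos hi]
          rcases hf.1 i hi with h | h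
          · exact h
          · exfalso
            have : i ∈ M := Finset.mem_filter.2 ⟨hi, h⟩
            rw [Finset.card_eq_zero.1 h0] at this
            simp at this
        · rw [if_neg hi]; exact hf.2 i hi
      rw [← e]
      exact SameIn.refl hy
    · right
      obtain ⟨p, q, hpq, hMe⟩ := Finset.card_eq_two.1 h2
      have hp : p ∈ M := by rw [hMe]; simp
      have hq : q ∈ M := by rw [hMe]; simp
      have hp1 := (Finset.mem_filter.1 hp).1
      have hq1 := (Finset.mem_filter.1 hq).1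
      have hEc : ∀ {p : GolayPt}, p ∈ E16 → p ∉ ofMask octad0 := by
        intro p; revert p; decide +kernel
      have hEc' : ∀ {p : GolayPt}, p ∉ ofMask octad0 → p ∈ E16 := by
        intro p; revert p; decide +kernel
      have hEc'' : ∀ {p : GolayPt}, p ∈ ofMask octad0 → p ∉ E16 := by
        intro p; revert p; decide +kernel
      obtain ⟨σ2, h2σ, e2, -, e3⟩ := of_transCheck trans_out (mem_outerL (hEc hp1))
      have hq2 := notMem_smul e2 (hEc hq1)
      have hne : σ2 q ≠ pt 4 := by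
        rw [← e3]
        intro h
        exact hpq (σ2.injective h).symm
      obtain ⟨σ3, h3σ, e4, e5, e6⟩ := of_transCheck trans_out2 (mem_outerL' hq2 hne)
      have e7 := e5 4 (by simp) (by norm_num)
      set σ := σ3 * σ2 with hσdef
      have hσ : σ ∈ M24 := M24.mul_mem h3σ h2σ
      have hσp : σ p = pt 4 := by
        show σ3 (σ2 p) = _
        rw [e3, e7]
      have hσq : σ q = pt 6 := e6
      have hσO : σ • ofMask octad0 = ofMask octad0 := by
        rw [hσdef, mul_smul, e2, e4]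
      have h5 := sameM_perm hσ hy
      have e8 : permV σ y = vecOf rmL := by
        funext k
        rw [rm_apply]
        simp only [permV]
        have hk : σ.symm k ∈ ofMask octad0 ↔ k ∈ ofMask octad0 := by
          nth_rewrite 2 [← hσO]
          rw [mem_smul_iff_inv]
          rfl
        by_cases hkE : k ∈ E16
        · rw [if_neg (not_not.2 hkE)]
          have hk2 : σ.symm k ∈ E16 := hEc' (fun h => hEc hkE (hk.1 h))
          by_cases hkpt : k = pt 4 ∨ k = pt 6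
          · rw [if_pos hkpt]
            have : σ.symm k ∈ M := by
              rw [hMe]
              rcases hkpt with h | h
              · rw [h, ← hσp]; simp
              · rw [h, ← hσq]; simp
            exact (Finset.mem_filter.1 this).2
          · rw [if_neg hkpt]
            rcases hf.1 _ hk2 with h | h
            · exact h
            · exfalso
              have : σ.symm k ∈ M := Finset.mem_filter.2 ⟨hk2, h⟩
              rw [hMe] at this
              simp only [Finset.mem_insert, Finset.mem_singleton] at this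
              apply hkpt
              rcases this with h | h
              · left; rw [← hσp, ← h]; simp
              · right; rw [← hσq, ← h]; simp
        · rw [if_pos hkE]
          have : σ.symm k ∉ E16 := by
            intro h
            apply hkE
            apply hEc'
            intro h6
            exact hEc h (hk.2 h6)
          exact hf.2 _ this
      rw [e8] at h5
      exact h5

theorem s_16 {x : GolayPt → ℤ} (hx : x ∈ leechLattice) (h : Sh x 16 0 0 0) :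
    SameM x (vecOf rpL) ∨ SameM x (vecOf rmL) := by
  obtain ⟨hx2, hN, h2, h4, h6, h8⟩ := h
  have hS := word_eq_of_n6 hx hx2 hN h6
  have hO : (Ab x 2)ᶜ ∈ octads := by
    refine ⟨compl_mem_supports hS, ?_⟩
    rw [Finset.card_compl, h2, card_golayPt]
  obtain ⟨σ, hσ, e1⟩ := exists_smul_octad hO octad0_mem
  have e2 : σ • Ab x 2 = E16 := by
    ext k
    rw [mem_smul_iff_inv]
    have h3 : k ∈ E16 ↔ k ∉ ofMask octad0 := by
      revert k; decide +kernel
    rw [h3, ← e1, mem_smul_iff_inv, Finset.mem_compl, not_not]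
  have h5 := sameM_perm hσ hx
  have hb := natAbs_le_of_norm hN
  have hform : SForm E16 2 (permV σ x) := by
    have hA2 : Ab (permV σ x) 2 = E16 := by rw [Ab_permV, e2]
    have hA4 : Ab (permV σ x) 4 = ∅ := by rw [Ab_permV, Finset.card_eq_zero.1 h4]; simp
    have hA6 : Ab (permV σ x) 6 = ∅ := by rw [Ab_permV, Finset.card_eq_zero.1 h6]; simp
    have hA8 : Ab (permV σ x) 8 = ∅ := by rw [Ab_permV, Finset.card_eq_zero.1 h8]; simp
    refine ⟨fun i hi => ?_, fun i hi => ?_⟩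
    · rw [← hA2, mem_Ab] at hi
      omega
    · rw [← hA2, mem_Ab] at hi
      have h7 : i ∉ Ab (permV σ x) 4 := by rw [hA4]; simp
      have h9 : i ∉ Ab (permV σ x) 6 := by rw [hA6]; simp
      have h10 : i ∉ Ab (permV σ x) 8 := by rw [hA8]; simp
      rw [mem_Ab] at h7 h9 h10
      have h11 := natAbs_permV_le hb (σ := σ) i
      have h12 := permV_even hx2 (σ := σ) i
      omega
  rcases sign16 _ (permV_mem hσ hx) hform with h | h
  · exact Or.inl (h5.trans h)
  · exact Or.inr (h5.trans h)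

/-! ### Odd shapes -/

def R35L : List ℤ := patOdd (2 ^ 23 + 2 ^ 0 + 2 ^ 1 + 2 ^ 2 + 2 ^ 3) 0
def R53L : List ℤ := patOdd (2 ^ 0 + 2 ^ 1) (2 ^ 23)
def R3L : List ℤ := patOdd (2 ^ 23 + 2 ^ 0 + 2 ^ 1) 0
def R5L : List ℤ := patOdd 0 (2 ^ 23)

theorem o_35 {x : GolayPt → ℤ} (hx : x ∈ leechLattice) (h : ShO x 5 0) : SameM x (vecOf R35L) := by
  obtain ⟨hodd, hN, h3, h5, h7⟩ := h
  obtain ⟨σ, hσ, e⟩ := exists_smul_eq_of_card (s := Ab x 3) (t := ofMask (2 ^ 23 + 2 ^ 0 + 2 ^ 1 + 2 ^ 2 + 2 ^ 3))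
    (by rw [h3, card_ofMask]; decide +kernel) (by rw [h3])
  exact odd_via_sets hx hodd (natAbs_le_of_norm hN) hσ e (empty_of_card h5) (Finset.card_eq_zero.1 h7)

theorem o_3 {x : GolayPt → ℤ} (hx : x ∈ leechLattice) (h : ShO x 3 0) : SameM x (vecOf R3L) := by
  obtain ⟨hodd, hN, h3, h5, h7⟩ := h
  obtain ⟨σ, hσ, e⟩ := exists_smul_eq_of_card (s := Ab x 3) (t := ofMask (2 ^ 23 + 2 ^ 0 + 2 ^ 1))
    (by rw [h3, card_ofMask]; decide +kernel) (by rw [h3]; norm_num)
  exact odd_via_sets hx hodd (natAbs_le_of_norm hN) hσ e (empty_of_card h5) (Finset.card_eq_zero.1 h7)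

theorem o_5 {x : GolayPt → ℤ} (hx : x ∈ leechLattice) (h : ShO x 0 1) : SameM x (vecOf R5L) := by
  obtain ⟨hodd, hN, h3, h5, h7⟩ := h
  obtain ⟨σ, hσ, e⟩ := exists_smul_eq_of_card (s := Ab x 5) (t := ofMask (2 ^ 23))
    (by rw [h5, card_ofMask]; decide +kernel) (by rw [h5]; norm_num)
  exact odd_via_sets hx hodd (natAbs_le_of_norm hN) hσ (empty_of_card h3) e (Finset.card_eq_zero.1 h7)

theorem o_53 {x : GolayPt → ℤ} (hx : x ∈ leechLattice) (h : ShO x 2 1) : SameM x (vecOf R53L) := by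
  obtain ⟨hodd, hN, h3, h5, h7⟩ := h
  obtain ⟨σ, hσ, e3, e5⟩ := exists_map_two_sets (A := Ab x 3) (B := Ab x 5)
    (A' := ofMask (2 ^ 0 + 2 ^ 1)) (B' := ofMask (2 ^ 23)) (disj_Ab x (by norm_num))
    (by decide +kernel) (by rw [h3, card_ofMask]; decide +kernel)
    (by rw [h5, card_ofMask]; decide +kernel) (by rw [h3, h5]; norm_num)
  exact odd_via_sets hx hodd (natAbs_le_of_norm hN) hσ e3 e5 (Finset.card_eq_zero.1 h7)

/-! ### Explicit connections -/

/-- Permuting an explicit vector by a table. -/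
theorem permV_gPerm_vecOf {T : List ℕ} (hT : goodT T = true) {l l' : List ℤ}
    (h : (List.range 24).all (fun i => l'.getD (T.getD i 0) 0 == l.getD i 0) = true) :
    permV (gPerm T hT) (vecOf l) = vecOf l' := by
  funext p
  simp only [permV, vecOf]
  have h1 := List.all_eq_true.1 h _ (List.mem_range.2 (idx_lt ((gPerm T hT).symm p)))
  rw [beq_iff_eq] at h1
  rw [← h1]
  have h2 := gPerm_pt hT (idx_lt ((gPerm T hT).symm p))
  rw [pt_idx] at h2
  have h3 : (gPerm T hT) ((gPerm T hT).symm p) = p := by simp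
  rw [h3] at h2
  have h4 : T.getD (idx ((gPerm T hT).symm p)) 0 = idx p := by
    have hlt : T.getD (idx ((gPerm T hT).symm p)) 0 < 24 := by
      have hv := validTbl_of_goodT hT
      rw [List.getD_eq_getElem _ _ (by rw [hv.1]; exact idx_lt _)]
      exact hv.2.2 _ (List.getElem_mem _)
    have h5 := idx_pt hlt
    rw [← h2] at h5
    exact h5.symm
  rw [h4]

def er4A : List ℤ := [0,0,0,0,4,0,0,0,0,0,0,0,0,4,0,0,4,0,0,0,0,0,-4,0]
def er4B : List ℤ := rangeL fun i => (matVec xiMat er4A).getD i 0 / 2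
theorem er4A_ok : inLattice er4A = true := by decide +kernel
theorem er4A_f : Sh (vecOf er4A) 0 4 0 0 := by decide +kernel
theorem er4B_f : Sh (vecOf er4B) 0 0 0 1 := by decide +kernel
theorem er4 {K : Subgroup Co0} (h1K : Mono ≤ K) (h2K : matCo0 xiMat_ok ∈ K) : SameIn K (vecOf r4L) (vecOf r8L) :=
  have h1 := (s_4 (inLattice_sound er4A_ok) er4A_f).mono h1K
  have h2 : SameIn K (vecOf er4A) (vecOf er4B) := sameIn_mat_vec xiMat_ok h2K er4A_ok
  have h3 := (s_8 h2.right_mem er4B_f).mono h1K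
  h1.symm.trans (h2.trans h3)

def er244A : List ℤ := [2,-2,2,-2,0,2,0,0,0,0,0,0,4,0,2,0,0,2,-4,0,0,0,0,2]
def er244B : List ℤ := rangeL fun i => (matVec xiMat er244A).getD i 0 / 2
theorem er244A_ok : inLattice er244A = true := by decide +kernel
theorem er244A_f : Sh (vecOf er244A) 8 2 0 0 := by decide +kernel
theorem er244B_f : Sh (vecOf er244B) 0 4 0 0 := by decide +kernel
theorem er244 {K : Subgroup Co0} (h1K : Mono ≤ K) (h2K : matCo0 xiMat_ok ∈ K) : SameIn K (vecOf r244L) (vecOf r4L) :=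
  have h1 := (s_244 (inLattice_sound er244A_ok) er244A_f).mono h1K
  have h2 : SameIn K (vecOf er244A) (vecOf er244B) := sameIn_mat_vec xiMat_ok h2K er244A_ok
  have h3 := (s_4 h2.right_mem er244B_f).mono h1K
  h1.symm.trans (h2.trans h3)

def er6A : List ℤ := [0,0,2,2,6,2,0,2,0,0,0,0,0,0,0,0,-2,0,0,2,0,0,0,2]
def er6B : List ℤ := rangeL fun i => (matVec xiMat er6A).getD i 0 / 2
theorem er6A_ok : inLattice er6A = true := by decide +kernel
theorem er6A_f : Sh (vecOf er6A) 7 0 1 0 := by decide +kernel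
theorem er6B_f : Sh (vecOf er6B) 8 2 0 0 := by decide +kernel
theorem er6 {K : Subgroup Co0} (h1K : Mono ≤ K) (h2K : matCo0 xiMat_ok ∈ K) : SameIn K (vecOf r6L) (vecOf r244L) :=
  have h1 := (s_6 (inLattice_sound er6A_ok) er6A_f).mono h1K
  have h2 : SameIn K (vecOf er6A) (vecOf er6B) := sameIn_mat_vec xiMat_ok h2K er6A_ok
  have h3 := (s_244 h2.right_mem er6B_f).mono h1K
  h1.symm.trans (h2.trans h3)

def er124A : List ℤ := [-4,2,-2,-2,2,0,-2,-2,0,0,-2,0,0,0,0,-2,-2,-2,0,-2,0,2,0,0]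
def er124B : List ℤ := rangeL fun i => (matVec xiMat er124A).getD i 0 / 2
theorem er124A_ok : inLattice er124A = true := by decide +kernel
theorem er124A_f : Sh (vecOf er124A) 12 1 0 0 := by decide +kernel
theorem er124B_f : Sh (vecOf er124B) 8 2 0 0 := by decide +kernel
theorem er124 {K : Subgroup Co0} (h1K : Mono ≤ K) (h2K : matCo0 xiMat_ok ∈ K) : SameIn K (vecOf r124L) (vecOf r244L) :=
  have h1 := (s_124 (inLattice_sound er124A_ok) er124A_f).mono h1K
  have h2 : SameIn K (vecOf er124A) (vecOf er124B) := sameIn_mat_vec xiMat_ok h2K er124A_ok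
  have h3 := (s_244 h2.right_mem er124B_f).mono h1K
  h1.symm.trans (h2.trans h3)

def eR35A : List ℤ := [-3,3,-1,1,-1,-1,-1,1,1,-1,-3,-1,-1,3,1,1,1,1,-1,1,1,1,3,-1]
def eR35B : List ℤ := rangeL fun i => (matVec xiMat eR35A).getD i 0 / 2
theorem eR35A_ok : inLattice eR35A = true := by decide +kernel
theorem eR35A_f : ShO (vecOf eR35A) 5 0 := by decide +kernel
theorem eR35B_f : Sh (vecOf eR35B) 8 2 0 0 := by decide +kernel
theorem eR35 {K : Subgroup Co0} (h1K : Mono ≤ K) (h2K : matCo0 xiMat_ok ∈ K) : SameIn K (vecOf R35L) (vecOf r244L) :=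
  have h1 := (o_35 (inLattice_sound eR35A_ok) eR35A_f).mono h1K
  have h2 : SameIn K (vecOf eR35A) (vecOf eR35B) := sameIn_mat_vec xiMat_ok h2K eR35A_ok
  have h3 := (s_244 h2.right_mem eR35B_f).mono h1K
  h1.symm.trans (h2.trans h3)

def eR53A : List ℤ := [-1,1,-1,1,-1,-1,1,5,1,3,1,-1,-1,1,-1,1,1,-1,-1,1,-3,-1,1,-1]
def eR53B : List ℤ := rangeL fun i => (matVec xiMat eR53A).getD i 0 / 2
theorem eR53A_ok : inLattice eR53A = true := by decide +kernel
theorem eR53A_f : ShO (vecOf eR53A) 2 1 := by decide +kernel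
theorem eR53B_f : Sh (vecOf eR53B) 8 2 0 0 := by decide +kernel
theorem eR53 {K : Subgroup Co0} (h1K : Mono ≤ K) (h2K : matCo0 xiMat_ok ∈ K) : SameIn K (vecOf R53L) (vecOf r244L) :=
  have h1 := (o_53 (inLattice_sound eR53A_ok) eR53A_f).mono h1K
  have h2 : SameIn K (vecOf eR53A) (vecOf eR53B) := sameIn_mat_vec xiMat_ok h2K eR53A_ok
  have h3 := (s_244 h2.right_mem eR53B_f).mono h1K
  h1.symm.trans (h2.trans h3)

def ed12A : List ℤ := [2,2,2,0,2,0,2,-2,0,0,-2,0,0,2,-2,2,0,2,0,0,0,0,0,-2]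
def ed12B : List ℤ := rangeL fun i => (matVec xiMat ed12A).getD i 0 / 2
theorem ed12A_ok : inLattice ed12A = true := by decide +kernel
theorem ed12A_f : Sh (vecOf ed12A) 12 0 0 0 := by decide +kernel
theorem ed12B_f : Sh (vecOf ed12B) 8 1 0 0 := by decide +kernel
theorem ed12 {K : Subgroup Co0} (h1K : Mono ≤ K) (h2K : matCo0 xiMat_ok ∈ K) : SameIn K (vecOf d12L) (vecOf d84L) :=
  have h1 := (s_12 (inLattice_sound ed12A_ok) ed12A_f).mono h1K
  have h2 : SameIn K (vecOf ed12A) (vecOf ed12B) := sameIn_mat_vec xiMat_ok h2K ed12A_ok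
  have h3 := (s_84 h2.right_mem ed12B_f).mono h1K
  h1.symm.trans (h2.trans h3)

def eR3A : List ℤ := [1,1,3,1,1,1,-1,-1,-1,1,1,-3,1,1,1,1,-1,-1,-3,-1,-1,1,1,1]
def eR3B : List ℤ := rangeL fun i => (matVec xiMat eR3A).getD i 0 / 2
theorem eR3A_ok : inLattice eR3A = true := by decide +kernel
theorem eR3A_f : ShO (vecOf eR3A) 3 0 := by decide +kernel
theorem eR3B_f : Sh (vecOf eR3B) 8 1 0 0 := by decide +kernel
theorem eR3 {K : Subgroup Co0} (h1K : Mono ≤ K) (h2K : matCo0 xiMat_ok ∈ K) : SameIn K (vecOf R3L) (vecOf d84L) :=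
  have h1 := (o_3 (inLattice_sound eR3A_ok) eR3A_f).mono h1K
  have h2 : SameIn K (vecOf eR3A) (vecOf eR3B) := sameIn_mat_vec xiMat_ok h2K eR3A_ok
  have h3 := (s_84 h2.right_mem eR3B_f).mono h1K
  h1.symm.trans (h2.trans h3)

def ed84A : List ℤ := [0,2,0,0,0,2,0,0,-2,2,2,0,0,-2,0,-2,0,0,0,2,4,0,0,0]
def ed84B : List ℤ := rangeL fun i => (matVec xiMat ed84A).getD i 0 / 2
theorem ed84A_ok : inLattice ed84A = true := by decide +kernel
theorem ed84A_f : Sh (vecOf ed84A) 8 1 0 0 := by decide +kernel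
theorem ed84B_f : ShO (vecOf ed84B) 0 1 := by decide +kernel
theorem ed84 {K : Subgroup Co0} (h1K : Mono ≤ K) (h2K : matCo0 xiMat_ok ∈ K) : SameIn K (vecOf d84L) (vecOf R5L) :=
  have h1 := (s_84 (inLattice_sound ed84A_ok) ed84A_f).mono h1K
  have h2 : SameIn K (vecOf ed84A) (vecOf ed84B) := sameIn_mat_vec xiMat_ok h2K ed84A_ok
  have h3 := (o_5 h2.right_mem ed84B_f).mono h1K
  h1.symm.trans (h2.trans h3)

def erpT : List ℕ := [16,6,7,20,22,19,18,9,11,21,3,14,5,1,2,15,12,17,4,13,23,10,0,8]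
theorem erpT_ok : goodT erpT = true := by decide +kernel
def erpA : List ℤ := [2,2,0,2,2,2,0,0,0,2,2,2,2,2,2,2,0,0,2,0,0,2,2,2]
def erpB : List ℤ := rangeL fun i => (matVec xiMat erpA).getD i 0 / 2
theorem erpA_ok : inLattice erpA = true := by decide +kernel
theorem erpB_f : ShO (vecOf erpB) 5 0 := by decide +kernel
theorem erp_perm : permV (gPerm erpT erpT_ok) (vecOf rpL) = vecOf erpA := permV_gPerm_vecOf erpT_ok (by decide +kernel)
theorem erp {K : Subgroup Co0} (h1K : Mono ≤ K) (h2K : matCo0 xiMat_ok ∈ K) : SameIn K (vecOf rpL) (vecOf R35L) := by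
  have h0 := (sameM_perm (gPerm_mem erpT_ok) (inLattice_sound rp_mem)).mono h1K
  rw [erp_perm] at h0
  have h2 : SameIn K (vecOf erpA) (vecOf erpB) := sameIn_mat_vec xiMat_ok h2K erpA_ok
  have h3 := (o_35 h2.right_mem erpB_f).mono h1K
  exact h0.trans (h2.trans h3)

def ermT : List ℕ := [12,18,2,0,4,1,20,22,19,14,21,5,6,9,8,7,16,11,17,13,3,15,10,23]
theorem ermT_ok : goodT ermT = true := by decide +kernel
def ermA : List ℤ := [0,0,0,2,-2,2,2,2,0,2,2,0,0,2,2,2,2,2,0,2,-2,2,2,0]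
def ermB : List ℤ := rangeL fun i => (matVec xiMat ermA).getD i 0 / 2
theorem ermA_ok : inLattice ermA = true := by decide +kernel
theorem ermB_f : Sh (vecOf ermB) 8 2 0 0 := by decide +kernel
theorem erm_perm : permV (gPerm ermT ermT_ok) (vecOf rmL) = vecOf ermA := permV_gPerm_vecOf ermT_ok (by decide +kernel)
theorem erm {K : Subgroup Co0} (h1K : Mono ≤ K) (h2K : matCo0 xiMat_ok ∈ K) : SameIn K (vecOf rmL) (vecOf r244L) := by
  have h0 := (sameM_perm (gPerm_mem ermT_ok) (inLattice_sound rm_mem)).mono h1K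
  rw [erm_perm] at h0
  have h2 : SameIn K (vecOf ermA) (vecOf ermB) := sameIn_mat_vec xiMat_ok h2K ermA_ok
  have h3 := (s_244 h2.right_mem ermB_f).mono h1K
  exact h0.trans (h2.trans h3)


/-! ### Main theorems -/

section chains

variable {K : Subgroup Co0} (h1K : Mono ≤ K) (h2K : matCo0 xiMat_ok ∈ K)

include h1K h2K

theorem chain64_r244 : SameIn K (vecOf r244L) (vecOf r8L) := (er244 h1K h2K).trans (er4 h1K h2K)

theorem chain64_R35 : SameIn K (vecOf R35L) (vecOf r8L) :=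
  (eR35 h1K h2K).trans (chain64_r244 h1K h2K)

theorem chain64_rp : SameIn K (vecOf rpL) (vecOf r8L) :=
  (erp h1K h2K).trans (chain64_R35 h1K h2K)

theorem chain64_rm : SameIn K (vecOf rmL) (vecOf r8L) :=
  (erm h1K h2K).trans (chain64_r244 h1K h2K)

theorem chain64_r6 : SameIn K (vecOf r6L) (vecOf r8L) :=
  (er6 h1K h2K).trans (chain64_r244 h1K h2K)

theorem chain64_r124 : SameIn K (vecOf r124L) (vecOf r8L) :=
  (er124 h1K h2K).trans (chain64_r244 h1K h2K)

theorem chain64_R53 : SameIn K (vecOf R53L) (vecOf r8L) :=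
  (eR53 h1K h2K).trans (chain64_r244 h1K h2K)

end chains

theorem arith64 (n0 n2 n4 n6 n8 : ℕ) (hc : n0 + n2 + n4 + n6 + n8 = 24)
    (hn : (64 : ℤ) = 4 * n2 + 16 * n4 + 36 * n6 + 64 * n8) (hd4 : 4 ∣ n2 + n6)
    (hd8 : n2 + n6 = 0 ∨ 8 ≤ n2 + n6) :
    (n2 = 0 ∧ n4 = 0 ∧ n6 = 0 ∧ n8 = 1) ∨ (n2 = 0 ∧ n4 = 4 ∧ n6 = 0 ∧ n8 = 0) ∨
      (n2 = 8 ∧ n4 = 2 ∧ n6 = 0 ∧ n8 = 0) ∨ (n2 = 7 ∧ n4 = 0 ∧ n6 = 1 ∧ n8 = 0) ∨
      (n2 = 12 ∧ n4 = 1 ∧ n6 = 0 ∧ n8 = 0) ∨ (n2 = 16 ∧ n4 = 0 ∧ n6 = 0 ∧ n8 = 0) := by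
  have h8 : n8 ≤ 1 := by omega
  have h6 : n6 ≤ 1 := by omega
  have h4 : n4 ≤ 4 := by omega
  interval_cases n8 <;> interval_cases n6 <;> interval_cases n4 <;> omega

theorem arith48 (n0 n2 n4 n6 n8 : ℕ) (hc : n0 + n2 + n4 + n6 + n8 = 24)
    (hn : (48 : ℤ) = 4 * n2 + 16 * n4 + 36 * n6 + 64 * n8) (hd4 : 4 ∣ n2 + n6)
    (hd8 : n2 + n6 = 0 ∨ 8 ≤ n2 + n6) (h0 : n2 + n6 ≠ 0) :
    (n2 = 8 ∧ n4 = 1 ∧ n6 = 0 ∧ n8 = 0) ∨ (n2 = 12 ∧ n4 = 0 ∧ n6 = 0 ∧ n8 = 0) := by
  have h8 : n8 = 0 := by omega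
  have h6 : n6 ≤ 1 := by omega
  have h4 : n4 ≤ 3 := by omega
  subst h8
  interval_cases n6 <;> interval_cases n4 <;> omega

/-- The nine monomial classes of vectors of norm 64. -/
def Class64 (x : GolayPt → ℤ) : Prop :=
    SameM x (vecOf r8L) ∨ SameM x (vecOf r4L) ∨ SameM x (vecOf r244L) ∨ SameM x (vecOf r6L) ∨
    SameM x (vecOf r124L) ∨ SameM x (vecOf rpL) ∨ SameM x (vecOf rmL) ∨ SameM x (vecOf R35L) ∨
    SameM x (vecOf R53L)

theorem classify64_even {x : GolayPt → ℤ} (hx : x ∈ leechLattice) (hp : ∀ i, x i % 2 = 0)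
    (hN : sqNorm x = 64) : Class64 x := by
  have hb := natAbs_le_of_norm (le_of_eq hN)
  obtain ⟨hc, hn⟩ := rel_expand x hb
  rw [hN] at hn
  obtain ⟨h1, h3, h5, h7, hd4, hd8, -⟩ := even_relations hx hp (le_of_eq hN)
  have hcases : ((Ab x 2).card = 0 ∧ (Ab x 4).card = 0 ∧ (Ab x 6).card = 0 ∧ (Ab x 8).card = 1) ∨
      ((Ab x 2).card = 0 ∧ (Ab x 4).card = 4 ∧ (Ab x 6).card = 0 ∧ (Ab x 8).card = 0) ∨
      ((Ab x 2).card = 8 ∧ (Ab x 4).card = 2 ∧ (Ab x 6).card = 0 ∧ (Ab x 8).card = 0) ∨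
      ((Ab x 2).card = 7 ∧ (Ab x 4).card = 0 ∧ (Ab x 6).card = 1 ∧ (Ab x 8).card = 0) ∨
      ((Ab x 2).card = 12 ∧ (Ab x 4).card = 1 ∧ (Ab x 6).card = 0 ∧ (Ab x 8).card = 0) ∨
      ((Ab x 2).card = 16 ∧ (Ab x 4).card = 0 ∧ (Ab x 6).card = 0 ∧ (Ab x 8).card = 0) := by
    apply arith64 (Ab x 0).card _ _ _ _ (by omega) (by omega) hd4 hd8
  rcases hcases with ⟨a, b, c, d⟩ | ⟨a, b, c, d⟩ | ⟨a, b, c, d⟩ | ⟨a, b, c, d⟩ | ⟨a, b, c, d⟩ | ⟨a, b, c, d⟩
  · exact Or.inl (s_8 hx ⟨hp, le_of_eq hN, a, b, c, d⟩)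
  · exact Or.inr (Or.inl (s_4 hx ⟨hp, le_of_eq hN, a, b, c, d⟩))
  · exact Or.inr (Or.inr (Or.inl (s_244 hx ⟨hp, le_of_eq hN, a, b, c, d⟩)))
  · exact Or.inr (Or.inr (Or.inr (Or.inl (s_6 hx ⟨hp, le_of_eq hN, a, b, c, d⟩))))
  · exact Or.inr (Or.inr (Or.inr (Or.inr (Or.inl (s_124 hx ⟨hp, le_of_eq hN, a, b, c, d⟩)))))
  · rcases s_16 hx ⟨hp, le_of_eq hN, a, b, c, d⟩ with h | h
    · exact Or.inr (Or.inr (Or.inr (Or.inr (Or.inr (Or.inl h)))))
    · exact Or.inr (Or.inr (Or.inr (Or.inr (Or.inr (Or.inr (Or.inl h))))))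

theorem classify64_odd {x : GolayPt → ℤ} (hx : x ∈ leechLattice) (hp : ∀ i, x i % 2 = 1)
    (hN : sqNorm x = 64) : Class64 x := by
  have hb := natAbs_le_of_norm (le_of_eq hN)
  obtain ⟨h0, h4, h6, h8, h10⟩ := odd_relations hp
  obtain ⟨hc, hn⟩ := rel_expand x hb
  rw [hN] at hn
  have hcases : ((Ab x 3).card = 5 ∧ (Ab x 5).card = 0 ∧ (Ab x 7).card = 0) ∨
      ((Ab x 3).card = 2 ∧ (Ab x 5).card = 1 ∧ (Ab x 7).card = 0) := by
    omega
  rcases hcases with ⟨a, b, c⟩ | ⟨a, b, c⟩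
  · exact Or.inr (Or.inr (Or.inr (Or.inr (Or.inr (Or.inr (Or.inr (Or.inl (o_35 hx ⟨hp, le_of_eq hN, a, b, c⟩))))))))
  · exact Or.inr (Or.inr (Or.inr (Or.inr (Or.inr (Or.inr (Or.inr (Or.inr (o_53 hx ⟨hp, le_of_eq hN, a, b, c⟩))))))))

/-- Classification of the vectors of norm 64 up to the monomial group. -/
theorem classify64 {x : GolayPt → ℤ} (hx : x ∈ leechLattice) (hN : sqNorm x = 64) : Class64 x := by
  have hx' := hx
  rw [mem_leechLattice_iff] at hx'
  obtain ⟨m, hm, hp, -, -⟩ := hx'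
  rcases hm with rfl | rfl
  · exact classify64_even hx hp hN
  · exact classify64_odd hx hp hN

/-- All vectors of norm 64 are in the orbit of `(8, 0, ...)` under any subgroup containing
the monomial group and `ξ`. -/
theorem orbit64_in {K : Subgroup Co0} (h1K : Mono ≤ K) (h2K : matCo0 xiMat_ok ∈ K)
    {x : GolayPt → ℤ} (hx : x ∈ leechLattice) (hN : sqNorm x = 64) :
    SameIn K x (vecOf r8L) := by
  rcases classify64 hx hN with h | h | h | h | h | h | h | h | h
  · exact h.mono h1K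
  · exact (h.mono h1K).trans (er4 h1K h2K)
  · exact (h.mono h1K).trans (chain64_r244 h1K h2K)
  · exact (h.mono h1K).trans (chain64_r6 h1K h2K)
  · exact (h.mono h1K).trans (chain64_r124 h1K h2K)
  · exact (h.mono h1K).trans (chain64_rp h1K h2K)
  · exact (h.mono h1K).trans (chain64_rm h1K h2K)
  · exact (h.mono h1K).trans (chain64_R35 h1K h2K)
  · exact (h.mono h1K).trans (chain64_R53 h1K h2K)

/-- `Co0` is transitive on the vectors of norm 64. -/
theorem co0_transitive_64 (v w : leechLattice) (hv : sqNorm (v : GolayPt → ℤ) = 64)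
    (hw : sqNorm (w : GolayPt → ℤ) = 64) : ∃ g : Co0, g • v = w := by
  have h1 : Mono ≤ (⊤ : Subgroup Co0) := le_top
  have h2 : matCo0 xiMat_ok ∈ (⊤ : Subgroup Co0) := Subgroup.mem_top _
  obtain ⟨_, _, g, -, hg⟩ := (orbit64_in h1 h2 v.2 hv).trans (orbit64_in h1 h2 w.2 hw).symm
  exact ⟨g, hg⟩

theorem even48_orbit {x : GolayPt → ℤ} (hx : x ∈ leechLattice) (h2 : ∀ i, x i % 2 = 0)
    (hN : sqNorm x = 48) : SameOrb x (vecOf R5L) := by
  have hK1 : Mono ≤ (⊤ : Subgroup Co0) := le_top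
  have hK2 : matCo0 xiMat_ok ∈ (⊤ : Subgroup Co0) := Subgroup.mem_top _
  have hle : sqNorm x ≤ 64 := by omega
  have hb := natAbs_le_of_norm hle
  obtain ⟨h1, h3, h5, h7, hd4, hd8, _⟩ := even_relations hx h2 hle
  obtain ⟨hc, hn⟩ := rel_expand x hb
  rw [hN] at hn
  have h4case : (Ab x 2).card + (Ab x 6).card ≠ 0 := by
    intro h0
    have h2e : (Ab x 2).card = 0 := by omega
    have h6e : (Ab x 6).card = 0 := by omega
    have h4 : ∀ i, (4 : ℤ) ∣ x i := by
      intro i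
      have hi2 : i ∉ Ab x 2 := by rw [Finset.card_eq_zero.1 h2e]; simp
      have hi6 : i ∉ Ab x 6 := by rw [Finset.card_eq_zero.1 h6e]; simp
      rw [mem_Ab] at hi2 hi6
      have := hb i
      have := h2 i
      omega
    have hs : (8 : ℤ) ∣ ∑ i, x i := by
      rw [mem_leechLattice_iff] at hx
      obtain ⟨m, hm, hp, hs, _⟩ := hx
      have hm0 : m = 0 := by rw [← hp none, h2 none]
      subst hm0
      omega
    have := thirtytwo_dvd_of_four_dvd x h4 hs
    omega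
  have hcases : ((Ab x 2).card = 8 ∧ (Ab x 4).card = 1 ∧ (Ab x 6).card = 0 ∧ (Ab x 8).card = 0) ∨
      ((Ab x 2).card = 12 ∧ (Ab x 4).card = 0 ∧ (Ab x 6).card = 0 ∧ (Ab x 8).card = 0) := by
    apply arith48 (Ab x 0).card _ _ _ _ (by omega) (by omega) hd4 hd8 h4case
  rcases hcases with ⟨a, b, c, d⟩ | ⟨a, b, c, d⟩
  · exact ((s_84 hx ⟨h2, hle, a, b, c, d⟩).mono hK1 |>.trans (ed84 hK1 hK2)).orb
  · exact ((s_12 hx ⟨h2, hle, a, b, c, d⟩).mono hK1 |>.trans ((ed12 hK1 hK2).trans (ed84 hK1 hK2))).orb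

theorem odd48_orbit {x : GolayPt → ℤ} (hx : x ∈ leechLattice) (h2 : ∀ i, x i % 2 = 1)
    (hN : sqNorm x = 48) : SameOrb x (vecOf R5L) := by
  have hK1 : Mono ≤ (⊤ : Subgroup Co0) := le_top
  have hK2 : matCo0 xiMat_ok ∈ (⊤ : Subgroup Co0) := Subgroup.mem_top _
  have hle : sqNorm x ≤ 64 := by omega
  have hb := natAbs_le_of_norm hle
  obtain ⟨h0, h4, h6, h8, h10⟩ := odd_relations h2
  obtain ⟨hc, hn⟩ := rel_expand x hb
  rw [hN] at hn
  have hcases : ((Ab x 3).card = 3 ∧ (Ab x 5).card = 0 ∧ (Ab x 7).card = 0) ∨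
      ((Ab x 3).card = 0 ∧ (Ab x 5).card = 1 ∧ (Ab x 7).card = 0) := by
    omega
  rcases hcases with ⟨a, b, c⟩ | ⟨a, b, c⟩
  · exact ((o_3 hx ⟨h2, hle, a, b, c⟩).mono hK1 |>.trans ((eR3 hK1 hK2).trans (ed84 hK1 hK2))).orb
  · exact (o_5 hx ⟨h2, hle, a, b, c⟩).orb

/-- All vectors of norm 48 are in the orbit of `(5, 1, ...)`. -/
theorem orbit48 {x : GolayPt → ℤ} (hx : x ∈ leechLattice) (hN : sqNorm x = 48) :
    SameOrb x (vecOf R5L) := by
  have hx' := hx
  rw [mem_leechLattice_iff] at hx'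
  obtain ⟨m, hm, hp, _, _⟩ := hx'
  rcases hm with rfl | rfl
  · exact even48_orbit hx hp hN
  · exact odd48_orbit hx hp hN

/-- `Co0` is transitive on the vectors of norm 48. -/
theorem co0_transitive_48 (v w : leechLattice) (hv : sqNorm (v : GolayPt → ℤ) = 48)
    (hw : sqNorm (w : GolayPt → ℤ) = 48) : ∃ g : Co0, g • v = w := by
  obtain ⟨_, _, g, hg⟩ := (orbit48 v.2 hv).trans (orbit48 w.2 hw).symm
  exact ⟨g, hg⟩

end Cfsg.Agent.Lib.Sporadic.LeechOrbits
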