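import Mathlib
import Cfsg.Agent.Lib.Sporadic.LeechClasses
import Cfsg.Agent.Lib.Sporadic.LeechOrbits
import Cfsg.Agent.Lib.Sporadic.LeechMonomial

/-!
# The action of `Co0` on the classes modulo twice the lattice; the order of `Co0`
-/

set_option autoImplicit false

namespace Cfsg.Agent.Lib.Sporadic.LeechAct

open Cfsg Cfsg.Agent.Lib.Sporadic.LeechNorm Cfsg.Agent.Lib.Sporadic.LeechFacts
  Cfsg.Agent.Lib.Sporadic.LeechAut Cfsg.Agent.Lib.Sporadic.LeechClasses
  Cfsg.Agent.Lib.Sporadic.LeechMonomial Cfsg.Agent.Lib.Sporadic.LeechMat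
  Cfsg.Agent.Lib.Sporadic.LeechOrbits Cfsg.Agent.Lib.Sporadic.LeechOrb

attribute [local instance] Classical.propDecidable

/-- `g` preserves the classes. -/
theorem cl_smul_congr (g : Co0) {x y : leechLattice} (h : cl x = cl y) : cl (g • x) = cl (g • y) := by
  rw [cl, cl, QuotientAddGroup.eq] at h ⊢
  rw [AddSubgroup.mem_addSubgroupOf, mem_twoL] at h ⊢
  obtain ⟨z, hz, e⟩ := h
  refine ⟨((g • (⟨z, hz⟩ : leechLattice) : leechLattice) : V), (g • (⟨z, hz⟩ : leechLattice)).2, ?_⟩
  have e1 : -x + y = (2 : ℕ) • (⟨z, hz⟩ : leechLattice) := by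
    apply Subtype.ext
    simpa using e
  have e2 : -(g • x) + g • y = g • (-x + y) := by
    rw [co0_map_add, co0_map_neg]
  rw [e2, e1]
  have e3 : g • ((2 : ℕ) • (⟨z, hz⟩ : leechLattice)) = (2 : ℕ) • (g • (⟨z, hz⟩ : leechLattice)) := by
    rw [two_nsmul, two_nsmul, co0_map_add]
  rw [e3]
  simp

/-- The action on classes. -/
noncomputable def actQ (g : Co0) : Q → Q :=
  Quotient.map' (fun x => g • x) (by
    intro x y h
    have h1 : cl x = cl y := QuotientAddGroup.eq.2 (QuotientAddGroup.leftRel_apply.1 h)
    have h2 := cl_smul_congr g h1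
    exact QuotientAddGroup.leftRel_apply.2 (QuotientAddGroup.eq.1 h2))

noncomputable instance : MulAction Co0 Q where
  smul g q := actQ g q
  one_smul q := by
    induction q using QuotientAddGroup.induction_on with
    | H x => exact congrArg cl (one_smul Co0 x)
  mul_smul g h q := by
    induction q using QuotientAddGroup.induction_on with
    | H x => exact congrArg cl (mul_smul g h x)

theorem smul_cl (g : Co0) (x : leechLattice) : g • cl x = cl (g • x) := rfl

/-- The first vector of the standard cross. -/
noncomputable def v8 : leechLattice := u8 none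

theorem norm_u8 (i : Cfsg.GolayPt) : sqNorm (u8 i : V) = 64 := by
  rw [coe_u8, sqNorm_single]; norm_num

/-- The standard cross, inside the lattice. -/
noncomputable def crossL : Finset leechLattice :=
  (Finset.univ : Finset (GolayPt × Bool)).image fun p => if p.2 then u8 p.1 else -u8 p.1

theorem mem_stdCross_iff (v : leechLattice) : (v : V) ∈ stdCross ↔ v ∈ crossL := by
  simp only [stdCross, crossL, Set.mem_ofPred_eq, Finset.mem_image, Finset.mem_univ, true_and]
  constructor
  · rintro ⟨i, s, hs, h⟩
    rcases hs with rfl | rfl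
    · refine ⟨(i, true), ?_⟩
      apply Subtype.ext
      simp [h, coe_u8]
    · refine ⟨(i, false), ?_⟩
      apply Subtype.ext
      simp [h, coe_u8, Pi.single_neg]
  · rintro ⟨⟨i, b⟩, rfl⟩
    cases b
    · refine ⟨i, -8, Or.inr rfl, ?_⟩
      simp [coe_u8, Pi.single_neg]
    · refine ⟨i, 8, Or.inl rfl, ?_⟩
      simp [coe_u8]

theorem card_crossL : crossL.card = 48 := by
  unfold crossL
  rw [Finset.card_image_of_injective]
  · simp [Finset.card_univ, ZMod.card]
  · rintro ⟨i, a⟩ ⟨j, b⟩ h
    have h1 : ∀ (i : GolayPt) (a : Bool), ((if a then u8 i else -u8 i : leechLattice) : V) =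
        Pi.single i (if a then 8 else -8) := by
      intro i a
      cases a <;> simp [coe_u8, Pi.single_neg]
    have h2 := congrArg (fun v : leechLattice => (v : V)) h
    simp only [h1] at h2
    by_cases hij : i = j
    · subst hij
      have h3 := congrFun h2 i
      simp only [Pi.single_eq_same] at h3
      have : a = b := by
        cases a <;> cases b <;> simp at h3 ⊢
      rw [this]
    · exfalso
      have h3 := congrFun h2 i
      rw [Pi.single_eq_same, Pi.single_eq_of_ne hij] at h3
      cases a <;> simp at h3

/-- All vectors of the standard cross are congruent. -/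
theorem cl_crossL {v : leechLattice} (hv : v ∈ crossL) : cl v = cl v8 := by
  rw [cl_eq_iff]
  simp only [crossL, Finset.mem_image, Finset.mem_univ, true_and] at hv
  obtain ⟨⟨i, b⟩, rfl⟩ := hv
  have key : ∀ s : ℤ, (s = 8 ∨ s = -8) →
      ∃ z ∈ leechLattice, (Pi.single i s - Pi.single none 8 : V) = 2 • z := by
    intro s hs
    refine ⟨Pi.single i (s / 2) - Pi.single none 4, ?_, ?_⟩
    · apply mem_L_of_four_dvd
      · intro k
        simp only [Pi.sub_apply]
        apply dvd_sub
        · by_cases h : k = i
          · subst h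
            rw [Pi.single_eq_same]
            rcases hs with rfl | rfl <;> norm_num
          · rw [Pi.single_eq_of_ne h]; simp
        · by_cases h : k = none
          · subst h
            rw [Pi.single_eq_same]
          · rw [Pi.single_eq_of_ne h]; simp
      · simp only [Pi.sub_apply, Finset.sum_sub_distrib, single_sum]
        rcases hs with rfl | rfl <;> norm_num
    · funext k
      simp only [Pi.sub_apply, Pi.smul_apply, nsmul_eq_mul]
      push_cast
      by_cases h : k = i
      · subst h
        by_cases h' : k = none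
        · subst h'
          simp only [Pi.single_eq_same]
          rcases hs with rfl | rfl <;> norm_num
        · rw [Pi.single_eq_same, Pi.single_eq_same, Pi.single_eq_of_ne h', Pi.single_eq_of_ne h']
          rcases hs with rfl | rfl <;> norm_num
      · rw [Pi.single_eq_of_ne h, Pi.single_eq_of_ne h]
        by_cases h' : k = none
        · subst h'
          simp only [Pi.single_eq_same]
          norm_num
        · rw [Pi.single_eq_of_ne h', Pi.single_eq_of_ne h']
          norm_num
  show ∃ z ∈ leechLattice, (((if b then u8 i else -u8 i : leechLattice) : V)) - (Pi.single none 8 : V) = 2 • z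
  cases b
  · simpa [coe_u8, Pi.single_neg] using key (-8) (Or.inr rfl)
  · simpa [coe_u8] using key 8 (Or.inl rfl)

/-- The class of `v8` contains exactly the vectors of the standard cross among norm-64 vectors. -/
theorem fib_v8 : (X 64).filter (fun y => cl y = cl v8) = crossL := by
  symm
  apply Finset.eq_of_subset_of_card_le
  · intro v hv
    refine Finset.mem_filter.2 ⟨?_, cl_crossL hv⟩
    rw [mem_X]
    simp only [crossL, Finset.mem_image, Finset.mem_univ, true_and] at hv
    obtain ⟨⟨i, b⟩, rfl⟩ := hv
    cases b
    · simp only [Bool.false_eq_true, if_false]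
      rw [NegMemClass.coe_neg, sqNorm_neg, norm_u8]
    · simp only [if_true]
      rw [norm_u8]
  · rw [fib_eq_48 v8 (norm_u8 none), card_crossL]

theorem mem_crossL_of {y : leechLattice} (hn : sqNorm (y : V) = 64) (hc : cl y = cl v8) : y ∈ crossL := by
  rw [← fib_v8]
  exact Finset.mem_filter.2 ⟨mem_X.2 hn, hc⟩

/-- The stabiliser of the class of the standard cross. -/
noncomputable def N : Subgroup Co0 := MulAction.stabilizer Co0 (cl v8)

theorem mem_N_iff {g : Co0} : g ∈ N ↔ g • cl v8 = cl v8 := MulAction.mem_stabilizer_iff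

theorem mem_N_iff_v8 {g : Co0} : g ∈ N ↔ cl (g • v8) = cl v8 := mem_N_iff

theorem mem_N_iff_pres {g : Co0} : g ∈ N ↔ PresCross g := by
  rw [mem_N_iff]
  constructor
  · intro h v hv
    rw [mem_stdCross_iff] at hv ⊢
    apply mem_crossL_of
    · rw [co0_sqNorm]
      exact mem_X.1 (Finset.mem_filter.1 (fib_v8 ▸ hv)).1
    · rw [← smul_cl, cl_crossL hv, h]
  · intro h
    have h1 : (v8 : V) ∈ stdCross := u8_mem_stdCross none
    have h2 := h v8 h1
    rw [mem_stdCross_iff] at h2
    rw [smul_cl]
    exact cl_crossL h2

theorem card_N : Nat.card N = 4096 * 244823040 := by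
  rw [← card_presCross]
  exact Nat.card_congr (Equiv.subtypeEquivRight fun g => mem_N_iff_pres)

theorem orbit_c0 : MulAction.orbit Co0 (cl v8) = (I 64 : Set Q) := by
  ext c
  rw [MulAction.mem_orbit_iff]
  constructor
  · rintro ⟨g, rfl⟩
    rw [Finset.mem_coe, mem_I]
    refine ⟨g • v8, ?_, rfl⟩
    rw [mem_X, co0_sqNorm]
    exact norm_u8 none
  · intro hc
    rw [Finset.mem_coe, mem_I] at hc
    obtain ⟨x, hx, rfl⟩ := hc
    obtain ⟨g, hg⟩ := co0_transitive_64 v8 x (norm_u8 none) (mem_X.1 hx)
    exact ⟨g, by rw [smul_cl, hg]⟩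

theorem index_N : N.index = 8292375 := by
  unfold N
  rw [MulAction.index_stabilizer, orbit_c0, Set.ncard_coe_finset]
  exact I_card_bounds.2.2.1

/-- The order of the automorphism group of the lattice. -/
theorem card_Co0 : Nat.card Co0 = 8315553613086720000 := by
  rw [← Subgroup.card_mul_index N, card_N, index_N]

instance : Finite Co0 := Nat.finite_of_card_ne_zero (by rw [card_Co0]; norm_num)

end Cfsg.Agent.Lib.Sporadic.LeechAct
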