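import Mathlib
import Cfsg.Agent.Lib.Sporadic.LeechShape

/-!
# Sign classes of minimal vectors relative to a set `Z` of coordinates

A subgroup `K` of the automorphism group with `HasSigns K Z` contains the sign changes on the code
words disjoint from `Z`.  Two minimal vectors with the same absolute values, which agree on `Z`,
are in the same orbit of `K` (`same_of_key`).
-/

set_option autoImplicit false

namespace Cfsg.Agent.Lib.Sporadic.LeechKey

open Cfsg Cfsg.Agent.Lib.Sporadic.GolayCore Cfsg.Agent.Lib.Sporadic.LeechBasic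
  Cfsg.Agent.Lib.Sporadic.LeechNorm Cfsg.Agent.Lib.Sporadic.LeechFacts
  Cfsg.Agent.Lib.Sporadic.LeechAut Cfsg.Agent.Lib.Sporadic.LeechMat
  Cfsg.Agent.Lib.Sporadic.LeechOrb Cfsg.Agent.Lib.Sporadic.LeechShape
  Cfsg.Agent.Lib.Sporadic.M24Chain Cfsg.Agent.Lib.Sporadic.M24Tbl
open scoped Pointwise

/-- The subgroup contains the sign changes on the code words disjoint from `Z`. -/
def HasSigns (K : Subgroup Co0) (Z : Finset GolayPt) : Prop :=
  ∀ (c : Finset GolayPt) (hc : c ∈ supports (golayCode : Set (GolayPt → ZMod 2))), Disjoint c Z →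
    signCo0 c hc ∈ K

theorem sameIn_sign {K : Subgroup Co0} {Z : Finset GolayPt} (h : HasSigns K Z) {c : Finset GolayPt}
    (hc : c ∈ supports (golayCode : Set (GolayPt → ZMod 2))) (hd : Disjoint c Z) {x : GolayPt → ℤ}
    (hx : x ∈ leechLattice) : SameIn K x (signChange c x) :=
  ⟨hx, signChange_mem hc hx, signCo0 c hc, h c hc hd, rfl⟩

/-- Sign normalisation for even vectors, keeping the coordinates in `Z`. -/
theorem flipGenZ {K : Subgroup Co0} {Z : Finset GolayPt} (hK : HasSigns K Z)
    {r : GolayPt → ℤ} (hr : r ∈ leechLattice) (hr2 : ∀ i, r i % 2 = 0)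
    {E A : Finset GolayPt} (hE : ∀ i, i ∈ E ↔ r i ≠ 0) (hA : ∀ i, i ∈ A ↔ r i % 4 = 2)
    (hpair : ∀ p ∈ A, ∀ q ∈ A, p ≠ q → p ∉ Z → q ∉ Z →
      ∃ c ∈ supports (golayCode : Set (GolayPt → ZMod 2)), Disjoint c Z ∧ c ∩ E = {p, q})
    (hsing : ∀ p ∈ E, p ∉ A → p ∉ Z →
      ∃ c ∈ supports (golayCode : Set (GolayPt → ZMod 2)), Disjoint c Z ∧ c ∩ E = {p}) :
    ∀ y ∈ leechLattice, (∀ i, (y i).natAbs = (r i).natAbs) → (∀ i ∈ Z, y i = r i) → SameIn K y r := by
  intro y
  induction' hn : (Finset.univ.filter fun i => y i ≠ r i).card using Nat.strong_induction_on with n ih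
    generalizing y
  intro hy habs hZ
  by_cases hK' : y = r
  · rw [hK']; exact SameIn.refl hr
  have hbad : ∃ p, y p ≠ r p := by
    by_contra hc
    push Not at hc
    exact hK' (funext hc)
  have hbZ : ∀ i, y i ≠ r i → i ∉ Z := fun i hi hiZ => hi (hZ i hiZ)
  have hflip : ∀ i, y i ≠ r i → y i = - r i := by
    intro i hi
    have := habs i
    omega
  have hbE : ∀ i, y i ≠ r i → i ∈ E := by
    intro i hi
    rw [hE]
    intro h0
    apply hi
    have := habs i
    omega
  have hE0 : ∀ i, i ∉ E → y i = 0 := by
    intro i hi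
    rw [hE] at hi
    push Not at hi
    have := habs i
    omega
  -- one step of sign change
  have step : ∀ c ∈ supports (golayCode : Set (GolayPt → ZMod 2)), Disjoint c Z → ∀ B : Finset GolayPt,
      c ∩ E = B → B.Nonempty → (∀ i ∈ B, y i ≠ r i) → SameIn K y r := by
    intro c hc hcZ B hcE hne hB
    have h3 := sameIn_sign hK hc hcZ hy
    have hmem : ∀ i, i ∈ E → (i ∈ c ↔ i ∈ B) := by
      intro i hi
      rw [← hcE, Finset.mem_inter]
      tauto
    have habs' : ∀ i, (signChange c y i).natAbs = (r i).natAbs := by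
      intro i
      simp only [signChange]
      have := habs i
      split_ifs <;> omega
    have hZ' : ∀ i ∈ Z, signChange c y i = r i := by
      intro i hi
      simp only [signChange]
      rw [if_neg (fun h => Finset.disjoint_left.1 hcZ h hi)]
      exact hZ i hi
    have hsub : (Finset.univ.filter fun i => signChange c y i ≠ r i) ⊂
        (Finset.univ.filter fun i => y i ≠ r i) := by
      rw [Finset.ssubset_iff_of_subset]
      · obtain ⟨b, hb⟩ := hne
        refine ⟨b, ?_, ?_⟩
        · exact Finset.mem_filter.2 ⟨Finset.mem_univ _, hB b hb⟩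
        · have hbE' : b ∈ E := (Finset.mem_inter.1 (hcE ▸ hb)).2
          have hbc : b ∈ c := (hmem b hbE').2 hb
          intro hh
          have h6 := (Finset.mem_filter.1 hh).2
          apply h6
          simp only [signChange, if_pos hbc]
          have := hflip b (hB b hb)
          omega
      · intro i hi
        have hi' := (Finset.mem_filter.1 hi).2
        refine Finset.mem_filter.2 ⟨Finset.mem_univ _, ?_⟩
        intro hy'
        apply hi'
        simp only [signChange]
        split_ifs with hic
        · by_cases hiE : i ∈ E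
          · have hiB := (hmem i hiE).1 hic
            exact absurd hy' (hB i hiB)
          · rw [hE0 i hiE]
            have : r i = 0 := by
              have h5 := hE0 i hiE
              rw [← hy', h5]
            rw [this]
            simp
        · exact hy'
    have hcard := Finset.card_lt_card hsub
    rw [hn] at hcard
    exact h3.trans (ih _ hcard _ rfl h3.right_mem habs' hZ')
  by_cases hex : ∃ p, y p ≠ r p ∧ p ∉ A
  · obtain ⟨p, hp, hpA⟩ := hex
    obtain ⟨c, hc, hcZ, hcE⟩ := hsing p (hbE p hp) hpA (hbZ p hp)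
    exact step c hc hcZ {p} hcE ⟨p, Finset.mem_singleton_self p⟩ (by
      intro i hi
      rw [Finset.mem_singleton] at hi
      rw [hi]
      exact hp)
  · push Not at hex
    -- all bad coordinates are in `A`
    have hsum : ∑ i, (r i - y i) = ∑ i, (if y i ≠ r i then 2 * r i else 0) := by
      apply Finset.sum_congr rfl
      intro i _
      split_ifs with h
      · rw [hflip i h]; ring
      · have : y i = r i := by
          by_contra hh; exact h hh
        rw [this]; ring
    set B := Finset.univ.filter fun i => y i ≠ r i with hBdef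
    have hsum2 : ∑ i, (if y i ≠ r i then 2 * r i else 0) = ∑ i ∈ B, 2 * r i := by
      rw [Finset.sum_filter]
    have hmod : ∀ i ∈ B, ∃ t, 2 * r i = 4 + 8 * t := by
      intro i hi
      have h3 := hex i (by simpa [hBdef] using hi)
      rw [hA] at h3
      exact ⟨(r i - 2) / 4, by omega⟩
    have hsumB : ∃ t, ∑ i ∈ B, 2 * r i = 4 * (B.card : ℤ) + 8 * t := by
      choose! t ht using hmod
      refine ⟨∑ i ∈ B, t i, ?_⟩
      rw [Finset.sum_congr rfl ht, Finset.sum_add_distrib, Finset.sum_const, Finset.mul_sum]
      simp only [nsmul_eq_mul]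
      push_cast
      ring
    obtain ⟨t, ht⟩ := hsumB
    have hrs : (8 : ℤ) ∣ ∑ i, r i := by
      rw [mem_leechLattice_iff] at hr
      obtain ⟨m, hm, hp, hs, _⟩ := hr
      have hm0 : m = 0 := by rw [← hp none, hr2 none]
      subst hm0
      omega
    have hys : (8 : ℤ) ∣ ∑ i, y i := by
      have hy2 : ∀ i, y i % 2 = 0 := by
        intro i
        have h3 := habs i
        have h4 := hr2 i
        omega
      rw [mem_leechLattice_iff] at hy
      obtain ⟨m, hm, hp, hs, _⟩ := hy
      have hm0 : m = 0 := by rw [← hp none, hy2 none]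
      subst hm0
      omega
    have heven : (2 : ℤ) ∣ (B.card : ℤ) := by
      have h5 : ∑ i, (r i - y i) = ∑ i, r i - ∑ i, y i := Finset.sum_sub_distrib _ _
      rw [hsum, hsum2, ht] at h5
      omega
    have hBne : B.card ≠ 0 := by
      obtain ⟨p, hp⟩ := hbad
      have : p ∈ B := by simp [hBdef, hp]
      exact Finset.card_ne_zero_of_mem this
    have hB2 : 1 < B.card := by omega
    obtain ⟨p, hp, q, hq, hpq⟩ := Finset.one_lt_card.mp hB2
    have hp' : y p ≠ r p := by simpa [hBdef] using hp
    have hq' : y q ≠ r q := by simpa [hBdef] using hq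
    obtain ⟨c, hc, hcZ, hcE⟩ := hpair p (hex p hp') q (hex q hq') hpq (hbZ p hp') (hbZ q hq')
    refine step c hc hcZ {p, q} hcE ⟨p, by simp⟩ ?_
    intro i hi
    simp only [Finset.mem_insert, Finset.mem_singleton] at hi
    rcases hi with rfl | rfl
    · exact hp'
    · exact hq'

/-- Sign normalisation for odd vectors, keeping the coordinates in `Z`. -/
theorem odd_key {K : Subgroup Co0} {Z : Finset GolayPt} (hK : HasSigns K Z)
    {y r : GolayPt → ℤ} (hy : y ∈ leechLattice) (hr : r ∈ leechLattice) (hodd : ∀ i, r i % 2 = 1)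
    (habs : ∀ i, (y i).natAbs = (r i).natAbs) (hZ : ∀ i ∈ Z, y i = r i) : SameIn K y r := by
  have hd : y - r ∈ leechLattice := leechLattice.sub_mem hy hr
  rw [mem_leechLattice_iff] at hd
  obtain ⟨m, -, -, -, hw⟩ := hd
  set c := support₂ (wd (y - r)) with hc
  have hmem : ∀ i, i ∈ c ↔ y i ≠ r i := by
    intro i
    rw [hc, mem_support₂_wd]
    simp only [Pi.sub_apply]
    have h1 := habs i
    have h2 := hodd i
    constructor
    · intro h3 h4
      rw [h4] at h3
      simp at h3
    · intro h3
      have h4 : y i = - r i := by omega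
      rw [h4]
      omega
  have hcs : c ∈ supports (golayCode : Set (GolayPt → ZMod 2)) := ⟨_, hw, rfl⟩
  have hdis : Disjoint c Z := by
    rw [Finset.disjoint_left]
    intro i hi hi'
    exact (hmem i).1 hi (hZ i hi')
  have h3 := sameIn_sign hK hcs hdis hy
  have e : signChange c y = r := by
    funext i
    simp only [signChange]
    split_ifs with h
    · have h1 := habs i
      have h2 := (hmem i).1 h
      omega
    · rw [hmem] at h
      push Not at h
      exact h
  rwa [e] at h3

/-! ### Shapes of minimal vectors -/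

/-- Even minimal vectors: either a signed octad or two coordinates `±4`. -/
theorem shape_even {r : GolayPt → ℤ} (hr : r ∈ leechLattice) (h2 : ∀ i, r i % 2 = 0)
    (hn : sqNorm r = 32) :
    (∃ m ∈ octadList, ∀ p, (r p).natAbs = if m.testBit (idx p) = true then 2 else 0) ∨
    (∃ a b : GolayPt, a ≠ b ∧ ∀ p, (r p).natAbs = if p = a ∨ p = b then 4 else 0) := by
  have hb := natAbs_le_of_norm (le_of_eq_of_le hn (by norm_num))
  obtain ⟨h1, h3, h5, h7, hdvd, hmin, hS⟩ := even_relations hr h2 (le_of_eq_of_le hn (by norm_num))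
  obtain ⟨hc, hN⟩ := rel_expand r hb
  rw [hn] at hN
  have h6 : (Ab r 6).card = 0 := by omega
  have h8 : (Ab r 8).card = 0 := by omega
  have hE : ∀ a : ℕ, (Ab r a).card = 0 → ∀ p, (r p).natAbs ≠ a := by
    intro a ha p hp
    rw [Finset.card_eq_zero] at ha
    have : p ∈ Ab r a := mem_Ab.2 hp
    rw [ha] at this
    simp at this
  have hcases : ((Ab r 2).card = 8 ∧ (Ab r 4).card = 0) ∨ ((Ab r 2).card = 0 ∧ (Ab r 4).card = 2) := by
    omega
  have hall : ∀ p, (r p).natAbs = 0 ∨ (r p).natAbs = 2 ∨ (r p).natAbs = 4 := by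
    intro p
    have h4 := hb p
    have h9 := h2 p
    have h10 := hE 6 h6 p
    have h11 := hE 8 h8 p
    omega
  rcases hcases with ⟨h20, h40⟩ | ⟨h20, h40⟩
  · left
    have hS2 : support₂ (wd r) = Ab r 2 := by
      rw [hS]
      rw [Finset.card_eq_zero] at h6
      rw [h6, Finset.union_empty]
    have hx := hr
    rw [mem_leechLattice_iff] at hx
    obtain ⟨m, -, -, -, hw⟩ := hx
    have hsup : Ab r 2 ∈ octads := by
      unfold octads wordsOfWeight
      rw [Set.mem_ofPred_eq]
      refine ⟨?_, h20⟩
      rw [← hS2]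
      exact ⟨_, hw, rfl⟩
    refine ⟨toMask (Ab r 2), (mem_octads_iff _).1 hsup, fun p => ?_⟩
    have h30 := testBit_toMask (Ab r 2) p
    by_cases hp : p ∈ Ab r 2
    · rw [if_pos (by simpa [hp] using h30)]
      exact mem_Ab.1 hp
    · rw [if_neg (by simpa [hp] using h30)]
      have h31 : (r p).natAbs ≠ 2 := fun h => hp (mem_Ab.2 h)
      have h32 := hE 4 h40 p
      have := hall p
      omega
  · right
    obtain ⟨a, b, hab, hAb⟩ := Finset.card_eq_two.1 h40
    refine ⟨a, b, hab, fun p => ?_⟩
    have h33 : p ∈ Ab r 4 ↔ p = a ∨ p = b := by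
      rw [hAb]
      simp
    by_cases hp : p = a ∨ p = b
    · rw [if_pos hp]
      exact mem_Ab.1 (h33.2 hp)
    · rw [if_neg hp]
      have h31 : (r p).natAbs ≠ 4 := fun h => hp (h33.1 (mem_Ab.2 h))
      have h32 := hE 2 h20 p
      have := hall p
      omega

/-- Odd minimal vectors: one coordinate `±3`, the others `±1`. -/
theorem shape_odd {r : GolayPt → ℤ} (h2 : ∀ i, r i % 2 = 1) (hn : sqNorm r = 32) :
    ∃ a : GolayPt, ∀ p, (r p).natAbs = if p = a then 3 else 1 := by
  have hb := natAbs_le_of_norm (le_of_eq_of_le hn (by norm_num))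
  obtain ⟨h0, h2', h4, h6, h8⟩ := odd_relations h2
  obtain ⟨hc, hN⟩ := rel_expand r hb
  rw [hn] at hN
  have h5 : (Ab r 5).card = 0 := by omega
  have h7 : (Ab r 7).card = 0 := by omega
  have h3 : (Ab r 3).card = 1 := by omega
  have hE : ∀ a : ℕ, (Ab r a).card = 0 → ∀ p, (r p).natAbs ≠ a := by
    intro a ha p hp
    rw [Finset.card_eq_zero] at ha
    have : p ∈ Ab r a := mem_Ab.2 hp
    rw [ha] at this
    simp at this
  obtain ⟨a, ha⟩ := Finset.card_eq_one.1 h3
  refine ⟨a, fun p => ?_⟩
  have h33 : p ∈ Ab r 3 ↔ p = a := by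
    rw [ha]
    simp
  by_cases hp : p = a
  · rw [if_pos hp]
    exact mem_Ab.1 (h33.2 hp)
  · rw [if_neg hp]
    have h31 : (r p).natAbs ≠ 3 := fun h => hp (h33.1 (mem_Ab.2 h))
    have h32 := hE 5 h5 p
    have h34 := hE 7 h7 p
    have h35 := hb p
    have h36 := h2 p
    omega

/-! ### Checks for the existence of sign changes -/

/-- Code words avoiding the mask `z`. -/
def codeZ (z : ℕ) : List ℕ := codeList.filter fun c => (c &&& z) == 0

/-- Star of pairs in the octad `m` outside `z`. -/
def octStarOK (cs : List ℕ) (z m : ℕ) : Bool :=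
  let e := m &&& (allMask ^^^ z)
  let p0 := Nat.log2 e
  let Y := m ||| z
  (List.range 24).all fun q =>
    !(e.testBit q) || (q == p0) || cs.any fun c => (c &&& Y) == (2 ^ p0 ||| 2 ^ q)

/-- Single coordinates outside `z` can be changed, keeping any other coordinate. -/
def singOKZ (cs : List ℕ) (z : ℕ) : Bool :=
  (List.range 24).all fun i => (List.range 24).all fun j =>
    (i == j) || z.testBit i || cs.any fun c => (c &&& (2 ^ i ||| 2 ^ j ||| z)) == 2 ^ i

def keyCheck (z : ℕ) : Bool :=
  let cs := codeZ z
  octadList.all (octStarOK cs z) && singOKZ cs z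

theorem mem_codeZ {z c : ℕ} (h : c ∈ codeZ z) : c ∈ codeList ∧ c &&& z = 0 := by
  have := List.mem_filter.1 h
  exact ⟨this.1, by simpa using this.2⟩

theorem xor_two_pow {a p q : ℕ} (hp : p ≠ a) (hq : q ≠ a) (hpq : p ≠ q) :
    (2 ^ a ||| 2 ^ p) ^^^ (2 ^ a ||| 2 ^ q) = 2 ^ p ||| 2 ^ q := by
  apply Nat.eq_of_testBit_eq
  intro k
  simp only [Nat.testBit_xor, Nat.testBit_or, Nat.testBit_two_pow]
  by_cases h1 : a = k <;> by_cases h2 : p = k <;> by_cases h3 : q = k <;> simp [h1, h2, h3] <;> omega

theorem pair_of_star {z m : ℕ} (hm : octStarOK (codeZ z) z m = true) {p q : ℕ} (hp : p < 24)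
    (hq : q < 24) (hpq : p ≠ q) (hpe : (m &&& (allMask ^^^ z)).testBit p = true)
    (hqe : (m &&& (allMask ^^^ z)).testBit q = true) :
    ∃ c ∈ codeList, c &&& z = 0 ∧ c &&& (m ||| z) = 2 ^ p ||| 2 ^ q := by
  simp only [octStarOK, List.all_eq_true, List.mem_range] at hm
  set p0 := Nat.log2 (m &&& (allMask ^^^ z)) with hp0
  have star : ∀ q, q < 24 → (m &&& (allMask ^^^ z)).testBit q = true → q ≠ p0 →
      ∃ c ∈ codeList, c &&& z = 0 ∧ c &&& (m ||| z) = 2 ^ p0 ||| 2 ^ q := by
    intro q hq hqe hq0
    have h1 := hm q hq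
    rw [hqe] at h1
    have h2 : (q == p0) = false := by simpa using hq0
    rw [h2] at h1
    simp only [Bool.not_true, Bool.false_or, List.any_eq_true, beq_iff_eq] at h1
    obtain ⟨c, hc, he⟩ := h1
    obtain ⟨h3, h4⟩ := mem_codeZ hc
    exact ⟨c, h3, h4, he⟩
  by_cases h1 : p = p0
  · obtain ⟨c, hc, hz, he⟩ := star q hq hqe (fun h => hpq (h1.trans h.symm))
    exact ⟨c, hc, hz, by rw [he, h1]⟩
  by_cases h2 : q = p0
  · obtain ⟨c, hc, hz, he⟩ := star p hp hpe h1
    exact ⟨c, hc, hz, by rw [he, h2, Nat.lor_comm]⟩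
  obtain ⟨c, hc, hz, he⟩ := star p hp hpe h1
  obtain ⟨c', hc', hz', he'⟩ := star q hq hqe h2
  refine ⟨c ^^^ c', xor_mem_spanList hc hc', ?_, ?_⟩
  · rw [Nat.and_xor_distrib_right, hz, hz']
    rfl
  · rw [Nat.and_xor_distrib_right, he, he', xor_two_pow h1 h2 hpq]

theorem inter_of_mask {c z m pat : ℕ} (hcz : c &&& z = 0) (h : c &&& (m ||| z) = pat)
    (hpat : ∀ k : GolayPt, pat.testBit (idx k) = true → m.testBit (idx k) = true) :
    ofMask c ∩ ofMask m = ofMask pat := by
  ext k
  rw [Finset.mem_inter, mem_ofMask, mem_ofMask, mem_ofMask, ← h]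
  simp only [Nat.testBit_and, Nat.testBit_or, Bool.and_eq_true, Bool.or_eq_true]
  constructor
  · rintro ⟨h1, h2⟩
    exact ⟨h1, Or.inl h2⟩
  · intro h1
    refine ⟨h1.1, hpat k ?_⟩
    rw [← h]
    simp only [Nat.testBit_and, Nat.testBit_or, Bool.and_eq_true, Bool.or_eq_true]
    exact h1

theorem disjoint_of_mask {c z : ℕ} (hcz : c &&& z = 0) : Disjoint (ofMask c) (ofMask z) := by
  rw [Finset.disjoint_left]
  intro k h1 h2
  rw [mem_ofMask] at h1 h2
  have h3 : (c &&& z).testBit (idx k) = true := by
    rw [Nat.testBit_and, h1, h2]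
    rfl
  rw [hcz] at h3
  simp at h3

theorem ofMask_two_pow (p : GolayPt) : ofMask (2 ^ idx p) = {p} := by
  ext k
  rw [mem_ofMask, Finset.mem_singleton, Nat.testBit_two_pow]
  constructor
  · intro h
    exact (idx_injective (by simpa using h)).symm
  · rintro rfl
    simp

theorem ofMask_two_pow_or (p q : GolayPt) : ofMask (2 ^ idx p ||| 2 ^ idx q) = {p, q} := by
  rw [ofMask_or, ofMask_two_pow, ofMask_two_pow]
  rfl

/-- Two minimal vectors with the same absolute values, which agree on `z`. -/
theorem same_of_key {K : Subgroup Co0} {z : ℕ} (hK : HasSigns K (ofMask z)) (hc : keyCheck z = true)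
    {y r : GolayPt → ℤ} (hy : y ∈ leechLattice) (hr : r ∈ leechLattice) (hn : sqNorm r = 32)
    (habs : ∀ i, (y i).natAbs = (r i).natAbs) (hZ : ∀ i, i ∈ ofMask z → y i = r i) :
    SameIn K y r := by
  simp only [keyCheck, Bool.and_eq_true, List.all_eq_true] at hc
  obtain ⟨hoct, hsing⟩ := hc
  have hr' := hr
  rw [mem_leechLattice_iff] at hr'
  obtain ⟨t, ht, hp, -, -⟩ := hr'
  rcases ht with rfl | rfl
  · rcases shape_even hr hp hn with ⟨m, hm, hab⟩ | ⟨a, b, hab', hab⟩
    · refine flipGenZ hK hr hp (E := ofMask m) (A := ofMask m) ?_ ?_ ?_ ?_ y hy habs hZ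
      · intro i
        rw [mem_ofMask]
        have := hab i
        by_cases h : m.testBit (idx i) = true
        · rw [if_pos h] at this
          exact ⟨fun _ => by omega, fun _ => h⟩
        · rw [if_neg h] at this
          exact ⟨fun h' => absurd h' h, fun h' => by omega⟩
      · intro i
        rw [mem_ofMask]
        have := hab i
        by_cases h : m.testBit (idx i) = true
        · rw [if_pos h] at this
          exact ⟨fun _ => by omega, fun _ => h⟩
        · rw [if_neg h] at this
          exact ⟨fun h' => absurd h' h, fun h' => by omega⟩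
      · intro p hpm q hqm hpq hpz hqz
        rw [mem_ofMask] at hpm hqm hpz hqz
        have hallz : ∀ k, k < 24 → (allMask ^^^ z).testBit k = !z.testBit k := by
          intro k hk
          rw [Nat.testBit_xor]
          have : allMask.testBit k = true := by
            revert k
            decide
          rw [this]
          simp
        have hpe : (m &&& (allMask ^^^ z)).testBit (idx p) = true := by
          rw [Nat.testBit_and, hpm, hallz _ (idx_lt p)]
          simpa using hpz
        have hqe : (m &&& (allMask ^^^ z)).testBit (idx q) = true := by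
          rw [Nat.testBit_and, hqm, hallz _ (idx_lt q)]
          simpa using hqz
        obtain ⟨c, hc, hz, he⟩ := pair_of_star (hoct m hm) (idx_lt p) (idx_lt q)
          (fun h => hpq (idx_injective h)) hpe hqe
        refine ⟨ofMask c, (ofMask_mem_supports_iff (codeList_lt hc)).2 hc, disjoint_of_mask hz, ?_⟩
        rw [inter_of_mask hz he, ofMask_two_pow_or]
        intro k hk
        simp only [Nat.testBit_or, Nat.testBit_two_pow, Bool.or_eq_true, decide_eq_true_eq] at hk
        rcases hk with h | h
        · rw [← h]; exact hpm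
        · rw [← h]; exact hqm
      · intro p hp1 hp2
        exact absurd hp1 hp2
    · refine flipGenZ hK hr hp (E := ofMask (2 ^ idx a ||| 2 ^ idx b)) (A := ∅) ?_ ?_ ?_ ?_ y hy habs hZ
      · intro i
        rw [ofMask_two_pow_or]
        have := hab i
        simp only [Finset.mem_insert, Finset.mem_singleton]
        by_cases h : i = a ∨ i = b
        · rw [if_pos h] at this
          simp only [h, true_iff]
          omega
        · rw [if_neg h] at this
          simp only [h, false_iff]
          omega
      · intro i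
        have := hab i
        simp only [Finset.notMem_empty, false_iff]
        by_cases h : i = a ∨ i = b
        · rw [if_pos h] at this
          omega
        · rw [if_neg h] at this
          omega
      · intro p hp1
        simp at hp1
      · intro p hp1 _ hpz
        rw [ofMask_two_pow_or] at hp1
        simp only [Finset.mem_insert, Finset.mem_singleton] at hp1
        rw [mem_ofMask] at hpz
        have key : ∀ u v : GolayPt, u ≠ v → z.testBit (idx u) ≠ true →
            ∃ c ∈ supports (golayCode : Set (GolayPt → ZMod 2)), Disjoint c (ofMask z) ∧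
              c ∩ ({u, v} : Finset GolayPt) = {u} := by
          intro u v huv huz
          have h1 := List.all_eq_true.1 hsing _ (List.mem_range.2 (idx_lt u))
          have h2 := List.all_eq_true.1 h1 _ (List.mem_range.2 (idx_lt v))
          have h3 : (idx u == idx v) = false := by
            simpa using fun h => huv (idx_injective h)
          have h4 : z.testBit (idx u) = false := by simpa using huz
          rw [h3, h4] at h2
          simp only [Bool.false_or, List.any_eq_true, beq_iff_eq] at h2
          obtain ⟨c, hcm, he⟩ := h2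
          obtain ⟨h5, h6⟩ := mem_codeZ hcm
          refine ⟨ofMask c, (ofMask_mem_supports_iff (codeList_lt h5)).2 h5, disjoint_of_mask h6, ?_⟩
          have h7 := inter_of_mask (m := 2 ^ idx u ||| 2 ^ idx v) h6 he ?_
          · rw [ofMask_two_pow_or, ofMask_two_pow] at h7
            exact h7
          · intro k hk
            simp only [Nat.testBit_two_pow, decide_eq_true_eq] at hk
            simp only [Nat.testBit_or, Nat.testBit_two_pow, Bool.or_eq_true, decide_eq_true_eq]
            exact Or.inl hk
        rcases hp1 with rfl | rfl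
        · rw [ofMask_two_pow_or]
          exact key _ _ hab' hpz
        · rw [ofMask_two_pow_or, Finset.pair_comm]
          exact key _ _ hab'.symm hpz
  · exact odd_key hK hy hr hp habs hZ

/-! ### Explicit actions on list vectors -/

/-- The function `f` on lists describes the action of `g` on lattice vectors. -/
def Acts (g : Co0) (f : List ℤ → List ℤ) : Prop :=
  ∀ (l : List ℤ) (hl : vecOf l ∈ leechLattice),
    ((g • (⟨vecOf l, hl⟩ : leechLattice) : leechLattice) : GolayPt → ℤ) = vecOf (f l)

theorem Acts.smul {g : Co0} {f : List ℤ → List ℤ} (h : Acts g f) {l : List ℤ}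
    (hl : vecOf l ∈ leechLattice) (hf : vecOf (f l) ∈ leechLattice) :
    g • (⟨vecOf l, hl⟩ : leechLattice) = ⟨vecOf (f l), hf⟩ :=
  Subtype.ext (h l hl)

theorem Acts.mem {g : Co0} {f : List ℤ → List ℤ} (h : Acts g f) {l : List ℤ}
    (hl : vecOf l ∈ leechLattice) : vecOf (f l) ∈ leechLattice := by
  rw [← h l hl]
  exact (g • (⟨vecOf l, hl⟩ : leechLattice)).2

theorem Acts.comp {g g' : Co0} {f f' : List ℤ → List ℤ} (h' : Acts g' f') (h : Acts g f) :
    Acts (g' * g) (fun l => f' (f l)) := by
  intro l hl
  rw [mul_smul, h.smul hl (h.mem hl)]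
  exact h' _ _

/-- Permutation of a list vector: `Ti` is the inverse table. -/
def permL (Ti : List ℕ) (l : List ℤ) : List ℤ := rangeL fun j => l.getD (Ti.getD j 0) 0

theorem acts_perm {T Ti : List ℕ} (hT : goodT T = true)
    (hTi : (List.range 24).all (fun i => Ti.getD (T.getD i 0) 0 == i) = true) :
    Acts (permCo0 (gPerm T hT) (gPerm_mem hT)) (permL Ti) := by
  intro l hl
  show permV (gPerm T hT) (vecOf l) = _
  funext p
  simp only [permV, vecOf, permL]
  rw [show (rangeL fun j => l.getD (Ti.getD j 0) 0).getD (idx p) 0 = vecOf (rangeL fun j => l.getD (Ti.getD j 0) 0) p from rfl,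
    vecOf_rangeL]
  set j := (gPerm T hT).symm p with hj
  have h2 := gPerm_pt hT (idx_lt j)
  rw [pt_idx] at h2
  have h3 : (gPerm T hT) j = p := by simp [hj]
  rw [h3] at h2
  have h1 := List.all_eq_true.1 hTi _ (List.mem_range.2 (idx_lt j))
  rw [beq_iff_eq] at h1
  have h4 : idx p = T.getD (idx j) 0 := by
    rw [h2]
    apply idx_pt
    have hv := validTbl_of_goodT hT
    apply hv.2.2
    rw [List.getD_eq_getElem _ _ (by rw [hv.1]; exact idx_lt j)]
    exact List.getElem_mem _
  rw [h4, h1]

/-- Matrix action on a list vector. -/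
def matL (M : List (List ℤ)) (D : ℤ) (l : List ℤ) : List ℤ :=
  rangeL fun i => (matVec M l).getD i 0 / D

theorem acts_mat {M : List (List ℤ)} {D : ℤ} (hM : matCheck M D = true) :
    Acts (matCo0 hM) (matL M D) := by
  intro l hl
  rw [matCo0_smul_vecOf]
  funext k
  unfold matL
  rw [vecOf_rangeL]
  simp only [vecOf, matVec, rangeL]

/-- Sign change of a list vector. -/
def signL (m : ℕ) (l : List ℤ) : List ℤ :=
  rangeL fun i => if m.testBit i then - l.getD i 0 else l.getD i 0

theorem acts_sign {m : ℕ} (hc : ofMask m ∈ supports (golayCode : Set (GolayPt → ZMod 2))) :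
    Acts (signCo0 (ofMask m) hc) (signL m) := by
  intro l hl
  show signChange (ofMask m) (vecOf l) = _
  funext k
  unfold signL
  rw [vecOf_rangeL]
  simp only [signChange, mem_ofMask, vecOf]

/-! ### Trees of class representatives -/

/-- Same absolute values, and the same coordinates in `z`. -/
def keyEqL (z : ℕ) (a b : List ℤ) : Bool :=
  (List.range 24).all fun i =>
    ((a.getD i 0).natAbs == (b.getD i 0).natAbs) && (!z.testBit i || a.getD i 0 == b.getD i 0)

def normL (l : List ℤ) : ℤ := ((List.range 24).map fun i => (l.getD i 0) ^ 2).sum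

theorem sqNorm_vecOf (l : List ℤ) : sqNorm (vecOf l) = normL l := by
  unfold sqNorm normL
  exact sum_golayPt fun i => (l.getD i 0) ^ 2

/-- One entry of a tree: generator, parent and depth of the `i`-th representative; a generator
index `g ≥ 10` means that generator `g - 10` is applied to the parent. -/
def entryOK (z : ℕ) (gens : List (List ℤ → List ℤ)) (reps : List (List ℤ))
    (cert : List (ℕ × ℕ × ℕ)) (i : ℕ) : Bool :=
  let r := reps.getD i []
  let e := cert.getD i (0, 0, 0)
  let q := reps.getD e.2.1 []
  inLattice r && (normL r == 32) &&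
    (i == 0 || (decide (e.2.1 < reps.length) &&
      decide ((cert.getD e.2.1 (0, 0, 0)).2.2 < e.2.2) &&
      (if e.1 < 10 then
        decide (e.1 < gens.length) && keyEqL z ((gens.getD e.1 id) r) q
      else
        decide (e.1 - 10 < gens.length) && keyEqL z ((gens.getD (e.1 - 10) id) q) r)))

/-- A certificate: all representatives reduce to the first one. -/
def treeOK (z : ℕ) (gens : List (List ℤ → List ℤ)) (reps : List (List ℤ))
    (cert : List (ℕ × ℕ × ℕ)) : Bool :=
  (List.range reps.length).all (entryOK z gens reps cert)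

theorem tree_sound {K : Subgroup Co0} {z : ℕ} (hK : HasSigns K (ofMask z)) (hc : keyCheck z = true)
    {gens : List (List ℤ → List ℤ)}
    (hg : ∀ f ∈ gens, ∀ l, vecOf l ∈ leechLattice → SameIn K (vecOf l) (vecOf (f l)))
    {reps : List (List ℤ)} {cert : List (ℕ × ℕ × ℕ)} (h : treeOK z gens reps cert = true) :
    ∀ r ∈ reps, SameIn K (vecOf r) (vecOf (reps.getD 0 [])) := by
  have hE : ∀ i, i < reps.length → entryOK z gens reps cert i = true := by
    intro i hi
    exact List.all_eq_true.1 h _ (List.mem_range.2 hi)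
  have key : ∀ d i, i < reps.length → (cert.getD i (0, 0, 0)).2.2 = d →
      SameIn K (vecOf (reps.getD i [])) (vecOf (reps.getD 0 [])) := by
    intro d
    induction' d using Nat.strong_induction_on with d ih
    intro i hi hd
    have h1 := hE i hi
    simp only [entryOK, Bool.and_eq_true, Bool.or_eq_true, beq_iff_eq, decide_eq_true_eq] at h1
    obtain ⟨⟨hL, hN⟩, h2⟩ := h1
    rcases h2 with h0 | ⟨⟨hp1, hd1⟩, hdir⟩
    · rw [h0]
      exact SameIn.refl (inLattice_sound (by rw [← h0]; exact hL))
    · have h4 := hE _ hp1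
      simp only [entryOK, Bool.and_eq_true, Bool.or_eq_true, beq_iff_eq, decide_eq_true_eq] at h4
      obtain ⟨⟨hL', hN'⟩, -⟩ := h4
      have hkeyS : ∀ (u v : List ℤ), keyEqL z u v = true → vecOf u ∈ leechLattice →
          vecOf v ∈ leechLattice → normL v = 32 → SameIn K (vecOf u) (vecOf v) := by
        intro u v huv hu hv hnv
        simp only [keyEqL, List.all_eq_true, List.mem_range, Bool.and_eq_true, beq_iff_eq,
          Bool.or_eq_true, Bool.not_eq_true'] at huv
        exact same_of_key hK hc hu hv (by rw [sqNorm_vecOf, hnv]) (fun p => (huv _ (idx_lt p)).1)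
          (fun p hp => by
            rw [mem_ofMask] at hp
            have := (huv _ (idx_lt p)).2
            rw [hp] at this
            simpa [vecOf] using this)
      have hIH := ih _ (by rw [← hd]; exact hd1) _ hp1 rfl
      split_ifs at hdir with hdir'
      · simp only [Bool.and_eq_true, decide_eq_true_eq] at hdir
        obtain ⟨hg1, hkey⟩ := hdir
        have hf : gens.getD (cert.getD i (0, 0, 0)).1 id ∈ gens := by
          rw [List.getD_eq_getElem _ _ hg1]
          exact List.getElem_mem _
        have h3 := hg _ hf _ (inLattice_sound hL)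
        exact h3.trans ((hkeyS _ _ hkey h3.right_mem (inLattice_sound hL') hN').trans hIH)
      · simp only [Bool.and_eq_true, decide_eq_true_eq] at hdir
        obtain ⟨hg1, hkey⟩ := hdir
        have hf : gens.getD ((cert.getD i (0, 0, 0)).1 - 10) id ∈ gens := by
          rw [List.getD_eq_getElem _ _ hg1]
          exact List.getElem_mem _
        have h3 := hg _ hf _ (inLattice_sound hL')
        exact ((hkeyS _ _ hkey h3.right_mem (inLattice_sound hL) hN).symm.trans h3.symm).trans hIH
  intro r hr
  obtain ⟨i, hi, rfl⟩ := List.mem_iff_getElem.1 hr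
  have := key _ i hi rfl
  rwa [List.getD_eq_getElem _ _ hi] at this

end Cfsg.Agent.Lib.Sporadic.LeechKey
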