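import Mathlib
import Cfsg.Agent.Lib.Sporadic.LeechKey

/-!
# The stabiliser of the minimal vector `a0 = 4 e₃ + 4 e₅`

Its orbits on the minimal vectors of given inner product with `a0`.
-/

set_option autoImplicit false

namespace Cfsg.Agent.Lib.Sporadic.LeechA0

open Cfsg Cfsg.Agent.Lib.Sporadic.GolayCore Cfsg.Agent.Lib.Sporadic.LeechBasic
  Cfsg.Agent.Lib.Sporadic.LeechNorm Cfsg.Agent.Lib.Sporadic.LeechFacts
  Cfsg.Agent.Lib.Sporadic.LeechAut Cfsg.Agent.Lib.Sporadic.LeechMat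
  Cfsg.Agent.Lib.Sporadic.LeechOrb Cfsg.Agent.Lib.Sporadic.LeechShape
  Cfsg.Agent.Lib.Sporadic.LeechKey Cfsg.Agent.Lib.Sporadic.LeechMin
  Cfsg.Agent.Lib.Sporadic.M24Chain Cfsg.Agent.Lib.Sporadic.M24Tbl
open scoped Pointwise

def a0L : List ℤ := rangeL fun i => if i = 3 ∨ i = 5 then 4 else 0

theorem a0L_ok : inLattice a0L = true := by decide +kernel

/-- The standard minimal vector. -/
def a0 : leechLattice := ⟨vecOf a0L, inLattice_sound a0L_ok⟩

/-- The stabiliser of the standard minimal vector. -/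
def KA : Subgroup Co0 := MulAction.stabilizer Co0 a0

theorem mem_ofMask_40 {p : GolayPt} : p ∈ ofMask 40 ↔ idx p = 3 ∨ idx p = 5 := by
  rw [mem_ofMask]
  have := idx_lt p
  generalize idx p = n at *
  interval_cases n <;> decide

theorem hasSigns_KA : HasSigns KA (ofMask 40) := by
  intro c hc hd
  show _ • a0 = a0
  apply Subtype.ext
  show signChange c (vecOf a0L) = vecOf a0L
  funext p
  simp only [signChange]
  split_ifs with h
  · have h1 : p ∉ ofMask 40 := Finset.disjoint_left.1 hd h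
    rw [mem_ofMask_40] at h1
    unfold a0L
    rw [vecOf_rangeL, if_neg h1]
    simp
  · rfl

theorem keyCheck_40 : keyCheck 40 = true := by decide +kernel

theorem acts_same {g : Co0} {f : List ℤ → List ℤ} (h : Acts g f) (hg : g ∈ KA) (l : List ℤ)
    (hl : vecOf l ∈ leechLattice) : SameIn KA (vecOf l) (vecOf (f l)) :=
  ⟨hl, h.mem hl, g, hg, h.smul hl (h.mem hl)⟩

theorem acts_mem {g : Co0} {f : List ℤ → List ℤ} (h : Acts g f) (hf : f a0L = a0L) : g ∈ KA := by
  show g • a0 = a0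
  apply Subtype.ext
  have := h a0L (inLattice_sound a0L_ok)
  rw [hf] at this
  exact this

/-! ### Representatives of the sign classes -/

def rep1Fn (a b : ℕ) (sa sb : ℤ) (k : ℕ) : ℤ :=
  if k = a then 4 * sa else if k = b then 4 * sb else 0

def rep2Fn (m : ℕ) (s0 s1 : ℤ) (k : ℕ) : ℤ :=
  if m.testBit k then
    (if k = 3 then 2 * s0 else if k = 5 then 2 * s1 else if k = Nat.log2 m then 2 * (s0 * s1) else 2)
  else 0

def rep3Fn (p c : ℕ) (k : ℕ) : ℤ :=
  if c.testBit k then -(if k = p then -3 else 1) else (if k = p then -3 else 1)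

def optsAt (k : ℕ) : List ℤ := if k = 3 ∨ k = 5 then [1, -1] else [1]

def opts2 (m k : ℕ) : List ℤ := if m.testBit k then [1, -1] else [1]

def cosetWords : List ℕ := [0,16777215,4196943,8391797]

def allReps : List (List ℤ) :=
  ((List.range 24).flatMap fun a => (List.range a).flatMap fun b => (optsAt a).flatMap fun sa =>
      (optsAt b).map fun sb => rangeL (rep1Fn a b sa sb)) ++
    ((octadList.flatMap fun m => (opts2 m 3).flatMap fun s0 => (opts2 m 5).map fun s1 =>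
      rangeL (rep2Fn m s0 s1)) ++
    ((List.range 24).flatMap fun p => cosetWords.map fun c => rangeL (rep3Fn p c)))

/-- The class representatives with given sum of the coordinates `3` and `5`. -/
def reps (s : ℤ) : List (List ℤ) := allReps.filter fun r => r.getD 3 0 + r.getD 5 0 == s

/-! ### Generators -/

def tG0 : List ℕ := [1,9,11,3,4,5,23,12,7,15,18,17,21,0,14,13,10,19,6,20,2,22,8,16]
def tI0 : List ℕ := [13,0,20,3,4,5,18,8,22,1,16,2,7,15,14,9,23,11,10,17,19,12,21,6]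
theorem tG0_ok : goodT tG0 = true := by decide +kernel
noncomputable def g0 : Co0 := permCo0 (gPerm tG0 tG0_ok) (gPerm_mem tG0_ok)
theorem act0 : Acts g0 (permL tI0) := acts_perm tG0_ok (by decide +kernel)
theorem act0_mem : g0 ∈ KA := acts_mem act0 (by decide +kernel)

def tG1 : List ℕ := [12,9,23,3,0,5,20,14,19,7,11,15,10,6,21,13,1,16,22,2,18,8,4,17]
def tI1 : List ℕ := [4,16,19,3,22,5,13,9,21,1,12,10,0,15,7,11,17,23,20,8,6,14,18,2]
theorem tG1_ok : goodT tG1 = true := by decide +kernel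
noncomputable def g1 : Co0 := permCo0 (gPerm tG1 tG1_ok) (gPerm_mem tG1_ok)
theorem act1 : Acts g1 (permL tI1) := acts_perm tG1_ok (by decide +kernel)
theorem act1_mem : g1 ∈ KA := acts_mem act1 (by decide +kernel)

def tG2 : List ℕ := [20,8,7,3,9,5,0,21,23,4,18,13,17,14,11,22,1,19,10,2,6,12,16,15]
def tI2 : List ℕ := [6,16,19,3,9,5,20,2,1,4,18,14,21,11,13,23,22,12,10,17,0,7,15,8]
theorem tG2_ok : goodT tG2 = true := by decide +kernel
noncomputable def g2 : Co0 := permCo0 (gPerm tG2 tG2_ok) (gPerm_mem tG2_ok)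
theorem act2 : Acts g2 (permL tI2) := acts_perm tG2_ok (by decide +kernel)
theorem act2_mem : g2 ∈ KA := acts_mem act2 (by decide +kernel)

def tG3 : List ℕ := [10,2,19,5,4,3,17,13,23,15,22,7,12,16,1,14,21,6,11,9,8,18,0,20]
def tI3 : List ℕ := [22,14,1,5,4,3,17,11,20,19,0,18,12,7,15,9,13,6,21,2,23,16,10,8]
theorem tG3_ok : goodT tG3 = true := by decide +kernel
noncomputable def g3 : Co0 := permCo0 (gPerm tG3 tG3_ok) (gPerm_mem tG3_ok)
theorem act3 : Acts g3 (permL tI3) := acts_perm tG3_ok (by decide +kernel)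
theorem act3_mem : g3 ∈ KA := acts_mem act3 (by decide +kernel)

def tGs : List ℕ := [8,19,16,12,22,6,14,2,18,11,23,20,21,10,3,1,17,5,15,9,7,4,0,13]
def tIs : List ℕ := [22,15,7,14,21,17,5,20,0,19,13,9,3,23,6,18,2,16,8,1,11,12,4,10]
theorem tGs_ok : goodT tGs = true := by decide +kernel
noncomputable def gS : Co0 := permCo0 (gPerm tGs tGs_ok) (gPerm_mem tGs_ok)
theorem actS : Acts gS (permL tIs) := acts_perm tGs_ok (by decide +kernel)
theorem actX : Acts (gS * matCo0 xiMat_ok) (fun l => permL tIs (matL xiMat 2 l)) := actS.comp (acts_mat xiMat_ok)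
theorem actX_mem : gS * matCo0 xiMat_ok ∈ KA := acts_mem actX (by decide +kernel)

def gensA : List (List ℤ → List ℤ) :=
  [permL tI0, permL tI1, permL tI2, permL tI3, (fun l => permL tIs (matL xiMat 2 l))]

theorem gensA_sound : ∀ f ∈ gensA, ∀ l, vecOf l ∈ leechLattice → SameIn KA (vecOf l) (vecOf (f l)) := by
  intro f hf
  simp only [gensA, List.mem_cons, List.not_mem_nil, or_false] at hf
  rcases hf with rfl | rfl | rfl | rfl | rfl
  · exact acts_same act0 act0_mem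
  · exact acts_same act1 act1_mem
  · exact acts_same act2 act2_mem
  · exact acts_same act3 act3_mem
  · exact acts_same actX actX_mem

/-! ### Trees -/

def cert_m4 : List (ℕ × ℕ × ℕ) := [(0,0,0),(10,0,1),(10,36,2),(1,0,1),(3,16,3),(3,2,3),(13,1,2),(13,3,2),(2,0,1),(3,30,3),(0,20,2),(3,22,2),(12,1,2),(13,36,2),(10,1,2),(13,34,3),(11,20,2),(13,0,1),(2,22,2),(11,17,2),(11,0,1),(13,20,2),(0,0,1),(2,25,3),(12,22,2),(3,1,2),(0,22,2),(2,41,2),(1,1,2),(0,17,2),(12,20,2),(13,8,2),(11,36,2),(10,17,2),(0,36,2),(3,14,3),(12,0,1),(3,12,3),(10,20,2),(0,41,2),(13,17,2),(3,0,1),(10,8,2),(3,36,2),(0,70,4),(0,68,3),(10,118,2),(11,118,2),(13,54,3),(1,68,3),(11,88,4),(1,55,4),(1,115,4),(2,65,4),(2,118,2),(10,54,3),(11,113,4),(3,46,3),(11,98,4),(3,94,3),(1,76,3),(11,108,3),(0,47,3),(0,119,4),(2,59,4),(1,117,3),(0,117,3),(12,80,4),(0,118,2),(12,68,3),(11,54,3),(10,49,4),(1,82,4),(1,103,4),(13,69,4),(2,45,4),(12,118,2),(12,117,3),(12,86,4),(10,76,3),(1,54,3),(3,76,3),(1,94,3),(11,100,4),(11,69,4),(2,115,4),(10,94,3),(3,70,4),(13,46,3),(13,48,4),(1,59,4),(3,69,4),(10,109,4),(10,70,4),(1,118,2),(10,65,4),(0,115,4),(13,68,3),(11,68,3),(0,97,4),(2,94,3),(2,108,3),(3,109,4),(0,54,3),(13,103,4),(12,110,4),(10,60,4),(10,46,3),(13,118,2),(2,68,3),(12,46,3),(12,108,3),(1,46,3),(12,94,3),(11,46,3),(2,54,3),(12,45,4),(3,118,2),(14,0,1),(0,94,3),(10,115,4),(3,122,6),(14,52,5)]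

theorem tree_m4 : treeOK 40 gensA (reps (-4)) cert_m4 = true := by decide +kernel

def cert_m2 : List (ℕ × ℕ × ℕ) := [(0,0,0),(0,82,3),(12,7,3),(12,100,4),(12,21,4),(11,56,3),(13,63,2),(10,35,2),(12,89,4),(11,309,3),(3,207,2),(1,289,3),(2,190,2),(13,59,3),(13,20,3),(13,120,4),(13,62,3),(0,251,3),(0,76,4),(11,190,2),(10,326,2),(12,60,3),(11,255,3),(11,119,2),(3,210,3),(10,20,3),(1,158,4),(13,19,3),(2,249,4),(3,24,4),(2,255,3),(0,48,4),(1,141,3),(13,0,1),(2,80,3),(3,0,1),(12,299,3),(10,55,4),(12,240,3),(3,167,3),(11,196,3),(10,54,3),(3,23,3),(11,129,3),(11,60,3),(2,172,4),(10,331,4),(12,35,2),(12,102,3),(0,59,3),(0,290,3),(3,163,3),(2,160,4),(12,51,4),(1,35,2),(10,59,3),(12,33,2),(3,174,4),(2,7,3),(1,63,2),(10,63,2),(0,47,3),(0,33,2),(10,0,1),(12,318,4),(1,48,4),(10,161,3),(2,54,3),(12,144,3),(1,207,2),(10,56,3),(2,251,3),(13,47,3),(13,21,4),(11,55,4),(10,264,4),(12,47,3),(12,80,3),(11,120,4),(12,24,4),(0,190,2),(12,101,4),(13,119,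2),(0,183,4),(2,285,3),(13,60,3),(2,13,4),(2,23,3),(3,119,2),(0,167,3),(12,263,4),(2,326,2),(0,343,3),(12,155,4),(10,251,3),(12,19,3),(12,105,4),(11,62,3),(1,331,4),(10,47,3),(12,59,3),(12,251,3),(11,63,2),(0,326,2),(12,190,2),(10,224,3),(12,230,4),(1,91,3),(13,80,3),(0,155,4),(12,207,2),(1,88,3),(12,183,4),(3,21,4),(3,201,3),(1,10,3),(12,201,3),(3,39,4),(3,164,4),(2,0,1),(11,299,3),(10,136,3),(1,103,3),(12,334,4),(1,62,3),(12,338,3),(2,167,3),(1,54,3),(3,69,3),(0,119,2),(3,177,3),(0,318,4),(0,309,3),(2,69,3),(0,115,4),(12,210,3),(11,33,2),(0,299,3),(13,210,3),(12,346,3),(3,166,3),(12,326,2),(11,9,4),(13,102,3),(10,119,2),(10,138,4),(1,216,4),(13,155,4),(2,163,3),(10,309,3),(11,6,3),(11,10,3),(3,104,3),(2,12,3),(1,162,4),(13,201,3),(1,172,4),(1,206,4),(1,196,3),(0,220,4),(3,59,3),(13,33,2),(0,102,3),(0,35,2),(2,224,3),(2,239,4),(1,119,2),(0,288,2),(13,44,4),(10,210,3),(12,55,4),(1,105,4),(1,251,3),(13,23,3),(10,343,3),(2,143,4),(11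,205,4),(3,190,2),(0,285,3),(2,119,2),(10,203,4),(3,60,3),(11,80,3),(13,6,3),(3,103,3),(11,343,3),(3,54,3),(1,7,3),(0,240,3),(10,88,3),(0,0,1),(13,216,4),(11,89,4),(10,204,4),(1,100,4),(0,22,4),(10,288,2),(11,88,3),(2,236,4),(2,105,4),(2,346,3),(12,63,2),(12,82,3),(11,238,3),(1,210,3),(10,290,3),(2,309,3),(12,0,1),(10,69,3),(13,104,3),(12,288,2),(0,181,4),(11,91,3),(1,338,3),(0,160,4),(13,167,3),(12,167,3),(0,136,3),(11,100,4),(13,151,4),(3,102,3),(11,149,4),(1,68,4),(2,238,3),(3,63,2),(1,49,4),(13,100,4),(1,56,3),(10,238,3),(11,144,3),(3,196,3),(11,151,4),(10,158,4),(0,104,3),(1,321,4),(12,204,4),(1,224,3),(3,230,4),(13,207,2),(1,166,3),(3,326,2),(10,166,3),(10,23,3),(3,255,3),(3,285,3),(13,255,3),(2,197,4),(2,289,3),(3,289,3),(11,161,3),(1,12,3),(3,288,2),(10,240,3),(2,343,3),(12,143,4),(10,33,2),(0,91,3),(10,6,3),(0,10,3),(2,88,3),(0,88,3),(3,251,3),(1,309,3),(13,298,3),(2,60,3),(1,59,3),(2,177,3),(12,23,3),(12,13,4),(2,89,4),(1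1,35,2),(11,138,4),(12,110,3),(12,17,4),(1,129,3),(0,9,4),(2,196,3),(2,30,4),(11,163,3),(13,270,3),(13,309,3),(10,7,3),(13,296,4),(12,88,3),(11,12,3),(1,326,2),(11,162,4),(3,346,3),(11,0,1),(2,33,2),(2,35,2),(2,102,3),(1,201,3),(0,200,4),(10,24,4),(3,298,3),(12,224,3),(3,240,3),(2,288,2),(13,288,2),(11,104,3),(12,196,3),(10,299,3),(13,280,4),(10,228,4),(2,91,3),(3,338,3),(13,291,4),(2,82,3),(2,63,2),(13,343,3),(0,110,3),(3,258,4),(13,338,3),(10,114,4),(13,289,3),(12,177,3),(10,104,3),(0,224,3),(13,290,3),(0,262,4),(12,6,3),(11,338,3),(2,138,4),(11,143,4),(12,62,3),(1,0,1),(13,262,4),(12,9,4),(13,302,4),(3,291,4),(1,60,3),(2,347,4),(0,13,4),(11,102,3),(11,289,3),(13,335,4),(13,346,3),(10,207,2),(3,349,4),(3,309,3),(1,220,4),(12,10,3),(11,288,2),(10,236,4),(3,334,4),(11,207,2),(3,290,3),(10,144,3),(12,163,3),(12,162,4),(10,148,4),(10,365,2),(10,352,3),(2,359,3),(14,121,4),(1,352,3),(13,355,5),(11,365,2),(3,365,2),(0,359,3),(1,359,3),(1,363,3),(2,365,2),(10,359,3),(14,0,1),(12,365,2),(0,365,2),(13,365,2),(10,363,3),(3,363,3),(13,354,4),(12,352,3),(12,359,3),(3,352,3),(10,358,3)]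

theorem tree_m2 : treeOK 40 gensA (reps (-2)) cert_m2 = true := by decide +kernel

def cert_z : List (ℕ × ℕ × ℕ) := [(0,0,0),(0,39,4),(1,219,4),(10,60,3),(3,5,4),(2,28,3),(4,51,3),(13,6,4),(11,60,3),(12,169,3),(1,230,3),(3,110,3),(10,63,4),(0,54,2),(10,161,2),(10,20,3),(1,167,3),(0,13,3),(0,28,3),(13,156,3),(12,24,2),(12,156,3),(1,150,3),(13,209,3),(10,0,1),(10,156,3),(0,83,3),(12,158,4),(11,24,2),(2,215,3),(11,50,4),(10,93,4),(13,0,1),(10,96,2),(3,207,3),(11,54,2),(0,127,3),(10,94,3),(3,35,3),(1,87,3),(12,150,3),(0,110,3),(2,57,2),(13,131,3),(2,223,4),(13,154,3),(3,197,3),(12,177,3),(1,37,4),(3,148,3),(0,176,3),(11,57,2),(2,188,3),(10,197,3),(11,0,1),(3,202,4),(10,14,3),(0,0,1),(2,74,3),(13,13,3),(3,96,2),(11,91,3),(11,87,3),(11,186,3),(12,41,4),(11,90,3),(10,82,3),(2,119,4),(11,15,4),(13,92,4),(10,167,3),(13,83,3),(11,62,4),(11,28,3),(10,204,2),(11,13,3),(2,131,3),(3,13,3),(13,90,3),(3,94,3),(12,216,3),(11,102,3),(13,24,2),(1,5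7,2),(12,230,3),(2,211,4),(10,199,3),(10,24,2),(3,204,2),(1,91,3),(13,54,2),(0,57,2),(13,87,3),(11,110,3),(1,24,2),(2,13,3),(1,0,1),(2,0,1),(10,218,3),(0,35,3),(1,13,3),(13,57,2),(12,204,2),(12,211,4),(13,62,4),(13,91,3),(3,185,3),(12,51,3),(0,145,4),(12,148,3),(12,54,2),(10,131,3),(0,148,3),(3,216,3),(10,39,4),(0,154,3),(11,220,3),(13,51,3),(1,97,2),(0,150,3),(2,209,3),(1,94,3),(11,158,4),(11,169,3),(2,35,3),(13,176,3),(0,216,3),(12,32,2),(1,209,3),(1,197,3),(10,101,3),(10,32,2),(10,35,3),(10,88,3),(13,186,3),(12,220,3),(10,220,3),(13,177,3),(11,20,3),(0,162,4),(2,14,3),(10,110,3),(0,230,3),(2,175,4),(10,207,3),(3,87,3),(3,199,3),(3,28,3),(3,54,2),(13,14,3),(3,24,2),(3,75,4),(12,207,3),(11,218,3),(11,161,2),(1,132,4),(11,97,2),(1,228,3),(3,20,3),(10,154,3),(2,177,3),(12,0,1),(0,82,3),(1,131,3),(13,228,3),(0,175,4),(13,217,4),(12,57,2),(11,42,3),(0,32,2),(11,216,3),(13,231,4),(1,124,4),(13,206,4),(0,199,3),(13,94,3),(2,54,2),(1,161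,2),(12,14,3),(12,13,3),(12,15,4),(12,127,3),(3,127,3),(0,211,4),(10,90,3),(0,204,2),(10,54,2),(12,197,3),(13,97,2),(12,35,3),(0,210,3),(10,148,3),(2,169,3),(2,99,4),(11,154,3),(12,87,3),(0,218,3),(3,57,2),(10,211,4),(2,96,2),(11,132,4),(1,83,3),(12,186,3),(10,186,3),(3,0,1),(11,131,3),(2,94,3),(1,96,2),(2,101,3),(0,161,2),(2,97,2),(1,20,3),(0,94,3),(13,74,3),(0,102,3),(0,96,2),(12,161,2),(2,186,3),(13,161,2),(12,20,3),(10,97,2),(11,32,2),(12,179,4),(11,82,3),(11,14,3),(12,218,3),(10,216,3),(10,42,3),(0,97,2),(2,82,3),(3,161,2),(2,90,3),(1,110,3),(10,287,6),(13,373,6),(0,345,6),(3,345,6),(3,280,7),(3,507,8),(10,684,7),(0,597,8),(2,592,7),(0,581,7),(12,311,7),(0,251,7),(0,252,7),(1,280,7),(13,412,6),(12,244,8),(13,270,8),(0,623,6),(1,345,6),(2,495,6),(2,486,7),(12,261,6),(10,312,7),(13,278,7),(3,262,7),(2,606,7),(3,251,7),(0,334,7),(10,491,5),(3,495,6),(11,234,7),(3,449,6),(12,571,7),(12,561,7),(12,562,7),(13,394,7),(10,593,6),(2,68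4,7),(1,357,7),(12,605,8),(0,327,8),(0,328,8),(13,312,7),(0,341,8),(13,288,6),(13,287,6),(11,412,6),(0,593,6),(2,297,8),(11,254,7),(13,414,8),(0,344,8),(0,304,7),(11,278,7),(11,541,5),(13,541,5),(13,491,5),(0,595,8),(2,287,6),(2,288,6),(2,688,7),(1,387,7),(13,443,7),(11,605,8),(1,569,7),(10,254,7),(11,416,7),(0,316,7),(3,269,7),(3,250,7),(12,389,8),(1,403,6),(0,573,7),(11,279,7),(10,569,7),(1,628,7),(3,254,7),(10,466,8),(1,412,6),(2,261,6),(13,481,8),(3,236,7),(3,235,7),(12,412,6),(11,403,6),(13,403,6),(11,642,7),(11,593,6),(13,234,7),(3,373,6),(10,473,7),(2,322,7),(3,389,8),(2,696,8),(11,235,7),(11,236,7),(12,280,7),(1,693,6),(3,368,7),(0,517,7),(13,416,7),(2,289,6),(11,400,7),(11,247,7),(2,449,6),(3,394,7),(3,386,8),(10,247,7),(11,445,7),(13,400,7),(12,577,8),(0,697,7),(1,541,5),(13,235,7),(13,289,6),(3,551,8),(0,490,8),(0,445,7),(10,279,7),(1,465,7),(12,345,6),(12,346,8),(13,445,7),(10,233,7),(3,421,6),(10,289,6),(10,595,8),(10,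251,7),(10,252,7),(13,485,8),(0,477,8),(10,445,7),(13,471,7),(10,269,7),(0,666,8),(1,421,6),(12,550,7),(0,656,7),(11,484,7),(3,261,6),(10,541,5),(0,384,7),(3,320,7),(10,711,7),(3,465,7),(12,465,7),(3,264,7),(12,486,7),(11,383,7),(12,495,6),(10,373,6),(13,421,6),(11,571,7),(0,640,7),(0,403,6),(10,524,7),(12,697,7),(0,642,7),(13,337,7),(11,519,7),(3,473,7),(0,412,6),(1,416,7),(11,385,8),(3,316,7),(2,568,8),(11,583,7),(10,412,6),(0,368,7),(1,259,8),(12,541,5),(12,542,7),(10,414,8),(2,569,7),(2,330,7),(13,505,7),(12,513,7),(13,516,7),(12,449,6),(12,491,5),(10,372,7),(10,640,7),(2,247,7),(2,593,6),(0,386,8),(0,553,8),(0,519,7),(10,382,7),(0,541,5),(2,694,7),(12,553,8),(0,711,7),(10,416,7),(10,525,8),(2,557,7),(2,445,7),(10,649,7),(0,716,7),(10,403,6),(12,674,7),(11,298,8),(1,516,7),(1,482,8),(1,518,6),(2,498,8),(13,513,7),(3,545,7),(1,545,7),(11,581,7),(12,696,8),(12,403,6),(10,322,7),(13,261,6),(10,628,7),(12,327,8),(13,304,7),(3,491,5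),(0,628,7),(10,505,7),(11,357,7),(1,337,7),(3,357,7),(0,322,7),(2,665,8),(12,400,7),(12,316,7),(11,350,8),(10,353,7),(13,239,8),(1,334,7),(11,516,7),(12,391,8),(12,593,6),(10,337,7),(12,611,8),(11,606,7),(3,291,7),(11,358,7),(10,623,6),(3,486,7),(2,373,6),(1,292,7),(11,696,8),(13,411,7),(0,337,7),(2,383,7),(3,353,7),(3,297,8),(0,264,7),(3,516,7),(2,545,7),(10,624,6),(1,571,7),(3,518,6),(10,606,7),(2,705,8),(1,623,6),(12,642,7),(14,3,4),(12,557,7),(3,481,8),(11,693,6),(3,541,5),(13,391,8),(3,553,8),(1,697,7),(10,697,7),(0,498,8),(11,351,8),(10,513,7),(12,436,7),(12,640,7),(11,421,6),(10,694,7),(12,569,7),(13,307,8),(3,400,7),(11,666,8),(1,473,7),(13,519,7),(11,623,6),(3,416,7),(10,320,7),(0,449,6),(11,518,6),(0,491,5),(2,421,6),(11,318,7),(2,410,8),(10,665,8),(0,387,7),(13,345,6),(2,640,7),(1,609,7),(12,453,8),(0,643,7),(12,490,8),(2,400,7),(13,334,7),(3,312,7),(1,411,7),(13,316,7),(10,545,7),(13,507,8),(0,389,8),(3,352,8),(10,664,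7),(1,307,8),(4,8,4),(3,287,6),(0,394,7),(13,344,8),(3,412,6),(2,372,7),(11,316,7),(12,489,7),(2,368,7),(3,403,6),(2,642,7),(1,484,7),(12,445,7),(1,688,7),(2,505,7),(0,601,8),(0,624,6),(2,624,6),(1,373,6),(11,382,7),(11,287,6),(11,288,6),(10,484,7),(12,411,7),(2,280,7),(11,373,6),(13,596,8),(13,569,7),(10,449,6),(0,237,8),(10,261,6),(1,368,7),(3,693,6),(0,592,7),(11,525,8),(12,265,8),(12,592,7),(11,673,7),(11,674,7),(3,614,8),(11,289,6),(3,682,8),(13,593,6),(2,311,7),(13,564,8),(12,649,7),(0,558,7),(11,389,8),(13,674,7),(12,382,7),(11,312,7),(1,261,6),(11,491,5),(12,342,8),(1,264,7),(0,235,7),(0,236,7),(0,254,7),(12,641,8),(0,353,7),(13,684,7),(2,605,8),(0,618,8),(11,394,7),(10,264,7),(2,345,6),(13,561,7),(10,241,8),(0,518,6),(1,709,8),(13,642,7),(11,481,8),(10,583,7),(12,254,7),(3,656,7),(12,239,8),(11,524,7),(3,642,7),(1,489,7),(10,262,7),(3,631,7),(12,624,6),(2,491,5),(1,491,5),(0,476,8),(12,279,7),(10,558,7),(12,289,6),(3,708,8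),(3,649,7),(0,421,6),(10,384,7),(10,411,7),(13,628,7),(0,641,8),(1,250,7),(12,505,7),(13,606,7),(2,269,7),(11,449,6),(3,569,7),(11,261,6),(13,623,6),(2,341,8),(1,297,8),(3,571,7),(1,353,7),(12,705,8),(3,623,6),(2,581,7),(2,307,8),(11,465,7),(3,558,7),(0,649,7),(11,280,7),(2,518,6),(3,711,7),(0,545,7),(12,471,7),(12,688,7),(13,609,7),(10,519,7),(13,693,6),(2,623,6),(2,264,7),(11,264,7),(1,394,7),(12,440,8),(2,533,8),(12,434,8),(3,595,8),(13,568,8),(0,287,6),(10,495,6),(11,628,7),(12,250,7),(3,598,8),(12,566,7),(3,684,7),(1,400,7),(11,320,7),(2,394,7),(0,250,7),(10,345,6),(10,346,8),(2,711,7),(11,347,7),(0,289,6),(10,507,8),(12,613,8),(1,312,7),(1,504,8),(2,541,5),(1,495,6),(1,453,8),(11,337,7),(1,449,6),(2,416,7),(1,486,7),(13,571,7),(3,664,7),(12,372,7),(1,329,8),(1,235,7),(1,236,7),(3,628,7),(13,656,7),(1,254,7),(0,411,7),(11,614,8),(3,593,6),(1,564,8),(3,688,7),(3,716,7),(0,532,8),(12,518,6),(2,753,11),(12,726,9),(3,722,11),(10,718,10),(10,753,11),(1,760,10),(3,724,11),(1,718,10),(3,748,11),(4,246,8),(3,740,10),(12,722,11),(3,760,10),(2,760,10),(3,744,11),(0,744,11),(13,718,10),(0,750,10),(0,747,10),(2,740,10),(2,747,10),(11,718,10),(3,746,11),(1,726,9),(13,744,11),(12,740,10),(12,759,11),(12,760,10),(11,747,10),(10,760,10),(13,726,9),(11,760,10),(11,753,11),(0,726,9),(10,747,10),(0,754,10),(13,760,10),(11,726,9),(3,750,10),(1,730,11),(3,718,10),(11,750,10),(3,754,10),(10,726,9)]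

theorem tree_z : treeOK 40 gensA (reps (0)) cert_z = true := by decide +kernel

/-! ### Coverage: every minimal vector has a class representative -/

def cosetOf (b3 b5 : Bool) : ℕ :=
  match b3, b5 with
  | false, false => cosetWords.getD 0 0
  | true, true => cosetWords.getD 1 0
  | true, false => cosetWords.getD 2 0
  | false, true => cosetWords.getD 3 0

theorem cosetOf_bits (b3 b5 : Bool) : (cosetOf b3 b5).testBit 3 = b3 ∧ (cosetOf b3 b5).testBit 5 = b5 := by
  revert b3 b5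
  decide

theorem cosetOf_mem (b3 b5 : Bool) : cosetOf b3 b5 ∈ cosetWords := by
  revert b3 b5
  decide

theorem mem_opts2 {m k : ℕ} {s : ℤ} (h : s ∈ opts2 m k) : s = 1 ∨ s = -1 := by
  unfold opts2 at h
  split_ifs at h <;> simp at h <;> omega

theorem mem_optsAt {k : ℕ} {s : ℤ} (h : s ∈ optsAt k) : s = 1 ∨ s = -1 := by
  unfold optsAt at h
  split_ifs at h <;> simp at h <;> omega

theorem cover_oct {w : GolayPt → ℤ} {m : ℕ} (hm : m ∈ octadList)
    (hab : ∀ p, (w p).natAbs = if m.testBit (idx p) = true then 2 else 0) :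
    ∃ r ∈ allReps, (∀ p, (vecOf r p).natAbs = (w p).natAbs) ∧
      ∀ p, (idx p = 3 ∨ idx p = 5) → vecOf r p = w p := by
  set s0 : ℤ := if m.testBit 3 = true then w (pt 3) / 2 else 1 with hs0
  set s1 : ℤ := if m.testBit 5 = true then w (pt 5) / 2 else 1 with hs1
  have hat : ∀ k, k < 24 → (w (pt k)).natAbs = if m.testBit k = true then 2 else 0 := by
    intro k hk
    have := hab (pt k)
    rwa [idx_pt hk] at this
  have h3 := hat 3 (by norm_num)
  have h5 := hat 5 (by norm_num)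
  have hs0' : s0 ∈ opts2 m 3 := by
    unfold opts2
    rw [hs0]
    split_ifs with h
    · rw [if_pos h] at h3
      have : w (pt 3) / 2 = 1 ∨ w (pt 3) / 2 = -1 := by omega
      simpa using this
    · simp
  have hs1' : s1 ∈ opts2 m 5 := by
    unfold opts2
    rw [hs1]
    split_ifs with h
    · rw [if_pos h] at h5
      have : w (pt 5) / 2 = 1 ∨ w (pt 5) / 2 = -1 := by omega
      simpa using this
    · simp
  have hu0 : s0 = 1 ∨ s0 = -1 := mem_opts2 hs0'
  have hu1 : s1 = 1 ∨ s1 = -1 := mem_opts2 hs1'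
  refine ⟨rangeL (rep2Fn m s0 s1), ?_, ?_, ?_⟩
  · unfold allReps
    apply List.mem_append_right
    apply List.mem_append_left
    simp only [List.mem_flatMap, List.mem_map]
    exact ⟨m, hm, s0, hs0', s1, hs1', rfl⟩
  · intro p
    rw [vecOf_rangeL, hab p]
    unfold rep2Fn
    by_cases h : m.testBit (idx p) = true
    · rw [if_pos h, if_pos h]
      split_ifs
      · rcases hu0 with h' | h' <;> rw [h'] <;> rfl
      · rcases hu1 with h' | h' <;> rw [h'] <;> rfl
      · rcases hu0 with h' | h' <;> rcases hu1 with h'' | h'' <;> rw [h', h''] <;> rfl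
      · rfl
    · rw [if_neg h, if_neg h]
      rfl
  · intro p hp
    rw [vecOf_rangeL]
    have hp' : p = pt (idx p) := (pt_idx p).symm
    rcases hp with hp | hp
    · rw [hp] at hp' ⊢
      rw [hp']
      unfold rep2Fn
      by_cases h : m.testBit 3 = true
      · rw [if_pos h, if_pos rfl, hs0, if_pos h]
        rw [if_pos h] at h3
        omega
      · rw [if_neg h]
        rw [if_neg h] at h3
        omega
    · rw [hp] at hp' ⊢
      rw [hp']
      unfold rep2Fn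
      by_cases h : m.testBit 5 = true
      · rw [if_pos h, if_neg (by norm_num), if_pos rfl, hs1, if_pos h]
        rw [if_pos h] at h5
        omega
      · rw [if_neg h]
        rw [if_neg h] at h5
        omega

theorem cover_pair {w : GolayPt → ℤ} {a b : GolayPt} (hlt : idx b < idx a)
    (hab : ∀ p, (w p).natAbs = if p = a ∨ p = b then 4 else 0) :
    ∃ r ∈ allReps, (∀ p, (vecOf r p).natAbs = (w p).natAbs) ∧
      ∀ p, (idx p = 3 ∨ idx p = 5) → vecOf r p = w p := by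
  set sa : ℤ := if idx a = 3 ∨ idx a = 5 then w a / 4 else 1 with hsa
  set sb : ℤ := if idx b = 3 ∨ idx b = 5 then w b / 4 else 1 with hsb
  have ha4 : (w a).natAbs = 4 := by rw [hab a, if_pos (Or.inl rfl)]
  have hb4 : (w b).natAbs = 4 := by rw [hab b, if_pos (Or.inr rfl)]
  have hsa' : sa ∈ optsAt (idx a) := by
    unfold optsAt
    rw [hsa]
    split_ifs with h
    · have : w a / 4 = 1 ∨ w a / 4 = -1 := by omega
      simpa using this
    · simp
  have hsb' : sb ∈ optsAt (idx b) := by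
    unfold optsAt
    rw [hsb]
    split_ifs with h
    · have : w b / 4 = 1 ∨ w b / 4 = -1 := by omega
      simpa using this
    · simp
  have hu0 : sa = 1 ∨ sa = -1 := mem_optsAt hsa'
  have hu1 : sb = 1 ∨ sb = -1 := mem_optsAt hsb'
  have hidx : ∀ p q : GolayPt, idx p = idx q ↔ p = q := fun p q =>
    ⟨fun h => idx_injective h, fun h => by rw [h]⟩
  refine ⟨rangeL (rep1Fn (idx a) (idx b) sa sb), ?_, ?_, ?_⟩
  · unfold allReps
    apply List.mem_append_left
    simp only [List.mem_flatMap, List.mem_map, List.mem_range]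
    exact ⟨idx a, idx_lt a, idx b, hlt, sa, hsa', sb, hsb', rfl⟩
  · intro p
    rw [vecOf_rangeL, hab p]
    unfold rep1Fn
    simp only [hidx]
    by_cases h1 : p = a
    · rw [if_pos h1, if_pos (Or.inl h1)]
      rcases hu0 with h | h <;> rw [h] <;> rfl
    · by_cases h2 : p = b
      · rw [if_neg h1, if_pos h2, if_pos (Or.inr h2)]
        rcases hu1 with h | h <;> rw [h] <;> rfl
      · rw [if_neg h1, if_neg h2, if_neg (by tauto)]
        rfl
  · intro p hp
    rw [vecOf_rangeL]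
    unfold rep1Fn
    simp only [hidx]
    by_cases h1 : p = a
    · subst h1
      rw [if_pos rfl, hsa, if_pos hp]
      omega
    · by_cases h2 : p = b
      · subst h2
        rw [if_neg h1, if_pos rfl, hsb, if_pos hp]
        omega
      · rw [if_neg h1, if_neg h2]
        have := hab p
        rw [if_neg (by tauto)] at this
        omega

theorem cover_odd {w : GolayPt → ℤ} (hw : w ∈ leechLattice) (hp : ∀ i, w i % 2 = 1) {a : GolayPt}
    (hab : ∀ p, (w p).natAbs = if p = a then 3 else 1) :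
    ∃ r ∈ allReps, (∀ p, (vecOf r p).natAbs = (w p).natAbs) ∧
      ∀ p, (idx p = 3 ∨ idx p = 5) → vecOf r p = w p := by
  obtain ⟨c, hc, h4⟩ := odd_normal hw hp
  set c' := cosetOf ((toMask c).testBit 3) ((toMask c).testBit 5) with hc'
  obtain ⟨hb3, hb5⟩ := cosetOf_bits ((toMask c).testBit 3) ((toMask c).testBit 5)
  rw [← hc'] at hb3 hb5
  have hidx : ∀ p : GolayPt, idx p = idx a ↔ p = a := fun p =>
    ⟨fun h => idx_injective h, fun h => by rw [h]⟩
  refine ⟨rangeL (rep3Fn (idx a) c'), ?_, ?_, ?_⟩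
  · unfold allReps
    apply List.mem_append_right
    apply List.mem_append_right
    simp only [List.mem_flatMap, List.mem_map, List.mem_range]
    exact ⟨idx a, idx_lt a, c', cosetOf_mem _ _, rfl⟩
  · intro p
    rw [vecOf_rangeL, hab p]
    unfold rep3Fn
    simp only [hidx]
    split_ifs <;> rfl
  · intro p hp'
    rw [vecOf_rangeL]
    unfold rep3Fn
    simp only [hidx]
    have h5 := h4 p
    have h6 := hab p
    have hbit : c'.testBit (idx p) = (toMask c).testBit (idx p) := by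
      rcases hp' with h | h <;> rw [h]
      · exact hb3
      · exact hb5
    have h7 := testBit_toMask c p
    rw [hbit, h7]
    simp only [signChange] at h5
    by_cases h8 : p ∈ c
    · rw [if_pos h8] at h5
      simp only [h8, decide_true, if_true]
      by_cases h9 : p = a
      · rw [if_pos h9] at h6 ⊢
        omega
      · rw [if_neg h9] at h6 ⊢
        omega
    · rw [if_neg h8] at h5
      simp only [h8, decide_false, Bool.false_eq_true, if_false]
      by_cases h9 : p = a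
      · rw [if_pos h9] at h6 ⊢
        omega
      · rw [if_neg h9] at h6 ⊢
        omega

theorem cover {w : GolayPt → ℤ} (hw : w ∈ leechLattice) (hn : sqNorm w = 32) :
    ∃ r ∈ allReps, (∀ p, (vecOf r p).natAbs = (w p).natAbs) ∧
      ∀ p, (idx p = 3 ∨ idx p = 5) → vecOf r p = w p := by
  have hw' := hw
  rw [mem_leechLattice_iff] at hw'
  obtain ⟨t, ht, hp, -, -⟩ := hw'
  rcases ht with rfl | rfl
  · rcases shape_even hw hp hn with ⟨m, hm, hab⟩ | ⟨a, b, hne, hab⟩
    · exact cover_oct hm hab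
    · have : idx a ≠ idx b := fun h => hne (idx_injective h)
      rcases lt_or_gt_of_ne this with h | h
      · apply cover_pair (a := b) (b := a) h
        intro p
        rw [hab p]
        simp only [or_comm]
      · exact cover_pair h hab
  · obtain ⟨a, hab⟩ := shape_odd hp hn
    exact cover_odd hw hp hab

theorem sqNorm_congr {x y : GolayPt → ℤ} (h : ∀ p, (x p).natAbs = (y p).natAbs) : sqNorm x = sqNorm y := by
  unfold sqNorm
  apply Finset.sum_congr rfl
  intro p _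
  rw [← Int.natAbs_sq, h p, Int.natAbs_sq]

/-- A minimal vector is in the orbit of the first representative of its class. -/
theorem orbit_of_sum {s : ℤ} {cert : List (ℕ × ℕ × ℕ)} (hT : treeOK 40 gensA (reps s) cert = true)
    {w : GolayPt → ℤ} (hw : w ∈ leechLattice) (hn : sqNorm w = 32) (hs : w (pt 3) + w (pt 5) = s) :
    SameIn KA w (vecOf ((reps s).getD 0 [])) := by
  obtain ⟨r, hr, habs, hZ⟩ := cover hw hn
  have hrs : r ∈ reps s := by
    unfold reps
    rw [List.mem_filter]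
    refine ⟨hr, ?_⟩
    have h3 := hZ (pt 3) (Or.inl (idx_pt (by norm_num)))
    have h5 := hZ (pt 5) (Or.inr (idx_pt (by norm_num)))
    have e3 : vecOf r (pt 3) = r.getD 3 0 := by
      simp only [vecOf]
      rw [idx_pt (by norm_num)]
    have e5 : vecOf r (pt 5) = r.getD 5 0 := by
      simp only [vecOf]
      rw [idx_pt (by norm_num)]
    rw [← e3, ← e5, h3, h5, hs]
    simp
  have h1 := tree_sound hasSigns_KA keyCheck_40 gensA_sound hT r hrs
  have h2 : SameIn KA w (vecOf r) := by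
    apply same_of_key hasSigns_KA keyCheck_40 hw h1.left_mem
    · rw [sqNorm_congr habs]
      exact hn
    · intro p
      exact (habs p).symm
    · intro p hp
      exact (hZ p (mem_ofMask_40.1 hp)).symm
  exact h2.trans h1

/-- The inner product with `a0`. -/
theorem dot_a0 (w : GolayPt → ℤ) : dotInt (a0 : GolayPt → ℤ) w = 4 * (w (pt 3) + w (pt 5)) := by
  have h1 : ∀ p : GolayPt, (a0 : GolayPt → ℤ) p * w p =
      (fun n => (if n = 3 ∨ n = 5 then 4 else 0) * w (pt n)) (idx p) := by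
    intro p
    show vecOf a0L p * w p = _
    unfold a0L
    rw [vecOf_rangeL]
    show _ = (if idx p = 3 ∨ idx p = 5 then 4 else 0) * w (pt (idx p))
    rw [pt_idx]
  unfold dotInt
  refine (Finset.sum_congr rfl fun p _ => h1 p).trans
    ((sum_golayPt (fun n => (if n = 3 ∨ n = 5 then (4 : ℤ) else 0) * w (pt n))).trans ?_)
  simp only [List.range_succ, List.range_zero, List.map_append, List.map_cons, List.map_nil,
    List.sum_append, List.sum_cons, List.sum_nil]
  norm_num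
  ring

/-- The inner product is invariant. -/
theorem co0_dotInt (g : Co0) (v w : leechLattice) :
    dotInt ((g • v : leechLattice) : GolayPt → ℤ) ((g • w : leechLattice) : GolayPt → ℤ) =
      dotInt (v : GolayPt → ℤ) (w : GolayPt → ℤ) := by
  have h1 := co0_sqNorm g (v + w)
  rw [co0_map_add] at h1
  have h2 : ((g • v + g • w : leechLattice) : GolayPt → ℤ) =
    ((g • v : leechLattice) : GolayPt → ℤ) + ((g • w : leechLattice) : GolayPt → ℤ) := rfl
  have h3 : ((v + w : leechLattice) : GolayPt → ℤ) = (v : GolayPt → ℤ) + (w : GolayPt → ℤ) := rfl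
  rw [h2, h3, sqNorm_add, sqNorm_add, co0_sqNorm, co0_sqNorm] at h1
  omega

/-- Transitivity of the stabiliser of any minimal vector, from its form at `a0`. -/
theorem transfer {s : ℤ} {cert : List (ℕ × ℕ × ℕ)} (hT : treeOK 40 gensA (reps s) cert = true)
    (v w w' : leechLattice) (hv : sqNorm (v : GolayPt → ℤ) = 32)
    (hw : sqNorm (w : GolayPt → ℤ) = 32) (hw' : sqNorm (w' : GolayPt → ℤ) = 32)
    (hd : dotInt (v : GolayPt → ℤ) (w : GolayPt → ℤ) = 4 * s)
    (hd' : dotInt (v : GolayPt → ℤ) (w' : GolayPt → ℤ) = 4 * s) :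
    ∃ g : Co0, g • v = v ∧ g • w = w' := by
  obtain ⟨h, hh⟩ := co0_transitive_min v a0 hv (by
    show sqNorm (vecOf a0L) = 32
    rw [sqNorm_vecOf]
    decide +kernel)
  have key : ∀ u : leechLattice, sqNorm (u : GolayPt → ℤ) = 32 →
      dotInt (v : GolayPt → ℤ) (u : GolayPt → ℤ) = 4 * s →
      SameIn KA ((h • u : leechLattice) : GolayPt → ℤ) (vecOf ((reps s).getD 0 [])) := by
    intro u hu hdu
    apply orbit_of_sum hT (h • u).2
    · rw [co0_sqNorm]
      exact hu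
    · have h1 := co0_dotInt h v u
      rw [hh, hdu, dot_a0] at h1
      omega
  obtain ⟨_, _, k, hk, e⟩ := (key w hw hd).trans (key w' hw' hd').symm
  have e' : k • (h • w) = h • w' := e
  have hk' : k • a0 = a0 := hk
  refine ⟨h⁻¹ * k * h, ?_, ?_⟩
  · rw [mul_smul, mul_smul, hh, hk', ← hh, inv_smul_smul]
  · rw [mul_smul, mul_smul, e', inv_smul_smul]

theorem co2_trans_m16 (v w w' : leechLattice) (hv : sqNorm (v : GolayPt → ℤ) = 32)
    (hw : sqNorm (w : GolayPt → ℤ) = 32) (hw' : sqNorm (w' : GolayPt → ℤ) = 32)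
    (hd : dotInt (v : GolayPt → ℤ) (w : GolayPt → ℤ) = -16)
    (hd' : dotInt (v : GolayPt → ℤ) (w' : GolayPt → ℤ) = -16) :
    ∃ g : Co0, g • v = v ∧ g • w = w' :=
  transfer tree_m4 v w w' hv hw hw' (by rw [hd]; norm_num) (by rw [hd']; norm_num)

theorem co2_trans_m8 (v w w' : leechLattice) (hv : sqNorm (v : GolayPt → ℤ) = 32)
    (hw : sqNorm (w : GolayPt → ℤ) = 32) (hw' : sqNorm (w' : GolayPt → ℤ) = 32)
    (hd : dotInt (v : GolayPt → ℤ) (w : GolayPt → ℤ) = -8)
    (hd' : dotInt (v : GolayPt → ℤ) (w' : GolayPt → ℤ) = -8) :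
    ∃ g : Co0, g • v = v ∧ g • w = w' :=
  transfer tree_m2 v w w' hv hw hw' (by rw [hd]; norm_num) (by rw [hd']; norm_num)

theorem co2_trans_0 (v w w' : leechLattice) (hv : sqNorm (v : GolayPt → ℤ) = 32)
    (hw : sqNorm (w : GolayPt → ℤ) = 32) (hw' : sqNorm (w' : GolayPt → ℤ) = 32)
    (hd : dotInt (v : GolayPt → ℤ) (w : GolayPt → ℤ) = 0)
    (hd' : dotInt (v : GolayPt → ℤ) (w' : GolayPt → ℤ) = 0) :
    ∃ g : Co0, g • v = v ∧ g • w = w' :=
  transfer tree_z v w w' hv hw hw' (by rw [hd]; norm_num) (by rw [hd']; norm_num)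

end Cfsg.Agent.Lib.Sporadic.LeechA0
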