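import Mathlib
import Cfsg.Agent.Lib.Sporadic.LeechA0
import Cfsg.Agent.Lib.Sporadic.LeechClasses

/-!
# Enumeration of the minimal vectors

`allMinF` lists the 196560 minimal vectors as coordinate functions (with offset `4`), fast to
evaluate in the kernel; `ncard_of_P` turns a count in this list into the cardinality of a set of
lattice vectors.
-/

set_option autoImplicit false

namespace Cfsg.Agent.Lib.Sporadic.LeechEnum

open Cfsg Cfsg.Agent.Lib.Sporadic.GolayCore Cfsg.Agent.Lib.Sporadic.LeechBasic
  Cfsg.Agent.Lib.Sporadic.LeechNorm Cfsg.Agent.Lib.Sporadic.LeechFacts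
  Cfsg.Agent.Lib.Sporadic.LeechAut Cfsg.Agent.Lib.Sporadic.LeechMat
  Cfsg.Agent.Lib.Sporadic.LeechOrb Cfsg.Agent.Lib.Sporadic.LeechShape
  Cfsg.Agent.Lib.Sporadic.LeechKey Cfsg.Agent.Lib.Sporadic.LeechClasses
  Cfsg.Agent.Lib.Sporadic.LeechA0
open scoped Pointwise

/-- The vector described by a coordinate function with offset `4`. -/
def vecF (y : ℕ → ℕ) : GolayPt → ℤ := fun p => (y (idx p) : ℤ) - 4

/-- Testing a bit, in terms of kernel-accelerated operations. -/
def bitB (c i : ℕ) : Bool := Nat.beq (Nat.land (Nat.shiftRight c i) 1) 1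

theorem bitB_eq (c i : ℕ) : bitB c i = c.testBit i := by
  unfold bitB Nat.testBit
  have h : Nat.land (Nat.shiftRight c i) 1 = 1 &&& (c >>> i) := by
    show (c >>> i) &&& 1 = 1 &&& (c >>> i)
    exact Nat.land_comm _ _
  rw [h]
  have h2 : 1 &&& (c >>> i) < 2 := by
    exact lt_of_le_of_lt Nat.and_le_left (by norm_num)
  generalize (1 &&& (c >>> i)) = x at *
  interval_cases x <;> rfl

def y1 (a b : ℕ) (sa sb : Bool) (k : ℕ) : ℕ :=
  cond (Nat.beq k a) (cond sa 0 8) (cond (Nat.beq k b) (cond sb 0 8) 4)

def y2 (m s k : ℕ) : ℕ := cond (bitB m k) (cond (bitB s k) 2 6) 4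

def y3 (p c k : ℕ) : ℕ := cond (Nat.beq k p) (cond (bitB c k) 7 1) (cond (bitB c k) 3 5)

/-- Submasks of even and odd size of a list of bits. -/
def subsPar : List ℕ → List ℕ × List ℕ
  | [] => ([0], [])
  | b :: bs =>
    let r := subsPar bs
    (r.1 ++ r.2.map (· ||| 2 ^ b), r.2 ++ r.1.map (· ||| 2 ^ b))

def bitsOf (m : ℕ) : List ℕ := (List.range 24).filter fun i => m.testBit i

def evenSubs (m : ℕ) : List ℕ := (subsPar (bitsOf m)).1

theorem subsPar_spec (bs : List ℕ) (hlt : ∀ b ∈ bs, b < 24) :
    ∀ s : ℕ, (∀ i, s.testBit i = true → i ∈ bs) →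
      ((ofMask s).card % 2 = 0 → s ∈ (subsPar bs).1) ∧ ((ofMask s).card % 2 = 1 → s ∈ (subsPar bs).2) := by
  induction bs with
  | nil =>
    intro s hs
    have h0 : s = 0 := by
      apply Nat.eq_of_testBit_eq
      intro i
      cases h : s.testBit i
      · simp
      · exact absurd (hs i h) (by simp)
    subst h0
    have h1 : ofMask 0 = ∅ := by
      ext p
      simp
    rw [h1]
    simp [subsPar]
  | cons b bs ih =>
    intro s hs
    have hb : b < 24 := hlt b (by simp)
    have hlt' : ∀ c ∈ bs, c < 24 := fun c hc => hlt c (by simp [hc])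
    by_cases hbit : s.testBit b = true
    · set s' := s ^^^ 2 ^ b with hs'
      have hbit' : ∀ i, s'.testBit i = (s.testBit i ^^ decide (2 ^ b ≠ 0 ∧ b = i)) := by
        intro i
        rw [hs', Nat.testBit_xor, Nat.testBit_two_pow]
        simp
      have hs1 : ∀ i, s'.testBit i = true → i ∈ bs := by
        intro i hi
        rw [hbit'] at hi
        by_cases hib : b = i
        · subst hib
          simp [hbit] at hi
        · have h1 : s.testBit i = true := by simpa [hib] using hi
          have h2 := hs i h1
          rcases List.mem_cons.1 h2 with h | h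
          · exact absurd h.symm hib
          · exact h
      have hsor : s' ||| 2 ^ b = s := by
        apply Nat.eq_of_testBit_eq
        intro i
        rw [Nat.testBit_or, hbit', Nat.testBit_two_pow]
        by_cases hib : b = i
        · subst hib
          simp [hbit]
        · simp [hib]
      have hset : ofMask s = insert (pt b) (ofMask s') := by
        ext p
        simp only [mem_ofMask, Finset.mem_insert]
        rw [hbit']
        by_cases hib : b = idx p
        · have h1 : p = pt b := by rw [hib, pt_idx]
          rw [← hib]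
          exact ⟨fun _ => Or.inl h1, fun _ => hbit⟩
        · have h2 : p ≠ pt b := by
            intro h
            apply hib
            rw [h, idx_pt hb]
          have h3 : decide (2 ^ b ≠ 0 ∧ b = idx p) = false := by simp [hib]
          rw [h3, Bool.xor_false]
          exact ⟨fun h => Or.inr h, fun h => h.resolve_left h2⟩
      have hnot : pt b ∉ ofMask s' := by
        rw [mem_ofMask, idx_pt hb, hbit']
        simp [hbit]
      have hcard : (ofMask s).card = (ofMask s').card + 1 := by
        rw [hset, Finset.card_insert_of_notMem hnot]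
      obtain ⟨h1, h2⟩ := ih hlt' s' hs1
      constructor
      · intro h
        have h3 := h2 (by omega)
        simp only [subsPar, List.mem_append, List.mem_map]
        exact Or.inr ⟨s', h3, hsor⟩
      · intro h
        have h3 := h1 (by omega)
        simp only [subsPar, List.mem_append, List.mem_map]
        exact Or.inr ⟨s', h3, hsor⟩
    · have hs1 : ∀ i, s.testBit i = true → i ∈ bs := by
        intro i hi
        rcases List.mem_cons.1 (hs i hi) with h | h
        · rw [h] at hi
          exact absurd hi hbit
        · exact h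
      obtain ⟨h1, h2⟩ := ih hlt' s hs1
      constructor
      · intro h
        simp only [subsPar, List.mem_append]
        exact Or.inl (h1 h)
      · intro h
        simp only [subsPar, List.mem_append]
        exact Or.inl (h2 h)

theorem mem_evenSubs {m s : ℕ} (h : ∀ i, s.testBit i = true → m.testBit i = true) (hs : s < 2 ^ 24)
    (hc : (ofMask s).card % 2 = 0) : s ∈ evenSubs m := by
  refine (subsPar_spec (bitsOf m) (fun b hb => ?_) s ?_).1 hc
  · exact List.mem_range.1 (List.mem_filter.1 hb).1
  · intro i hi
    have hlt : i < 24 := by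
      by_contra h
      have := Nat.testBit_lt_two_pow (lt_of_lt_of_le hs (Nat.pow_le_pow_right (by norm_num) (not_lt.1 h)))
      rw [hi] at this
      exact absurd this (by simp)
    exact List.mem_filter.2 ⟨List.mem_range.2 hlt, by simpa using h i hi⟩

/-- The coordinate functions of the minimal vectors. -/
def t1List : List (ℕ → ℕ) :=
  (List.range 24).flatMap fun a => (List.range a).flatMap fun b =>
    [false, true].flatMap fun sa => [false, true].map fun sb => y1 a b sa sb

def allMinF : List (ℕ → ℕ) :=
  t1List ++ ((octadList.flatMap fun m => (evenSubs m).map (y2 m)) ++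
    ((List.range 24).flatMap fun p => codeList.map (y3 p)))

theorem length_allMinF : allMinF.length = 196560 := by
  have h1 : t1List.length = 1104 := by decide +kernel
  have h2 : (octadList.flatMap fun m => (evenSubs m).map (y2 m)).length = 97152 := by
    rw [List.length_flatMap]
    simp only [List.length_map]
    decide +kernel
  have h3 : ((List.range 24).flatMap fun p => codeList.map (y3 p)).length = 98304 := by
    rw [List.length_flatMap]
    simp only [List.length_map]
    decide +kernel
  unfold allMinF
  rw [List.length_append, List.length_append, h1, h2, h3]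

/-! ### Completeness -/

theorem mem_oct {w : GolayPt → ℤ} (hw : w ∈ leechLattice) (hp : ∀ i, w i % 2 = 0) {m : ℕ}
    (hm : m ∈ octadList) (hab : ∀ p, (w p).natAbs = if m.testBit (idx p) = true then 2 else 0) :
    ∃ y ∈ allMinF, vecF y = w := by
  classical
  set S : Finset GolayPt := Finset.univ.filter fun p => w p < 0 with hS
  set s := toMask S with hs
  have hbit : ∀ p, s.testBit (idx p) = decide (w p < 0) := by
    intro p
    rw [hs, testBit_toMask]
    simp [hS]
  have hpt : ∀ i, i < 24 → s.testBit i = decide (w (pt i) < 0) := by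
    intro i hi
    have := hbit (pt i)
    rwa [idx_pt hi] at this
  have hlt : s < 2 ^ 24 := toMask_lt S
  have hsum : ∑ p, w p = 2 * ((ofMask m).card : ℤ) - 4 * ((ofMask s).card : ℤ) := by
    have e1 : ∀ p, w p = 2 * (if p ∈ ofMask m then 1 else 0) - 4 * (if p ∈ ofMask s then 1 else 0) := by
      intro p
      have h1 := hab p
      by_cases h2 : p ∈ ofMask m
      · rw [if_pos (mem_ofMask.1 h2)] at h1
        rw [if_pos h2]
        by_cases h3 : w p < 0
        · have h4 : p ∈ ofMask s := mem_ofMask.2 (by rw [hbit]; simpa using h3)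
          rw [if_pos h4]
          omega
        · have h4 : p ∉ ofMask s := by
            rw [mem_ofMask, hbit]
            simpa using h3
          rw [if_neg h4]
          omega
      · rw [if_neg (fun h => h2 (mem_ofMask.2 h))] at h1
        rw [if_neg h2]
        have h4 : p ∉ ofMask s := by
          rw [mem_ofMask, hbit]
          simp
          omega
        rw [if_neg h4]
        omega
    rw [Finset.sum_congr rfl fun p _ => e1 p, Finset.sum_sub_distrib, ← Finset.mul_sum, ← Finset.mul_sum,
      Finset.sum_boole, Finset.sum_boole]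
    simp only [Finset.filter_mem_eq_inter, Finset.univ_inter]
  have hm8 : (ofMask m).card = 8 := by
    rw [card_ofMask]
    simpa using (List.mem_filter.1 hm).2
  have hw' := hw
  rw [mem_leechLattice_iff] at hw'
  obtain ⟨t, ht, hp', hs', -⟩ := hw'
  have ht0 : t = 0 := by rw [← hp' none, hp none]
  subst ht0
  rw [hsum, hm8] at hs'
  have heven : (ofMask s).card % 2 = 0 := by omega
  have hsub : ∀ i, s.testBit i = true → m.testBit i = true := by
    intro i hi
    have hlt' : i < 24 := by
      by_contra h
      have := Nat.testBit_lt_two_pow (lt_of_lt_of_le hlt (Nat.pow_le_pow_right (by norm_num) (not_lt.1 h)))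
      rw [hi] at this
      exact absurd this (by simp)
    rw [hpt i hlt'] at hi
    have h1 := hab (pt i)
    rw [idx_pt hlt'] at h1
    by_contra h2
    rw [if_neg h2] at h1
    have : w (pt i) < 0 := by simpa using hi
    omega
  refine ⟨y2 m s, ?_, ?_⟩
  · unfold allMinF
    apply List.mem_append_right
    apply List.mem_append_left
    simp only [List.mem_flatMap, List.mem_map]
    exact ⟨m, hm, s, mem_evenSubs hsub hlt heven, rfl⟩
  · funext p
    simp only [vecF, y2, bitB_eq]
    have h1 := hab p
    by_cases h2 : m.testBit (idx p) = true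
    · rw [if_pos h2] at h1
      rw [h2, hbit]
      by_cases h3 : w p < 0
      · simp only [h3, decide_true, cond_true]
        push_cast
        omega
      · simp only [h3, decide_false, cond_false, cond_true]
        push_cast
        omega
    · rw [if_neg h2] at h1
      have h4 : m.testBit (idx p) = false := by simpa using h2
      rw [h4]
      simp only [cond_false]
      push_cast
      omega

theorem natBeq_idx (p q : GolayPt) : Nat.beq (idx p) (idx q) = decide (p = q) := by
  rw [Bool.eq_iff_iff]
  simp [Nat.beq_eq, idx_injective.eq_iff]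

theorem mem_pair {w : GolayPt → ℤ} {a b : GolayPt} (hlt : idx b < idx a)
    (hab : ∀ p, (w p).natAbs = if p = a ∨ p = b then 4 else 0) :
    ∃ y ∈ allMinF, vecF y = w := by
  have ha4 : (w a).natAbs = 4 := by rw [hab a, if_pos (Or.inl rfl)]
  have hb4 : (w b).natAbs = 4 := by rw [hab b, if_pos (Or.inr rfl)]
  have hidx : ∀ p q : GolayPt, Nat.beq (idx p) (idx q) = decide (p = q) := natBeq_idx
  refine ⟨y1 (idx a) (idx b) (decide (w a < 0)) (decide (w b < 0)), ?_, ?_⟩
  · unfold allMinF
    apply List.mem_append_left
    unfold t1List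
    simp only [List.mem_flatMap, List.mem_map, List.mem_range]
    exact ⟨idx a, idx_lt a, idx b, hlt, _, by cases decide (w a < 0) <;> simp, _, by cases decide (w b < 0) <;> simp, rfl⟩
  · funext p
    simp only [vecF, y1, hidx]
    have h1 := hab p
    by_cases h2 : p = a
    · subst h2
      simp only [decide_true, cond_true]
      by_cases h3 : w p < 0
      · simp only [h3, decide_true, cond_true]
        push_cast
        omega
      · simp only [h3, decide_false, cond_false]
        push_cast
        omega
    · by_cases h4 : p = b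
      · subst h4
        simp only [h2, decide_false, cond_false, decide_true, cond_true]
        by_cases h3 : w p < 0
        · simp only [h3, decide_true, cond_true]
          push_cast
          omega
        · simp only [h3, decide_false, cond_false]
          push_cast
          omega
      · rw [if_neg (by tauto)] at h1
        simp only [h2, h4, decide_false, cond_false]
        push_cast
        omega

theorem mem_odd {w : GolayPt → ℤ} (hw : w ∈ leechLattice) (hp : ∀ i, w i % 2 = 1) {a : GolayPt}
    (hab : ∀ p, (w p).natAbs = if p = a then 3 else 1) :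
    ∃ y ∈ allMinF, vecF y = w := by
  obtain ⟨c, hc, h4⟩ := odd_normal hw hp
  have hidx : ∀ p : GolayPt, Nat.beq (idx p) (idx a) = decide (p = a) := fun p => natBeq_idx p a
  have hcm : toMask c ∈ codeList := by
    rw [← mem_supports_iff]
    exact hc
  refine ⟨y3 (idx a) (toMask c), ?_, ?_⟩
  · unfold allMinF
    apply List.mem_append_right
    apply List.mem_append_right
    simp only [List.mem_flatMap, List.mem_map, List.mem_range]
    exact ⟨idx a, idx_lt a, toMask c, hcm, rfl⟩
  · funext p
    simp only [vecF, y3, hidx, bitB_eq, testBit_toMask]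
    have h5 := h4 p
    have h6 := hab p
    simp only [signChange] at h5
    by_cases h8 : p ∈ c
    · rw [if_pos h8] at h5
      simp only [h8, decide_true, cond_true]
      by_cases h9 : p = a
      · rw [if_pos h9] at h6
        simp only [h9, decide_true, cond_true]
        push_cast
        rw [← h9]
        omega
      · rw [if_neg h9] at h6
        simp only [h9, decide_false, cond_false, cond_true]
        push_cast
        omega
    · rw [if_neg h8] at h5
      simp only [h8, decide_false, cond_false]
      by_cases h9 : p = a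
      · rw [if_pos h9] at h6
        simp only [h9, decide_true, cond_true]
        push_cast
        rw [← h9]
        omega
      · rw [if_neg h9] at h6
        simp only [h9, decide_false, cond_false]
        push_cast
        omega

/-- Completeness of the list. -/
theorem exists_mem_allMinF {w : GolayPt → ℤ} (hw : w ∈ leechLattice) (hn : sqNorm w = 32) :
    ∃ y ∈ allMinF, vecF y = w := by
  have hw' := hw
  rw [mem_leechLattice_iff] at hw'
  obtain ⟨t, ht, hp, -, -⟩ := hw'
  rcases ht with rfl | rfl
  · rcases shape_even hw hp hn with ⟨m, hm, hab⟩ | ⟨a, b, hne, hab⟩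
    · exact mem_oct hw hp hm hab
    · have : idx a ≠ idx b := fun h => hne (idx_injective h)
      rcases lt_or_gt_of_ne this with h | h
      · apply mem_pair (a := b) (b := a) h
        intro p
        rw [hab p]
        simp only [or_comm]
      · exact mem_pair h hab
  · obtain ⟨a, hab⟩ := shape_odd hp hn
    exact mem_odd hw hp hab

/-- The list has no repetition, and consists exactly of the minimal vectors. -/
theorem allMin_spec : (allMinF.map vecF).Nodup ∧
    ∀ w, w ∈ allMinF.map vecF ↔ w ∈ leechLattice ∧ sqNorm w = 32 := by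
  classical
  set A := allMinF.map vecF with hA
  have hlen : A.length = 196560 := by rw [hA, List.length_map, length_allMinF]
  set S : Finset (GolayPt → ℤ) := (X 32).map ⟨Subtype.val, Subtype.val_injective⟩ with hS
  have hScard : S.card = 196560 := by rw [hS, Finset.card_map, card_X32]
  have hmemS : ∀ w, w ∈ S ↔ w ∈ leechLattice ∧ sqNorm w = 32 := by
    intro w
    rw [hS, Finset.mem_map]
    constructor
    · rintro ⟨x, hx, rfl⟩
      exact ⟨x.2, mem_X.1 hx⟩
    · rintro ⟨h1, h2⟩
      exact ⟨⟨w, h1⟩, mem_X.2 h2, rfl⟩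
  have hsub : S ⊆ A.toFinset := by
    intro w hw
    obtain ⟨h1, h2⟩ := (hmemS w).1 hw
    obtain ⟨y, hy, e⟩ := exists_mem_allMinF h1 h2
    rw [List.mem_toFinset, hA, List.mem_map]
    exact ⟨y, hy, e⟩
  have hle : A.toFinset.card ≤ S.card := by
    rw [hScard, ← hlen]
    exact List.toFinset_card_le A
  have heq := Finset.eq_of_subset_of_card_le hsub hle
  constructor
  · have h1 : A.dedup.length = A.length := by
      rw [← List.card_toFinset, ← heq, hScard, hlen]
    have h2 := List.Sublist.eq_of_length (List.dedup_sublist A) h1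
    rw [← List.dedup_eq_self]
    exact h2
  · intro w
    rw [← hmemS, heq, List.mem_toFinset]

/-- Counting in the list. -/
theorem ncard_of_P (P : (ℕ → ℕ) → Bool) (Q : (GolayPt → ℤ) → Prop)
    (h : ∀ y, P y = true ↔ Q (vecF y)) :
    {w : GolayPt → ℤ | w ∈ leechLattice ∧ sqNorm w = 32 ∧ Q w}.ncard = allMinF.countP P := by
  classical
  obtain ⟨hnd, hmem⟩ := allMin_spec
  have hnd2 : ((allMinF.filter P).map vecF).Nodup := hnd.sublist (List.filter_sublist.map vecF)
  have hset : {w : GolayPt → ℤ | w ∈ leechLattice ∧ sqNorm w = 32 ∧ Q w} =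
      (((allMinF.filter P).map vecF).toFinset : Set (GolayPt → ℤ)) := by
    ext w
    simp only [Set.mem_ofPred_eq, Finset.mem_coe, List.mem_toFinset, List.mem_map, List.mem_filter]
    constructor
    · rintro ⟨h1, h2, h3⟩
      obtain ⟨y, hy, e⟩ := List.mem_map.1 ((hmem w).2 ⟨h1, h2⟩)
      exact ⟨y, ⟨hy, (h y).2 (by rw [e]; exact h3)⟩, e⟩
    · rintro ⟨y, ⟨hy, hP⟩, rfl⟩
      obtain ⟨h1, h2⟩ := (hmem _).1 (List.mem_map.2 ⟨y, hy, rfl⟩)
      exact ⟨h1, h2, (h y).1 hP⟩
  rw [hset, Set.ncard_coe_finset, List.toFinset_card_of_nodup hnd2, List.length_map,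
    List.countP_eq_length_filter]

/-- The count, split for the kernel. -/
def cntP (P : (ℕ → ℕ) → Bool) : ℕ :=
  t1List.countP P + ((octadList.map fun m => (evenSubs m).countP fun s => P (y2 m s)).sum +
    ((List.range 24).map fun p => codeList.countP fun c => P (y3 p c)).sum)

theorem countP_allMinF (P : (ℕ → ℕ) → Bool) : allMinF.countP P = cntP P := by
  have h1 : (octadList.map (List.countP P ∘ fun m => (evenSubs m).map (y2 m))) =
      octadList.map fun m => (evenSubs m).countP fun s => P (y2 m s) :=
    List.map_congr_left fun m _ => List.countP_map ..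
  have h2 : ((List.range 24).map (List.countP P ∘ fun p => codeList.map (y3 p))) =
      (List.range 24).map fun p => codeList.countP fun c => P (y3 p c) :=
    List.map_congr_left fun m _ => List.countP_map ..
  unfold allMinF cntP
  rw [List.countP_append, List.countP_append, List.countP_flatMap, List.countP_flatMap, h1, h2]

/-! ### Transport by the group -/

/-- Transport of a subset of the lattice by a group element. -/
theorem ncard_transport (g : Co0) (N : ℤ) (Q Q' : (GolayPt → ℤ) → Prop)
    (hQ : ∀ w : leechLattice, Q (w : GolayPt → ℤ) ↔ Q' ((g • w : leechLattice) : GolayPt → ℤ)) :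
    {w : GolayPt → ℤ | w ∈ leechLattice ∧ sqNorm w = N ∧ Q w}.ncard =
      {w : GolayPt → ℤ | w ∈ leechLattice ∧ sqNorm w = N ∧ Q' w}.ncard := by
  have e1 : {w : GolayPt → ℤ | w ∈ leechLattice ∧ sqNorm w = N ∧ Q w} =
      Subtype.val '' {x : leechLattice | sqNorm (x : GolayPt → ℤ) = N ∧ Q (x : GolayPt → ℤ)} := by
    ext w
    constructor
    · rintro ⟨h1, h2, h3⟩
      exact ⟨⟨w, h1⟩, ⟨h2, h3⟩, rfl⟩
    · rintro ⟨x, ⟨h2, h3⟩, rfl⟩
      exact ⟨x.2, h2, h3⟩
  have e2 : {w : GolayPt → ℤ | w ∈ leechLattice ∧ sqNorm w = N ∧ Q' w} =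
      Subtype.val '' ((fun x : leechLattice => g • x) ''
        {x : leechLattice | sqNorm (x : GolayPt → ℤ) = N ∧ Q (x : GolayPt → ℤ)}) := by
    ext w
    constructor
    · rintro ⟨h1, h2, h3⟩
      refine ⟨⟨w, h1⟩, ⟨g⁻¹ • ⟨w, h1⟩, ⟨?_, ?_⟩, smul_inv_smul _ _⟩, rfl⟩
      · rw [co0_sqNorm]
        exact h2
      · rw [hQ, smul_inv_smul]
        exact h3
    · rintro ⟨_, ⟨x, ⟨h2, h3⟩, rfl⟩, rfl⟩
      refine ⟨(g • x).2, ?_, (hQ x).1 h3⟩
      show sqNorm ((g • x : leechLattice) : GolayPt → ℤ) = N
      rw [co0_sqNorm]
      exact h2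
  rw [e1, e2, Set.ncard_image_of_injective _ Subtype.val_injective,
    Set.ncard_image_of_injective _ Subtype.val_injective,
    Set.ncard_image_of_injective _ (MulAction.injective g)]

/-- The count of minimal vectors with given inner product with `a0`. -/
theorem census_a0 (n : ℕ) (t : ℤ) (ht : t = 4 * ((n : ℤ) - 8)) :
    {w : GolayPt → ℤ | w ∈ leechLattice ∧ sqNorm w = 32 ∧ dotInt (a0 : GolayPt → ℤ) w = t}.ncard =
      cntP (fun y => Nat.beq (Nat.add (y 3) (y 5)) n) := by
  rw [← countP_allMinF]
  apply ncard_of_P
  intro y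
  rw [dot_a0, Nat.beq_eq]
  simp only [vecF, idx_pt (show 3 < 24 by norm_num), idx_pt (show 5 < 24 by norm_num)]
  show y 3 + y 5 = n ↔ _
  omega

/-- The count of minimal vectors with given inner product with a minimal vector. -/
theorem census (v : GolayPt → ℤ) (hv : v ∈ leechLattice) (hvn : sqNorm v = 32) (n : ℕ) (t : ℤ)
    (ht : t = 4 * ((n : ℤ) - 8)) :
    {w : GolayPt → ℤ | w ∈ leechLattice ∧ sqNorm w = 32 ∧ dotInt v w = t}.ncard =
      cntP (fun y => Nat.beq (Nat.add (y 3) (y 5)) n) := by
  obtain ⟨g, hg⟩ := Cfsg.Agent.Lib.Sporadic.LeechMin.co0_transitive_min ⟨v, hv⟩ a0 hvn (by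
    show sqNorm (vecOf a0L) = 32
    rw [sqNorm_vecOf]
    decide +kernel)
  rw [← census_a0 n t ht]
  apply ncard_transport g
  intro w
  rw [← hg, co0_dotInt]

/-! ### Checking a property of all minimal vectors -/

def allP (R : (ℕ → ℕ) → Bool) : Bool :=
  t1List.all R && ((octadList.all fun m => (evenSubs m).all fun s => R (y2 m s)) &&
    ((List.range 24).all fun p => codeList.all fun c => R (y3 p c)))

theorem allP_sound {R : (ℕ → ℕ) → Bool} (h : allP R = true) : ∀ y ∈ allMinF, R y = true := by
  simp only [allP, Bool.and_eq_true, List.all_eq_true] at h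
  obtain ⟨h1, h2, h3⟩ := h
  intro y hy
  simp only [allMinF, List.mem_append, List.mem_flatMap, List.mem_map] at hy
  rcases hy with hy | ⟨m, hm, s, hs, rfl⟩ | ⟨p, hp, c, hc, rfl⟩
  · exact h1 y hy
  · exact h2 m hm s hs
  · exact h3 p hp c hc

/-- The list of coordinates. -/
def toL (y : ℕ → ℕ) : List ℤ := rangeL fun i => (y i : ℤ) - 4

theorem vecOf_toL (y : ℕ → ℕ) : vecOf (toL y) = vecF y := by
  funext p
  unfold toL
  rw [vecOf_rangeL]
  rfl

/-- The minimal vectors with a property form an explicit list. -/
theorem sub_of_scan {X : List (List ℤ)} {Q : (GolayPt → ℤ) → Prop} {P : (ℕ → ℕ) → Bool}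
    (hPQ : ∀ y, Q (vecF y) → P y = true)
    (hscan : allP (fun y => !P y || X.contains (toL y)) = true)
    {w : GolayPt → ℤ} (hw : w ∈ leechLattice) (hn : sqNorm w = 32) (hQ : Q w) :
    ∃ l ∈ X, vecOf l = w := by
  obtain ⟨y, hy, rfl⟩ := exists_mem_allMinF hw hn
  have h1 := allP_sound hscan y hy
  have h2 := hPQ y hQ
  rw [h2] at h1
  simp only [Bool.not_true, Bool.false_or] at h1
  refine ⟨toL y, ?_, vecOf_toL y⟩
  simpa using h1

/-! ### Explicit subsets of the lattice -/

theorem vecOf_inj {l l' : List ℤ} (h : vecOf l = vecOf l') (h1 : l.length = 24) (h2 : l'.length = 24) :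
    l = l' := by
  apply List.ext_getElem (h1.trans h2.symm)
  intro i hi hi'
  have hlt : i < 24 := by rwa [h1] at hi
  have := congrFun h (pt i)
  simp only [vecOf, idx_pt hlt] at this
  rwa [List.getD_eq_getElem _ _ hi, List.getD_eq_getElem _ _ hi'] at this

/-- The set of lattice vectors in an explicit list. -/
def latSet (X : List (List ℤ)) : Set leechLattice := {x | ∃ l ∈ X, vecOf l = (x : GolayPt → ℤ)}

theorem ncard_latSet {X : List (List ℤ)} (hnd : X.Nodup) (hlen : ∀ l ∈ X, l.length = 24)
    (hL : ∀ l ∈ X, vecOf l ∈ leechLattice) : (latSet X).ncard = X.length := by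
  classical
  have hinj : ∀ a ∈ X, ∀ b ∈ X, vecOf a = vecOf b → a = b := fun a ha b hb h =>
    vecOf_inj h (hlen a ha) (hlen b hb)
  have hnd2 : (X.map vecOf).Nodup := (List.nodup_map_iff_inj_on hnd).2 hinj
  have e : Subtype.val '' latSet X = ((X.map vecOf).toFinset : Set (GolayPt → ℤ)) := by
    ext w
    simp only [Set.mem_image, Finset.mem_coe, List.mem_toFinset, List.mem_map, latSet]
    constructor
    · rintro ⟨x, ⟨l, hl, h⟩, rfl⟩
      exact ⟨l, hl, h⟩
    · rintro ⟨l, hl, rfl⟩
      exact ⟨⟨vecOf l, hL l hl⟩, ⟨l, hl, rfl⟩, rfl⟩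
  rw [← Set.ncard_image_of_injective _ Subtype.val_injective, e, Set.ncard_coe_finset,
    List.toFinset_card_of_nodup hnd2, List.length_map]

/-! ### Trees with exact images -/

/-- Generator, parent and depth of each entry: the entry is the image of its parent. -/
def exactOK (gens : List (List ℤ → List ℤ)) (reps : List (List ℤ)) (cert : List (ℕ × ℕ × ℕ)) : Bool :=
  (List.range reps.length).all fun i =>
    let e := cert.getD i (0, 0, 0)
    i == 0 || (decide (e.1 < gens.length) && decide (e.2.1 < reps.length) &&
      decide ((cert.getD e.2.1 (0, 0, 0)).2.2 < e.2.2) &&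
      (gens.getD e.1 id (reps.getD e.2.1 []) == reps.getD i []))

theorem exact_sound {K : Subgroup Co0} {gens : List (List ℤ → List ℤ)}
    (hg : ∀ f ∈ gens, ∀ l, vecOf l ∈ leechLattice → SameIn K (vecOf l) (vecOf (f l)))
    {reps : List (List ℤ)} {cert : List (ℕ × ℕ × ℕ)} (h : exactOK gens reps cert = true)
    (hroot : vecOf (reps.getD 0 []) ∈ leechLattice) :
    ∀ r ∈ reps, SameIn K (vecOf (reps.getD 0 [])) (vecOf r) := by
  have hE : ∀ i, i < reps.length → _ := fun i hi => List.all_eq_true.1 h i (List.mem_range.2 hi)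
  have key : ∀ d i, i < reps.length → (cert.getD i (0, 0, 0)).2.2 = d →
      SameIn K (vecOf (reps.getD 0 [])) (vecOf (reps.getD i [])) := by
    intro d
    induction' d using Nat.strong_induction_on with d ih
    intro i hi hd
    have h1 := hE i hi
    simp only [Bool.or_eq_true, beq_iff_eq, Bool.and_eq_true, decide_eq_true_eq] at h1
    rcases h1 with h0 | ⟨⟨⟨hg1, hp1⟩, hd1⟩, he⟩
    · rw [h0]
      exact SameIn.refl hroot
    · have hf : gens.getD (cert.getD i (0, 0, 0)).1 id ∈ gens := by
        rw [List.getD_eq_getElem _ _ hg1]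
        exact List.getElem_mem _
      have h2 := ih _ (by rw [← hd]; exact hd1) _ hp1 rfl
      have h3 := hg _ hf _ h2.right_mem
      rw [he] at h3
      exact h2.trans h3
  intro r hr
  obtain ⟨i, hi, rfl⟩ := List.mem_iff_getElem.1 hr
  have := key _ i hi rfl
  rwa [List.getD_eq_getElem _ _ hi] at this

/-! ### Stabilisers of explicit vectors -/

/-- The pointwise stabiliser of a list of explicit vectors. -/
def StabL (F : List (List ℤ)) : Subgroup Co0 where
  carrier := {g | ∀ l ∈ F, ∀ hl : vecOf l ∈ leechLattice, g • (⟨vecOf l, hl⟩ : leechLattice) = ⟨vecOf l, hl⟩}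
  one_mem' := fun l _ hl => one_smul _ _
  mul_mem' := by
    intro a b ha hb l hl hl'
    rw [mul_smul, hb l hl hl', ha l hl hl']
  inv_mem' := by
    intro a ha l hl hl'
    show a⁻¹ • _ = _
    conv_lhs => rw [← ha l hl hl']
    rw [inv_smul_smul]

theorem acts_mem_StabL {F : List (List ℤ)} {g : Co0} {f : List ℤ → List ℤ} (h : Acts g f)
    (hf : F.all (fun l => f l == l) = true) : g ∈ StabL F := by
  intro l hl hl'
  have h1 := List.all_eq_true.1 hf l hl
  rw [beq_iff_eq] at h1
  apply Subtype.ext
  have := h l hl'
  rw [h1] at this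
  exact this

theorem acts_same_StabL {F : List (List ℤ)} {g : Co0} {f : List ℤ → List ℤ} (h : Acts g f)
    (hf : F.all (fun l => f l == l) = true) (l : List ℤ) (hl : vecOf l ∈ leechLattice) :
    SameIn (StabL F) (vecOf l) (vecOf (f l)) :=
  ⟨hl, h.mem hl, g, acts_mem_StabL h hf, h.smul hl (h.mem hl)⟩

end Cfsg.Agent.Lib.Sporadic.LeechEnum
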