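import Mathlib
import Cfsg.Agent.Lib.Sporadic.LeechEnum
import Cfsg.Agent.Lib.Sporadic.LeechAct
import Cfsg.Agent.Lib.Sporadic.LeechOrbits
import Cfsg.Agent.Lib.Compute.LeechCount
import Cfsg.Agent.Lib.Compute.OutFinal

/-!
# Permutation representations of stabilisers in the automorphism group of the lattice

* `card_inf_stab`: the orbit-stabiliser theorem for subgroups of `Co0`.
* `rep`: the action of a subgroup of `Co0` on an explicit invariant list of vectors.
* `rep_chain`: when the order of the subgroup is the order of a kernel-checked chain in the image, the action is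
  faithful and the image has the given order.
-/

set_option autoImplicit false

namespace Cfsg.Agent.Lib.Sporadic.LeechRep

open Cfsg Cfsg.Agent.Lib.Sporadic.LeechBasic Cfsg.Agent.Lib.Sporadic.LeechAut Cfsg.Agent.Lib.Sporadic.LeechMat
  Cfsg.Agent.Lib.Sporadic.LeechKey Cfsg.Agent.Lib.Sporadic.LeechEnum Cfsg.Agent.Lib.Sporadic.LeechAct
  Cfsg.Agent.Lib.Compute.PermCert Cfsg.Agent.Lib.Compute.OutChain Cfsg.Agent.Lib.Compute.OutFinal

/-! ### Orbit-stabiliser -/

/-- The orbit-stabiliser theorem for subgroups of `Co0`. -/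
theorem card_inf_stab (H : Subgroup Co0) (x : leechLattice) :
    Nat.card (H ⊓ MulAction.stabilizer Co0 x : Subgroup Co0) * (MulAction.orbit H x).ncard = Nat.card H := by
  have h1 := Subgroup.card_mul_index (MulAction.stabilizer H x)
  rw [MulAction.index_stabilizer] at h1
  have e : Nat.card (MulAction.stabilizer H x) = Nat.card (H ⊓ MulAction.stabilizer Co0 x : Subgroup Co0) := by
    refine Nat.card_congr ⟨fun y => ⟨y.1.1, y.1.2, y.2⟩, fun y => ⟨⟨y.1, y.2.1⟩, y.2.2⟩, fun y => rfl, fun y => rfl⟩
  rw [← e, h1]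

/-- The orbit-stabiliser theorem with an explicit orbit. -/
theorem card_stab_of_trans (H : Subgroup Co0) (x : leechLattice) (T : Set leechLattice) (hx : x ∈ T)
    (hinv : ∀ h ∈ H, ∀ y ∈ T, h • y ∈ T) (htr : ∀ y ∈ T, ∃ h ∈ H, h • x = y) :
    Nat.card (H ⊓ MulAction.stabilizer Co0 x : Subgroup Co0) * T.ncard = Nat.card H := by
  have : MulAction.orbit H x = T := by
    ext y
    rw [MulAction.mem_orbit_iff]
    constructor
    · rintro ⟨h, rfl⟩
      exact hinv h.1 h.2 x hx
    · intro hy
      obtain ⟨h, hh, e⟩ := htr y hy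
      exact ⟨⟨h, hh⟩, e⟩
  rw [← this, card_inf_stab]

/-- A count of lattice vectors from a count of functions. -/
theorem ncard_lat (P : (GolayPt → ℤ) → Prop) :
    {x : leechLattice | P x}.ncard = {w : GolayPt → ℤ | w ∈ leechLattice ∧ P w}.ncard := by
  have e : {w : GolayPt → ℤ | w ∈ leechLattice ∧ P w} = Subtype.val '' {x : leechLattice | P x} := by
    ext w
    constructor
    · rintro ⟨h1, h2⟩
      exact ⟨⟨w, h1⟩, h2, rfl⟩
    · rintro ⟨x, h2, rfl⟩
      exact ⟨x.2, h2⟩
  rw [e, Set.ncard_image_of_injective _ Subtype.val_injective]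

/-- The number of vectors of norm `N`. -/
theorem ncard_norm_lat {N : ℕ} (hN : N ≤ 64) :
    {x : leechLattice | sqNorm (x : GolayPt → ℤ) = (N : ℤ)}.ncard = Cfsg.Agent.Lib.Compute.LeechCount.total N := by
  have := ncard_lat (fun w => sqNorm w = (N : ℤ))
  rw [this]
  exact Cfsg.Agent.Lib.Compute.LeechCount.ncard_norm hN

/-- The order of the stabiliser of a vector of norm `48`. -/
theorem card_stab_48 (v : leechLattice) (hv : sqNorm (v : GolayPt → ℤ) = 48) :
    Nat.card (MulAction.stabilizer Co0 v) = 495766656000 := by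
  have h := card_stab_of_trans ⊤ v {x : leechLattice | sqNorm (x : GolayPt → ℤ) = ((48 : ℕ) : ℤ)} hv
    (fun h _ y hy => by
      show sqNorm _ = _
      rw [co0_sqNorm]
      exact hy)
    (fun y hy => by
      obtain ⟨g, hg⟩ := Cfsg.Agent.Lib.Sporadic.LeechOrbits.co0_transitive_48 v y hv hy
      exact ⟨g, trivial, hg⟩)
  rw [top_inf_eq, ncard_norm_lat (by norm_num), Cfsg.Agent.Lib.Compute.LeechCount.total_48, Nat.card_congr Subgroup.topEquiv.toEquiv,
    card_Co0] at h
  omega

/-- The order of the stabiliser of a vector of norm `32`. -/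
theorem card_stab_32 (v : leechLattice) (hv : sqNorm (v : GolayPt → ℤ) = 32) :
    Nat.card (MulAction.stabilizer Co0 v) = 42305421312000 := by
  have h := card_stab_of_trans ⊤ v {x : leechLattice | sqNorm (x : GolayPt → ℤ) = ((32 : ℕ) : ℤ)} hv
    (fun h _ y hy => by
      show sqNorm _ = _
      rw [co0_sqNorm]
      exact hy)
    (fun y hy => by
      obtain ⟨g, hg⟩ := Cfsg.Agent.Lib.Sporadic.LeechMin.co0_transitive_min v y hv hy
      exact ⟨g, trivial, hg⟩)
  rw [top_inf_eq, ncard_norm_lat (by norm_num), Cfsg.Agent.Lib.Compute.LeechCount.total_32, Nat.card_congr Subgroup.topEquiv.toEquiv,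
    card_Co0] at h
  omega

/-! ### The action on an explicit list -/

section Rep

variable {X : List (List ℤ)} {N : ℕ} (hN : X.length = N) (hlen : ∀ l ∈ X, l.length = 24)
  (hnd : X.Nodup) (hmem : ∀ l ∈ X, vecOf l ∈ leechLattice)

theorem getD_mem {i : ℕ} (hi : i < N) (hN : X.length = N) : X.getD i [] ∈ X := by
  rw [List.getD_eq_getElem _ _ (hN ▸ hi)]
  exact List.getElem_mem _

/-- The point of the lattice with a given index. -/
def ptOf (hN : X.length = N) (hmem : ∀ l ∈ X, vecOf l ∈ leechLattice) (i : Fin N) : leechLattice :=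
  ⟨vecOf (X.getD i []), hmem _ (getD_mem i.2 hN)⟩

include hlen hnd in
theorem ptOf_inj : Function.Injective (ptOf hN hmem) := by
  intro i j h
  have h1 : vecOf (X.getD i []) = vecOf (X.getD j []) := congrArg Subtype.val h
  have h2 := vecOf_inj h1 (hlen _ (getD_mem i.2 hN)) (hlen _ (getD_mem j.2 hN))
  have hi : (i : ℕ) < X.length := hN ▸ i.2
  have hj : (j : ℕ) < X.length := hN ▸ j.2
  rw [List.getD_eq_getElem _ _ hi, List.getD_eq_getElem _ _ hj] at h2
  exact Fin.ext ((List.Nodup.getElem_inj_iff hnd).1 h2)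

theorem ptOf_surj {x : leechLattice} (hx : x ∈ latSet X) : ∃ i, ptOf hN hmem i = x := by
  obtain ⟨l, hl, e⟩ := hx
  obtain ⟨i, hi, rfl⟩ := List.mem_iff_getElem.1 hl
  refine ⟨⟨i, hN ▸ hi⟩, Subtype.ext ?_⟩
  show vecOf (X.getD i []) = _
  rw [List.getD_eq_getElem _ _ hi, e]

variable (S : Subgroup Co0) (hpres : ∀ g ∈ S, ∀ x ∈ latSet X, g • x ∈ latSet X)

include hpres in
theorem exists_img (g : S) (i : Fin N) : ∃ j : Fin N, ptOf hN hmem j = (g : Co0) • ptOf hN hmem i :=
  ptOf_surj hN hmem (hpres g g.2 _ ⟨X.getD i [], getD_mem i.2 hN, rfl⟩)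

/-- The map on indices. -/
noncomputable def fnOf (g : S) (i : Fin N) : Fin N := Classical.choose (exists_img hN hmem S hpres g i)

theorem fnOf_spec (g : S) (i : Fin N) : ptOf hN hmem (fnOf hN hmem S hpres g i) = (g : Co0) • ptOf hN hmem i :=
  Classical.choose_spec (exists_img hN hmem S hpres g i)

include hlen hnd in
theorem fnOf_inj (g : S) : Function.Injective (fnOf hN hmem S hpres g) := by
  intro i j h
  have h1 := fnOf_spec hN hmem S hpres g i
  rw [h, fnOf_spec] at h1
  exact ptOf_inj hN hlen hnd hmem (MulAction.injective (g : Co0) h1).symm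

/-- The action on the list. -/
noncomputable def rep : S →* Equiv.Perm (Fin N) :=
  MonoidHom.mk' (fun g => Equiv.ofBijective (fnOf hN hmem S hpres g)
    (Finite.injective_iff_bijective.1 (fnOf_inj hN hlen hnd hmem S hpres g))) (by
    intro a b
    ext i
    apply congrArg Fin.val
    apply ptOf_inj hN hlen hnd hmem
    show ptOf hN hmem (fnOf hN hmem S hpres (a * b) i) = ptOf hN hmem (fnOf hN hmem S hpres a (fnOf hN hmem S hpres b i))
    rw [fnOf_spec, fnOf_spec, fnOf_spec]
    show ((a : Co0) * (b : Co0)) • _ = _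
    rw [mul_smul])

theorem rep_spec (g : S) (i : Fin N) :
    ptOf hN hmem (rep hN hlen hnd hmem S hpres g i) = (g : Co0) • ptOf hN hmem i :=
  fnOf_spec hN hmem S hpres g i

variable {w m tw tm : ℕ}

/-- A permutation given by a table in the image of the action, from a check on the list. -/
theorem permOf_mem_range {e : Elt} (ve : validB w m N e = true) {g : Co0} (hg : g ∈ S) {f : List ℤ → List ℤ}
    (hf : Acts g f)
    (hc : (List.range N).all (fun i => f (X.getD i []) == X.getD (get w m e.f i) []) = true) :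
    permOf w m N e ∈ (rep hN hlen hnd hmem S hpres).range := by
  refine ⟨⟨g, hg⟩, ?_⟩
  ext i
  apply congrArg Fin.val
  apply ptOf_inj hN hlen hnd hmem
  rw [rep_spec]
  apply Subtype.ext
  show ((g • (⟨vecOf (X.getD i []), _⟩ : leechLattice) : leechLattice) : GolayPt → ℤ) = vecOf (X.getD (permOf w m N e i) [])
  rw [hf]
  have h1 := List.all_eq_true.1 hc i (List.mem_range.2 i.2)
  rw [beq_iff_eq] at h1
  rw [h1]
  congr 2
  exact gt_eq ve i

/-- When the order of the subgroup is the order of a chain in the image, the action is faithful, and the chain is a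
chain of the image. -/
theorem rep_chain [Finite S] {ls : List Lv} (hc : chkChain w m N tw tm ls = true)
    (hg : ∀ e ∈ hdG ls, permOf w m N e ∈ (rep hN hlen hnd hmem S hpres).range)
    (hS : Nat.card S = ordC ls) :
    ChainFor w m N tw tm (rep hN hlen hnd hmem S hpres).range ls ∧
      Function.Injective (rep hN hlen hnd hmem S hpres) := by
  set φ := rep hN hlen hnd hmem S hpres with hφ
  have hle : genGroup w m N (hdG ls) ≤ φ.range := by
    refine (Subgroup.closure_le _).mpr ?_
    rintro _ ⟨e, he, rfl⟩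
    exact hg e he
  have h1 := (chain_lower ls φ.range hc hle).1
  have h2 : Nat.card φ.range ≤ Nat.card S :=
    Nat.card_le_card_of_surjective φ.rangeRestrict φ.rangeRestrict_surjective
  have h3 : Nat.card S = Nat.card φ.range := le_antisymm (hS ▸ h1) h2
  refine ⟨⟨hc, hle, hS.symm.trans h3⟩, ?_⟩
  have hb := (Nat.bijective_iff_surjective_and_card φ.rangeRestrict).2 ⟨φ.rangeRestrict_surjective, h3⟩
  exact MonoidHom.rangeRestrict_injective_iff.1 hb.1

end Rep

end Cfsg.Agent.Lib.Sporadic.LeechRep
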