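import Mathlib
import Cfsg.Agent.Lib.Sporadic.LeechRep
import Cfsg.Agent.Lib.Sporadic.LeechMcL
import Cfsg.Prelude.Def_Spor_Conway

/-!
# The Conway groups and the McLaughlin group as stabilisers of explicit vectors: orders
-/

set_option autoImplicit false

namespace Cfsg.Agent.Lib.Sporadic.LeechGroups

open Cfsg Cfsg.Agent.Lib.Sporadic.GolayCore Cfsg.Agent.Lib.Sporadic.LeechBasic Cfsg.Agent.Lib.Sporadic.LeechAut
  Cfsg.Agent.Lib.Sporadic.LeechMat Cfsg.Agent.Lib.Sporadic.LeechKey Cfsg.Agent.Lib.Sporadic.LeechEnum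
  Cfsg.Agent.Lib.Sporadic.LeechA0 Cfsg.Agent.Lib.Sporadic.LeechMcLData Cfsg.Agent.Lib.Sporadic.LeechMcL
  Cfsg.Agent.Lib.Sporadic.LeechRep Cfsg.Agent.Lib.Sporadic.LeechAct
  Cfsg.Agent.Lib.Compute.PermOut

/-! ### The vectors of the definitions -/

/-- The coordinates of `vecU`. -/
def uL : List ℤ := rangeL fun i => if i = 23 ∨ i = 0 then 4 else 0
/-- The coordinates of `vecV`. -/
def vL : List ℤ := rangeL fun i => if i = 23 then -5 else -1
/-- The coordinates of `vecU'`. -/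
def u'L : List ℤ := rangeL fun i => if i = 23 then 4 else if i = 0 then -4 else 0

theorem vecU_eq : Spor.vecU = vecOf uL := by
  funext p
  unfold uL
  rw [vecOf_rangeL]
  revert p
  decide

theorem vecV_eq : Spor.vecV = vecOf vL := by
  funext p
  unfold vL
  rw [vecOf_rangeL]
  revert p
  decide

theorem vecU'_eq : Spor.vecU' = vecOf u'L := by
  funext p
  unfold u'L
  rw [vecOf_rangeL]
  revert p
  decide

theorem sqNorm_U : sqNorm (Spor.leechU : GolayPt → ℤ) = 32 := by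
  show sqNorm Spor.vecU = 32
  rw [vecU_eq, sqNorm_vecOf]
  decide +kernel

theorem sqNorm_V : sqNorm (Spor.leechV : GolayPt → ℤ) = 48 := by
  show sqNorm Spor.vecV = 48
  rw [vecV_eq, sqNorm_vecOf]
  decide +kernel

theorem sqNorm_U' : sqNorm (Spor.leechU' : GolayPt → ℤ) = 32 := by
  show sqNorm Spor.vecU' = 32
  rw [vecU'_eq, sqNorm_vecOf]
  decide +kernel

/-! ### Conjugation -/

/-- A subgroup of `Co0` with a conjugation into another one. -/
noncomputable def conjEquiv (g0 : Co0) (A : Subgroup (Equiv.Perm leechLattice)) (B : Subgroup Co0) (hA : A ≤ Co0)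
    (h : ∀ x : Co0, (x : Equiv.Perm leechLattice) ∈ A ↔ g0 * x * g0⁻¹ ∈ B) : A ≃* B where
  toFun x := ⟨g0 * ⟨x.1, hA x.2⟩ * g0⁻¹, (h _).1 x.2⟩
  invFun y := ⟨((g0⁻¹ * y.1 * g0 : Co0) : Equiv.Perm leechLattice), (h _).2 (by
    have : g0 * (g0⁻¹ * y.1 * g0) * g0⁻¹ = y.1 := by group
    rw [this]
    exact y.2)⟩
  left_inv x := by
    apply Subtype.ext
    show ((g0⁻¹ * (g0 * ⟨x.1, hA x.2⟩ * g0⁻¹) * g0 : Co0) : Equiv.Perm leechLattice) = x.1
    have : g0⁻¹ * (g0 * ⟨x.1, hA x.2⟩ * g0⁻¹) * g0 = ⟨x.1, hA x.2⟩ := by group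
    rw [this]
  right_inv y := by
    apply Subtype.ext
    show g0 * ⟨((g0⁻¹ * y.1 * g0 : Co0) : Equiv.Perm leechLattice), _⟩ * g0⁻¹ = y.1
    have : g0 * (g0⁻¹ * y.1 * g0) * g0⁻¹ = y.1 := by group
    exact this
  map_mul' a b := by
    apply Subtype.ext
    show g0 * (⟨a.1, hA a.2⟩ * ⟨b.1, hA b.2⟩) * g0⁻¹ = (g0 * ⟨a.1, hA a.2⟩ * g0⁻¹) * (g0 * ⟨b.1, hA b.2⟩ * g0⁻¹)
    group

theorem conj_fix_iff (g0 x : Co0) (u : leechLattice) : (g0 * x * g0⁻¹) • (g0 • u) = g0 • u ↔ x • u = u := by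
  rw [mul_smul, mul_smul, inv_smul_smul]
  exact (MulAction.injective g0).eq_iff

theorem mem_stabilizer_coe (x : Co0) (u : leechLattice) :
    (x : Equiv.Perm leechLattice) ∈ MulAction.stabilizer (Equiv.Perm leechLattice) u ↔ x • u = u := Iff.rfl

/-! ### The orders -/

/-- The stabiliser of a vector in terms of the definition. -/
theorem exists_conj_stab {u c : leechLattice} {g0 : Co0} (hg : g0 • u = c) :
    Nonempty ((Co0 ⊓ MulAction.stabilizer (Equiv.Perm leechLattice) u : Subgroup _) ≃* MulAction.stabilizer Co0 c) := by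
  refine ⟨conjEquiv g0 _ _ inf_le_left fun x => ?_⟩
  rw [Subgroup.mem_inf, mem_stabilizer_coe]
  constructor
  · rintro ⟨-, h⟩
    show (g0 * x * g0⁻¹) • c = c
    rw [← hg]
    exact (conj_fix_iff g0 x u).2 h
  · intro h
    refine ⟨x.2, (conj_fix_iff g0 x u).1 ?_⟩
    rw [hg]
    exact h

/-- The order of the group `Co₂`. -/
theorem card_Co2 : Nat.card Spor.Co2 = 42305421312000 := by
  obtain ⟨e⟩ := exists_conj_stab (u := Spor.leechU) (g0 := 1) (c := Spor.leechU) (one_smul _ _)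
  exact (Nat.card_congr e.toEquiv).trans (card_stab_32 _ sqNorm_U)

/-- The order of the group `Co₃`. -/
theorem card_Co3 : Nat.card Spor.Co3 = 495766656000 := by
  obtain ⟨e⟩ := exists_conj_stab (u := Spor.leechV) (g0 := 1) (c := Spor.leechV) (one_smul _ _)
  exact (Nat.card_congr e.toEquiv).trans (card_stab_48 _ sqNorm_V)

/-- The number of minimal vectors of inner product `-8` with the standard vector. -/
theorem cnt_m8 : cntP (fun y => Nat.beq (Nat.add (y 3) (y 5)) 6) = 47104 := by decide +kernel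

theorem ncard_m8 : {y : leechLattice | sqNorm (y : GolayPt → ℤ) = 32 ∧ dotInt (a0 : GolayPt → ℤ) y = -8}.ncard = 47104 := by
  have h := ncard_lat (fun w => sqNorm w = 32 ∧ dotInt (a0 : GolayPt → ℤ) w = -8)
  rw [h, census_a0 6 (-8) (by norm_num), cnt_m8]

/-- The order of the stabiliser of the standard pair. -/
theorem card_StabL_FM : Nat.card (StabL FM) = 898128000 := by
  have h := card_stab_of_trans KA b0El {y : leechLattice | sqNorm (y : GolayPt → ℤ) = 32 ∧ dotInt (a0 : GolayPt → ℤ) y = -8}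
    ⟨sqNorm_b0, dot_a0_b0⟩
    (fun h hh y hy => by
      refine ⟨?_, ?_⟩
      · rw [co0_sqNorm]
        exact hy.1
      · have hh' : h • a0 = a0 := hh
        have h1 := co0_dotInt h a0 y
        rw [hh'] at h1
        rw [h1]
        exact hy.2)
    (fun y hy => by
      obtain ⟨g, hg1, hg2⟩ := co2_trans_m8 a0 b0El y sqNorm_a0 sqNorm_b0 hy.1 dot_a0_b0 hy.2
      exact ⟨g, hg1, hg2⟩)
  rw [ncard_m8] at h
  have e : (KA ⊓ MulAction.stabilizer Co0 b0El : Subgroup Co0) = StabL FM := by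
    ext g
    rw [mem_FM]
    exact Iff.rfl
  rw [e] at h
  have h2 : Nat.card KA = 42305421312000 := card_stab_32 a0 sqNorm_a0
  rw [h2, show (42305421312000 : ℕ) = 898128000 * 47104 by norm_num] at h
  exact Nat.eq_of_mul_eq_mul_right (by norm_num) h

/-- The coordinates of `-(u + v)`. -/
def wML : List ℤ := rangeL fun i => if i = 0 then -3 else 1

/-- The vector `-(u + v)`. -/
def wMcL : leechLattice := -(Spor.leechU + Spor.leechV)

theorem coe_wMcL : (wMcL : GolayPt → ℤ) = vecOf wML := by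
  have h : (wMcL : GolayPt → ℤ) = -(Spor.vecU + Spor.vecV) := rfl
  rw [h]
  funext p
  unfold wML
  rw [vecOf_rangeL]
  revert p
  decide

theorem sqNorm_wMcL : sqNorm (wMcL : GolayPt → ℤ) = 32 := by
  rw [coe_wMcL, sqNorm_vecOf]
  decide +kernel

theorem dot_U_wMcL : dotInt (Spor.leechU : GolayPt → ℤ) (wMcL : GolayPt → ℤ) = -8 := by
  show dotInt Spor.vecU _ = -8
  rw [coe_wMcL, vecU_eq, dotInt_vecOf]
  decide +kernel

/-- The group McL is conjugate to the stabiliser of the standard pair. -/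
theorem exists_iso_McL : Nonempty (Spor.McL ≃* StabL FM) := by
  obtain ⟨g0, h1, h2⟩ := exists_std_pair Spor.leechU wMcL sqNorm_U sqNorm_wMcL dot_U_wMcL
  refine ⟨conjEquiv g0 _ _ (fun x hx => hx.1.1) fun x => ?_⟩
  rw [mem_FM, ← h1, ← h2, conj_fix_iff, conj_fix_iff]
  have e : ∀ y : Co0, y • wMcL = -(y • Spor.leechU + y • Spor.leechV) := by
    intro y
    unfold wMcL
    rw [co0_map_neg, co0_map_add]
  constructor
  · rintro ⟨⟨-, hV⟩, hU⟩
    have hU' : x • Spor.leechU = Spor.leechU := hU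
    have hV' : x • Spor.leechV = Spor.leechV := hV
    exact ⟨hU', by rw [e, hU', hV']; rfl⟩
  · rintro ⟨hU, hw⟩
    rw [e, hU] at hw
    have hV : x • Spor.leechV = Spor.leechV := by
      have h3 : Spor.leechU + x • Spor.leechV = Spor.leechU + Spor.leechV := neg_injective hw
      exact add_left_cancel h3
    exact ⟨⟨x.2, hV⟩, hU⟩

theorem out_McL : Nat.card (Out Spor.McL) = Nat.card (Out (StabL FM)) := by
  obtain ⟨e⟩ := exists_iso_McL
  exact card_out_congr e

theorem card_McL : Nat.card Spor.McL = 898128000 := by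
  obtain ⟨e⟩ := exists_iso_McL
  exact (Nat.card_congr e.toEquiv).trans card_StabL_FM

end Cfsg.Agent.Lib.Sporadic.LeechGroups
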