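import Mathlib
import Cfsg.Agent.Lib.Sporadic.LeechGroups

/-!
# Permutation representations from explicit lists of vectors closed under generators

A subgroup `S` of `Co0` of known order with elements acting on an explicit list of vectors as explicit permutations, which
form a chain whose order is at least the order of `S`: then `S` acts faithfully, and preserves the list.
-/

set_option autoImplicit false

namespace Cfsg.Agent.Lib.Sporadic.LeechRep2

open Cfsg Cfsg.Agent.Lib.Sporadic.GolayCore Cfsg.Agent.Lib.Sporadic.LeechBasic Cfsg.Agent.Lib.Sporadic.LeechAut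
  Cfsg.Agent.Lib.Sporadic.LeechMat Cfsg.Agent.Lib.Sporadic.LeechKey Cfsg.Agent.Lib.Sporadic.LeechEnum
  Cfsg.Agent.Lib.Sporadic.LeechA0 Cfsg.Agent.Lib.Sporadic.LeechMcLData Cfsg.Agent.Lib.Sporadic.LeechMcL
  Cfsg.Agent.Lib.Sporadic.LeechRep Cfsg.Agent.Lib.Sporadic.LeechGroups
  Cfsg.Agent.Lib.Compute.PermCert Cfsg.Agent.Lib.Compute.OutChain Cfsg.Agent.Lib.Compute.OutFinal

/-- The vector of norm `48` with entries `1` and `5` at `k`. -/
def vkL (k : ℕ) : List ℤ := rangeL fun i => if i = k then 5 else 1

theorem vk5_ok : inLattice (vkL 5) = true := by decide +kernel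

/-- An element acting on an explicit vector as the identity is in its stabiliser. -/
theorem mem_stab_of_acts {l : List ℤ} (hl : vecOf l ∈ leechLattice) {g : Co0} {f : List ℤ → List ℤ} (h : Acts g f)
    (hf : f l = l) : g ∈ MulAction.stabilizer Co0 (⟨vecOf l, hl⟩ : leechLattice) := by
  show g • _ = _
  apply Subtype.ext
  have := h l hl
  rw [hf] at this
  exact this

/-! ### Lists without duplicates -/

/-- The code of a vector. -/
def encL : List ℤ → ℕ
  | [] => 0
  | a :: l => Int.toNat (a + 8) + 16 * encL l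

/-- A test for strictly increasing lists. -/
def sortedB : List ℕ → Bool
  | [] => true
  | [_] => true
  | a :: b :: l => Nat.blt a b && sortedB (b :: l)

theorem sortedB_pairwise : ∀ l : List ℕ, sortedB l = true → l.Pairwise (· < ·)
  | [], _ => List.Pairwise.nil
  | [_], _ => List.pairwise_singleton _ _
  | a :: b :: l, h => by
    simp only [sortedB, Bool.and_eq_true] at h
    have hab : a < b := by simpa [Nat.blt_eq] using h.1
    have ih := sortedB_pairwise (b :: l) h.2
    refine List.Pairwise.cons ?_ ih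
    intro c hc
    rcases List.mem_cons.1 hc with rfl | hc'
    · exact hab
    · exact hab.trans (List.rel_of_pairwise_cons ih hc')

/-- Lists of integers with strictly increasing codes have no duplicates. -/
theorem nodup_of_sorted {X : List (List ℤ)} (h : sortedB (X.map encL) = true) : X.Nodup := by
  have h1 : (X.map encL).Nodup := (sortedB_pairwise _ h).imp (fun {a b} hab => Nat.ne_of_lt hab)
  exact List.Nodup.of_map encL h1

/-! ### Elements preserving the list -/

section Rep

variable {X : List (List ℤ)} {N : ℕ} (hN : X.length = N) (hlen : ∀ l ∈ X, l.length = 24)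
  (hnd : X.Nodup) (hmem : ∀ l ∈ X, vecOf l ∈ leechLattice)

include hN hmem in
theorem latSet_finite : (latSet X).Finite := by
  refine (Set.finite_range (ptOf hN hmem)).subset ?_
  intro x hx
  exact ptOf_surj hN hmem hx

/-- The elements of a subgroup preserving a finite set of vectors. -/
def presSub (S : Subgroup Co0) (X : List (List ℤ)) (hfin : (latSet X).Finite) : Subgroup Co0 where
  carrier := {g | g ∈ S ∧ ∀ x ∈ latSet X, g • x ∈ latSet X}
  one_mem' := ⟨S.one_mem, fun x hx => by simpa using hx⟩
  mul_mem' := by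
    rintro a b ⟨ha, ha'⟩ ⟨hb, hb'⟩
    refine ⟨S.mul_mem ha hb, fun x hx => ?_⟩
    rw [mul_smul]
    exact ha' _ (hb' x hx)
  inv_mem' := by
    rintro a ⟨ha, ha'⟩
    refine ⟨S.inv_mem ha, ?_⟩
    have : Finite (latSet X) := hfin
    let fa : latSet X → latSet X := fun x => ⟨a • x.1, ha' x.1 x.2⟩
    have hinj : Function.Injective fa := fun x y h =>
      Subtype.ext (MulAction.injective a (congrArg Subtype.val h))
    have hsurj := Finite.injective_iff_surjective.1 hinj
    intro x hx
    obtain ⟨y, hy⟩ := hsurj ⟨x, hx⟩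
    have h1 : a • y.1 = x := congrArg Subtype.val hy
    rw [← h1, inv_smul_smul]
    exact y.2

variable {w m tw tm : ℕ}

include hN hlen hnd hmem in
/-- The representation of a subgroup of known order from a chain. -/
theorem rep_auto {S : Subgroup Co0} [Finite S] {ls : List Lv} (hc : chkChain w m N tw tm ls = true)
    (hg : ∀ e ∈ hdG ls, ∃ g ∈ S, ∃ f : List ℤ → List ℤ, Acts g f ∧
      (List.range N).all (fun i => f (X.getD i []) == X.getD (get w m e.f i) []) = true)
    (hS : Nat.card S ≤ ordC ls) :
    ∃ K : Subgroup (Equiv.Perm (Fin N)), ChainFor w m N tw tm K ls ∧ Nonempty (S ≃* K) := by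
  have hfin := latSet_finite hN hmem
  set H := presSub S X hfin with hH
  have hHS : H ≤ S := fun g hg => hg.1
  have hpres : ∀ g ∈ H, ∀ x ∈ latSet X, g • x ∈ latSet X := fun g hg => hg.2
  have hfinH : Finite H := Finite.of_injective (Subgroup.inclusion hHS) (Subgroup.inclusion_injective hHS)
  set φ := rep hN hlen hnd hmem H hpres with hφ
  have hv := hdG_valid hc
  have hg' : ∀ e ∈ hdG ls, permOf w m N e ∈ φ.range := by
    intro e he
    obtain ⟨g, hgS, f, hf, hchk⟩ := hg e he
    have ve : validB w m N e = true := List.all_eq_true.1 hv e he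
    refine permOf_mem_range hN hlen hnd hmem H hpres ve (g := g) ⟨hgS, ?_⟩ hf hchk
    rintro x ⟨l, hl, e1⟩
    obtain ⟨i, hi, rfl⟩ := List.mem_iff_getElem.1 hl
    have hiN : i < N := hN ▸ hi
    have h1 := List.all_eq_true.1 hchk i (List.mem_range.2 hiN)
    rw [beq_iff_eq, List.getD_eq_getElem _ _ hi] at h1
    have hmem' : vecOf X[i] ∈ leechLattice := by rw [e1]; exact x.2
    have e2 : x = ⟨vecOf X[i], hmem'⟩ := Subtype.ext e1.symm
    have h2 : ((g • x : leechLattice) : GolayPt → ℤ) = vecOf (f X[i]) := by
      rw [e2]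
      exact hf _ hmem'
    refine ⟨f X[i], ?_, h2.symm⟩
    rw [h1]
    have h3 : get w m e.f i < N := by
      have := gt_eq ve ⟨i, hiN⟩
      have h4 : gt w m e i = get w m e.f i := rfl
      rw [h4] at this
      rw [this]
      exact Fin.isLt _
    exact getD_mem h3 hN
  have hle : genGroup w m N (hdG ls) ≤ φ.range := by
    refine (Subgroup.closure_le _).mpr ?_
    rintro _ ⟨e, he, rfl⟩
    exact hg' e he
  have h1 := (chain_lower ls φ.range hc hle).1
  have h2 : Nat.card φ.range ≤ Nat.card H :=
    Nat.card_le_card_of_surjective φ.rangeRestrict φ.rangeRestrict_surjective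
  have h3 : Nat.card H ≤ Nat.card S := Subgroup.card_le_of_le hHS
  have h4 : Nat.card H = ordC ls := le_antisymm (h3.trans hS) (h1.trans h2)
  obtain ⟨hA, hinj⟩ := rep_chain hN hlen hnd hmem H hpres hc hg' h4
  have h5 : H = S := Subgroup.eq_of_le_of_card_ge hHS (hS.trans h4.ge)
  refine ⟨φ.range, hA, ⟨?_⟩⟩
  exact (MulEquiv.subgroupCongr h5.symm).trans (MonoidHom.ofInjective hinj)

end Rep

/-- The membership in the lattice for a list in one orbit. -/
theorem mem_of_tree {gens : List (List ℤ → List ℤ)} {X : List (List ℤ)} {cert : List (ℕ × ℕ × ℕ)}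
    (hg : ∀ f ∈ gens, ∃ g : Co0, Acts g f) (ht : exactOK gens X cert = true)
    (h0 : vecOf (X.getD 0 []) ∈ leechLattice) : ∀ l ∈ X, vecOf l ∈ leechLattice := by
  intro l hl
  refine (exact_sound (K := ⊤) (fun f hf l hl' => ?_) ht h0 l hl).right_mem
  obtain ⟨g, hgf⟩ := hg f hf
  exact ⟨hl', hgf.mem hl', g, trivial, hgf.smul hl' (hgf.mem hl')⟩

end Cfsg.Agent.Lib.Sporadic.LeechRep2
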