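import Mathlib
import Cfsg.Agent.Lib.Sporadic.LeechRep2

/-!
# Fast kernel checks of the action of generators on coded vectors

A vector with coordinates in `[-8, 8)` is coded by the natural number with the digits `x i + 8` in base `16`.
The checks of the action of a permutation of the coordinates or of a matrix on coded vectors only use the arithmetic of
natural numbers.
-/

set_option autoImplicit false

namespace Cfsg.Agent.Lib.Sporadic.LeechFast

open Cfsg Cfsg.Agent.Lib.Sporadic.GolayCore Cfsg.Agent.Lib.Sporadic.LeechBasic Cfsg.Agent.Lib.Sporadic.LeechAut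
  Cfsg.Agent.Lib.Sporadic.LeechMat Cfsg.Agent.Lib.Sporadic.LeechKey Cfsg.Agent.Lib.Sporadic.LeechEnum
  Cfsg.Agent.Lib.Sporadic.LeechMcLData Cfsg.Agent.Lib.Sporadic.LeechRep Cfsg.Agent.Lib.Sporadic.LeechRep2
  Cfsg.Agent.Lib.Compute.PermCert Cfsg.Agent.Lib.Compute.OutChain Cfsg.Agent.Lib.Compute.OutFinal

/-- The digit of a code. -/
def dig (c i : ℕ) : ℕ := Nat.mod (Nat.shiftRight c (Nat.mul 4 i)) 16

theorem decV_eq (c : ℕ) : decV c = rangeL fun i => (dig c i : ℤ) - 8 := rfl

theorem getD_rangeL (f : ℕ → ℤ) {i : ℕ} (hi : i < 24) : (rangeL f).getD i 0 = f i := by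
  unfold rangeL
  rw [List.getD_eq_getElem _ _ (by simpa using hi)]
  simp

theorem getD_decV (c : ℕ) {i : ℕ} (hi : i < 24) : (decV c).getD i 0 = (dig c i : ℤ) - 8 := by
  rw [decV_eq, getD_rangeL _ hi]

theorem length_decV (c : ℕ) : (decV c).length = 24 := by
  rw [decV_eq]
  simp [rangeL]

/-! ### Permutations of the coordinates -/

/-- The check of a permutation of the coordinates on coded vectors. -/
def permChk (c c' : ℕ) : List ℕ → ℕ → Bool
  | [], _ => true
  | t :: ts, j => Nat.beq (dig c t) (dig c' j) && permChk c c' ts (Nat.succ j)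

theorem permChk_spec {c c' : ℕ} : ∀ (ts : List ℕ) (j : ℕ), permChk c c' ts j = true → ∀ n, n < ts.length →
    dig c (ts.getD n 0) = dig c' (j + n)
  | [], _, _, n, hn => absurd hn (by simp)
  | t :: ts, j, h, n, hn => by
    simp only [permChk, Bool.and_eq_true] at h
    cases n with
    | zero =>
      have := Nat.eq_of_beq_eq_true h.1
      simpa using this
    | succ n =>
      have h1 := permChk_spec ts (Nat.succ j) h.2 n (by simpa using hn)
      have e : j + (n + 1) = Nat.succ j + n := by omega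
      rw [e, ← h1]
      simp

theorem permL_decV {Ti : List ℕ} {c c' : ℕ} (hlen : Ti.length = 24) (hlt : Ti.all (fun t => Nat.blt t 24) = true)
    (h : permChk c c' Ti 0 = true) : permL Ti (decV c) = decV c' := by
  unfold permL
  rw [decV_eq c']
  unfold rangeL
  apply List.map_congr_left
  intro j hj
  have hj' : j < 24 := List.mem_range.1 hj
  have hm : Ti.getD j 0 ∈ Ti := by
    rw [List.getD_eq_getElem _ _ (by omega)]
    exact List.getElem_mem _
  have h1 : Ti.getD j 0 < 24 := by
    have := List.all_eq_true.1 hlt _ hm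
    simpa [Nat.blt_eq] using this
  rw [getD_decV _ h1, permChk_spec Ti 0 h j (by omega)]
  simp

/-! ### Matrices -/

/-- A weighted sum of digits. -/
def wsum (c : ℕ) : List (ℕ × ℕ) → ℕ
  | [] => 0
  | x :: l => Nat.add (Nat.mul x.2 (dig c x.1)) (wsum c l)

/-- A row of a matrix: the positive and negative entries, with constants. -/
abbrev Row := List (ℕ × ℕ) × List (ℕ × ℕ) × ℕ × ℕ

/-- The check of a matrix on coded vectors. -/
def rowsChk (D c c' : ℕ) : List Row → ℕ → Bool
  | [], _ => true
  | r :: rs, k => Nat.beq (Nat.add (wsum c r.1) r.2.2.1) (Nat.add (wsum c r.2.1) (Nat.add (Nat.mul D (dig c' k)) r.2.2.2)) &&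
      rowsChk D c c' rs (Nat.succ k)

/-- The coefficient of a sparse row. -/
def coefS (p : List (ℕ × ℕ)) (i : ℕ) : ℤ := (p.map fun x => if x.1 = i then (x.2 : ℤ) else 0).sum

/-- The sum of a sparse row. -/
def sumS (p : List (ℕ × ℕ)) : ℕ := (p.map Prod.snd).sum

/-- A row represents a row of a matrix. -/
def rowValid (M : List (List ℤ)) (D k : ℕ) (r : Row) : Bool :=
  (List.range 24).all (fun i => ent M k i == coefS r.1 i - coefS r.2.1 i) &&
    r.1.all (fun x => Nat.blt x.1 24) && r.2.1.all (fun x => Nat.blt x.1 24) &&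
    Nat.beq r.2.2.1 (8 * D + 8 * sumS r.2.1) && Nat.beq r.2.2.2 (8 * sumS r.1)

/-- The rows represent a matrix. -/
def rowsValid (M : List (List ℤ)) (D : ℕ) (rows : List Row) : Bool :=
  rows.length == 24 && (List.range 24).all (fun k => rowValid M D k (rows.getD k ([], [], 0, 0)))

theorem wsum_cast (c : ℕ) (p : List (ℕ × ℕ)) :
    (wsum c p : ℤ) = (p.map fun x => (x.2 : ℤ) * (dig c x.1 : ℤ)).sum := by
  induction p with
  | nil => rfl
  | cons x l ih =>
    show ((x.2 * dig c x.1 + wsum c l : ℕ) : ℤ) = _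
    rw [List.map_cons, List.sum_cons, ← ih]
    push_cast
    ring

theorem sum_coefS (g : ℕ → ℤ) (p : List (ℕ × ℕ)) (hp : p.all (fun x => Nat.blt x.1 24) = true) :
    ∑ i ∈ Finset.range 24, coefS p i * g i = (p.map fun x => (x.2 : ℤ) * g x.1).sum := by
  induction p with
  | nil => simp [coefS]
  | cons x l ih =>
    simp only [List.all_cons, Bool.and_eq_true] at hp
    have hx : x.1 < 24 := by simpa [Nat.blt_eq] using hp.1
    have e : ∀ i, coefS (x :: l) i * g i = (if x.1 = i then (x.2 : ℤ) * g x.1 else 0) + coefS l i * g i := by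
      intro i
      unfold coefS
      rw [List.map_cons, List.sum_cons, add_mul]
      congr 1
      by_cases h : x.1 = i
      · subst h
        simp
      · simp [h]
    rw [Finset.sum_congr rfl fun i _ => e i, Finset.sum_add_distrib, Finset.sum_ite_eq (Finset.range 24) x.1, ih hp.2,
      if_pos (Finset.mem_range.2 hx), List.map_cons, List.sum_cons]

theorem sum_sub_eight (c : ℕ) (p : List (ℕ × ℕ)) :
    (p.map fun x => (x.2 : ℤ) * ((dig c x.1 : ℤ) - 8)).sum = (wsum c p : ℤ) - 8 * (sumS p : ℤ) := by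
  induction p with
  | nil => simp [wsum, sumS]
  | cons x l ih =>
    rw [List.map_cons, List.sum_cons, ih]
    show _ = ((x.2 * dig c x.1 + wsum c l : ℕ) : ℤ) - 8 * ((x.2 + sumS l : ℕ) : ℤ)
    push_cast
    ring

/-- The value of a row on a coded vector. -/
theorem row_val {M : List (List ℤ)} {D k c d' : ℕ} {r : Row} (hv : rowValid M D k r = true)
    (h : Nat.beq (Nat.add (wsum c r.1) r.2.2.1) (Nat.add (wsum c r.2.1) (Nat.add (Nat.mul D d') r.2.2.2)) = true) :
    ((List.range 24).map fun i => ent M k i * (decV c).getD i 0).sum = (D : ℤ) * ((d' : ℤ) - 8) := by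
  unfold rowValid at hv
  simp only [Bool.and_eq_true, List.all_eq_true, beq_iff_eq, List.mem_range] at hv
  obtain ⟨⟨⟨⟨h1, h2⟩, h3⟩, h4⟩, h5⟩ := hv
  have h4' : r.2.2.1 = 8 * D + 8 * sumS r.2.1 := Nat.eq_of_beq_eq_true h4
  have h5' : r.2.2.2 = 8 * sumS r.1 := Nat.eq_of_beq_eq_true h5
  have h6 : wsum c r.1 + r.2.2.1 = wsum c r.2.1 + (D * d' + r.2.2.2) := Nat.eq_of_beq_eq_true h
  have e1 : ((List.range 24).map fun i => ent M k i * (decV c).getD i 0).sum =
      ∑ i ∈ Finset.range 24, ent M k i * (decV c).getD i 0 := rfl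
  rw [e1]
  have e2 : ∀ i ∈ Finset.range 24, ent M k i * (decV c).getD i 0 =
      coefS r.1 i * ((dig c i : ℤ) - 8) - coefS r.2.1 i * ((dig c i : ℤ) - 8) := by
    intro i hi
    have hi' := Finset.mem_range.1 hi
    rw [getD_decV c hi', h1 i hi']
    ring
  rw [Finset.sum_congr rfl e2, Finset.sum_sub_distrib,
    sum_coefS (fun i => (dig c i : ℤ) - 8) _ (List.all_eq_true.2 fun x hx => by simpa [Nat.blt_eq] using h2 x hx),
    sum_coefS (fun i => (dig c i : ℤ) - 8) _ (List.all_eq_true.2 fun x hx => by simpa [Nat.blt_eq] using h3 x hx),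
    sum_sub_eight, sum_sub_eight]
  have h7 : ((wsum c r.1 + r.2.2.1 : ℕ) : ℤ) = ((wsum c r.2.1 + (D * d' + r.2.2.2) : ℕ) : ℤ) := by rw [h6]
  rw [h4', h5'] at h7
  push_cast at h7
  linarith

theorem rowsChk_spec {D c c' : ℕ} : ∀ (rows : List Row) (j : ℕ), rowsChk D c c' rows j = true → ∀ n, n < rows.length →
    ∃ r, r = rows.getD n ([], [], 0, 0) ∧ Nat.beq (Nat.add (wsum c r.1) r.2.2.1)
      (Nat.add (wsum c r.2.1) (Nat.add (Nat.mul D (dig c' (j + n))) r.2.2.2)) = true
  | [], _, _, n, hn => absurd hn (by simp)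
  | t :: ts, j, h, n, hn => by
    simp only [rowsChk, Bool.and_eq_true] at h
    cases n with
    | zero => exact ⟨t, by simp, h.1⟩
    | succ n =>
      obtain ⟨r, hr, h1⟩ := rowsChk_spec ts (Nat.succ j) h.2 n (by simpa using hn)
      refine ⟨r, by simpa using hr, ?_⟩
      have e : j + (n + 1) = Nat.succ j + n := by omega
      rw [e]
      exact h1

theorem matL_decV {M : List (List ℤ)} {D : ℕ} {D' : ℤ} {rows : List Row} {c c' : ℕ} (hD : 0 < D) (hD' : D' = (D : ℤ))
    (hv : rowsValid M D rows = true) (h : rowsChk D c c' rows 0 = true) : matL M D' (decV c) = decV c' := by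
  unfold rowsValid at hv
  simp only [Bool.and_eq_true, List.all_eq_true, beq_iff_eq, List.mem_range] at hv
  obtain ⟨hl, hv⟩ := hv
  unfold matL
  rw [decV_eq c']
  unfold rangeL
  apply List.map_congr_left
  intro k hk
  have hk' : k < 24 := List.mem_range.1 hk
  obtain ⟨r, hr, h1⟩ := rowsChk_spec rows 0 h k (by omega)
  rw [zero_add] at h1
  have h2 := row_val (hr ▸ hv k hk') h1
  have e : (matVec M (decV c)).getD k 0 = ((List.range 24).map fun i => ent M k i * (decV c).getD i 0).sum := by
    unfold matVec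
    rw [getD_rangeL _ hk']
  rw [e, h2, hD']
  exact Int.mul_ediv_cancel_left _ (by exact_mod_cast hD.ne')

/-! ### Lists given by tables -/

/-- The list of vectors with given codes. -/
def XT (T : ℕ → ℕ) (N : ℕ) : List (List ℤ) := (List.range N).map fun i => decV (T i)

theorem XT_length (T : ℕ → ℕ) (N : ℕ) : (XT T N).length = N := by simp [XT]

theorem XT_getD (T : ℕ → ℕ) {N i : ℕ} (hi : i < N) : (XT T N).getD i [] = decV (T i) := by
  unfold XT
  rw [List.getD_eq_getElem _ _ (by simpa using hi)]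
  simp

theorem XT_l24 (T : ℕ → ℕ) (N : ℕ) : ∀ l ∈ XT T N, l.length = 24 := by
  intro l hl
  obtain ⟨i, -, rfl⟩ := List.mem_map.1 hl
  exact length_decV _

theorem eq_of_dig : ∀ (n c c' : ℕ), c < 16 ^ n → c' < 16 ^ n → (∀ i, i < n → dig c i = dig c' i) → c = c'
  | 0, c, c', h, h', _ => by
    simp at h h'
    omega
  | n + 1, c, c', h, h', hd => by
    have h0 : c % 16 = c' % 16 := by
      have := hd 0 (by omega)
      have e : ∀ x : ℕ, dig x 0 = x % 16 := fun x => by
        show (x >>> (4 * 0)) % 16 = x % 16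
        simp
      rwa [e, e] at this
    have h1 : c / 16 = c' / 16 := by
      refine eq_of_dig n _ _ ?_ ?_ ?_
      · rw [pow_succ] at h
        exact Nat.div_lt_of_lt_mul (by rw [mul_comm]; exact h)
      · rw [pow_succ] at h'
        exact Nat.div_lt_of_lt_mul (by rw [mul_comm]; exact h')
      · intro i hi
        have := hd (i + 1) (by omega)
        simp only [dig] at this ⊢
        have e : ∀ x : ℕ, Nat.shiftRight x (Nat.mul 4 (i + 1)) = Nat.shiftRight (x / 16) (Nat.mul 4 i) := by
          intro x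
          show x >>> (4 * (i + 1)) = (x / 16) >>> (4 * i)
          rw [Nat.shiftRight_eq_div_pow, Nat.shiftRight_eq_div_pow, Nat.div_div_eq_div_mul]
          congr 1
          rw [mul_add, pow_add]
          norm_num
          ring
        rw [e, e] at this
        exact this
    omega

theorem decV_inj {c c' : ℕ} (h : c < 16 ^ 24) (h' : c' < 16 ^ 24) (e : decV c = decV c') : c = c' := by
  refine eq_of_dig 24 c c' h h' fun i hi => ?_
  have h1 := congrArg (fun l : List ℤ => l.getD i 0) e
  simp only [getD_decV _ hi] at h1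
  omega

theorem XT_nodup {T : ℕ → ℕ} {N : ℕ} (hb : ∀ i, i < N → T i < 16 ^ 24) (hs : ∀ i, i + 1 < N → T i < T (i + 1)) :
    (XT T N).Nodup := by
  have hmono : ∀ j i, i < j → j < N → T i < T j := by
    intro j
    induction j with
    | zero => intro i hi; omega
    | succ j ih =>
      intro i hi hj
      rcases Nat.lt_succ_iff_lt_or_eq.1 hi with h | rfl
      · exact (ih i h (by omega)).trans (hs j hj)
      · exact hs i hj
  unfold XT
  refine List.Nodup.map_on ?_ List.nodup_range
  intro i hi j hj e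
  have hi' := List.mem_range.1 hi
  have hj' := List.mem_range.1 hj
  have e1 := decV_inj (hb i hi') (hb j hj') e
  rcases lt_trichotomy i j with h | h | h
  · have := hmono j i h hj'
    omega
  · exact h
  · have := hmono i j h hi'
    omega

/-! ### Membership in the lattice from a tree -/

/-- Generators acting on the list according to tables. -/
structure GenOK (w m N : ℕ) (T : ℕ → ℕ) (e : Elt) (g : Co0) (f : List ℤ → List ℤ) : Prop where
  acts : Acts g f
  chk : ∀ i, i < N → f (decV (T i)) = decV (T (get w m e.f i))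

/-- The tree: the entries have the form (depth, parent, generator). -/
def treeChk (w m N : ℕ) (Gs : List Elt) (tb : ℕ → ℕ) (i : ℕ) : Bool :=
  Nat.beq i 0 || (Nat.blt (tb i % 16) Gs.length && Nat.blt (tb i / 16 % 2 ^ 18) N &&
    Nat.blt (tb (tb i / 16 % 2 ^ 18) / 2 ^ 22) (tb i / 2 ^ 22) &&
    Nat.beq (get w m (Gs.getD (tb i % 16) ⟨0, 0⟩).f (tb i / 16 % 2 ^ 18)) i)

theorem mem_of_tree2 {w m N d : ℕ} {T : ℕ → ℕ} {Gs : List Elt} {tb : ℕ → ℕ} (hd : N ≤ 2 ^ d)
    (hG : ∀ e ∈ Gs, ∃ g f, GenOK w m N T e g f) (h0 : vecOf (decV (T 0)) ∈ leechLattice)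
    (ht : allN (treeChk w m N Gs tb) N d = true) : ∀ i, i < N → vecOf (decV (T i)) ∈ leechLattice := by
  rw [allN_eq _ hd, allB_iff] at ht
  have key : ∀ k i, tb i / 2 ^ 22 = k → i < N → vecOf (decV (T i)) ∈ leechLattice := by
    intro k
    induction k using Nat.strong_induction_on with
    | _ k ih =>
      intro i hk hi
      have h1 := ht i hi
      unfold treeChk at h1
      simp only [Bool.or_eq_true, Bool.and_eq_true] at h1
      rcases h1 with h | ⟨⟨⟨h2, hn⟩, h3⟩, h4⟩
      · have : i = 0 := Nat.eq_of_beq_eq_true h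
        subst this
        exact h0
      · have h2' : tb i % 16 < Gs.length := by simpa [Nat.blt_eq] using h2
        have hn' : tb i / 16 % 2 ^ 18 < N := by simpa [Nat.blt_eq] using hn
        have h3' : tb (tb i / 16 % 2 ^ 18) / 2 ^ 22 < tb i / 2 ^ 22 := by simpa [Nat.blt_eq] using h3
        have h4' := Nat.eq_of_beq_eq_true h4
        have hpar := ih _ (hk ▸ h3') _ rfl hn'
        have hmem : Gs.getD (tb i % 16) ⟨0, 0⟩ ∈ Gs := by
          rw [List.getD_eq_getElem _ _ h2']
          exact List.getElem_mem _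
        obtain ⟨g, f, hgf⟩ := hG _ hmem
        have h5 := hgf.acts.mem hpar
        rw [hgf.chk _ hn', h4'] at h5
        exact h5
  exact fun i hi => key _ i rfl hi

/-- A generator permuting the coordinates. -/
theorem genOK_perm {w m N d : ℕ} {T : ℕ → ℕ} {e : Elt} {g : Co0} {Ti : List ℕ} (hd : N ≤ 2 ^ d) (ha : Acts g (permL Ti))
    (hlen : Ti.length = 24) (hlt : Ti.all (fun t => Nat.blt t 24) = true)
    (h : allN (fun i => permChk (T i) (T (get w m e.f i)) Ti 0) N d = true) : GenOK w m N T e g (permL Ti) := by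
  rw [allN_eq _ hd, allB_iff] at h
  exact ⟨ha, fun i hi => permL_decV hlen hlt (h i hi)⟩

/-- A generator given by a matrix. -/
theorem genOK_mat {w m N d : ℕ} {T : ℕ → ℕ} {e : Elt} {g : Co0} {M : List (List ℤ)} {D : ℕ} {D' : ℤ} {rows : List Row}
    (hd : N ≤ 2 ^ d) (ha : Acts g (matL M D')) (hD : 0 < D) (hD' : D' = (D : ℤ)) (hv : rowsValid M D rows = true)
    (h : allN (fun i => rowsChk D (T i) (T (get w m e.f i)) rows 0) N d = true) : GenOK w m N T e g (matL M D') := by
  rw [allN_eq _ hd, allB_iff] at h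
  exact ⟨ha, fun i hi => matL_decV hD hD' hv (h i hi)⟩

/-- The test for increasing tables. -/
def sortedChk (T : ℕ → ℕ) (N i : ℕ) : Bool := Nat.ble N (Nat.succ i) || Nat.blt (T i) (T (Nat.succ i))

theorem sorted_of_chk {T : ℕ → ℕ} {N d : ℕ} (hd : N ≤ 2 ^ d) (h : allN (sortedChk T N) N d = true) :
    ∀ i, i + 1 < N → T i < T (i + 1) := by
  rw [allN_eq _ hd, allB_iff] at h
  intro i hi
  have h1 := h i (by omega)
  unfold sortedChk at h1
  rw [Bool.or_eq_true] at h1
  rcases h1 with h2 | h2
  · have : N ≤ i + 1 := Nat.le_of_ble_eq_true h2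
    omega
  · simpa [Nat.blt_eq] using h2

theorem get96_lt (p i : ℕ) : get 96 79228162514264337593543950335 p i < 16 ^ 24 := by
  have h : get 96 79228162514264337593543950335 p i ≤ 79228162514264337593543950335 := Nat.and_le_right
  have e : (16 : ℕ) ^ 24 = 79228162514264337593543950336 := by norm_num
  omega

/-! ### The representation -/

variable {w m tw tm N d : ℕ}

/-- The representation of a subgroup of known order from a chain, for a list given by a table. -/
theorem rep_table {S : Subgroup Co0} [Finite S] {T : ℕ → ℕ} {ls : List Lv} (hc : chkChain w m N tw tm ls = true)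
    (hb : ∀ i, i < N → T i < 16 ^ 24) (hs : ∀ i, i + 1 < N → T i < T (i + 1))
    (hmem : ∀ i, i < N → vecOf (decV (T i)) ∈ leechLattice)
    (hg : ∀ e ∈ hdG ls, ∃ g ∈ S, ∃ f, GenOK w m N T e g f)
    (hS : Nat.card S ≤ ordC ls) :
    ∃ K : Subgroup (Equiv.Perm (Fin N)), ChainFor w m N tw tm K ls ∧ Nonempty (S ≃* K) := by
  have hmem' : ∀ l ∈ XT T N, vecOf l ∈ leechLattice := by
    intro l hl
    obtain ⟨i, hi, rfl⟩ := List.mem_map.1 hl
    exact hmem i (List.mem_range.1 hi)
  have hv := hdG_valid hc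
  refine rep_auto (XT_length T N) (XT_l24 T N) (XT_nodup hb hs) hmem' hc (fun e he => ?_) hS
  obtain ⟨g, hgS, f, hgf⟩ := hg e he
  refine ⟨g, hgS, f, hgf.acts, List.all_eq_true.2 fun i hi => ?_⟩
  have hi' := List.mem_range.1 hi
  have ve : validB w m N e = true := List.all_eq_true.1 hv e he
  have h3 : get w m e.f i < N := by
    have := gt_eq ve ⟨i, hi'⟩
    have h4 : gt w m e i = get w m e.f i := rfl
    rw [h4] at this
    rw [this]
    exact Fin.isLt _
  rw [XT_getD T hi', XT_getD T h3, hgf.chk i hi']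
  simp

end Cfsg.Agent.Lib.Sporadic.LeechFast
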