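import Mathlib
import Cfsg.Agent.Lib.Sporadic.LeechFast

/-!
# Orbits of subgroups of the automorphism group of the lattice from trees on coded vectors
-/

set_option autoImplicit false

namespace Cfsg.Agent.Lib.Sporadic.LeechFast2

open Cfsg Cfsg.Agent.Lib.Sporadic.GolayCore Cfsg.Agent.Lib.Sporadic.LeechBasic Cfsg.Agent.Lib.Sporadic.LeechAut
  Cfsg.Agent.Lib.Sporadic.LeechMat Cfsg.Agent.Lib.Sporadic.LeechKey Cfsg.Agent.Lib.Sporadic.LeechEnum
  Cfsg.Agent.Lib.Sporadic.LeechMcLData Cfsg.Agent.Lib.Sporadic.LeechRep Cfsg.Agent.Lib.Sporadic.LeechRep2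
  Cfsg.Agent.Lib.Sporadic.LeechFast
  Cfsg.Agent.Lib.Compute.PermCert Cfsg.Agent.Lib.Compute.OutChain Cfsg.Agent.Lib.Compute.OutFinal

/-- A check describing the action of an element of a subgroup on coded vectors. -/
def ChkOK (H : Subgroup Co0) (ch : ℕ → ℕ → Bool) : Prop :=
  ∃ g ∈ H, ∃ f : List ℤ → List ℤ, Acts g f ∧ ∀ c c', ch c c' = true → f (decV c) = decV c'

theorem chkOK_perm {H : Subgroup Co0} {g : Co0} {Ti : List ℕ} (hg : g ∈ H) (ha : Acts g (permL Ti))
    (hlen : Ti.length = 24) (hlt : Ti.all (fun t => Nat.blt t 24) = true) :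
    ChkOK H (fun c c' => permChk c c' Ti 0) :=
  ⟨g, hg, _, ha, fun _ _ h => permL_decV hlen hlt h⟩

theorem chkOK_mat {H : Subgroup Co0} {g : Co0} {M : List (List ℤ)} {D : ℕ} {D' : ℤ} {rows : List Row} (hg : g ∈ H)
    (ha : Acts g (matL M D')) (hD : 0 < D) (hD' : D' = (D : ℤ)) (hv : rowsValid M D rows = true) :
    ChkOK H (fun c c' => rowsChk D c c' rows 0) :=
  ⟨g, hg, _, ha, fun _ _ h => matL_decV hD hD' hv h⟩

/-- A tree on coded vectors: entries (depth, parent, generator). -/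
def treeV (gs : List (ℕ → ℕ → Bool)) (T tb : ℕ → ℕ) (N r i : ℕ) : Bool :=
  Nat.beq i r || (Nat.blt (tb i % 16) gs.length && Nat.blt (tb i / 16 % 2 ^ 18) N &&
    Nat.blt (tb (tb i / 16 % 2 ^ 18) / 2 ^ 22) (tb i / 2 ^ 22) &&
    (gs.getD (tb i % 16) (fun _ _ => false)) (T (tb i / 16 % 2 ^ 18)) (T i))

/-- The orbit of the root of a tree. -/
theorem orbit_of_treeV {H : Subgroup Co0} {gs : List (ℕ → ℕ → Bool)} {T tb : ℕ → ℕ} {N r d : ℕ} (hd : N ≤ 2 ^ d)
    (hgs : ∀ ch ∈ gs, ChkOK H ch) (h0 : vecOf (decV (T r)) ∈ leechLattice)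
    (ht : allN (treeV gs T tb N r) N d = true) :
    ∀ i, i < N → ∃ hm : vecOf (decV (T i)) ∈ leechLattice, ∃ g ∈ H,
      g • (⟨vecOf (decV (T r)), h0⟩ : leechLattice) = ⟨vecOf (decV (T i)), hm⟩ := by
  rw [allN_eq _ hd, allB_iff] at ht
  have key : ∀ k i, tb i / 2 ^ 22 = k → i < N → ∃ hm : vecOf (decV (T i)) ∈ leechLattice, ∃ g ∈ H,
      g • (⟨vecOf (decV (T r)), h0⟩ : leechLattice) = ⟨vecOf (decV (T i)), hm⟩ := by
    intro k
    induction k using Nat.strong_induction_on with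
    | _ k ih =>
      intro i hk hi
      have h1 := ht i hi
      unfold treeV at h1
      simp only [Bool.or_eq_true, Bool.and_eq_true] at h1
      rcases h1 with h | ⟨⟨⟨h2, hn⟩, h3⟩, h4⟩
      · have : i = r := Nat.eq_of_beq_eq_true h
        subst this
        exact ⟨h0, 1, H.one_mem, one_smul _ _⟩
      · have h2' : tb i % 16 < gs.length := by simpa [Nat.blt_eq] using h2
        have hn' : tb i / 16 % 2 ^ 18 < N := by simpa [Nat.blt_eq] using hn
        have h3' : tb (tb i / 16 % 2 ^ 18) / 2 ^ 22 < tb i / 2 ^ 22 := by simpa [Nat.blt_eq] using h3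
        obtain ⟨hpm, g, hg, e⟩ := ih _ (hk ▸ h3') _ rfl hn'
        have hmem : gs.getD (tb i % 16) (fun _ _ => false) ∈ gs := by
          rw [List.getD_eq_getElem _ _ h2']
          exact List.getElem_mem _
        obtain ⟨g', hg', f, ha, hf⟩ := hgs _ hmem
        have h5 := hf _ _ h4
        have hm : vecOf (decV (T i)) ∈ leechLattice := by
          rw [← h5]
          exact ha.mem hpm
        refine ⟨hm, g' * g, H.mul_mem hg' hg, ?_⟩
        rw [mul_smul, e, ha.smul hpm (by rw [h5]; exact hm)]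
        exact Subtype.ext (congrArg vecOf h5)
  exact fun i hi => key _ i rfl hi

/-- The order of a stabiliser from a tree. -/
theorem card_le_of_tree {H : Subgroup Co0} [Finite H] {gs : List (ℕ → ℕ → Bool)} {T tb : ℕ → ℕ} {N r d : ℕ} (hd : N ≤ 2 ^ d)
    (hgs : ∀ ch ∈ gs, ChkOK H ch) (h0 : vecOf (decV (T r)) ∈ leechLattice)
    (ht : allN (treeV gs T tb N r) N d = true)
    (hb : ∀ i, i < N → T i < 16 ^ 24) (hs : ∀ i, i + 1 < N → T i < T (i + 1)) :
    Nat.card (H ⊓ MulAction.stabilizer Co0 (⟨vecOf (decV (T r)), h0⟩ : leechLattice) : Subgroup Co0) * N ≤ Nat.card H := by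
  have horb := orbit_of_treeV hd hgs h0 ht
  have h1 := card_inf_stab H (⟨vecOf (decV (T r)), h0⟩ : leechLattice)
  rw [← h1]
  apply Nat.mul_le_mul_left
  have hmem : ∀ l ∈ XT T N, vecOf l ∈ leechLattice := by
    intro l hl
    obtain ⟨i, hi, rfl⟩ := List.mem_map.1 hl
    exact (horb i (List.mem_range.1 hi)).1
  have h2 := ncard_latSet (XT_nodup hb hs) (XT_l24 T N) hmem
  rw [XT_length] at h2
  rw [← h2]
  have hfin : (MulAction.orbit H (⟨vecOf (decV (T r)), h0⟩ : leechLattice)).Finite := Set.finite_range _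
  refine Set.ncard_le_ncard ?_ hfin
  rintro x ⟨l, hl, e⟩
  obtain ⟨i, hi, rfl⟩ := List.mem_map.1 hl
  obtain ⟨hm, g, hg, e1⟩ := horb i (List.mem_range.1 hi)
  refine ⟨⟨g, hg⟩, ?_⟩
  show g • _ = x
  rw [e1]
  exact Subtype.ext e

end Cfsg.Agent.Lib.Sporadic.LeechFast2
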