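import Mathlib
import Cfsg.Agent.Lib.Sporadic.LeechAct
import Cfsg.Agent.S1567

/-!
# The module `L / 2L`: kernel of the action, irreducibility.
-/

set_option autoImplicit false

namespace Cfsg.Agent.Lib.Sporadic.LeechMod2

open Cfsg Cfsg.Agent.Lib.Sporadic.LeechNorm Cfsg.Agent.Lib.Sporadic.LeechFacts
  Cfsg.Agent.Lib.Sporadic.LeechAut Cfsg.Agent.Lib.Sporadic.LeechClasses
  Cfsg.Agent.Lib.Sporadic.LeechMonomial Cfsg.Agent.Lib.Sporadic.LeechMat
  Cfsg.Agent.Lib.Sporadic.LeechOrbits Cfsg.Agent.Lib.Sporadic.LeechOrb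
  Cfsg.Agent.Lib.Sporadic.LeechAct Cfsg.Agent.Lib.Sporadic.LeechMin
  Cfsg.Agent.Lib.Sporadic

/-! ### Vectors with two coordinates `± 4` -/

theorem dotInt_single_single {i j : GolayPt} (h : i ≠ j) (a b : ℤ) :
    dotInt (Pi.single i a : V) (Pi.single j b : V) = 0 := by
  unfold dotInt
  apply Finset.sum_eq_zero
  intro k _
  by_cases hk : k = i
  · subst hk
    rw [Pi.single_eq_of_ne h]
    simp
  · rw [Pi.single_eq_of_ne hk]
    simp

theorem sqNorm_two_single {i j : GolayPt} (h : i ≠ j) (a b : ℤ) :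
    sqNorm ((Pi.single i a : V) + Pi.single j b) = a ^ 2 + b ^ 2 := by
  rw [sqNorm_add, dotInt_single_single h, sqNorm_single, sqNorm_single]
  ring

/-- The vector with `4` at `i` and `s` at `j`. -/
def A (i j : GolayPt) (s : ℤ) (hs : s = 4 ∨ s = -4) : leechLattice :=
  ⟨Pi.single i 4 + Pi.single j s, by
    apply mem_L_of_four_dvd
    · intro k
      simp only [Pi.add_apply]
      apply dvd_add
      · by_cases h : k = i
        · subst h; simp
        · simp [Pi.single_eq_of_ne h]
      · by_cases h : k = j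
        · subst h
          rcases hs with rfl | rfl <;> simp
        · simp [Pi.single_eq_of_ne h]
    · simp only [Pi.add_apply, Finset.sum_add_distrib, single_sum]
      rcases hs with rfl | rfl <;> norm_num⟩

theorem coe_A (i j : GolayPt) (s : ℤ) (hs : s = 4 ∨ s = -4) :
    (A i j s hs : V) = Pi.single i 4 + Pi.single j s := rfl

theorem norm_A {i j : GolayPt} (h : i ≠ j) (s : ℤ) (hs : s = 4 ∨ s = -4) :
    sqNorm (A i j s hs : V) = 32 := by
  rw [coe_A, sqNorm_two_single h]
  rcases hs with rfl | rfl <;> norm_num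

theorem exists_third (i j : GolayPt) : ∃ k : GolayPt, k ≠ i ∧ k ≠ j := by
  revert i j
  decide

theorem A_symm (i j : GolayPt) (hr : (4 : ℤ) = 4 ∨ (4 : ℤ) = -4) : A i j 4 hr = A j i 4 hr := by
  apply Subtype.ext
  rw [coe_A, coe_A]
  abel

theorem u8_eq (i j : GolayPt) (hs : (4 : ℤ) = 4 ∨ (4 : ℤ) = -4) (ht : (-4 : ℤ) = 4 ∨ (-4 : ℤ) = -4) :
    u8 i = A i j 4 hs + A i j (-4) ht := by
  apply Subtype.ext
  rw [coe_u8, AddSubgroup.coe_add, coe_A, coe_A, Pi.single_neg]
  funext k
  simp only [Pi.add_apply, Pi.neg_apply]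
  by_cases h : k = i
  · subst h
    simp only [Pi.single_eq_same]
    ring
  · rw [Pi.single_eq_of_ne h, Pi.single_eq_of_ne h]
    ring

/-! ### The kernel of the action on `L / 2 L` -/

section kernel

variable (g : Co0) (hg : ∀ v : leechLattice, cl (g • v) = cl v)

include hg

theorem sign_min {a : leechLattice} (ha : sqNorm (a : V) = 32) : g • a = a ∨ g • a = -a := by
  by_cases h : g • a = a
  · exact Or.inl h
  · right
    rcases short_cong (g • a) a h (by rw [co0_sqNorm, ha]; norm_num) (by rw [ha]; norm_num) (hg a) with h1 | h1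
    · exact h1
    · rw [ha] at h1
      omega

/-- If `a`, `b`, `a - b` have norm `32`, then `g` has the same sign on `a` and on `b`. -/
theorem sign_link {a b : leechLattice} (ha : sqNorm (a : V) = 32) (hb : sqNorm (b : V) = 32)
    (hab : sqNorm ((a - b : leechLattice) : V) = 32) : g • a = a ↔ g • b = b := by
  have ne_of : ∀ {c : leechLattice}, sqNorm (c : V) = 32 → c + c ≠ 0 := by
    intro c hc h
    have h1 : c = 0 := by
      apply Subtype.ext
      funext k
      have h2 := congrArg (fun v : leechLattice => (v : V) k) h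
      simp only [AddSubgroup.coe_add, Pi.add_apply, ZeroMemClass.coe_zero, Pi.zero_apply] at h2
      simp only [ZeroMemClass.coe_zero, Pi.zero_apply]
      omega
    rw [h1] at hc
    simp [sqNorm] at hc
  have e : g • (a - b) = g • a - g • b := by
    rw [sub_eq_add_neg, co0_map_add, co0_map_neg, sub_eq_add_neg]
  constructor
  · intro h
    rcases sign_min g hg hb with h1 | h1
    · exact h1
    · exfalso
      rcases sign_min g hg hab with h2 | h2
      · rw [e, h, h1] at h2
        apply ne_of hb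
        have : b + b = (a - -b) - (a - b) + 0 - 0 := by abel
        rw [this, h2]; abel
      · rw [e, h, h1] at h2
        apply ne_of ha
        have : a + a = (a - -b) - -(a - b) := by abel
        rw [this, h2]; abel
  · intro h
    rcases sign_min g hg ha with h1 | h1
    · exact h1
    · exfalso
      rcases sign_min g hg hab with h2 | h2
      · rw [e, h, h1] at h2
        apply ne_of ha
        have : a + a = (a - b) - (-a - b) := by abel
        rw [this, h2]; abel
      · rw [e, h, h1] at h2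
        apply ne_of hb
        have : b + b = -(a - b) - (-a - b) := by abel
        rw [this, h2]; abel

/-- Vectors with the same first coordinate `4`. -/
theorem link_same (i : GolayPt) {j k : GolayPt} (hj : i ≠ j) (hk : i ≠ k) (hjk : j ≠ k) (s t : ℤ)
    (hs : s = 4 ∨ s = -4) (ht : t = 4 ∨ t = -4) :
    g • A i j s hs = A i j s hs ↔ g • A i k t ht = A i k t ht := by
  apply sign_link g hg (norm_A hj s hs) (norm_A hk t ht)
  have e : ((A i j s hs - A i k t ht : leechLattice) : V) = Pi.single j s + Pi.single k (-t) := by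
    rw [AddSubgroup.coe_sub, coe_A, coe_A, Pi.single_neg]
    abel
  rw [e, sqNorm_two_single hjk]
  rcases hs with rfl | rfl <;> rcases ht with rfl | rfl <;> norm_num

/-- Vectors with the same first coordinate `4`, any two. -/
theorem link_any (i : GolayPt) {j k : GolayPt} (hj : i ≠ j) (hk : i ≠ k) (s t : ℤ)
    (hs : s = 4 ∨ s = -4) (ht : t = 4 ∨ t = -4) :
    g • A i j s hs = A i j s hs ↔ g • A i k t ht = A i k t ht := by
  by_cases hjk : j = k
  · subst hjk
    obtain ⟨m, hm1, hm2⟩ := exists_third i j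
    have hr : (4 : ℤ) = 4 ∨ (4 : ℤ) = -4 := Or.inl rfl
    exact (link_same g hg i hj (Ne.symm hm1) (Ne.symm hm2) s 4 hs hr).trans
      (link_same g hg i (Ne.symm hm1) hj hm2 4 t hr ht)
  · exact link_same g hg i hj hk hjk s t hs ht

/-- All vectors have the same sign as a fixed one. -/
theorem link_all {i j i' j' : GolayPt} (h : i ≠ j) (h' : i' ≠ j') (s t : ℤ)
    (hs : s = 4 ∨ s = -4) (ht : t = 4 ∨ t = -4) :
    g • A i j s hs = A i j s hs ↔ g • A i' j' t ht = A i' j' t ht := by
  have hr : (4 : ℤ) = 4 ∨ (4 : ℤ) = -4 := Or.inl rfl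
  by_cases hii : i = i'
  · subst hii
    exact link_any g hg i h h' s t hs ht
  · have h1 := link_any g hg i h hii s 4 hs hr
    have h2 := link_any g hg i' (Ne.symm hii) h' 4 t hr ht
    rw [A_symm i i' hr] at h1
    exact h1.trans h2

/-- An element acting trivially modulo twice the lattice is `± 1`. -/
theorem eq_one_or_neg : g = 1 ∨ g = negCo0 := by
  have hr : (4 : ℤ) = 4 ∨ (4 : ℤ) = -4 := Or.inl rfl
  have hr' : (-4 : ℤ) = 4 ∨ (-4 : ℤ) = -4 := Or.inr rfl
  have h0 : (none : GolayPt) ≠ some 0 := by simp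
  have hA0 := norm_A h0 4 hr
  have hj : ∀ i : GolayPt, ∃ j, i ≠ j := by
    intro i
    obtain ⟨k, hk, -⟩ := exists_third i i
    exact ⟨k, Ne.symm hk⟩
  by_cases hpos : g • A none (some 0) 4 hr = A none (some 0) 4 hr
  · left
    apply co0_ext_u8
    intro i
    obtain ⟨j, hij⟩ := hj i
    have h1 := (link_all g hg h0 hij 4 4 hr hr).1 hpos
    have h2 := (link_all g hg h0 hij 4 (-4) hr hr').1 hpos
    rw [u8_eq i j hr hr', co0_map_add, h1, h2, one_smul]
  · right
    apply co0_ext_u8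
    intro i
    obtain ⟨j, hij⟩ := hj i
    have hneg : ∀ s (hs : s = 4 ∨ s = -4), g • A i j s hs = -A i j s hs := by
      intro s hs
      have h1 : g • A i j s hs ≠ A i j s hs := fun h =>
        hpos ((link_all g hg h0 hij 4 s hr hs).2 h)
      exact (sign_min g hg (norm_A hij s hs)).resolve_left h1
    apply Subtype.ext
    rw [u8_eq i j hr hr', co0_map_add, hneg, hneg, coe_negCo0_smul]
    simp only [AddSubgroup.coe_add, NegMemClass.coe_neg, neg_add]

end kernel

theorem center_of_trivial (g : Co0) (hg : ∀ v : leechLattice, cl (g • v) = cl v) :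
    g ∈ Subgroup.center Co0 := by
  rcases eq_one_or_neg g hg with rfl | rfl
  · exact Subgroup.one_mem _
  · exact negCo0_mem_center

/-! ### Irreducibility -/

/-- A subgroup of the lattice containing a vector of norm 32 and invariant under the group is the
whole lattice. -/
theorem eq_L_of_min (M : AddSubgroup V) (hM : M ≤ leechLattice)
    (hinv : ∀ g : Co0, ∀ v : leechLattice, (v : V) ∈ M → ((g • v : leechLattice) : V) ∈ M)
    {a : leechLattice} (ha : sqNorm (a : V) = 32) (haM : (a : V) ∈ M) : M = leechLattice := by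
  apply le_antisymm hM
  rw [← Cfsg.Agent.S1567.result, AddSubgroup.closure_le]
  rintro x ⟨hx, hn⟩
  obtain ⟨g, hg⟩ := co0_transitive_min a ⟨x, hx⟩ ha hn
  have := hinv g a haM
  rw [hg] at this
  exact this

/-! ### Explicit vectors -/

def b1L : List ℤ := [5,1,1,1,1,1,1,1,1,1,1,1,1,1,1,1,1,1,1,1,1,1,1,1]
def b2L : List ℤ := [1,5,1,1,1,1,1,1,1,1,1,1,1,1,1,1,1,1,1,1,1,1,1,1]
def c1L : List ℤ := [4,4,4,0,0,0,0,0,0,0,0,0,0,0,0,0,0,0,0,0,0,0,0,4]
def c2L : List ℤ := [4,4,0,4,0,0,0,0,0,0,0,0,0,0,0,0,0,0,0,0,0,0,0,4]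

theorem b1_ok : inLattice b1L = true := by decide +kernel
theorem b2_ok : inLattice b2L = true := by decide +kernel
theorem c1_ok : inLattice c1L = true := by decide +kernel
theorem c2_ok : inLattice c2L = true := by decide +kernel
theorem b_norm : sqNorm (vecOf b1L) = 48 ∧ sqNorm (vecOf b2L) = 48 ∧
    sqNorm (vecOf b1L - vecOf b2L) = 32 := by decide +kernel
theorem c_norm : sqNorm (vecOf c1L) = 64 ∧ sqNorm (vecOf c2L) = 64 ∧
    sqNorm (vecOf c1L - vecOf c2L) = 32 := by decide +kernel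

/-- Invariant subgroups between twice the lattice and the lattice. -/
theorem irreducible (M : AddSubgroup V) (h2 : ∀ v ∈ leechLattice, (2 : ℤ) • v ∈ M)
    (hM : M ≤ leechLattice)
    (hinv : ∀ g : Co0, ∀ v : leechLattice, (v : V) ∈ M → ((g • v : leechLattice) : V) ∈ M) :
    (∀ x ∈ M, ∃ w ∈ leechLattice, x = (2 : ℤ) • w) ∨ M = leechLattice := by
  by_cases hall : ∀ x ∈ M, ∃ w ∈ leechLattice, x = (2 : ℤ) • w
  · exact Or.inl hall
  right
  push Not at hall
  obtain ⟨x, hxM, hx⟩ := hall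
  obtain ⟨y, hyn, hyc⟩ := exists_short ⟨x, hM hxM⟩
  obtain ⟨z, hz, hxy⟩ := (cl_eq_iff _ _).1 hyc.symm
  have hyM : (y : V) ∈ M := by
    have e : (y : V) = x + (2 : ℤ) • (-z) := by
      have e1 : (2 : ℤ) • z = 2 • z := by
        funext k; simp
      have e2 : (2 : ℤ) • (-z) = -(2 • z) := by
        rw [smul_neg, e1]
      rw [e2, ← hxy]
      simp
    rw [e]
    exact M.add_mem hxM (h2 _ (leechLattice.neg_mem hz))
  have hy0 : (y : V) ≠ 0 := by
    intro h0
    apply hx z hz
    rw [h0] at hxy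
    simp only [sub_zero] at hxy
    rw [hxy]
    funext k; simp
  have h16 := sixteen_dvd _ y.2
  have h32 := min_norm_32 _ y.2 hy0
  have hcases : sqNorm (y : V) = 32 ∨ sqNorm (y : V) = 48 ∨ sqNorm (y : V) = 64 := by omega
  rcases hcases with h | h | h
  · exact eq_L_of_min M hM hinv h hyM
  · -- all vectors of norm 48 lie in `M`
    have hall48 : ∀ u : leechLattice, sqNorm (u : V) = 48 → (u : V) ∈ M := by
      intro u hu
      obtain ⟨g, hg⟩ := co0_transitive_48 y u h hu
      have := hinv g y hyM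
      rwa [hg] at this
    have h1 := hall48 ⟨_, inLattice_sound b1_ok⟩ b_norm.1
    have h3 := hall48 ⟨_, inLattice_sound b2_ok⟩ b_norm.2.1
    have h4 := M.sub_mem h1 h3
    exact eq_L_of_min M hM hinv (a := ⟨_, hM h4⟩) b_norm.2.2 h4
  · have hall64 : ∀ u : leechLattice, sqNorm (u : V) = 64 → (u : V) ∈ M := by
      intro u hu
      obtain ⟨g, hg⟩ := co0_transitive_64 y u h hu
      have := hinv g y hyM
      rwa [hg] at this
    have h1 := hall64 ⟨_, inLattice_sound c1_ok⟩ c_norm.1
    have h3 := hall64 ⟨_, inLattice_sound c2_ok⟩ c_norm.2.1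
    have h4 := M.sub_mem h1 h3
    exact eq_L_of_min M hM hinv (a := ⟨_, hM h4⟩) c_norm.2.2 h4

/-! ### Invariant quadratic forms -/

def u2L : List ℤ := [4,0,0,0,0,0,0,0,0,0,0,0,0,0,0,0,0,0,0,0,0,0,0,4]
def v2L : List ℤ := [-2,-2,0,0,0,2,-2,2,0,2,-2,0,0,0,2,0,0,0,0,0,0,0,0,0]
def w2L : List ℤ := [0,2,-2,0,0,-2,0,-2,0,0,2,0,0,-2,0,0,0,0,-2,0,0,0,0,-2]

theorem u2_ok : inLattice u2L = true := by decide +kernel
theorem v2_ok : inLattice v2L = true := by decide +kernel
theorem w2_ok : inLattice w2L = true := by decide +kernel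

theorem triple_norm : sqNorm (vecOf u2L) = 32 ∧ sqNorm (vecOf v2L) = 32 ∧ sqNorm (vecOf w2L) = 32 ∧
    sqNorm (vecOf u2L + vecOf v2L) = 48 ∧ sqNorm (vecOf u2L + vecOf w2L) = 48 ∧
    sqNorm (vecOf v2L + vecOf w2L) = 32 ∧ sqNorm (vecOf u2L + vecOf v2L + vecOf w2L) = 32 := by
  decide +kernel

def f1L : List ℤ := [4,0,0,0,0,0,0,0,0,0,0,0,0,0,0,0,0,0,0,0,0,0,0,4]
def f2L : List ℤ := [-4,0,0,0,0,0,0,0,0,0,0,0,0,0,0,0,0,0,0,0,0,0,0,4]
def f3L : List ℤ := [0,4,4,0,0,0,0,0,0,0,0,0,0,0,0,0,0,0,0,0,0,0,0,0]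
def f4L : List ℤ := [0,-4,4,0,0,0,0,0,0,0,0,0,0,0,0,0,0,0,0,0,0,0,0,0]
def f5L : List ℤ := [0,4,0,0,0,0,0,0,0,0,0,0,0,0,0,0,0,0,0,0,0,0,0,4]

theorem f1_ok : inLattice f1L = true := by decide +kernel
theorem f2_ok : inLattice f2L = true := by decide +kernel
theorem f3_ok : inLattice f3L = true := by decide +kernel
theorem f4_ok : inLattice f4L = true := by decide +kernel
theorem f5_ok : inLattice f5L = true := by decide +kernel

theorem f_norm : sqNorm (vecOf f1L) = 32 ∧ sqNorm (vecOf f2L) = 32 ∧ sqNorm (vecOf f3L) = 32 ∧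
    sqNorm (vecOf f4L) = 32 ∧ sqNorm (vecOf f1L + vecOf f2L) = 64 ∧
    sqNorm (vecOf f1L + vecOf f3L) = 64 ∧ sqNorm (vecOf f2L + vecOf f3L) = 64 := by
  decide +kernel

theorem f_eq : vecOf f1L + vecOf f2L + vecOf f3L = vecOf f4L + (vecOf f5L + vecOf f5L) := by
  funext p
  revert p
  decide +kernel

/-- Norm modulo `32` is a class invariant. -/
theorem norm_cong {x y : leechLattice} (h : cl x = cl y) :
    ((sqNorm (x : V) / 16 : ℤ) : ZMod 2) = ((sqNorm (y : V) / 16 : ℤ) : ZMod 2) := by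
  obtain ⟨z, hz, e⟩ := (cl_eq_iff _ _).1 h
  have e1 : (x : V) = y + (z + z) := by
    have : (x : V) = y + 2 • z := by rw [← e]; abel
    rw [this, two_nsmul]
  have hyz : y.1 + z ∈ leechLattice := leechLattice.add_mem y.2 hz
  have hzz : z + z ∈ leechLattice := leechLattice.add_mem hz hz
  have h1 := sixteen_dvd _ y.2
  have h2 := sixteen_dvd _ hz
  have h3 := sixteen_dvd _ hyz
  have n1 : sqNorm (x : V) = sqNorm (y : V) + sqNorm (z + z) + 2 * dotInt (y : V) (z + z) := by
    rw [e1, sqNorm_add]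
  have n2 : sqNorm (z + z) = 4 * sqNorm z := by
    unfold sqNorm
    rw [Finset.mul_sum]
    apply Finset.sum_congr rfl
    intro i _
    simp only [Pi.add_apply]
    ring
  have n3 : dotInt (y : V) (z + z) = 2 * dotInt (y : V) z := by
    unfold dotInt
    rw [Finset.mul_sum]
    apply Finset.sum_congr rfl
    intro i _
    simp only [Pi.add_apply]
    ring
  have n4 : sqNorm ((y : V) + z) = sqNorm (y : V) + sqNorm z + 2 * dotInt (y : V) z := sqNorm_add _ _
  obtain ⟨a, ha⟩ := h1
  obtain ⟨b, hb⟩ := h2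
  obtain ⟨c, hc⟩ := h3
  have hd : dotInt (y : V) z = 8 * (c - a - b) := by
    have : (y : V) + z = y.1 + z := rfl
    rw [this] at n4
    omega
  have hx : sqNorm (x : V) = 16 * (a + 2 * (b + c - a)) := by
    rw [n1, n2, n3, hd, ha, hb]
    ring
  rw [hx, ha, Int.mul_ediv_cancel_left _ (by norm_num), Int.mul_ediv_cancel_left _ (by norm_num)]
  push_cast
  have h2' : (2 : ZMod 2) = 0 := by decide
  rw [h2']
  ring

section forms

variable (Q : leechLattice → ZMod 2)
  (hcoset : ∀ v w : leechLattice, Q (v + (w + w)) = Q v)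
  (hquad : ∀ u v w : leechLattice, Q (u + v + w) + Q u + Q v + Q w = Q (u + v) + Q (u + w) + Q (v + w))
  (hinv : ∀ (g : Co0) (v : leechLattice), Q (g • v) = Q v)

include hcoset hquad hinv

/-- The invariant forms are constant on shells, and vanish on norms `32`, `64`. -/
theorem form_values :
    Q 0 = 0 ∧ (∀ a : leechLattice, sqNorm (a : V) = 32 → Q a = 0) ∧
    (∀ a : leechLattice, sqNorm (a : V) = 64 → Q a = 0) := by
  have h0 : Q 0 = 0 := by
    have := hquad 0 0 0
    simp only [add_zero] at this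
    have key : ∀ a : ZMod 2, a + a + a + a = a + a + a → a = 0 := by decide
    exact key _ this
  have c32 : ∀ a b : leechLattice, sqNorm (a : V) = 32 → sqNorm (b : V) = 32 → Q a = Q b := by
    intro a b ha hb
    obtain ⟨g, hg⟩ := co0_transitive_min a b ha hb
    rw [← hg, hinv]
  have c48 : ∀ a b : leechLattice, sqNorm (a : V) = 48 → sqNorm (b : V) = 48 → Q a = Q b := by
    intro a b ha hb
    obtain ⟨g, hg⟩ := co0_transitive_48 a b ha hb
    rw [← hg, hinv]
  have c64 : ∀ a b : leechLattice, sqNorm (a : V) = 64 → sqNorm (b : V) = 64 → Q a = Q b := by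
    intro a b ha hb
    obtain ⟨g, hg⟩ := co0_transitive_64 a b ha hb
    rw [← hg, hinv]
  -- the relation giving the value on norm 32
  obtain ⟨n1, n2, n3, n4, n5, n6, n7⟩ := triple_norm
  set u : leechLattice := ⟨_, inLattice_sound u2_ok⟩ with hu
  set v : leechLattice := ⟨_, inLattice_sound v2_ok⟩ with hv
  set w : leechLattice := ⟨_, inLattice_sound w2_ok⟩ with hw
  have a0 : Q u = 0 := by
    have h := hquad u v w
    have e1 : Q v = Q u := c32 _ _ n2 n1
    have e2 : Q w = Q u := c32 _ _ n3 n1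
    have e3 : Q (u + v + w) = Q u := c32 _ _ n7 n1
    have e4 : Q (v + w) = Q u := c32 _ _ n6 n1
    have e5 : Q (u + w) = Q (u + v) := c48 _ _ n5 n4
    rw [e1, e2, e3, e4, e5] at h
    have key : ∀ a b : ZMod 2, a + a + a + a = b + b + a → a = 0 := by decide
    exact key _ _ h
  have h32 : ∀ a : leechLattice, sqNorm (a : V) = 32 → Q a = 0 := by
    intro a ha
    rw [c32 a u ha n1, a0]
  obtain ⟨m1, m2, m3, m4, m5, m6, m7⟩ := f_norm
  set f1 : leechLattice := ⟨_, inLattice_sound f1_ok⟩ with hf1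
  set f2 : leechLattice := ⟨_, inLattice_sound f2_ok⟩ with hf2
  set f3 : leechLattice := ⟨_, inLattice_sound f3_ok⟩ with hf3
  set f4 : leechLattice := ⟨_, inLattice_sound f4_ok⟩ with hf4
  set f5 : leechLattice := ⟨_, inLattice_sound f5_ok⟩ with hf5
  have e : f1 + f2 + f3 = f4 + (f5 + f5) := Subtype.ext f_eq
  have g0 : Q (f1 + f2) = 0 := by
    have h := hquad f1 f2 f3
    rw [e, hcoset, h32 f4 m4, h32 f1 m1, h32 f2 m2, h32 f3 m3] at h
    have e2 : Q (f1 + f3) = Q (f1 + f2) := c64 _ _ m6 m5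
    have e3 : Q (f2 + f3) = Q (f1 + f2) := c64 _ _ m7 m5
    rw [e2, e3] at h
    have key : ∀ b : ZMod 2, (0 : ZMod 2) + 0 + 0 + 0 = b + b + b → b = 0 := by decide
    exact key _ h
  refine ⟨h0, h32, ?_⟩
  intro a ha
  rw [c64 a (f1 + f2) ha m5, g0]

/-- The form takes the expected values, when it is nonzero. -/
theorem form_eq (hne : ∃ v : leechLattice, Q v ≠ 0) (v : leechLattice) :
    Q v = ((sqNorm (v : V) / 16 : ℤ) : ZMod 2) := by
  obtain ⟨h0, h32, h64⟩ := form_values Q hcoset hquad hinv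
  have short : ∀ v : leechLattice, ∃ y : leechLattice, cl y = cl v ∧ Q y = Q v ∧
      (y = 0 ∨ sqNorm (y : V) = 32 ∨ sqNorm (y : V) = 48 ∨ sqNorm (y : V) = 64) := by
    intro v
    obtain ⟨y, hyn, hyc⟩ := exists_short v
    refine ⟨y, hyc, ?_, ?_⟩
    · obtain ⟨z, hz, e⟩ := (cl_eq_iff _ _).1 hyc
      have e1 : y = v + (⟨z, hz⟩ + ⟨z, hz⟩) := by
        apply Subtype.ext
        simp only [AddSubgroup.coe_add]
        have : (y : V) = v + 2 • z := by rw [← e]; abel
        rw [this, two_nsmul]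
      rw [e1, hcoset]
    · by_cases hy0 : y = 0
      · exact Or.inl hy0
      · right
        have hy0' : (y : V) ≠ 0 := fun h => hy0 (Subtype.ext h)
        have h16 := sixteen_dvd _ y.2
        have h32' := min_norm_32 _ y.2 hy0'
        omega
  have hbeta : ∀ a : leechLattice, sqNorm (a : V) = 48 → Q a = 1 := by
    obtain ⟨w, hw⟩ := hne
    obtain ⟨y, -, hyQ, hy⟩ := short w
    intro a ha
    have hQy : Q y ≠ 0 := by rw [hyQ]; exact hw
    rcases hy with rfl | hy | hy | hy
    · exact absurd h0 hQy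
    · exact absurd (h32 y hy) hQy
    · obtain ⟨g, hg⟩ := co0_transitive_48 y a hy ha
      rw [← hg, hinv]
      exact GolayCore.zmod2_eq_one_of_ne hQy
    · exact absurd (h64 y hy) hQy
  obtain ⟨y, hyc, hyQ, hy⟩ := short v
  rw [← hyQ, ← norm_cong hyc]
  rcases hy with rfl | hy | hy | hy
  · rw [h0]
    simp [sqNorm]
  · rw [h32 y hy, hy]
    decide
  · rw [hbeta y hy, hy]
    decide
  · rw [h64 y hy, hy]
    decide

end forms

end Cfsg.Agent.Lib.Sporadic.LeechMod2
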