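import Mathlib
import Cfsg.Prelude.Def_MonsterType
import Cfsg.Agent.S0398
import Cfsg.Agent.S1573
import Cfsg.Agent.Lib.Sporadic.LeechMod2
import Cfsg.Agent.Lib.Sporadic.LeechA0
import Cfsg.Agent.Lib.Compute.M2xSimple

/-!
# Normal `2`-subgroups of the stabilisers of classes modulo twice the lattice

A `2`-subgroup of the automorphism group of the lattice normalised by the stabiliser of a minimal vector
is trivial; a subgroup of the stabiliser of a class of norm `64` normalised by this stabiliser which is a `2`-group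
modulo the centre consists of sign changes.
-/

set_option autoImplicit false

namespace Cfsg.Agent.Lib.Sporadic.LeechLocal

open Cfsg Cfsg.Agent.Lib.Sporadic.GolayCore Cfsg.Agent.Lib.Sporadic.LeechBasic
  Cfsg.Agent.Lib.Sporadic.LeechNorm Cfsg.Agent.Lib.Sporadic.LeechFacts
  Cfsg.Agent.Lib.Sporadic.LeechAut Cfsg.Agent.Lib.Sporadic.LeechMat
  Cfsg.Agent.Lib.Sporadic.LeechOrb Cfsg.Agent.Lib.Sporadic.LeechClasses
  Cfsg.Agent.Lib.Sporadic.LeechA0 Cfsg.Agent.Lib.Sporadic.LeechAct
  Cfsg.Agent.Lib.Sporadic.LeechMonomial Cfsg.Agent.Lib.Sporadic.LeechMod2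
  Cfsg.Agent.Lib.Sporadic.LeechOrbits

attribute [local instance] Classical.propDecidable

/-! ### The centre -/

theorem mem_center_iff (g : Co0) : g ∈ Subgroup.center Co0 ↔ g = 1 ∨ g = negCo0 := by
  constructor
  · intro hg
    rcases Cfsg.Agent.S0398.central_form g hg with h | h
    · left
      apply co0_ext_u8
      intro i
      rw [h, one_smul]
    · right
      apply co0_ext_u8
      intro i
      rw [h]
      apply Subtype.ext
      rw [coe_negCo0_smul]
      rfl
  · rintro (rfl | rfl)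
    · exact Subgroup.one_mem _
    · exact negCo0_mem_center

/-- The projection to the first Conway group. -/
noncomputable abbrev mkC : Co0 →* Spor.Co1 := QuotientGroup.mk' (Subgroup.center Co0)

theorem mkC_eq_one_iff (g : Co0) : mkC g = 1 ↔ g = 1 ∨ g = negCo0 := by
  rw [← mem_center_iff]
  exact QuotientGroup.eq_one_iff g

theorem mkC_neg : mkC negCo0 = 1 := (mkC_eq_one_iff _).2 (Or.inr rfl)

theorem negCo0_mul_smul (g : Co0) (v : leechLattice) : (negCo0 * g) • v = -(g • v) := by
  rw [mul_smul]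
  apply Subtype.ext
  rw [coe_negCo0_smul]
  rfl

theorem neg_ne_self {v : leechLattice} (hv : sqNorm (v : V) = 32) : -v ≠ v := by
  intro h
  have h1 : ∀ k, (v : V) k = 0 := by
    intro k
    have := congrArg (fun t : leechLattice => (t : V) k) h
    simp only [NegMemClass.coe_neg, Pi.neg_apply] at this
    omega
  have h2 : sqNorm (v : V) = 0 := by
    unfold sqNorm
    apply Finset.sum_eq_zero
    intro k _
    rw [h1 k]
    norm_num
  omega

theorem cl_neg (x : leechLattice) : cl (-x) = cl x := by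
  rw [cl_eq_iff]
  refine ⟨(-x : leechLattice), (-x : leechLattice).2, ?_⟩
  simp only [NegMemClass.coe_neg, two_nsmul]
  abel

theorem min_cl {x y : leechLattice} (hx : sqNorm (x : V) = 32) (hy : sqNorm (y : V) = 32)
    (h : cl x = cl y) : x = y ∨ x = -y := by
  by_cases hxy : x = y
  · exact Or.inl hxy
  · right
    rcases short_cong x y hxy (by omega) (by omega) h with h1 | h1
    · exact h1
    · omega

/-! ### The classes of minimal vectors orthogonal to a minimal vector -/

noncomputable def X0F (v : leechLattice) : Finset leechLattice :=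
  (X 32).filter fun x => dotInt (v : V) (x : V) = 0

theorem mem_X0F {v x : leechLattice} : x ∈ X0F v ↔ sqNorm (x : V) = 32 ∧ dotInt (v : V) (x : V) = 0 := by
  simp [X0F, mem_X]

theorem card_X0F {v : leechLattice} (hv : sqNorm (v : V) = 32) : (X0F v).card = 93150 := by
  have h := (Cfsg.Agent.S1573.result (v : V) v.2 hv).2.2
  have e : {w : V | w ∈ leechLattice ∧ sqNorm w = 32 ∧ dotInt (v : V) w = 0} =
      (fun t : leechLattice => (t : V)) '' (X0F v : Set leechLattice) := by
    ext w
    constructor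
    · rintro ⟨h1, h2, h3⟩
      exact ⟨⟨w, h1⟩, mem_X0F.2 ⟨h2, h3⟩, rfl⟩
    · rintro ⟨t, ht, rfl⟩
      have := mem_X0F.1 ht
      exact ⟨t.2, this.1, this.2⟩
  rw [e, Set.ncard_image_of_injective _ Subtype.val_injective, Set.ncard_coe_finset] at h
  exact h

noncomputable def Y0F (v : leechLattice) : Finset Q := (X0F v).image cl

theorem neg_mem_X0F {v x : leechLattice} (hx : x ∈ X0F v) : -x ∈ X0F v := by
  obtain ⟨h1, h2⟩ := mem_X0F.1 hx
  refine mem_X0F.2 ⟨?_, ?_⟩
  · simp only [NegMemClass.coe_neg]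
    rw [sqNorm_neg, h1]
  · simp only [NegMemClass.coe_neg]
    rw [dotInt_neg_right, h2]
    norm_num

theorem card_Y0F {v : leechLattice} (hv : sqNorm (v : V) = 32) : (Y0F v).card = 46575 := by
  have h := Finset.card_eq_sum_card_image cl (X0F v)
  rw [card_X0F hv] at h
  have h2 : ∀ c ∈ (X0F v).image cl, ((X0F v).filter fun y => cl y = c).card = 2 := by
    intro c hc
    obtain ⟨x, hx, rfl⟩ := Finset.mem_image.1 hc
    have hx32 := (mem_X0F.1 hx).1
    have e : ((X0F v).filter fun y => cl y = cl x) = {x, -x} := by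
      ext y
      simp only [Finset.mem_filter, Finset.mem_insert, Finset.mem_singleton]
      constructor
      · rintro ⟨hy, hyc⟩
        exact min_cl (mem_X0F.1 hy).1 hx32 hyc
      · rintro (rfl | rfl)
        · exact ⟨hx, rfl⟩
        · exact ⟨neg_mem_X0F hx, cl_neg x⟩
    rw [e, Finset.card_pair (neg_ne_self hx32).symm]
  rw [Finset.sum_congr rfl h2, Finset.sum_const, smul_eq_mul] at h
  show ((X0F v).image cl).card = 46575
  omega

/-- A `2`-subgroup fixing `v` and normalised by the stabiliser of `v` fixes the classes of the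
minimal vectors orthogonal to `v`. -/
theorem fix_classes {v : leechLattice} (hv : sqNorm (v : V) = 32) (P : Subgroup Co0)
    (hP : ∀ a ∈ P, a • v = v) (hn : ∀ u : Co0, u • v = v → ∀ a ∈ P, u * a * u⁻¹ ∈ P)
    (h2 : IsPGroup 2 P) {p : Co0} (hp : p ∈ P) {x : leechLattice} (hx : sqNorm (x : V) = 32)
    (hd : dotInt (v : V) (x : V) = 0) : cl (p • x) = cl x := by
  haveI : Fact (Nat.Prime 2) := ⟨Nat.prime_two⟩
  haveI : Finite P := inferInstance
  let Y : SubMulAction ↥P Q :=
    { carrier := (Y0F v : Set Q)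
      smul_mem' := by
        intro a c hc
        obtain ⟨y, hy, rfl⟩ := Finset.mem_image.1 hc
        refine Finset.mem_coe.2 (Finset.mem_image.2 ⟨(a : Co0) • y, ?_, rfl⟩)
        obtain ⟨h3, h4⟩ := mem_X0F.1 hy
        refine mem_X0F.2 ⟨by rw [co0_sqNorm]; exact h3, ?_⟩
        have h5 := co0_dotInt (a : Co0) v y
        rw [hP a a.2] at h5
        rw [h5]
        exact h4 }
  have hcard : Nat.card Y = 46575 := by
    have : Nat.card Y = (Y0F v).card := by
      show Nat.card ((Y0F v : Set Q) : Type _) = _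
      simp
    rw [this, card_Y0F hv]
  obtain ⟨c0, hc0⟩ := h2.nonempty_fixed_point_of_prime_not_dvd_card Y (by rw [hcard]; norm_num)
  obtain ⟨c, hc⟩ := c0
  obtain ⟨x0, hx0, rfl⟩ := Finset.mem_image.1 hc
  obtain ⟨h3, h4⟩ := mem_X0F.1 hx0
  obtain ⟨u, hu1, hu2⟩ := co2_trans_0 v x0 x hv h3 hx h4 hd
  have hui : u⁻¹ • v = v := by
    conv_lhs => rw [← hu1]
    rw [inv_smul_smul]
  have hq : u⁻¹ * p * u ∈ P := by
    have := hn u⁻¹ hui p hp
    simpa using this
  have hfix := congrArg Subtype.val (hc0 ⟨_, hq⟩)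
  have hfix' : cl ((u⁻¹ * p * u) • x0) = cl x0 := hfix
  have e : p • x = u • ((u⁻¹ * p * u) • x0) := by
    simp only [mul_smul, smul_inv_smul, hu2]
  rw [e, ← smul_cl, hfix', smul_cl, hu2]

/-! ### The stabiliser of `a0` -/

abbrev e3 : GolayPt := pt 3

abbrev e5 : GolayPt := pt 5

/-- A vector with all coordinates odd orthogonal to `a0`. -/
def xFL : List ℤ := [-1,-3,-1,1,-1,-1,-1,1,1,1,-1,-1,1,1,1,1,1,1,1,1,1,1,1,-1]

theorem xFL_ok : inLattice xFL = true := by decide +kernel

noncomputable def xF : leechLattice := ⟨vecOf xFL, inLattice_sound xFL_ok⟩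

theorem sqNorm_xF : sqNorm (xF : V) = 32 := by
  show sqNorm (vecOf xFL) = 32
  decide +kernel

theorem xF_nonzero (k : GolayPt) : (xF : V) k ≠ 0 := by
  show vecOf xFL k ≠ 0
  revert k
  decide +kernel

theorem xF_5 : (xF : V) e5 = -(xF : V) e3 := by
  show vecOf xFL e5 = -vecOf xFL e3
  decide +kernel

theorem dot_a0_xF : dotInt (a0 : V) (xF : V) = 0 := by
  rw [dot_a0, xF_5]
  ring

theorem a0_apply (k : GolayPt) : (a0 : V) k = (Pi.single e3 4 + Pi.single e5 4 : V) k := by
  show vecOf a0L k = _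
  revert k
  decide +kernel

theorem a0_eq : a0 = A e3 e5 4 (Or.inl rfl) := by
  apply Subtype.ext
  funext k
  rw [a0_apply]
  rfl

theorem e3_ne_e5 : e3 ≠ e5 := by decide

theorem exists_fifth (a b c d : GolayPt) : ∃ j : GolayPt, j ≠ a ∧ j ≠ b ∧ j ≠ c ∧ j ≠ d := by
  by_contra h
  push Not at h
  have hsub : (Finset.univ : Finset GolayPt) ⊆ {a, b, c, d} := by
    intro j _
    simp only [Finset.mem_insert, Finset.mem_singleton]
    by_cases h1 : j = a
    · exact Or.inl h1
    by_cases h2 : j = b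
    · exact Or.inr (Or.inl h2)
    by_cases h3 : j = c
    · exact Or.inr (Or.inr (Or.inl h3))
    · exact Or.inr (Or.inr (Or.inr (h j h1 h2 h3)))
  have h1 := Finset.card_le_card hsub
  have h2 : ({a, b, c, d} : Finset GolayPt).card ≤ 4 := Finset.card_le_four
  rw [Finset.card_univ, card_golayPt] at h1
  omega

theorem smul_apply_mono (σ : M24) (c : supports (golayCode : Set (GolayPt → ZMod 2))) (v : leechLattice)
    (k : GolayPt) :
    ((monoElt σ c • v : leechLattice) : V) k =
      if k ∈ c.1 then -(v : V) (σ.1.symm k) else (v : V) (σ.1.symm k) := rfl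

theorem four_dvd_of_supports {c : Finset GolayPt} (hc : c ∈ supports (golayCode : Set (GolayPt → ZMod 2))) :
    4 ∣ c.card := by
  obtain ⟨w, hw, rfl⟩ := hc
  exact code_four_dvd _ hw

/-- An automorphism fixing `a0` which is `±1` on every minimal vector orthogonal to `a0` is trivial. -/
theorem eq_one_of_signs {p : Co0} (h0 : p • a0 = a0)
    (hs : ∀ x : leechLattice, sqNorm (x : V) = 32 → dotInt (a0 : V) (x : V) = 0 → p • x = x ∨ p • x = -x) :
    p = 1 := by
  have hr : (4 : ℤ) = 4 ∨ (4 : ℤ) = -4 := Or.inl rfl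
  have hr' : (-4 : ℤ) = 4 ∨ (-4 : ℤ) = -4 := Or.inr rfl
  -- the element lies in the monomial group
  have hb := hs (A e3 e5 (-4) hr') (norm_A e3_ne_e5 _ _) (by
    rw [dot_a0, coe_A]
    simp [Pi.single_eq_of_ne e3_ne_e5, Pi.single_eq_of_ne e3_ne_e5.symm])
  have h83 : u8 e3 = a0 + A e3 e5 (-4) hr' := by
    rw [a0_eq]
    exact u8_eq e3 e5 hr hr'
  have h85 : u8 e5 = a0 + -A e3 e5 (-4) hr' := by
    apply Subtype.ext
    rw [a0_eq]
    funext k
    simp only [AddSubgroup.coe_add, coe_A, coe_u8, NegMemClass.coe_neg, Pi.add_apply, Pi.neg_apply]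
    by_cases h1 : k = e5
    · subst h1
      simp [Pi.single_eq_of_ne e3_ne_e5.symm]
    · by_cases h2 : k = e3
      · subst h2
        simp [Pi.single_eq_of_ne e3_ne_e5]
      · simp [Pi.single_eq_of_ne h1, Pi.single_eq_of_ne h2]
  have hcross : ∀ i : GolayPt, cl (u8 i) = cl v8 := by
    intro i
    apply cl_crossL
    rw [← mem_stdCross_iff]
    exact u8_mem_stdCross i
  have hN : p ∈ N := by
    rw [mem_N_iff, ← hcross e3, smul_cl, h83, co0_map_add, h0]
    rcases hb with hb | hb
    · rw [hb]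
    · rw [hb, ← h85, ← h83, hcross, hcross]
  rw [mem_N_iff_pres] at hN
  obtain ⟨⟨σ, c⟩, hσc⟩ := monoEquiv.surjective ⟨p, hN⟩
  have hp : p = monoElt σ c := (congrArg Subtype.val hσc).symm
  subst hp
  -- the permutation fixes the other points
  have hfix : ∀ i, i ≠ e3 → i ≠ e5 → σ.1 i = i := by
    intro i hi3 hi5
    by_contra hne
    obtain ⟨j, hj3, hj5, hji, hjk⟩ := exists_fifth e3 e5 i (σ.1 i)
    have hij : i ≠ j := hji.symm
    have hdot : ∀ (s : ℤ) (hs' : s = 4 ∨ s = -4), dotInt (a0 : V) (A i j s hs' : V) = 0 := by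
      intro s hs'
      rw [dot_a0, coe_A]
      simp [Pi.single_eq_of_ne hi3.symm, Pi.single_eq_of_ne hi5.symm, Pi.single_eq_of_ne hj3.symm,
        Pi.single_eq_of_ne hj5.symm]
    have h1 := hs (A i j 4 hr) (norm_A hij _ _) (hdot _ _)
    have h2 := hs (A i j (-4) hr') (norm_A hij _ _) (hdot _ _)
    have h3 : monoElt σ c • u8 i = monoElt σ c • A i j 4 hr + monoElt σ c • A i j (-4) hr' := by
      rw [u8_eq i j hr hr', co0_map_add]
    have h4 := congrArg (fun t : leechLattice => (t : V) (σ.1 i)) h3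
    simp only [AddSubgroup.coe_add, Pi.add_apply] at h4
    have hk1 : ∀ (s : ℤ) (hs' : s = 4 ∨ s = -4), (A i j s hs' : V) (σ.1 i) = 0 := by
      intro s hs'
      rw [coe_A]
      simp [Pi.single_eq_of_ne hne, Pi.single_eq_of_ne (Ne.symm hjk)]
    have h5 : ((monoElt σ c • A i j 4 hr : leechLattice) : V) (σ.1 i) = 0 := by
      rcases h1 with h1 | h1
      · rw [h1, hk1]
      · rw [h1]
        simp only [NegMemClass.coe_neg, Pi.neg_apply, hk1, neg_zero]
    have h6 : ((monoElt σ c • A i j (-4) hr' : leechLattice) : V) (σ.1 i) = 0 := by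
      rcases h2 with h2 | h2
      · rw [h2, hk1]
      · rw [h2]
        simp only [NegMemClass.coe_neg, Pi.neg_apply, hk1, neg_zero]
    rw [h5, h6, smul_apply_mono] at h4
    rw [coe_u8] at h4
    simp only [Equiv.symm_apply_apply, Pi.single_eq_same] at h4
    split_ifs at h4 <;> omega
  have hsymm : ∀ i, i ≠ e3 → i ≠ e5 → σ.1.symm i = i := by
    intro i h1 h2
    conv_lhs => rw [← hfix i h1 h2]
    simp
  have hsymm3 : σ.1.symm e3 = e3 ∨ σ.1.symm e3 = e5 := by
    by_contra h
    push Not at h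
    have h1 := hfix _ h.1 h.2
    simp only [Equiv.apply_symm_apply] at h1
    exact h.1 h1.symm
  have hsymm5 : σ.1.symm e5 = e3 ∨ σ.1.symm e5 = e5 := by
    by_contra h
    push Not at h
    have h1 := hfix _ h.1 h.2
    simp only [Equiv.apply_symm_apply] at h1
    exact h.2 h1.symm
  have ha3 : (a0 : V) e3 = 4 := by rw [a0_apply]; decide
  have ha5 : (a0 : V) e5 = 4 := by rw [a0_apply]; decide
  have hc3 : e3 ∉ c.1 := by
    intro h
    have h1 := congrArg (fun t : leechLattice => (t : V) e3) h0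
    simp only [smul_apply_mono, if_pos h] at h1
    rcases hsymm3 with h2 | h2 <;> rw [h2] at h1 <;> omega
  have hc5 : e5 ∉ c.1 := by
    intro h
    have h1 := congrArg (fun t : leechLattice => (t : V) e5) h0
    simp only [smul_apply_mono, if_pos h] at h1
    rcases hsymm5 with h2 | h2 <;> rw [h2] at h1 <;> omega
  rcases hs xF sqNorm_xF dot_a0_xF with hx | hx
  · -- no signs, and the permutation fixes all points
    have hc : ∀ k, k ∉ c.1 := by
      intro k hk
      have hk3 : k ≠ e3 := fun h => hc3 (h ▸ hk)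
      have hk5 : k ≠ e5 := fun h => hc5 (h ▸ hk)
      have h1 := congrArg (fun t : leechLattice => (t : V) k) hx
      simp only [smul_apply_mono, if_pos hk, hsymm k hk3 hk5] at h1
      have := xF_nonzero k
      omega
    have hs3 : σ.1.symm e3 = e3 := by
      rcases hsymm3 with h | h
      · exact h
      · exfalso
        have h1 := congrArg (fun t : leechLattice => (t : V) e3) hx
        simp only [smul_apply_mono, if_neg hc3, h] at h1
        rw [xF_5] at h1
        have := xF_nonzero e3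
        omega
    have hs5 : σ.1.symm e5 = e5 := by
      rcases hsymm5 with h | h
      · exfalso
        have h1 := σ.1.symm.injective (h.trans hs3.symm)
        exact e3_ne_e5 h1.symm
      · exact h
    apply co0_ext_u8
    intro i
    apply Subtype.ext
    funext k
    rw [smul_apply_mono, if_neg (hc k), one_smul]
    have : σ.1.symm k = k := by
      by_cases h1 : k = e3
      · rw [h1]; exact hs3
      by_cases h2 : k = e5
      · rw [h2]; exact hs5
      exact hsymm k h1 h2
    rw [this]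
  · -- all signs: not a word of the code
    exfalso
    have hc : ∀ k, k ≠ e3 → k ≠ e5 → k ∈ c.1 := by
      intro k hk3 hk5
      by_contra hk
      have h1 := congrArg (fun t : leechLattice => (t : V) k) hx
      simp only [smul_apply_mono, if_neg hk, hsymm k hk3 hk5, NegMemClass.coe_neg, Pi.neg_apply] at h1
      have := xF_nonzero k
      omega
    have hceq : c.1 = ({e3, e5} : Finset GolayPt)ᶜ := by
      ext k
      simp only [Finset.mem_compl, Finset.mem_insert, Finset.mem_singleton, not_or]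
      constructor
      · intro hk
        exact ⟨fun h => hc3 (h ▸ hk), fun h => hc5 (h ▸ hk)⟩
      · rintro ⟨h1, h2⟩
        exact hc k h1 h2
    have h4 := four_dvd_of_supports c.2
    rw [hceq, Finset.card_compl, card_golayPt, Finset.card_pair e3_ne_e5] at h4
    omega

/-! ### Normal `2`-subgroups -/

/-- The main lemma for minimal vectors. -/
theorem o2_min {v : leechLattice} (hv : sqNorm (v : V) = 32) (P : Subgroup Co0)
    (hP : ∀ a ∈ P, a • v = v) (hn : ∀ u : Co0, u • v = v → ∀ a ∈ P, u * a * u⁻¹ ∈ P)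
    (h2 : IsPGroup 2 P) : P = ⊥ := by
  rw [eq_bot_iff]
  intro p hp
  rw [Subgroup.mem_bot]
  have h32a : sqNorm (a0 : V) = 32 := by
    show sqNorm (vecOf a0L) = 32
    decide +kernel
  obtain ⟨k, hk⟩ := Cfsg.Agent.Lib.Sporadic.LeechMin.co0_transitive_min v a0 hv h32a
  have hq : k * p * k⁻¹ = 1 := by
    apply eq_one_of_signs
    · simp only [mul_smul]
      conv_lhs => rw [← hk]
      rw [inv_smul_smul, hP p hp, hk]
    · intro x hx hd
      have h3 : sqNorm ((k⁻¹ • x : leechLattice) : V) = 32 := by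
        rw [co0_sqNorm]; exact hx
      have h4 : dotInt (v : V) ((k⁻¹ • x : leechLattice) : V) = 0 := by
        have := co0_dotInt k v (k⁻¹ • x)
        rw [hk, smul_inv_smul] at this
        rw [← this]
        exact hd
      have h5 := fix_classes hv P hP hn h2 hp h3 h4
      have h6 : sqNorm ((p • (k⁻¹ • x) : leechLattice) : V) = 32 := by
        rw [co0_sqNorm]; exact h3
      rcases min_cl h6 h3 h5 with h7 | h7
      · left
        simp only [mul_smul]
        rw [h7, smul_inv_smul]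
      · right
        simp only [mul_smul]
        rw [h7, co0_map_neg, smul_inv_smul]
  have : p = k⁻¹ * (k * p * k⁻¹) * k := by group
  rw [this, hq]
  group

/-- For a minimal vector: a subgroup containing the centre, stabilising the class of `v`,
normalised by the stabiliser of the class, which is a `2`-group modulo the centre, is the centre. -/
theorem center_of_norm32 {v : leechLattice} (hv : sqNorm (v : V) = 32) (P : Subgroup Co0)
    (hneg : negCo0 ∈ P) (hP : ∀ a ∈ P, cl (a • v) = cl v)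
    (hn : ∀ u : Co0, cl (u • v) = cl v → ∀ a ∈ P, u * a * u⁻¹ ∈ P)
    (h2 : ∀ a ∈ P, ∃ k : ℕ, a ^ (2 ^ k) = 1 ∨ a ^ (2 ^ k) = negCo0) :
    ∀ a ∈ P, a = 1 ∨ a = negCo0 := by
  let Pp : Subgroup Co0 := P ⊓ MulAction.stabilizer Co0 v
  have hmem : ∀ a, a ∈ Pp ↔ a ∈ P ∧ a • v = v := fun a => Iff.rfl
  have hbot : Pp = ⊥ := by
    apply o2_min hv Pp (fun a ha => ((hmem a).1 ha).2)
    · intro u hu a ha
      obtain ⟨h3, h4⟩ := (hmem a).1 ha
      refine (hmem _).2 ⟨hn u (by rw [hu]) a h3, ?_⟩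
      have hui : u⁻¹ • v = v := by
        conv_lhs => rw [← hu]
        rw [inv_smul_smul]
      simp only [mul_smul]
      rw [hui, h4, hu]
    · rw [IsPGroup]
      rintro ⟨a, ha⟩
      obtain ⟨h3, h4⟩ := (hmem a).1 ha
      obtain ⟨k, hk⟩ := h2 a h3
      refine ⟨k, ?_⟩
      apply Subtype.ext
      have hfix : a ^ (2 ^ k) • v = v := by
        have : ∀ n : ℕ, a ^ n • v = v := by
          intro n
          induction n with
          | zero => simp
          | succ n ih => rw [pow_succ, mul_smul, h4, ih]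
        exact this _
      rcases hk with hk | hk
      · simpa using hk
      · exfalso
        rw [hk] at hfix
        apply neg_ne_self hv
        rw [← hfix]
        apply Subtype.ext
        rw [coe_negCo0_smul]
        rw [hfix]
        rfl
  intro a ha
  have h3 : sqNorm ((a • v : leechLattice) : V) = 32 := by rw [co0_sqNorm]; exact hv
  rcases min_cl h3 hv (hP a ha) with h4 | h4
  · left
    have : a ∈ Pp := (hmem a).2 ⟨ha, h4⟩
    rw [hbot, Subgroup.mem_bot] at this
    exact this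
  · right
    have h5 : negCo0 * a ∈ Pp := by
      refine (hmem _).2 ⟨P.mul_mem hneg ha, ?_⟩
      rw [negCo0_mul_smul, h4, neg_neg]
    rw [hbot, Subgroup.mem_bot] at h5
    have h6 : negCo0 * negCo0 = 1 := by
      apply co0_ext_u8
      intro i
      rw [negCo0_mul_smul, one_smul]
      apply Subtype.ext
      simp [coe_negCo0_smul]
    calc a = (negCo0 * negCo0) * a := by rw [h6, one_mul]
      _ = negCo0 * (negCo0 * a) := by rw [mul_assoc]
      _ = negCo0 := by rw [h5, mul_one]

/-! ### The stabiliser of a class of norm 64 -/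

/-- `a` permutes the classes `± 8 e_i` by `τ`. -/
def Monom (a : Co0) (τ : Equiv.Perm GolayPt) : Prop :=
  ∀ i, a • u8 i = u8 (τ i) ∨ a • u8 i = -u8 (τ i)

theorem Monom.one : Monom 1 1 := fun i => Or.inl (one_smul _ _)

theorem Monom.mul {a b : Co0} {σ τ : Equiv.Perm GolayPt} (ha : Monom a σ) (hb : Monom b τ) :
    Monom (a * b) (σ * τ) := by
  intro i
  rw [mul_smul]
  rcases hb i with h | h
  · rw [h]
    exact ha (τ i)
  · rw [h, co0_map_neg]
    rcases ha (τ i) with h1 | h1
    · right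
      rw [h1]
      rfl
    · left
      rw [h1, neg_neg]
      rfl

theorem Monom.inv {a : Co0} {σ : Equiv.Perm GolayPt} (ha : Monom a σ) : Monom a⁻¹ σ⁻¹ := by
  intro i
  have h := ha (σ⁻¹ i)
  have e : σ (σ⁻¹ i) = i := by simp
  rw [e] at h
  rcases h with h | h
  · left
    rw [← h, inv_smul_smul]
  · right
    have : a⁻¹ • u8 i = a⁻¹ • (-(a • u8 (σ⁻¹ i))) := by
      rw [h, neg_neg]
    rw [this, co0_map_neg, inv_smul_smul]

theorem Monom.pow {a : Co0} {σ : Equiv.Perm GolayPt} (ha : Monom a σ) (n : ℕ) : Monom (a ^ n) (σ ^ n) := by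
  induction n with
  | zero => simpa using Monom.one
  | succ n ih =>
    rw [pow_succ, pow_succ]
    exact ih.mul ha

theorem u8_inj_abs {i j : GolayPt} (h : u8 i = u8 j ∨ u8 i = -u8 j) : i = j := by
  by_contra hne
  have h1 : (u8 i : V) i = 8 := by rw [coe_u8]; simp
  rcases h with h | h
  · have h2 := congrArg (fun t : leechLattice => (t : V) i) h
    simp only [coe_u8, Pi.single_eq_same, Pi.single_eq_of_ne hne] at h2
    omega
  · have h2 := congrArg (fun t : leechLattice => (t : V) i) h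
    simp only [NegMemClass.coe_neg, Pi.neg_apply, coe_u8, Pi.single_eq_same, Pi.single_eq_of_ne hne] at h2
    omega

theorem Monom.unique {a : Co0} {σ τ : Equiv.Perm GolayPt} (h1 : Monom a σ) (h2 : Monom a τ) : σ = τ := by
  refine Equiv.ext fun i => u8_inj_abs ?_
  rcases h1 i with h | h <;> rcases h2 i with h' | h'
  · left; rw [← h, h']
  · right; rw [← h, h']
  · right; rw [← neg_eq_iff_eq_neg, ← h, h']
  · left; rw [← neg_inj, ← h, h']

theorem monom_monoElt (σ : M24) (c : supports (golayCode : Set (GolayPt → ZMod 2))) :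
    Monom (monoElt σ c) σ.1 := by
  intro i
  have h : ((monoElt σ c • u8 i : leechLattice) : V) = Pi.single (σ.1 i) (if σ.1 i ∈ c.1 then -8 else 8) := by
    rw [monoElt_smul, coe_u8, signedPerm_single]
  by_cases h1 : σ.1 i ∈ c.1
  · right
    apply Subtype.ext
    rw [h, if_pos h1]
    simp [coe_u8, Pi.single_neg]
  · left
    apply Subtype.ext
    rw [h, if_neg h1]
    rfl

theorem monom_perm (σ : M24) : Monom (permCo0 σ.1 σ.2) σ.1 := by
  intro i
  left
  apply Subtype.ext
  rw [coe_permCo0_smul, coe_u8, coe_u8]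
  funext k
  simp only [permV]
  by_cases h : k = σ.1 i
  · subst h
    simp
  · have h1 : σ.1.symm k ≠ i := by
      intro h2
      apply h
      rw [← h2]
      simp
    simp [Pi.single_eq_of_ne h1, Pi.single_eq_of_ne h]

theorem exists_form {a : Co0} (ha : a ∈ N) :
    ∃ (σ : M24) (c : supports (golayCode : Set (GolayPt → ZMod 2))), a = monoElt σ c := by
  rw [mem_N_iff_pres] at ha
  obtain ⟨⟨σ, c⟩, hσc⟩ := monoEquiv.surjective ⟨a, ha⟩
  exact ⟨σ, c, (congrArg Subtype.val hσc).symm⟩

theorem monom_mem_N {a : Co0} {σ : Equiv.Perm GolayPt} (ha : Monom a σ) : a ∈ N := by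
  rw [mem_N_iff]
  have hcross : ∀ i : GolayPt, cl (u8 i) = cl v8 := by
    intro i
    apply cl_crossL
    rw [← mem_stdCross_iff]
    exact u8_mem_stdCross i
  rw [← hcross none, smul_cl]
  rcases ha none with h | h
  · rw [h, hcross, hcross]
  · rw [h, cl_neg, hcross, hcross]

/-- The sign changes. -/
def signSub : Subgroup Co0 where
  carrier := {a | Monom a 1}
  one_mem' := Monom.one
  mul_mem' := by
    intro a b ha hb
    have := Monom.mul ha hb
    simpa using this
  inv_mem' := by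
    intro a ha
    have := Monom.inv ha
    simpa using this

theorem card_signSub_le : Nat.card signSub ≤ 4096 := by
  rw [← card_supports]
  have hf : ∀ a : signSub, ∃ c : supports (golayCode : Set (GolayPt → ZMod 2)), (a : Co0) = monoElt 1 c := by
    rintro ⟨a, ha⟩
    obtain ⟨σ, c, rfl⟩ := exists_form (monom_mem_N ha)
    have h1 : σ.1 = 1 := Monom.unique (monom_monoElt σ c) ha
    obtain rfl : σ = 1 := Subtype.ext h1
    exact ⟨c, rfl⟩
  choose f hf using hf
  apply Nat.card_le_card_of_injective f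
  intro a b hab
  apply Subtype.ext
  rw [hf a, hf b, hab]

theorem neg_mem_signSub : negCo0 ∈ signSub := by
  intro i
  right
  apply Subtype.ext
  rw [coe_negCo0_smul]
  rfl

/-- The image of the sign changes in the first Conway group. -/
theorem card_map_signSub : Nat.card (signSub.map mkC) ≤ 2048 := by
  let f : signSub →* Spor.Co1 := mkC.comp signSub.subtype
  have hrange : f.range = signSub.map mkC := by
    ext y
    constructor
    · rintro ⟨a, rfl⟩
      exact ⟨a.1, a.2, rfl⟩
    · rintro ⟨a, ha, rfl⟩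
      exact ⟨⟨a, ha⟩, rfl⟩
  have h1 := Subgroup.card_mul_index f.ker
  rw [Subgroup.index_ker, hrange] at h1
  have h2 : 2 ≤ Nat.card f.ker := by
    haveI : Finite f.ker := inferInstance
    have : Nontrivial f.ker := by
      refine ⟨⟨⟨⟨negCo0, neg_mem_signSub⟩, ?_⟩, 1, ?_⟩⟩
      · rw [MonoidHom.mem_ker]
        exact mkC_neg
      · intro h
        exact negCo0_ne_one (congrArg (fun t : f.ker => ((t : signSub) : Co0)) h)
    exact Finite.one_lt_card_iff_nontrivial.2 this
  have h3 := card_signSub_le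
  rw [← h1] at h3
  have h4 : 0 < Nat.card (signSub.map mkC) := Nat.card_pos
  nlinarith

/-- A subgroup of the stabiliser of the standard class, normalised by this stabiliser and a `2`-group
modulo the centre consists of sign changes. -/
theorem le_signSub (P : Subgroup Co0) (hP : P ≤ N) (hn : ∀ u ∈ N, ∀ a ∈ P, u * a * u⁻¹ ∈ P)
    (h2 : ∀ a ∈ P, ∃ k : ℕ, a ^ (2 ^ k) = 1 ∨ a ^ (2 ^ k) = negCo0) : P ≤ signSub := by
  let T : Subgroup M24 :=
    { carrier := {τ | ∃ a ∈ P, Monom a τ.1}
      one_mem' := ⟨1, P.one_mem, Monom.one⟩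
      mul_mem' := by
        rintro x y ⟨a, ha, ha'⟩ ⟨b, hb, hb'⟩
        exact ⟨a * b, P.mul_mem ha hb, ha'.mul hb'⟩
      inv_mem' := by
        rintro x ⟨a, ha, ha'⟩
        exact ⟨a⁻¹, P.inv_mem ha, ha'.inv⟩ }
  have hT : T.Normal := by
    refine ⟨?_⟩
    rintro τ ⟨a, ha, ha'⟩ σ
    refine ⟨permCo0 σ.1 σ.2 * a * (permCo0 σ.1 σ.2)⁻¹, hn _ (monom_mem_N (monom_perm σ)) a ha, ?_⟩
    exact ((monom_perm σ).mul ha').mul (monom_perm σ).inv
  haveI := Cfsg.Agent.Lib.Compute.M24.m24_simple
  have hbot : T = ⊥ := by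
    rcases hT.eq_bot_or_eq_top with h | h
    · exact h
    · exfalso
      haveI : Fact (Nat.Prime 23) := ⟨by norm_num⟩
      have hdvd : 23 ∣ Nat.card M24 := by
        rw [Cfsg.Agent.Lib.Sporadic.M24Basic.card_M24]
        norm_num
      obtain ⟨τ, hτ⟩ := exists_prime_orderOf_dvd_card' 23 hdvd
      have hmem : τ ∈ T := by rw [h]; exact Subgroup.mem_top _
      obtain ⟨a, ha, ha'⟩ := hmem
      obtain ⟨k, hk⟩ := h2 a ha
      have h3 := ha'.pow (2 ^ k)
      have h4 : (τ.1 ^ (2 ^ k) : Equiv.Perm GolayPt) = 1 := by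
        rcases hk with hk | hk
        · rw [hk] at h3
          exact h3.unique Monom.one
        · rw [hk] at h3
          exact h3.unique neg_mem_signSub
      have h5 : τ ^ (2 ^ k) = 1 := Subtype.ext h4
      have h6 := orderOf_dvd_of_pow_eq_one h5
      rw [hτ] at h6
      have h7 := (Nat.prime_dvd_prime_iff_eq (by norm_num) Nat.prime_two).1
        ((Nat.Prime.dvd_of_dvd_pow (by norm_num) h6))
      omega
  intro a ha
  obtain ⟨σ, c, rfl⟩ := exists_form (hP ha)
  have h3 : σ ∈ T := ⟨_, ha, monom_monoElt σ c⟩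
  rw [hbot, Subgroup.mem_bot] at h3
  subst h3
  exact monom_monoElt 1 c

/-- The version for the class of any vector of norm `64`. -/
theorem conj_le_signSub {v : leechLattice} {k : Co0} (hk : k • v = v8) (P : Subgroup Co0)
    (hP : ∀ a ∈ P, cl (a • v) = cl v)
    (hn : ∀ u : Co0, cl (u • v) = cl v → ∀ a ∈ P, u * a * u⁻¹ ∈ P)
    (h2 : ∀ a ∈ P, ∃ k : ℕ, a ^ (2 ^ k) = 1 ∨ a ^ (2 ^ k) = negCo0) :
    P.map (MulAut.conj k).toMonoidHom ≤ signSub := by
  let P' : Subgroup Co0 := P.map (MulAut.conj k).toMonoidHom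
  have hmem : ∀ a, a ∈ P' ↔ k⁻¹ * a * k ∈ P := by
    intro a
    constructor
    · rintro ⟨b, hb, rfl⟩
      simpa [mul_assoc] using hb
    · intro h
      exact ⟨_, h, by simp [mul_assoc]⟩
  apply le_signSub
  · intro a ha
    have h3 := hP _ ((hmem a).1 ha)
    rw [mem_N_iff_v8]
    have h4 := cl_smul_congr k h3
    rw [hk] at h4
    rw [← h4]
    congr 1
    simp only [mul_smul]
    rw [hk]
    simp [hk]
  · intro u hu a ha
    rw [hmem]
    have h3 : cl ((k⁻¹ * u * k) • v) = cl v := by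
      have hu' := mem_N_iff_v8.1 hu
      simp only [mul_smul]
      rw [hk]
      rw [← hk] at hu' ⊢
      have h5 := cl_smul_congr k⁻¹ hu'
      simpa using h5
    have h4 := hn _ h3 _ ((hmem a).1 ha)
    have e : k⁻¹ * (u * a * u⁻¹) * k = (k⁻¹ * u * k) * (k⁻¹ * a * k) * (k⁻¹ * u * k)⁻¹ := by group
    rw [e]
    exact h4
  · intro a ha
    obtain ⟨n, hn'⟩ := h2 _ ((hmem a).1 ha)
    refine ⟨n, ?_⟩
    have e : (k⁻¹ * a * k) ^ (2 ^ n) = k⁻¹ * a ^ (2 ^ n) * k := by
      have := (MulAut.conj k⁻¹).toMonoidHom.map_pow a (2 ^ n)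
      simpa using this.symm
    rw [e] at hn'
    rcases hn' with h | h
    · left
      have : a ^ (2 ^ n) = k * (k⁻¹ * a ^ (2 ^ n) * k) * k⁻¹ := by group
      rw [this, h]
      group
    · right
      have : a ^ (2 ^ n) = k * (k⁻¹ * a ^ (2 ^ n) * k) * k⁻¹ := by group
      rw [this, h]
      have hc := Subgroup.mem_center_iff.1 negCo0_mem_center k
      rw [hc]
      group

/-- The image of a conjugate of the sign changes. -/
noncomputable def Sb (k : Co0) : Subgroup Spor.Co1 := (signSub.map (MulAut.conj k⁻¹).toMonoidHom).map mkC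

theorem mem_Sb {k : Co0} {y : Spor.Co1} : y ∈ Sb k ↔ ∃ a ∈ signSub, mkC (k⁻¹ * a * k) = y := by
  constructor
  · rintro ⟨_, ⟨a, ha, rfl⟩, rfl⟩
    refine ⟨a, ha, ?_⟩
    simp
  · rintro ⟨a, ha, rfl⟩
    exact ⟨_, ⟨a, ha, rfl⟩, by simp⟩

theorem card_Sb (k : Co0) : Nat.card (Sb k) = Nat.card (signSub.map mkC) := by
  apply Nat.card_congr
  refine Equiv.ofBijective (fun x => ⟨mkC k * x.1 * (mkC k)⁻¹, ?_⟩) ⟨?_, ?_⟩
  · obtain ⟨a, ha, e⟩ := mem_Sb.1 x.2
    refine ⟨a, ha, ?_⟩
    rw [← e, ← map_inv, ← map_mul, ← map_mul]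
    congr 1
    group
  · intro x y h
    apply Subtype.ext
    have := congrArg Subtype.val h
    simpa using this
  · rintro ⟨y, a, ha, rfl⟩
    refine ⟨⟨mkC (k⁻¹ * a * k), mem_Sb.2 ⟨a, ha, rfl⟩⟩, ?_⟩
    apply Subtype.ext
    show mkC k * mkC (k⁻¹ * a * k) * (mkC k)⁻¹ = mkC a
    rw [← map_inv, ← map_mul, ← map_mul]
    congr 1
    group

theorem le_Sb {v : leechLattice} {k : Co0} (hk : k • v = v8) (P : Subgroup Co0)
    (hP : ∀ a ∈ P, cl (a • v) = cl v)
    (hn : ∀ u : Co0, cl (u • v) = cl v → ∀ a ∈ P, u * a * u⁻¹ ∈ P)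
    (h2 : ∀ a ∈ P, ∃ k : ℕ, a ^ (2 ^ k) = 1 ∨ a ^ (2 ^ k) = negCo0) :
    P.map mkC ≤ Sb k := by
  rintro _ ⟨a, ha, rfl⟩
  refine mem_Sb.2 ⟨k * a * k⁻¹, conj_le_signSub hk P hP hn h2 ⟨a, ha, rfl⟩, ?_⟩
  congr 1
  group

theorem card_map_of_norm64 {v : leechLattice} (hv : sqNorm (v : V) = 64) (P : Subgroup Co0)
    (hP : ∀ a ∈ P, cl (a • v) = cl v)
    (hn : ∀ u : Co0, cl (u • v) = cl v → ∀ a ∈ P, u * a * u⁻¹ ∈ P)
    (h2 : ∀ a ∈ P, ∃ k : ℕ, a ^ (2 ^ k) = 1 ∨ a ^ (2 ^ k) = negCo0) :
    Nat.card (P.map mkC) ≤ 2048 := by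
  obtain ⟨k, hk⟩ := co0_transitive_64 v v8 hv (norm_u8 none)
  refine le_trans (Subgroup.card_le_of_le (le_Sb hk P hP hn h2)) ?_
  rw [card_Sb]
  exact card_map_signSub

/-! ### Sign changes are commuting involutions -/

theorem signSub_mul_self {a : Co0} (ha : a ∈ signSub) : a * a = 1 := by
  apply co0_ext_u8
  intro i
  rw [mul_smul, one_smul]
  rcases ha i with h | h
  · have h' : a • u8 i = u8 i := h
    rw [h', h']
  · have h' : a • u8 i = -u8 i := h
    rw [h', co0_map_neg, h', neg_neg]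

theorem signSub_comm {a b : Co0} (ha : a ∈ signSub) (hb : b ∈ signSub) : a * b = b * a := by
  apply co0_ext_u8
  intro i
  rw [mul_smul, mul_smul]
  rcases ha i with h | h <;> rcases hb i with h' | h' <;>
    · have h1 : a • u8 i = _ := h
      have h2 : b • u8 i = _ := h'
      simp only [Equiv.Perm.one_apply] at h1 h2
      simp only [h1, h2, co0_map_neg]

theorem Sb_comm {k : Co0} {x y : Spor.Co1} (hx : x ∈ Sb k) (hy : y ∈ Sb k) : x * y = y * x := by
  obtain ⟨a, ha, rfl⟩ := mem_Sb.1 hx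
  obtain ⟨b, hb, rfl⟩ := mem_Sb.1 hy
  rw [← map_mul, ← map_mul]
  congr 1
  have e : ∀ c d : Co0, (k⁻¹ * c * k) * (k⁻¹ * d * k) = k⁻¹ * (c * d) * k := by
    intro c d
    group
  rw [e, e, signSub_comm ha hb]

theorem Sb_sq {k : Co0} {x : Spor.Co1} (hx : x ∈ Sb k) : x * x = 1 := by
  obtain ⟨a, ha, rfl⟩ := mem_Sb.1 hx
  rw [← map_mul]
  have e : (k⁻¹ * a * k) * (k⁻¹ * a * k) = k⁻¹ * (a * a) * k := by group
  rw [e, signSub_mul_self ha]
  simp

/-! ### The permutations -/

theorem permCo0_mul (σ τ : M24) : permCo0 (σ * τ).1 (σ * τ).2 = permCo0 σ.1 σ.2 * permCo0 τ.1 τ.2 := by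
  apply co0_ext_u8
  intro i
  apply Subtype.ext
  rw [mul_smul, coe_permCo0_smul, coe_permCo0_smul, coe_permCo0_smul]
  rfl

/-- The homomorphism from `M24` to the first Conway group. -/
noncomputable def rho (k : Co0) : M24 →* Spor.Co1 where
  toFun σ := mkC (k⁻¹ * permCo0 σ.1 σ.2 * k)
  map_one' := by
    have : permCo0 (1 : M24).1 (1 : M24).2 = 1 := by
      have h := permCo0_mul 1 1
      have h2 : (1 : M24) * 1 = 1 := mul_one _
      rw [h2] at h
      exact (mul_eq_left.1 h.symm)
    rw [this]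
    simp
  map_mul' σ τ := by
    rw [← map_mul, permCo0_mul]
    congr 1
    group

theorem rho_apply (k : Co0) (σ : M24) : rho k σ = mkC (k⁻¹ * permCo0 σ.1 σ.2 * k) := rfl

theorem monom_neg_mul {a : Co0} {τ : Equiv.Perm GolayPt} (ha : Monom a τ) : Monom (negCo0 * a) τ := by
  have h := (show Monom negCo0 1 from neg_mem_signSub).mul ha
  simpa using h

/-- A permutation with the same image as a sign change is trivial. -/
theorem perm_of_mkC {σ : M24} {a : Co0} (ha : a ∈ signSub) (h : mkC (permCo0 σ.1 σ.2) = mkC a) : σ = 1 := by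
  have h1 : mkC ((permCo0 σ.1 σ.2)⁻¹ * a) = 1 := by
    rw [map_mul, map_inv, h]
    simp
  rw [mkC_eq_one_iff] at h1
  apply Subtype.ext
  rcases h1 with h1 | h1
  · have h2 : a = permCo0 σ.1 σ.2 := by
      have := congrArg (fun t => permCo0 σ.1 σ.2 * t) h1
      simpa using this
    rw [h2] at ha
    exact (monom_perm σ).unique ha
  · have h2 : a = permCo0 σ.1 σ.2 * negCo0 := by
      have := congrArg (fun t => permCo0 σ.1 σ.2 * t) h1
      simpa using this
    have hc := Subgroup.mem_center_iff.1 negCo0_mem_center (permCo0 σ.1 σ.2)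
    rw [hc] at h2
    have h3 : Monom a σ.1 := by
      rw [h2]
      exact monom_neg_mul (monom_perm σ)
    exact h3.unique ha

theorem rho_injective (k : Co0) : Function.Injective (rho k) := by
  rw [injective_iff_map_eq_one]
  intro σ h
  rw [rho_apply] at h
  apply perm_of_mkC (Subgroup.one_mem signSub)
  rw [map_one]
  have e : permCo0 σ.1 σ.2 = k * (k⁻¹ * permCo0 σ.1 σ.2 * k) * k⁻¹ := by group
  rw [e, map_mul, map_mul, h]
  simp

/-- The decomposition of an element of `N`. -/
theorem exists_decomp {a : Co0} (ha : a ∈ N) : ∃ s ∈ signSub, ∃ σ : M24, a = s * permCo0 σ.1 σ.2 := by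
  obtain ⟨σ, c, rfl⟩ := exists_form ha
  refine ⟨signCo0 c.1 c.2, ?_, σ, rfl⟩
  have h1 := (monom_monoElt σ c).mul (monom_perm σ).inv
  have h2 : monoElt σ c * (permCo0 σ.1 σ.2)⁻¹ = signCo0 c.1 c.2 := by
    show signCo0 c.1 c.2 * permCo0 σ.1 σ.2 * (permCo0 σ.1 σ.2)⁻¹ = _
    group
  rw [h2] at h1
  have h3 : σ.1 * σ.1⁻¹ = 1 := mul_inv_cancel _
  rw [h3] at h1
  exact h1

end Cfsg.Agent.Lib.Sporadic.LeechLocal
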