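import Mathlib
import Cfsg.Agent.Lib.Sporadic.LeechFast
import Cfsg.Agent.Lib.Sporadic.LeechFast2
import Cfsg.Agent.Lib.Sporadic.LeechLocal

/-!
# The action of `Co0` on an explicit list of vectors up to sign

From tables of generators on a list of vectors up to sign, which form a chain of half the order of `Co0`, we get that the
quotient of `Co0` by its centre is the permutation group of the chain.
-/

set_option autoImplicit false

namespace Cfsg.Agent.Lib.Sporadic.LeechPM

open Cfsg Cfsg.Agent.Lib.Sporadic.GolayCore Cfsg.Agent.Lib.Sporadic.LeechBasic Cfsg.Agent.Lib.Sporadic.LeechAut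
  Cfsg.Agent.Lib.Sporadic.LeechMat Cfsg.Agent.Lib.Sporadic.LeechKey Cfsg.Agent.Lib.Sporadic.LeechEnum
  Cfsg.Agent.Lib.Sporadic.LeechA0 Cfsg.Agent.Lib.Sporadic.LeechMcLData Cfsg.Agent.Lib.Sporadic.LeechMcL
  Cfsg.Agent.Lib.Sporadic.LeechRep Cfsg.Agent.Lib.Sporadic.LeechGroups Cfsg.Agent.Lib.Sporadic.LeechRep2
  Cfsg.Agent.Lib.Sporadic.LeechFast Cfsg.Agent.Lib.Sporadic.LeechAct
  Cfsg.Agent.Lib.Compute.PermCert Cfsg.Agent.Lib.Compute.OutChain Cfsg.Agent.Lib.Compute.OutFinal

/-- The opposite of a list. -/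
def negL (l : List ℤ) : List ℤ := l.map fun a => -a

theorem length_negL (l : List ℤ) : (negL l).length = l.length := by simp [negL]

theorem negL_negL (l : List ℤ) : negL (negL l) = l := by simp [negL]

theorem vecOf_negL (l : List ℤ) : vecOf (negL l) = -vecOf l := by
  funext p
  show (l.map fun a => -a).getD (idx p) 0 = -(l.getD (idx p) 0)
  rw [List.getD_eq_getElem?_getD, List.getElem?_map, List.getD_eq_getElem?_getD]
  cases l[idx p]? <;> simp

section Rep

variable {X : List (List ℤ)} {N : ℕ} (hN : X.length = N) (hlen : ∀ l ∈ X, l.length = 24)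
  (hmem : ∀ l ∈ X, vecOf l ∈ leechLattice)
  (hnd : ∀ i j : Fin N, X.getD i [] = X.getD j [] ∨ X.getD i [] = negL (X.getD j []) → i = j)

/-- The vectors of a list and their opposites. -/
def dblL (X : List (List ℤ)) : List (List ℤ) := X ++ X.map negL

include hmem in
theorem dbl_mem : ∀ l ∈ dblL X, vecOf l ∈ leechLattice := by
  intro l hl
  rcases List.mem_append.1 hl with h | h
  · exact hmem l h
  · obtain ⟨a, ha, rfl⟩ := List.mem_map.1 h
    rw [vecOf_negL]
    exact neg_mem (hmem a ha)

include hlen in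
theorem dbl_len : ∀ l ∈ dblL X, l.length = 24 := by
  intro l hl
  rcases List.mem_append.1 hl with h | h
  · exact hlen l h
  · obtain ⟨a, ha, rfl⟩ := List.mem_map.1 h
    rw [length_negL]
    exact hlen a ha

/-- The point of the lattice of an index. -/
abbrev pt (hN : X.length = N) (hmem : ∀ l ∈ X, vecOf l ∈ leechLattice) (i : Fin N) : leechLattice := ptOf hN hmem i

include hN in
theorem mem_dbl_iff {x : leechLattice} : x ∈ latSet (dblL X) ↔ ∃ i : Fin N, x = pt hN hmem i ∨ x = -pt hN hmem i := by
  constructor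
  · rintro ⟨l, hl, e⟩
    rcases List.mem_append.1 hl with h | h
    · obtain ⟨i, hi, rfl⟩ := List.mem_iff_getElem.1 h
      refine ⟨⟨i, hN ▸ hi⟩, Or.inl (Subtype.ext ?_)⟩
      show _ = vecOf (X.getD i [])
      rw [List.getD_eq_getElem _ _ hi, e]
    · obtain ⟨a, ha, rfl⟩ := List.mem_map.1 h
      obtain ⟨i, hi, rfl⟩ := List.mem_iff_getElem.1 ha
      refine ⟨⟨i, hN ▸ hi⟩, Or.inr (Subtype.ext ?_)⟩
      show _ = -vecOf (X.getD i [])
      rw [List.getD_eq_getElem _ _ hi, ← e, vecOf_negL]
  · rintro ⟨i, rfl | rfl⟩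
    · exact ⟨X.getD i [], List.mem_append_left _ (getD_mem i.2 hN), rfl⟩
    · refine ⟨negL (X.getD i []), List.mem_append_right _ (List.mem_map_of_mem (getD_mem i.2 hN)), ?_⟩
      rw [vecOf_negL]
      rfl

include hlen hnd in
theorem pt_pm {i j : Fin N} (h : pt hN hmem i = pt hN hmem j ∨ pt hN hmem i = -pt hN hmem j) : i = j := by
  apply hnd
  rcases h with h | h
  · left
    exact vecOf_inj (congrArg Subtype.val h) (hlen _ (getD_mem i.2 hN)) (hlen _ (getD_mem j.2 hN))
  · right
    have h1 : vecOf (X.getD i []) = vecOf (negL (X.getD j [])) := by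
      rw [vecOf_negL]
      exact congrArg Subtype.val h
    refine vecOf_inj h1 (hlen _ (getD_mem i.2 hN)) ?_
    rw [length_negL]
    exact hlen _ (getD_mem j.2 hN)

variable (H : Subgroup Co0) (hpres : ∀ g ∈ H, ∀ x ∈ latSet (dblL X), g • x ∈ latSet (dblL X))

include hN hpres in
theorem exists_imgP (g : H) (i : Fin N) :
    ∃ j : Fin N, (g : Co0) • pt hN hmem i = pt hN hmem j ∨ (g : Co0) • pt hN hmem i = -pt hN hmem j :=
  (mem_dbl_iff hN hmem).1 (hpres g g.2 _ ((mem_dbl_iff hN hmem).2 ⟨i, Or.inl rfl⟩))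

/-- The map on indices. -/
noncomputable def fnOfP (g : H) (i : Fin N) : Fin N := Classical.choose (exists_imgP hN hmem H hpres g i)

theorem fnOfP_spec (g : H) (i : Fin N) :
    (g : Co0) • pt hN hmem i = pt hN hmem (fnOfP hN hmem H hpres g i) ∨
      (g : Co0) • pt hN hmem i = -pt hN hmem (fnOfP hN hmem H hpres g i) :=
  Classical.choose_spec (exists_imgP hN hmem H hpres g i)

include hlen hnd in
theorem fnOfP_inj (g : H) : Function.Injective (fnOfP hN hmem H hpres g) := by
  intro i j h
  have h1 := fnOfP_spec hN hmem H hpres g i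
  have h2 := fnOfP_spec hN hmem H hpres g j
  rw [h] at h1
  apply pt_pm hN hlen hmem hnd
  rcases h1 with h1 | h1 <;> rcases h2 with h2 | h2
  · left
    exact MulAction.injective (g : Co0) (h1.trans h2.symm)
  · right
    apply MulAction.injective (g : Co0)
    show (g : Co0) • _ = (g : Co0) • _
    rw [co0_map_neg, h1, h2, neg_neg]
  · right
    apply MulAction.injective (g : Co0)
    show (g : Co0) • _ = (g : Co0) • _
    rw [co0_map_neg, h1, h2]
  · left
    exact MulAction.injective (g : Co0) (h1.trans h2.symm)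

/-- The action on the list up to sign. -/
noncomputable def repP : H →* Equiv.Perm (Fin N) :=
  MonoidHom.mk' (fun g => Equiv.ofBijective (fnOfP hN hmem H hpres g)
    (Finite.injective_iff_bijective.1 (fnOfP_inj hN hlen hmem hnd H hpres g))) (by
    intro a b
    ext i
    apply congrArg Fin.val
    apply pt_pm hN hlen hmem hnd
    show pt hN hmem (fnOfP hN hmem H hpres (a * b) i) = pt hN hmem (fnOfP hN hmem H hpres a (fnOfP hN hmem H hpres b i)) ∨
      pt hN hmem (fnOfP hN hmem H hpres (a * b) i) = -pt hN hmem (fnOfP hN hmem H hpres a (fnOfP hN hmem H hpres b i))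
    have h1 := fnOfP_spec hN hmem H hpres (a * b) i
    have h2 := fnOfP_spec hN hmem H hpres b i
    have h3 := fnOfP_spec hN hmem H hpres a (fnOfP hN hmem H hpres b i)
    have h4 : ((a * b : H) : Co0) • pt hN hmem i = (a : Co0) • ((b : Co0) • pt hN hmem i) := by
      show ((a : Co0) * (b : Co0)) • _ = _
      rw [mul_smul]
    rw [h4] at h1
    set u := pt hN hmem (fnOfP hN hmem H hpres (a * b) i)
    set v := pt hN hmem (fnOfP hN hmem H hpres a (fnOfP hN hmem H hpres b i))
    set w := pt hN hmem (fnOfP hN hmem H hpres b i)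
    have h5 : (a : Co0) • ((b : Co0) • pt hN hmem i) = v ∨ (a : Co0) • ((b : Co0) • pt hN hmem i) = -v := by
      rcases h2 with h2 | h2 <;> rcases h3 with h3 | h3 <;> rw [h2]
      · exact Or.inl h3
      · exact Or.inr h3
      · rw [co0_map_neg, h3]
        exact Or.inr rfl
      · rw [co0_map_neg, h3, neg_neg]
        exact Or.inl rfl
    rcases h1 with h1 | h1 <;> rcases h5 with h5 | h5
    · exact Or.inl (h1.symm.trans h5)
    · exact Or.inr (h1.symm.trans h5)
    · right
      have h6 := h1.symm.trans h5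
      rw [← h6, neg_neg]
    · left
      have := h1.symm.trans h5
      exact neg_injective this)

theorem repP_spec (g : H) (i : Fin N) :
    (g : Co0) • pt hN hmem i = pt hN hmem (repP hN hlen hmem hnd H hpres g i) ∨
      (g : Co0) • pt hN hmem i = -pt hN hmem (repP hN hlen hmem hnd H hpres g i) :=
  fnOfP_spec hN hmem H hpres g i

variable {w m tw tm : ℕ}

/-- A permutation given by a table in the image of the action, from a check on the list. -/
theorem permOf_mem_rangeP {e : Elt} (ve : validB w m N e = true) {g : Co0} (hg : g ∈ H) {f : List ℤ → List ℤ}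
    (hf : Acts g f)
    (hc : ∀ i, i < N → f (X.getD i []) = X.getD (get w m e.f i) [] ∨ f (X.getD i []) = negL (X.getD (get w m e.f i) [])) :
    permOf w m N e ∈ (repP hN hlen hmem hnd H hpres).range := by
  refine ⟨⟨g, hg⟩, ?_⟩
  ext i
  apply congrArg Fin.val
  apply pt_pm hN hlen hmem hnd
  have h1 := repP_spec hN hlen hmem hnd H hpres ⟨g, hg⟩ i
  have h2 : g • pt hN hmem i = pt hN hmem (permOf w m N e i) ∨ g • pt hN hmem i = -pt hN hmem (permOf w m N e i) := by
    have e1 : get w m e.f i = (permOf w m N e i : ℕ) := gt_eq ve i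
    have e2 : ((g • pt hN hmem i : leechLattice) : GolayPt → ℤ) = vecOf (f (X.getD i [])) := hf _ _
    rcases hc i i.2 with h | h
    · left
      apply Subtype.ext
      rw [e2, h, e1]
      rfl
    · right
      apply Subtype.ext
      rw [e2, h, e1, vecOf_negL]
      rfl
  simp only at h1
  rcases h1 with h1 | h1 <;> rcases h2 with h2 | h2
  · left; exact h1.symm.trans h2
  · right; exact h1.symm.trans h2
  · right
    have := h1.symm.trans h2
    rw [← this, neg_neg]
  · left
    exact neg_injective (h1.symm.trans h2)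

include hN hlen hmem hnd in
/-- The representation from a chain of half the order of `Co0`. -/
theorem rep_pm {ls : List Lv} (hc : chkChain w m N tw tm ls = true)
    (hg : ∀ e ∈ hdG ls, ∃ g : Co0, ∃ f : List ℤ → List ℤ, Acts g f ∧
      ∀ i, i < N → f (X.getD i []) = X.getD (get w m e.f i) [] ∨ f (X.getD i []) = negL (X.getD (get w m e.f i) []))
    (hS : 4157776806543360000 ≤ ordC ls) :
    ∃ K : Subgroup (Equiv.Perm (Fin N)), ChainFor w m N tw tm K ls ∧ Nonempty ((Co0 ⧸ Subgroup.center Co0) ≃* K) := by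
  have hfin : (latSet (dblL X)).Finite := latSet_finite (N := (dblL X).length) rfl (dbl_mem hmem)
  set H := presSub ⊤ (dblL X) hfin with hH
  have hpres : ∀ g ∈ H, ∀ x ∈ latSet (dblL X), g • x ∈ latSet (dblL X) := fun g hg => hg.2
  set φ := repP hN hlen hmem hnd H hpres with hφ
  have hv := hdG_valid hc
  have hg' : ∀ e ∈ hdG ls, permOf w m N e ∈ φ.range := by
    intro e he
    obtain ⟨g, f, hf, hchk⟩ := hg e he
    have ve : validB w m N e = true := List.all_eq_true.1 hv e he
    refine permOf_mem_rangeP hN hlen hmem hnd H hpres ve (g := g) ⟨trivial, ?_⟩ hf hchk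
    intro x hx
    have h3 : ∀ i : Fin N, get w m e.f i < N := by
      intro i
      have h4 : gt w m e i = (permOf w m N e i : ℕ) := gt_eq ve i
      have h5 : gt w m e i = get w m e.f i := rfl
      rw [← h5, h4]
      exact Fin.isLt _
    have key : ∀ i : Fin N, g • pt hN hmem i ∈ latSet (dblL X) := by
      intro i
      have e2 : ((g • pt hN hmem i : leechLattice) : GolayPt → ℤ) = vecOf (f (X.getD i [])) := hf _ _
      rcases hchk i i.2 with h | h
      · exact ⟨_, List.mem_append_left _ (getD_mem (h3 i) hN), by rw [e2, h]⟩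
      · exact ⟨_, List.mem_append_right _ (List.mem_map_of_mem (getD_mem (h3 i) hN)), by rw [e2, h]⟩
    obtain ⟨i, rfl | rfl⟩ := (mem_dbl_iff hN hmem).1 hx
    · exact key i
    · rw [co0_map_neg]
      obtain ⟨l, hl, e3⟩ := key i
      refine ⟨negL l, ?_, ?_⟩
      · rcases List.mem_append.1 hl with h | h
        · exact List.mem_append_right _ (List.mem_map_of_mem h)
        · obtain ⟨a, ha, rfl⟩ := List.mem_map.1 h
          rw [negL_negL]
          exact List.mem_append_left _ ha
      · rw [vecOf_negL, e3]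
        rfl
  have hle : genGroup w m N (hdG ls) ≤ φ.range := by
    refine (Subgroup.closure_le _).mpr ?_
    rintro _ ⟨e, he, rfl⟩
    exact hg' e he
  have h1 := (chain_lower ls φ.range hc hle).1
  -- the opposite map
  have hneg : negCo0 ∈ H := by
    refine ⟨trivial, fun x hx => ?_⟩
    obtain ⟨i, rfl | rfl⟩ := (mem_dbl_iff hN hmem).1 hx
    · refine (mem_dbl_iff hN hmem).2 ⟨i, Or.inr (Subtype.ext ?_)⟩
      rw [coe_negCo0_smul]
      rfl
    · refine (mem_dbl_iff hN hmem).2 ⟨i, Or.inl (Subtype.ext ?_)⟩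
      rw [coe_negCo0_smul]
      simp
  have hneg1 : φ ⟨negCo0, hneg⟩ = 1 := by
    ext i
    apply congrArg Fin.val
    apply pt_pm hN hlen hmem hnd
    have h2 := repP_spec hN hlen hmem hnd H hpres ⟨negCo0, hneg⟩ i
    have e2 : (negCo0 • pt hN hmem i : leechLattice) = -pt hN hmem i := Subtype.ext (coe_negCo0_smul _)
    simp only at h2
    rw [e2] at h2
    show pt hN hmem (φ ⟨negCo0, hneg⟩ i) = pt hN hmem i ∨ pt hN hmem (φ ⟨negCo0, hneg⟩ i) = -pt hN hmem i
    rcases h2 with h2 | h2
    · right
      rw [← hφ] at h2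
      exact h2.symm
    · left
      rw [← hφ] at h2
      exact (neg_injective h2).symm
  -- the kernel has at least two elements
  have hker2 : 2 ≤ Nat.card φ.ker := by
    have hne : (⟨⟨negCo0, hneg⟩, hneg1⟩ : φ.ker) ≠ 1 := fun h =>
      negCo0_ne_one (congrArg (fun x : φ.ker => ((x : H) : Co0)) h)
    have : Nontrivial φ.ker := ⟨⟨_, _, hne⟩⟩
    exact Finite.one_lt_card
  have hcard : Nat.card H = Nat.card φ.ker * Nat.card φ.range := by
    have e1 := Subgroup.card_eq_card_quotient_mul_card_subgroup φ.ker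
    rw [e1, Nat.card_congr (QuotientGroup.quotientKerEquivRange φ).toEquiv, mul_comm]
  have hleH : Nat.card H ≤ 8315553613086720000 := by
    rw [← card_Co0]
    exact Subgroup.card_le_card_group H
  have hge : 4157776806543360000 ≤ Nat.card φ.range := hS.trans h1
  have hpos : 0 < Nat.card φ.range := by omega
  have hker : Nat.card φ.ker = 2 := by
    rw [hcard] at hleH
    by_contra hne
    have h3 : 3 ≤ Nat.card φ.ker := by omega
    have : 3 * 4157776806543360000 ≤ Nat.card φ.ker * Nat.card φ.range := Nat.mul_le_mul h3 hge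
    omega
  have hrg : Nat.card φ.range = 4157776806543360000 := by
    rw [hker] at hcard
    omega
  have hcardH : Nat.card H = Nat.card Co0 := by
    rw [hcard, hker, hrg, card_Co0]
  have htop : H = ⊤ := Subgroup.eq_top_of_card_eq _ hcardH
  -- the map from the group itself
  let e : Co0 ≃* H := Subgroup.topEquiv.symm.trans (MulEquiv.subgroupCongr htop.symm)
  let ψ : Co0 →* Equiv.Perm (Fin N) := φ.comp e.toMonoidHom
  have hψ : ∀ g : Co0, ψ g = φ ⟨g, by rw [htop]; trivial⟩ := fun g => rfl
  have hrange : ψ.range = φ.range := by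
    ext x
    constructor
    · rintro ⟨g, rfl⟩
      exact ⟨_, rfl⟩
    · rintro ⟨g, rfl⟩
      exact ⟨e.symm g, by simp [ψ]⟩
  have hkc : Subgroup.center Co0 ≤ ψ.ker := by
    intro g hg
    rw [MonoidHom.mem_ker, hψ]
    rcases (LeechLocal.mem_center_iff g).1 hg with rfl | rfl
    · exact map_one φ
    · exact hneg1
  have hkc' : ψ.ker = Subgroup.center Co0 := by
    symm
    refine Subgroup.eq_of_le_of_card_ge hkc ?_
    have h2 : Nat.card ψ.ker = 2 := by
      have e1 := Subgroup.card_eq_card_quotient_mul_card_subgroup ψ.ker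
      rw [Nat.card_congr (QuotientGroup.quotientKerEquivRange ψ).toEquiv, hrange, hrg, card_Co0] at e1
      omega
    rw [h2]
    have hne : (⟨negCo0, negCo0_mem_center⟩ : Subgroup.center Co0) ≠ 1 := fun h =>
      negCo0_ne_one (congrArg Subtype.val h)
    have : Nontrivial (Subgroup.center Co0) := ⟨⟨_, _, hne⟩⟩
    exact Finite.one_lt_card
  refine ⟨φ.range, ⟨hc, hle, ?_⟩, ⟨?_⟩⟩
  · have : ordC ls ≤ Nat.card φ.range := h1
    omega
  · exact (QuotientGroup.quotientMulEquivOfEq hkc'.symm).trans
      ((QuotientGroup.quotientKerEquivRange ψ).trans (MulEquiv.subgroupCongr hrange))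

end Rep

/-! ### Coded vectors -/

theorem dig_lt (c i : ℕ) : dig c i < 16 := Nat.mod_lt _ (by norm_num)

theorem negL_decV (c : ℕ) : negL (decV c) = rangeL fun i => 8 - (dig c i : ℤ) := by
  rw [decV_eq]
  unfold negL rangeL
  rw [List.map_map]
  apply List.map_congr_left
  intro i _
  simp

/-- The check of a permutation of the coordinates on coded vectors, up to sign. -/
def permChkN (c c' : ℕ) : List ℕ → ℕ → Bool
  | [], _ => true
  | t :: ts, j => Nat.beq (dig c t) (Nat.sub 16 (dig c' j)) && permChkN c c' ts (Nat.succ j)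

theorem permChkN_spec {c c' : ℕ} : ∀ (ts : List ℕ) (j : ℕ), permChkN c c' ts j = true → ∀ n, n < ts.length →
    dig c (ts.getD n 0) = 16 - dig c' (j + n)
  | [], _, _, n, hn => absurd hn (by simp)
  | t :: ts, j, h, n, hn => by
    simp only [permChkN, Bool.and_eq_true] at h
    cases n with
    | zero =>
      have := Nat.eq_of_beq_eq_true h.1
      simpa using this
    | succ n =>
      have h1 := permChkN_spec ts (Nat.succ j) h.2 n (by simpa using hn)
      have e : j + (n + 1) = Nat.succ j + n := by omega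
      rw [e, ← h1]
      simp

theorem permL_decVN {Ti : List ℕ} {c c' : ℕ} (hlen : Ti.length = 24) (hlt : Ti.all (fun t => Nat.blt t 24) = true)
    (h : permChkN c c' Ti 0 = true) : permL Ti (decV c) = negL (decV c') := by
  unfold permL
  rw [negL_decV c']
  unfold rangeL
  apply List.map_congr_left
  intro j hj
  have hj' : j < 24 := List.mem_range.1 hj
  have hm : Ti.getD j 0 ∈ Ti := by
    rw [List.getD_eq_getElem _ _ (by omega)]
    exact List.getElem_mem _
  have h1 : Ti.getD j 0 < 24 := by
    have := List.all_eq_true.1 hlt _ hm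
    simpa [Nat.blt_eq] using this
  rw [getD_decV _ h1, permChkN_spec Ti 0 h j (by omega)]
  have h2 := dig_lt c' (0 + j)
  rw [zero_add] at h2 ⊢
  push_cast [Nat.cast_sub h2.le]
  ring

/-- The check of a matrix on coded vectors, up to sign. -/
def rowsChkN (D c c' : ℕ) : List Row → ℕ → Bool
  | [], _ => true
  | r :: rs, k => Nat.beq (Nat.add (wsum c r.1) r.2.2.1)
      (Nat.add (wsum c r.2.1) (Nat.add (Nat.mul D (Nat.sub 16 (dig c' k))) r.2.2.2)) && rowsChkN D c c' rs (Nat.succ k)

theorem rowsChkN_spec {D c c' : ℕ} : ∀ (rows : List Row) (j : ℕ), rowsChkN D c c' rows j = true → ∀ n, n < rows.length →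
    ∃ r, r = rows.getD n ([], [], 0, 0) ∧ Nat.beq (Nat.add (wsum c r.1) r.2.2.1)
      (Nat.add (wsum c r.2.1) (Nat.add (Nat.mul D (Nat.sub 16 (dig c' (j + n)))) r.2.2.2)) = true
  | [], _, _, n, hn => absurd hn (by simp)
  | t :: ts, j, h, n, hn => by
    simp only [rowsChkN, Bool.and_eq_true] at h
    cases n with
    | zero => exact ⟨t, by simp, h.1⟩
    | succ n =>
      obtain ⟨r, hr, h1⟩ := rowsChkN_spec ts (Nat.succ j) h.2 n (by simpa using hn)
      refine ⟨r, by simpa using hr, ?_⟩
      have e : j + (n + 1) = Nat.succ j + n := by omega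
      rw [e]
      exact h1

theorem matL_decVN {M : List (List ℤ)} {D : ℕ} {D' : ℤ} {rows : List Row} {c c' : ℕ} (hD : 0 < D) (hD' : D' = (D : ℤ))
    (hv : rowsValid M D rows = true) (h : rowsChkN D c c' rows 0 = true) : matL M D' (decV c) = negL (decV c') := by
  unfold rowsValid at hv
  simp only [Bool.and_eq_true, List.all_eq_true, beq_iff_eq, List.mem_range] at hv
  obtain ⟨hl, hv⟩ := hv
  unfold matL
  rw [negL_decV c']
  unfold rangeL
  apply List.map_congr_left
  intro k hk
  have hk' : k < 24 := List.mem_range.1 hk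
  obtain ⟨r, hr, h1⟩ := rowsChkN_spec rows 0 h k (by omega)
  rw [zero_add] at h1
  have h2 := row_val (hr ▸ hv k hk') h1
  have e : (matVec M (decV c)).getD k 0 = ((List.range 24).map fun i => ent M k i * (decV c).getD i 0).sum := by
    unfold matVec
    rw [getD_rangeL _ hk']
  have h3 := dig_lt c' k
  rw [e, h2, hD', Int.mul_ediv_cancel_left _ (by exact_mod_cast hD.ne')]
  have h4 : ((Nat.sub 16 (dig c' k) : ℕ) : ℤ) = 16 - (dig c' k : ℤ) := by
    show ((16 - dig c' k : ℕ) : ℤ) = _
    push_cast [Nat.cast_sub h3.le]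
    ring
  rw [h4]
  ring

/-- The generators acting on the list up to sign according to tables. -/
structure GenPM (w m N : ℕ) (T : ℕ → ℕ) (e : Elt) (g : Co0) (f : List ℤ → List ℤ) : Prop where
  acts : Acts g f
  chk : ∀ i, i < N → f (decV (T i)) = decV (T (get w m e.f i)) ∨ f (decV (T i)) = negL (decV (T (get w m e.f i)))

/-- A generator permuting the coordinates. -/
theorem genPM_perm {w m N d : ℕ} {T : ℕ → ℕ} {e : Elt} {g : Co0} {Ti : List ℕ} (hd : N ≤ 2 ^ d) (ha : Acts g (permL Ti))
    (hlen : Ti.length = 24) (hlt : Ti.all (fun t => Nat.blt t 24) = true)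
    (h : allN (fun i => permChk (T i) (T (get w m e.f i)) Ti 0 || permChkN (T i) (T (get w m e.f i)) Ti 0) N d = true) :
    GenPM w m N T e g (permL Ti) := by
  rw [allN_eq _ hd, allB_iff] at h
  refine ⟨ha, fun i hi => ?_⟩
  rcases Bool.or_eq_true _ _ ▸ h i hi with h1 | h1
  · exact Or.inl (permL_decV hlen hlt h1)
  · exact Or.inr (permL_decVN hlen hlt h1)

/-- A generator given by a matrix. -/
theorem genPM_mat {w m N d : ℕ} {T : ℕ → ℕ} {e : Elt} {g : Co0} {M : List (List ℤ)} {D : ℕ} {D' : ℤ} {rows : List Row}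
    (hd : N ≤ 2 ^ d) (ha : Acts g (matL M D')) (hD : 0 < D) (hD' : D' = (D : ℤ)) (hv : rowsValid M D rows = true)
    (h : allN (fun i => rowsChk D (T i) (T (get w m e.f i)) rows 0 || rowsChkN D (T i) (T (get w m e.f i)) rows 0) N d = true) :
    GenPM w m N T e g (matL M D') := by
  rw [allN_eq _ hd, allB_iff] at h
  refine ⟨ha, fun i hi => ?_⟩
  rcases Bool.or_eq_true _ _ ▸ h i hi with h1 | h1
  · exact Or.inl (matL_decV hD hD' hv h1)
  · exact Or.inr (matL_decVN hD hD' hv h1)

/-- The membership in the lattice from a tree. -/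
theorem mem_of_treeP {w m N d : ℕ} {T : ℕ → ℕ} {Gs : List Elt} {tb : ℕ → ℕ} (hd : N ≤ 2 ^ d)
    (hG : ∀ e ∈ Gs, ∃ g f, GenPM w m N T e g f) (h0 : vecOf (decV (T 0)) ∈ leechLattice)
    (ht : allN (treeChk w m N Gs tb) N d = true) : ∀ i, i < N → vecOf (decV (T i)) ∈ leechLattice := by
  rw [allN_eq _ hd, allB_iff] at ht
  have key : ∀ k i, tb i / 2 ^ 22 = k → i < N → vecOf (decV (T i)) ∈ leechLattice := by
    intro k
    induction k using Nat.strong_induction_on with
    | _ k ih =>
      intro i hk hi
      have h1 := ht i hi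
      unfold treeChk at h1
      simp only [Bool.or_eq_true, Bool.and_eq_true] at h1
      rcases h1 with h | ⟨⟨⟨h2, hn⟩, h3⟩, h4⟩
      · have : i = 0 := Nat.eq_of_beq_eq_true h
        subst this
        exact h0
      · have h2' : tb i % 16 < Gs.length := by simpa [Nat.blt_eq] using h2
        have hn' : tb i / 16 % 2 ^ 18 < N := by simpa [Nat.blt_eq] using hn
        have h3' : tb (tb i / 16 % 2 ^ 18) / 2 ^ 22 < tb i / 2 ^ 22 := by simpa [Nat.blt_eq] using h3
        have h4' := Nat.eq_of_beq_eq_true h4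
        have hpar := ih _ (hk ▸ h3') _ rfl hn'
        have hmem : Gs.getD (tb i % 16) ⟨0, 0⟩ ∈ Gs := by
          rw [List.getD_eq_getElem _ _ h2']
          exact List.getElem_mem _
        obtain ⟨g, f, hgf⟩ := hG _ hmem
        have h5 := hgf.acts.mem hpar
        rcases hgf.chk _ hn' with h6 | h6
        · rw [h6, h4'] at h5
          exact h5
        · rw [h6, h4', vecOf_negL] at h5
          simpa using neg_mem h5
  exact fun i hi => key _ i rfl hi

/-- The sum of the code of a vector and of the code of its opposite. -/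
def digSum : ℕ → ℕ
  | 0 => 0
  | n + 1 => 16 + 16 * digSum n

theorem add_of_dig : ∀ (n c c' : ℕ), c < 16 ^ n → c' < 16 ^ n → (∀ i, i < n → dig c i + dig c' i = 16) →
    c + c' = digSum n
  | 0, c, c', h, h', _ => by
    simp at h h'
    simp [digSum]
    omega
  | n + 1, c, c', h, h', hd => by
    have h0 : c % 16 + c' % 16 = 16 := by
      have := hd 0 (by omega)
      have e : ∀ x : ℕ, dig x 0 = x % 16 := fun x => by
        show (x >>> (4 * 0)) % 16 = x % 16
        simp
      rwa [e, e] at this
    have h1 : c / 16 + c' / 16 = digSum n := by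
      refine add_of_dig n _ _ ?_ ?_ ?_
      · rw [pow_succ] at h
        exact Nat.div_lt_of_lt_mul (by rw [mul_comm]; exact h)
      · rw [pow_succ] at h'
        exact Nat.div_lt_of_lt_mul (by rw [mul_comm]; exact h')
      · intro i hi
        have := hd (i + 1) (by omega)
        simp only [dig] at this ⊢
        have e : ∀ x : ℕ, Nat.shiftRight x (Nat.mul 4 (i + 1)) = Nat.shiftRight (x / 16) (Nat.mul 4 i) := by
          intro x
          show x >>> (4 * (i + 1)) = (x / 16) >>> (4 * i)
          rw [Nat.shiftRight_eq_div_pow, Nat.shiftRight_eq_div_pow, Nat.div_div_eq_div_mul]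
          congr 1
          rw [mul_add, pow_add]
          norm_num
          ring
        rw [e, e] at this
        exact this
    show c + c' = 16 + 16 * digSum n
    omega

theorem getD_negL (l : List ℤ) (i : ℕ) : (negL l).getD i 0 = -(l.getD i 0) := by
  unfold negL
  rw [List.getD_eq_getElem?_getD, List.getElem?_map, List.getD_eq_getElem?_getD]
  cases l[i]? <;> simp

/-- The code of the zero vector. -/
def codeZ : ℕ := 0x888888888888888888888888

theorem ne_negL_decV {c c' : ℕ} (h : c < codeZ) (h' : c' < codeZ) : decV c ≠ negL (decV c') := by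
  intro e
  have hb : codeZ < 16 ^ 24 := by decide
  have h1 := add_of_dig 24 c c' (h.trans hb) (h'.trans hb) fun i hi => by
    have h2 := congrArg (fun l : List ℤ => l.getD i 0) e
    rw [getD_negL, getD_decV _ hi, getD_decV _ hi] at h2
    omega
  have h3 : digSum 24 = 2 * codeZ := by decide
  omega

/-- The representation from tables. -/
theorem rep_table_pm {w m N tw tm : ℕ} {T : ℕ → ℕ} {ls : List Lv} (hc : chkChain w m N tw tm ls = true)
    (hb : ∀ i, i < N → T i < codeZ) (hs : ∀ i, i + 1 < N → T i < T (i + 1))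
    (hmem : ∀ i, i < N → vecOf (decV (T i)) ∈ leechLattice)
    (hg : ∀ e ∈ hdG ls, ∃ g f, GenPM w m N T e g f)
    (hS : 4157776806543360000 ≤ ordC ls) :
    ∃ K : Subgroup (Equiv.Perm (Fin N)), ChainFor w m N tw tm K ls ∧ Nonempty ((Co0 ⧸ Subgroup.center Co0) ≃* K) := by
  have hb16 : codeZ < 16 ^ 24 := by decide
  have hmem' : ∀ l ∈ XT T N, vecOf l ∈ leechLattice := by
    intro l hl
    obtain ⟨i, hi, rfl⟩ := List.mem_map.1 hl
    exact hmem i (List.mem_range.1 hi)
  have hv := hdG_valid hc
  have hnodup := XT_nodup (T := T) (N := N) (fun i hi => (hb i hi).trans hb16) hs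
  refine rep_pm (XT_length T N) (XT_l24 T N) hmem' ?_ hc (fun e he => ?_) hS
  · intro i j h
    rcases h with h | h
    · rw [XT_getD T i.2, XT_getD T j.2] at h
      have hi : (i : ℕ) < (XT T N).length := by rw [XT_length]; exact i.2
      have hj : (j : ℕ) < (XT T N).length := by rw [XT_length]; exact j.2
      have e1 := (XT_getD T i.2).symm
      have e2 := (XT_getD T j.2).symm
      rw [List.getD_eq_getElem _ _ hi] at e1
      rw [List.getD_eq_getElem _ _ hj] at e2
      exact Fin.ext ((List.Nodup.getElem_inj_iff hnodup).1 (e1.symm.trans (h.trans e2)))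
    · rw [XT_getD T i.2, XT_getD T j.2] at h
      exact absurd h (ne_negL_decV (hb i i.2) (hb j j.2))
  · obtain ⟨g, f, hgf⟩ := hg e he
    refine ⟨g, f, hgf.acts, fun i hi => ?_⟩
    have ve : validB w m N e = true := List.all_eq_true.1 hv e he
    have h3 : get w m e.f i < N := by
      have h4 : gt w m e i = (permOf w m N e ⟨i, hi⟩ : ℕ) := gt_eq ve ⟨i, hi⟩
      have h5 : gt w m e i = get w m e.f i := rfl
      rw [← h5, h4]
      exact Fin.isLt _
    rw [XT_getD T hi, XT_getD T h3]
    exact hgf.chk i hi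

end Cfsg.Agent.Lib.Sporadic.LeechPM
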