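import Mathlib
import Cfsg.Agent.Lib.Sporadic.LeechCen3Data
import Cfsg.Agent.Lib.Sporadic.LeechCen3Chain2

/-!
# A central element of order three in the automorphism group of the lattice: the centraliser
-/

set_option autoImplicit false
set_option maxRecDepth 100000

namespace Cfsg.Agent.Lib.Sporadic.LeechCen3

open Subgroup Cfsg Cfsg.Agent.Lib.Sporadic.GolayCore
  Cfsg.Agent.Lib.Sporadic.LeechNorm Cfsg.Agent.Lib.Sporadic.LeechFacts
  Cfsg.Agent.Lib.Sporadic.LeechAut Cfsg.Agent.Lib.Sporadic.LeechClasses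
  Cfsg.Agent.Lib.Sporadic.LeechAct Cfsg.Agent.Lib.Sporadic.LeechMod2
  Cfsg.Agent.Lib.Sporadic.LeechLocal Cfsg.Agent.Lib.Sporadic.LeechOrbits
  Cfsg.Agent.Lib.Sporadic.LeechMat Cfsg.Agent.Lib.Sporadic.LeechKey
  Cfsg.Agent.Lib.Sporadic.LeechMonomial
  Cfsg.Agent.Lib.Sporadic.LeechSeven
  Cfsg.Agent.Lib.Sporadic.LeechCentFw
  Cfsg.Agent.Lib.Sporadic.LeechCenFix
  Cfsg.Agent.Lib.Sporadic.LeechCenGrp
  Cfsg.Agent.Lib.Sporadic.M24Three
  Cfsg.Agent.Lib.Sporadic.MonsterModel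
  Cfsg.Agent.Lib.Compute.PermCert

open Cfsg.Agent.Lib.Compute.Golay (ptIdx idxPt ptIdx_lt ptIdx_injective idxPt_ptIdx ptIdx_idxPt)
open Cfsg.Agent.Lib.Compute.M24Enum (eq_of_toL toL_ofL codes_ofL)
open Cfsg.Agent.Lib.Compute.M24 (mem_M24_of_inM24)

local notation "toLL" => Cfsg.Agent.Lib.Compute.M24.toL

/-- The first permutation. -/
theorem mem_tg0 : Cfsg.Agent.Lib.Compute.M24Enum.ofL tg0 ∈ Cfsg.M24 := mem_M24_of_inM24 (codes_ofL tg0_valid) tg0_in

/-- The second permutation. -/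
theorem mem_tg1 : Cfsg.Agent.Lib.Compute.M24Enum.ofL tg1 ∈ Cfsg.M24 := mem_M24_of_inM24 (codes_ofL tg1_valid) tg1_in

/-- The generators. -/
noncomputable def gsF : ℕ → Co0
  | 0 => matCo0 m0_ok
  | 1 => permCo0 _ mem_tg0
  | _ => permCo0 _ mem_tg1

theorem acts_tg0 : Acts (gsF 1) (permL (invT tg0)) := acts_of_toL mem_tg0 (by rw [toL_ofL tg0_valid]; exact tg0_inv)

theorem acts_tg1 : Acts (gsF 2) (permL (invT tg1)) := acts_of_toL mem_tg1 (by rw [toL_ofL tg1_valid]; exact tg1_inv)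

theorem hgs : ∀ i, i < 3 → ∀ j, j < 12 → gsF i • fb.B j = spanR fb.B 12 (imgF i j) := by
  intro i hi j hj
  interval_cases i
  · exact fb.img_of_cong (acts_mat m0_ok) hj (m0_img j hj)
  · exact fb.img_of_cong acts_tg0 hj (tg0_img j hj)
  · exact fb.img_of_cong acts_tg1 hj (tg1_img j hj)

theorem hroot : ∀ k, k < 4096 → RKf k = 0 → HasRep fb.B k (16 * (TYf k : ℤ)) := by
  intro k hk h0
  have h1 := (allB_iff _ _).1 chk_root2 k hk
  rw [h0] at h1
  simp only [show Nat.beq 0 0 = true from rfl, Bool.not_true, Bool.false_or, List.any_eq_true, Nat.beq_eq] at h1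
  obtain ⟨x, hx, rfl⟩ := h1
  have h2 := List.all_eq_true.1 chk_roots x hx
  simp only [Bool.and_eq_true, decide_eq_true_eq] at h2
  exact fb.rep_of_cong h2.1.1 h2.1.2 h2.2

theorem hstep : ∀ k, k < 4096 → RKf k ≠ 0 → PAf k < 4096 ∧ RKf (PAf k) < RKf k ∧ TYf (PAf k) = TYf k ∧ GNf k < 3 ∧
    applyR (imgF (GNf k)) 12 (PAf k) = k := by
  intro k hk h0
  have h1 := (allB_iff _ _).1 chk_step k hk
  have h2 : Nat.beq (RKf k) 0 = false := by
    cases h : Nat.beq (RKf k) 0 with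
    | false => rfl
    | true => exact absurd (Nat.eq_of_beq_eq_true h) h0
  rw [h2] at h1
  simp only [Bool.false_or, Bool.and_eq_true, Nat.blt_eq, Nat.beq_eq] at h1
  obtain ⟨⟨⟨⟨a, b⟩, c⟩, d⟩, e⟩ := h1
  exact ⟨a, b, c, d, e⟩

theorem hrepT : ∀ k, k < 4096 → HasRep fb.B k (16 * (TYf k : ℤ)) := hasRep_of_tree hgs hroot hstep

theorem hleT : ∀ k, k < 4096 → TYf k ≤ 4 := by
  intro k hk
  have h1 := (allB_iff _ _).1 chk_le k hk
  exact Nat.le_of_ble_eq_true h1

theorem hT2' : ∀ a, a < 378 → T2f a < 4096 ∧ TYf (T2f a) = 2 := by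
  intro a ha
  have h1 := (allB_iff _ _).1 chk_T2 a ha
  simp only [Bool.and_eq_true, Nat.blt_eq, Nat.beq_eq] at h1
  exact h1.1

theorem hT2n : ∀ a b, a < 378 → b < 378 → T2f a = T2f b → a = b := by
  intro a b ha hb e
  have h1 := (allB_iff _ _).1 chk_T2 a ha
  have h2 := (allB_iff _ _).1 chk_T2 b hb
  simp only [Bool.and_eq_true, Nat.blt_eq, Nat.beq_eq] at h1 h2
  rw [← h1.2, ← h2.2, e]

theorem hIX : ∀ k, k < 4096 → TYf k = 2 → IXf k < 378 ∧ T2f (IXf k) = k := by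
  intro k hk h0
  have h1 := (allB_iff _ _).1 chk_IX k hk
  rw [h0] at h1
  simp only [show Nat.beq 2 2 = true from rfl, Bool.not_true, Bool.false_or, Bool.and_eq_true, Nat.blt_eq, Nat.beq_eq] at h1
  exact h1

theorem hIY : ∀ k, k < 4096 → TYf k = 4 → IYf k < 1701 ∧ T4f (IYf k) = k := by
  intro k hk h0
  have h1 := (allB_iff _ _).1 chk_IY k hk
  rw [h0] at h1
  simp only [show Nat.beq 4 4 = true from rfl, Bool.not_true, Bool.false_or, Bool.and_eq_true, Nat.blt_eq, Nat.beq_eq] at h1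
  exact h1

/-- The classes of norm `32`. -/
noncomputable abbrev AB : BlockD c3z (Fin 378) 378 := fb.toBlock2 hrepT hleT hT2' hT2n hIX

/-- The group induced by the centraliser. -/
noncomputable abbrev LL : Subgroup (Equiv.Perm (Fin 378)) := AB.goodRange

/-! ### The generators -/

theorem gs_comm : ∀ i, gsF i * c3z = c3z * gsF i := by
  have h0 : gsF 0 * c3z = c3z * gsF 0 := by
    apply ext_of_acts ((acts_mat m0_ok).comp acts_c) (acts_c.comp (acts_mat m0_ok))
    intro i hi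
    exact beq_iff_eq.1 (List.all_eq_true.1 m0_comm i hi)
  have h1 : gsF 1 * c3z = c3z * gsF 1 :=
    perm_comm mem_tg0 SZ_mem (comm_of_tables toL_SZ tg0_valid tg0_comm)
  have h2 : gsF 2 * c3z = c3z * gsF 2 :=
    perm_comm mem_tg1 SZ_mem (comm_of_tables toL_SZ tg1_valid tg1_comm)
  intro i
  match i with
  | 0 => exact h0
  | 1 => exact h1
  | (n + 2) => exact h2

theorem chk_good : (List.range 3).all (fun i => allB (fun a => Nat.beq (applyR (imgF i) 12 (T2f a)) (T2f (get 9 511 (genL.getD i eG0).f a))) 378) = true := by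
  decide +kernel

theorem gen_in_LL : ∀ i, i < 3 → permOf 9 511 378 (genL.getD i eG0) ∈ LL := by
  intro i hi
  have hv : validB 9 511 378 (genL.getD i eG0) = true := by
    interval_cases i <;> exact List.all_eq_true.1 genL_valid _ (by simp [genL])
  refine ⟨gsF i, gs_comm i, ?_⟩
  apply fb.good2_of_img hrepT hleT hT2' hT2n hIX (hgs i hi)
  intro a
  have h1 := (allB_iff _ _).1 (List.all_eq_true.1 chk_good i (List.mem_range.2 hi)) a a.2
  rw [Nat.beq_eq] at h1
  rw [permOf_apply hv]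
  exact h1

theorem gens_le : genGroup 9 511 378 genL ≤ LL := by
  rw [genGroup, closure_le]
  rintro _ ⟨e, he, rfl⟩
  simp only [genL, List.mem_cons, List.not_mem_nil, or_false] at he
  rcases he with rfl | rfl | rfl
  · exact gen_in_LL 0 (by norm_num)
  · exact gen_in_LL 1 (by norm_num)
  · exact gen_in_LL 2 (by norm_num)

theorem hHL : HH ≤ LL := HH_le.trans gens_le

/-! ### Counting -/

instance : Finite Co0 := Nat.finite_of_card_ne_zero (by rw [card_Co0]; norm_num)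

theorem c8 : c3z • cl v8 = cl v8 := mem_N_iff.1 (monom_mem_N monom_c3z)

/-- The centraliser of the element in the Mathieu group. -/
def CZ : Subgroup (Equiv.Perm GolayPt) := Cfsg.M24 ⊓ centralizer {SZ}

theorem mem_CZ_comm {y : Equiv.Perm GolayPt} (hy : y ∈ CZ) : y * SZ = SZ * y :=
  (mem_centralizer_singleton_iff.1 hy.2)

theorem card_step (K : Subgroup (Equiv.Perm GolayPt)) (q : GolayPt) (A : Finset ℕ) (hA : ∀ y ∈ K, ptIdx (y q) ∈ A) :
    Nat.card K ≤ A.card * Nat.card ↥(K ⊓ MulAction.stabilizer (Equiv.Perm GolayPt) q) := by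
  classical
  have h := card_le_of_fibers (D := ↥K) ((K ⊓ MulAction.stabilizer (Equiv.Perm GolayPt) q).subgroupOf K) (X := ↥A)
    (fun y => ⟨ptIdx ((y : Equiv.Perm GolayPt) q), hA y y.2⟩) (by
      intro a b hab
      have h1 : ptIdx ((a : Equiv.Perm GolayPt) q) = ptIdx ((b : Equiv.Perm GolayPt) q) := congrArg Subtype.val hab
      have h2 : (a : Equiv.Perm GolayPt) q = (b : Equiv.Perm GolayPt) q := ptIdx_injective h1
      rw [mem_subgroupOf]
      refine ⟨(a⁻¹ * b).2, ?_⟩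
      show ((a : Equiv.Perm GolayPt)⁻¹) ((b : Equiv.Perm GolayPt) q) = q
      rw [← h2]
      simp)
  rw [Fintype.card_coe] at h
  have e : Nat.card ↥((K ⊓ MulAction.stabilizer (Equiv.Perm GolayPt) q).subgroupOf K) =
      Nat.card ↥(K ⊓ MulAction.stabilizer (Equiv.Perm GolayPt) q) :=
    Nat.card_congr (Subgroup.subgroupOfEquivOfLe inf_le_left).toEquiv
  rwa [e] at h

theorem fix_table : ∀ i, i < 24 → Zt.getD i 0 = i → i ∈ ([0, 1, 5, 8, 9, 15] : List ℕ) := by decide +kernel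

theorem fix_idx {x : GolayPt} (hx : SZ x = x) : ptIdx x ∈ ([0, 1, 5, 8, 9, 15] : List ℕ) := by
  have hi := ptIdx_lt x
  apply fix_table _ hi
  rw [← toL_SZ]
  have hlen : ptIdx x < (List.range 24).length := by simpa using hi
  simp only [Cfsg.Agent.Lib.Compute.M24.toL]
  rw [List.getD_eq_getElem _ _ (by simpa using hi)]
  simp only [List.getElem_map, List.getElem_range]
  rw [idxPt_ptIdx, hx]

theorem img_fix {y : Equiv.Perm GolayPt} (hy : y ∈ CZ) {q : GolayPt} (hq : SZ q = q) : SZ (y q) = y q := by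
  have h := congrArg (fun τ : Equiv.Perm GolayPt => τ q) (mem_CZ_comm hy)
  simp only [Equiv.Perm.mul_apply, hq] at h
  exact h.symm

theorem fix_0 : SZ (idxPt 0) = idxPt 0 := by
  have h := congrArg (fun l => l.getD 0 0) toL_SZ
  apply ptIdx_injective
  rw [ptIdx_idxPt (by norm_num)]
  exact h

theorem fix_1 : SZ (idxPt 1) = idxPt 1 := by
  have h := congrArg (fun l => l.getD 1 0) toL_SZ
  apply ptIdx_injective
  rw [ptIdx_idxPt (by norm_num)]
  exact h

theorem fix_5 : SZ (idxPt 5) = idxPt 5 := by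
  have h := congrArg (fun l => l.getD 5 0) toL_SZ
  apply ptIdx_injective
  rw [ptIdx_idxPt (by norm_num)]
  exact h

theorem fix_8 : SZ (idxPt 8) = idxPt 8 := by
  have h := congrArg (fun l => l.getD 8 0) toL_SZ
  apply ptIdx_injective
  rw [ptIdx_idxPt (by norm_num)]
  exact h

/-- A step of the chain. -/
abbrev St (q : ℕ) : Subgroup (Equiv.Perm GolayPt) := MulAction.stabilizer (Equiv.Perm GolayPt) (idxPt q)

theorem ne_of_st {y : Equiv.Perm GolayPt} {q r : ℕ} (hy : y ∈ St q) (hq : q < 24) (hr : r ≠ q) (hr' : r < 24) :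
    ptIdx (y (idxPt r)) ≠ q := by
  intro e
  have h1 : y (idxPt q) = idxPt q := hy
  have h2 : y (idxPt r) = idxPt q := by rw [← e, idxPt_ptIdx]
  have h3 : idxPt r = idxPt q := y.injective (by rw [h2, h1])
  have h4 := congrArg ptIdx h3
  rw [ptIdx_idxPt hr', ptIdx_idxPt hq] at h4
  exact hr h4

theorem card_CZ : Nat.card CZ ≤ 1080 := by
  classical
  have h0 : Nat.card CZ ≤ ({0, 1, 5, 8, 9, 15} : Finset ℕ).card * Nat.card ↥(CZ ⊓ St 0) := card_step CZ (idxPt 0) {0, 1, 5, 8, 9, 15} (by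
    intro y hy
    simpa using fix_idx (img_fix hy fix_0))
  have h1 : Nat.card ↥(CZ ⊓ St 0) ≤ ({1, 5, 8, 9, 15} : Finset ℕ).card * Nat.card ↥(CZ ⊓ St 0 ⊓ St 1) := card_step (CZ ⊓ St 0) (idxPt 1) {1, 5, 8, 9, 15} (by
    rintro y ⟨hy, h⟩
    have h2 := fix_idx (img_fix hy fix_1)
    have h3 := ne_of_st h (by norm_num) (r := 1) (by norm_num) (by norm_num)
    simp only [List.mem_cons, List.not_mem_nil, or_false] at h2
    simp only [Finset.mem_insert, Finset.mem_singleton]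
    omega)
  have h2 : Nat.card ↥(CZ ⊓ St 0 ⊓ St 1) ≤ ({5, 8, 9, 15} : Finset ℕ).card * Nat.card ↥(CZ ⊓ St 0 ⊓ St 1 ⊓ St 5) := card_step (CZ ⊓ St 0 ⊓ St 1) (idxPt 5) {5, 8, 9, 15} (by
    rintro y ⟨⟨hy, h⟩, h'⟩
    have h2 := fix_idx (img_fix hy fix_5)
    have h3 := ne_of_st h (by norm_num) (r := 5) (by norm_num) (by norm_num)
    have h4 := ne_of_st h' (by norm_num) (r := 5) (by norm_num) (by norm_num)
    simp only [List.mem_cons, List.not_mem_nil, or_false] at h2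
    simp only [Finset.mem_insert, Finset.mem_singleton]
    omega)
  have h3 : Nat.card ↥(CZ ⊓ St 0 ⊓ St 1 ⊓ St 5) ≤ ({8, 9, 15} : Finset ℕ).card * Nat.card ↥(CZ ⊓ St 0 ⊓ St 1 ⊓ St 5 ⊓ St 8) := card_step (CZ ⊓ St 0 ⊓ St 1 ⊓ St 5) (idxPt 8) {8, 9, 15} (by
    rintro y ⟨⟨⟨hy, h⟩, h'⟩, h''⟩
    have h2 := fix_idx (img_fix hy fix_8)
    have h3 := ne_of_st h (by norm_num) (r := 8) (by norm_num) (by norm_num)
    have h4 := ne_of_st h' (by norm_num) (r := 8) (by norm_num) (by norm_num)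
    have h5 := ne_of_st h'' (by norm_num) (r := 8) (by norm_num) (by norm_num)
    simp only [List.mem_cons, List.not_mem_nil, or_false] at h2
    simp only [Finset.mem_insert, Finset.mem_singleton]
    omega)
  have h4 : Nat.card ↥(CZ ⊓ St 0 ⊓ St 1 ⊓ St 5 ⊓ St 8) ≤ 3 := by
    have hg : ∀ y : ↥(CZ ⊓ St 0 ⊓ St 1 ⊓ St 5 ⊓ St 8), toLL ((y : Equiv.Perm GolayPt)) ∈ acc3.toFinset := by
      rintro ⟨y, ⟨⟨⟨⟨hy, h0⟩, h1⟩, h5⟩, h8⟩⟩
      exact List.mem_toFinset.2 (acc3_mem y hy.1 (mem_CZ_comm hy) h0 h1 h5 h8)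
    have hinj : Function.Injective (fun y : ↥(CZ ⊓ St 0 ⊓ St 1 ⊓ St 5 ⊓ St 8) =>
        (⟨toLL ((y : Equiv.Perm GolayPt)), hg y⟩ : ↥(acc3.toFinset))) := by
      intro a b e
      have e1 : toLL ((a : Equiv.Perm GolayPt)) = toLL ((b : Equiv.Perm GolayPt)) := congrArg Subtype.val e
      exact Subtype.ext (eq_of_toL e1)
    calc Nat.card ↥(CZ ⊓ St 0 ⊓ St 1 ⊓ St 5 ⊓ St 8) ≤ Nat.card ↥(acc3.toFinset) :=
          Nat.card_le_card_of_injective _ hinj
      _ = acc3.toFinset.card := by rw [Nat.card_eq_fintype_card, Fintype.card_coe]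
      _ ≤ acc3.length := List.toFinset_card_le _
      _ = 3 := len_acc3
  have c0 : ({0, 1, 5, 8, 9, 15} : Finset ℕ).card = 6 := by decide
  have c1 : ({1, 5, 8, 9, 15} : Finset ℕ).card = 5 := by decide
  have c2 : ({5, 8, 9, 15} : Finset ℕ).card = 4 := by decide
  have c3 : ({8, 9, 15} : Finset ℕ).card = 3 := by decide
  rw [c0] at h0
  rw [c1] at h1
  rw [c2] at h2
  rw [c3] at h3
  omega

theorem card_NC : Nat.card ↥(N.subgroupOf (DDc c3z)) ≤ 69120 := by
  classical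
  choose σ m hcc e h3 hmc hinv using fun x : ↥(N.subgroupOf (DDc c3z)) =>
    form_of_comm SZ_mem (d := (x : ↥(DDc c3z))) x.2 (mem_DDc.1 x.1.2)
  let F : Finset ℕ := W3.toFinset
  let g : ↥(N.subgroupOf (DDc c3z)) → ↥F × ↥CZ := fun x => (⟨m x, by
      have h1 := hinv x
      rw [toL_SZ] at h1
      have h2 := List.all_eq_true.1 W3_all _ (hmc x)
      rw [h1] at h2
      simpa [F] using h2⟩,
    ⟨(σ x : Equiv.Perm GolayPt), (σ x).2, mem_centralizer_singleton_iff.2 (h3 x)⟩)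
  have hg : Function.Injective g := by
    intro x y hxy
    have h1 : m x = m y := congrArg (fun p : ↥F × ↥CZ => (p.1 : ℕ)) hxy
    have h2 : (σ x : Equiv.Perm GolayPt) = (σ y : Equiv.Perm GolayPt) := congrArg (fun p : ↥F × ↥CZ => (p.2 : Equiv.Perm GolayPt)) hxy
    have h4 : σ x = σ y := Subtype.ext h2
    have key : ∀ (a b : ℕ) (ha : ofMask a ∈ supports (golayCode : Set (GolayPt → ZMod 2)))
        (hb : ofMask b ∈ supports (golayCode : Set (GolayPt → ZMod 2))) (s t : Cfsg.M24), a = b → s = t →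
        signCo0 (ofMask a) ha * permCo0 s.1 s.2 = signCo0 (ofMask b) hb * permCo0 t.1 t.2 := by
      rintro a b ha hb s t rfl rfl
      rfl
    apply Subtype.ext
    apply Subtype.ext
    rw [e x, e y]
    exact key _ _ _ _ _ _ h1 h4
  calc Nat.card ↥(N.subgroupOf (DDc c3z)) ≤ Nat.card (↥F × ↥CZ) := Nat.card_le_card_of_injective g hg
    _ = F.card * Nat.card ↥CZ := by rw [Nat.card_prod, Nat.card_eq_fintype_card (α := ↥F), Fintype.card_coe]
    _ ≤ W3.length * 1080 := Nat.mul_le_mul (List.toFinset_card_le _) card_CZ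
    _ = 69120 := by rw [len_W3]

theorem card_D : Nat.card ↥(DDc c3z) ≤ 117573120 := by
  have key : ∀ d : ↥(DDc c3z), ∃ k, k < 4096 ∧ cl ((d : Co0) • v8) = spanR fb.B 12 k ∧ TYf k = 4 := by
    intro d
    refine fb.type_of_vec hrepT hleT _ ?_ (t := 4) (by norm_num) ?_
    · rw [← smul_cl, ← mul_smul, ← mem_DDc.1 d.2, mul_smul, c8]
    · rw [co0_sqNorm, v8, norm_u8]
      norm_num
  choose K hK1 hK2 hK3 using key
  have h1 := card_le_of_fibers (N.subgroupOf (DDc c3z)) (X := Fin 1701)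
    (fun d => (⟨IYf (K d), (hIY _ (hK1 d) (hK3 d)).1⟩ : Fin 1701)) (by
      intro a b e
      have e1 : IYf (K a) = IYf (K b) := congrArg Fin.val e
      have e2 : K a = K b := by
        rw [← (hIY _ (hK1 a) (hK3 a)).2, e1, (hIY _ (hK1 b) (hK3 b)).2]
      have e3 : cl ((a : Co0) • v8) = cl ((b : Co0) • v8) := by
        rw [hK2 a, hK2 b, e2]
      rw [mem_subgroupOf]
      show ((a : Co0)⁻¹ * (b : Co0)) ∈ N
      rw [mem_N_iff, mul_smul, smul_cl (b : Co0), ← e3, ← smul_cl, inv_smul_smul])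
  rw [Fintype.card_fin] at h1
  have h2 := card_NC
  nlinarith [h1, h2]

theorem c3z_ne : c3z ≠ 1 := by
  intro h
  have h1 : Monom (1 : Co0) SZ := by
    have := monom_c3z
    rwa [h] at this
  have h2 : SZ = 1 := h1.unique Monom.one
  have h3 := congrArg toLL (congrArg (fun σ : Equiv.Perm GolayPt => (σ : GolayPt → GolayPt)) h2)
  rw [toL_SZ, Cfsg.Agent.Lib.Compute.M24.toL_one] at h3
  revert h3
  decide +kernel

theorem hLc : ∀ d : Co0, d * c3z = c3z * d → ∃ σ ∈ LL, AB.Good d σ := by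
  intro d hd
  obtain ⟨σ, hσ⟩ := fb.exists_good2 hrepT hleT hT2' hT2n hIX d hd
  exact ⟨σ, ⟨d, hd, hσ⟩, hσ⟩

theorem hfixT : ∀ a, cl (c3z • AB.T a) = cl (AB.T a) := by
  intro a
  show cl (c3z • fb.repT hrepT hT2' a) = cl (fb.repT hrepT hT2' a)
  rw [← smul_cl, fb.repT_cl hrepT hT2']
  exact fb.c_span _

/-- The homomorphism. -/
noncomputable abbrev PhiD : ↥(DDc c3z) →* ↥LL := BlockD.phiD (A := AB) hLc

theorem PhiD_surj : Function.Surjective PhiD := by
  rintro ⟨σ, d, hd, hg⟩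
  exact ⟨⟨d, mem_DDc.2 hd⟩, Subtype.ext (BlockD.good_unique (A := AB) hd (BlockD.phiD_spec hLc ⟨d, mem_DDc.2 hd⟩) hg)⟩

/-- The element generating the kernel. -/
noncomputable def x6 : ↥(DDc c3z) := ⟨negCo0 * c3z, mem_DDc.2 (by
  have hn : c3z * negCo0 = negCo0 * c3z := Subgroup.mem_center_iff.1 negCo0_mem_center c3z
  rw [← mul_assoc, hn])⟩

theorem x6_ker : x6 ∈ PhiD.ker := by
  rw [MonoidHom.mem_ker]
  apply Subtype.ext
  have h1 : AB.Good (negCo0 * c3z) ((1 : Equiv.Perm (Fin 378)) * 1) :=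
    BlockD.good_mul rfl BlockD.good_neg (BlockD.good_c hfixT)
  rw [mul_one] at h1
  exact BlockD.good_unique (A := AB) (mem_DDc.1 x6.2) (BlockD.phiD_spec hLc x6) h1

theorem orderOf_x6 : orderOf x6 = 6 := by
  have h0 : orderOf x6 = orderOf (negCo0 * c3z) := by
    rw [← Subgroup.orderOf_coe]
    rfl
  have hn : c3z * negCo0 = negCo0 * c3z := Subgroup.mem_center_iff.1 negCo0_mem_center c3z
  have hc : Commute negCo0 c3z := hn.symm
  have h2 : orderOf negCo0 = 2 := by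
    haveI : Fact (Nat.Prime 2) := ⟨by norm_num⟩
    exact orderOf_eq_prime (by rw [pow_two]; exact Cfsg.Agent.Lib.Sporadic.LeechCentFw.neg_sq) negCo0_ne_one
  have h3 : orderOf c3z = 3 := by
    haveI : Fact (Nat.Prime 3) := ⟨by norm_num⟩
    exact orderOf_eq_prime c3z_pow c3z_ne
  rw [h0, hc.orderOf_mul_eq_mul_orderOf_of_coprime (by rw [h2, h3]; norm_num), h2, h3]

theorem card_HL : Nat.card ↥(HH.subgroupOf LL) = 9797760 := by
  rw [← card_HH]
  exact Nat.card_congr (Subgroup.subgroupOfEquivOfLe hHL).toEquiv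

/-- The element of order three. -/
noncomputable def nuL : ↥LL := ⟨nuP, hHL nuP_mem⟩

theorem tP_mem : tP ∈ LL := by
  have := gen_in_LL 0 (by norm_num)
  exact this

/-- The element inverting. -/
noncomputable def tL : ↥LL := ⟨tP, tP_mem⟩

theorem HL_comm : ∀ x ∈ HH.subgroupOf LL, x * nuL = nuL * x := by
  intro x hx
  exact Subtype.ext (HH_comm _ hx)

theorem tL_ne : tL * nuL ≠ nuL * tL := fun h => tP_ne (congrArg Subtype.val h)

theorem card_LL_ge : 19595520 ≤ Nat.card ↥LL := by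
  have h := two_mul_le HL_comm tL_ne
  rw [card_HL] at h
  omega

theorem card_eq_mul : Nat.card ↥(DDc c3z) = Nat.card PhiD.ker * Nat.card ↥LL := by
  have h1 := Subgroup.card_mul_index PhiD.ker
  rw [Subgroup.index_ker, MonoidHom.range_eq_top.2 PhiD_surj, Subgroup.card_top] at h1
  exact h1.symm

theorem six_le : 6 ≤ Nat.card PhiD.ker := by
  have h1 : zpowers x6 ≤ PhiD.ker := by
    rw [zpowers_le]
    exact x6_ker
  have h2 := Subgroup.card_le_of_le h1
  rwa [Nat.card_zpowers, orderOf_x6] at h2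

theorem card_LL : Nat.card ↥LL = 19595520 := by
  have h1 := card_eq_mul
  have h2 := card_D
  have h3 := six_le
  have h4 := card_LL_ge
  apply le_antisymm _ h4
  by_contra h5
  have h6 : 19595521 ≤ Nat.card ↥LL := by omega
  have : 6 * 19595521 ≤ Nat.card PhiD.ker * Nat.card ↥LL := Nat.mul_le_mul h3 h6
  omega

theorem ker_eq : zpowers x6 = PhiD.ker := by
  have h1 : zpowers x6 ≤ PhiD.ker := by
    rw [zpowers_le]
    exact x6_ker
  apply Subgroup.eq_of_le_of_card_ge h1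
  rw [Nat.card_zpowers, orderOf_x6]
  have h2 := card_eq_mul
  rw [card_LL] at h2
  have h3 := card_D
  omega

theorem hkerA : ∀ d : Co0, d * c3z = c3z * d → AB.Good d 1 → mkC d ∈ zpowers (mkC c3z) := by
  intro d hd hg
  have h1 : (⟨d, mem_DDc.2 hd⟩ : ↥(DDc c3z)) ∈ PhiD.ker := by
    rw [MonoidHom.mem_ker]
    apply Subtype.ext
    exact BlockD.good_unique (A := AB) hd (BlockD.phiD_spec hLc ⟨d, mem_DDc.2 hd⟩) hg
  rw [← ker_eq] at h1
  obtain ⟨k, hk⟩ := mem_zpowers_iff.1 h1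
  refine mem_zpowers_iff.2 ⟨k, ?_⟩
  have h2 : (x6 : Co0) ^ k = d := congrArg Subtype.val hk
  rw [← h2, map_zpow]
  congr 1
  show mkC c3z = mkC (negCo0 * c3z)
  rw [map_mul, mkC_neg, one_mul]

/-- The representatives. -/
noncomputable def repsF (i : Fin 4096) : leechLattice := (hrepT i i.2).choose

theorem repsF_cl (i : Fin 4096) : cl (repsF i) = spanR fb.B 12 i := (hrepT i i.2).choose_spec.1

/-- The data of the centraliser. -/
noncomputable def FF : FxD c3z ↥LL 4096 :=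
  BlockD.toFxD (A := AB) hLc (p := 3) (by decide) c3z_pow
    (fun _ hσ => hσ) hkerA hfixT repsF
    (fun i => by
      rw [← smul_cl, repsF_cl]
      exact fb.c_span _)
    (fun i j e => by
      rw [repsF_cl, repsF_cl] at e
      exact Fin.ext (fb.span_inj i.2 j.2 e))
    (fun v hv => by
      obtain ⟨k, hk, e⟩ := fb.span_cov (cl v) hv
      exact ⟨⟨k, hk⟩, by rw [e, repsF_cl]⟩)
    (fun a => ⟨⟨T2f a, (hT2' a a.2).1⟩, by
      show cl (fb.repT hrepT hT2' a) = _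
      rw [fb.repT_cl hrepT hT2', repsF_cl]⟩)

/-! ### The structure of the group -/

theorem HL_index : (HH.subgroupOf LL).index = 2 := by
  have h1 := Subgroup.card_mul_index (HH.subgroupOf LL)
  rw [card_HL, card_LL] at h1
  omega

theorem tL_notin : tL ∉ HH.subgroupOf LL := by
  intro h
  exact tL_ne (HL_comm _ h)

theorem tL_conj : tL * nuL * tL⁻¹ = nuL⁻¹ := Subtype.ext tP_conj

theorem nuL_ne : nuL ≠ 1 := fun h => nuP_ne (congrArg Subtype.val h)

theorem nuL_pow : nuL ^ 3 = 1 := Subtype.ext nuP_pow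

theorem zp_normal : (zpowers nuL).Normal := by
  constructor
  intro n hn g
  obtain ⟨k, rfl⟩ := mem_zpowers_iff.1 hn
  rw [← conj_zpow]
  apply zpow_mem
  by_cases hg : g ∈ HH.subgroupOf LL
  · have e := HL_comm g hg
    have : g * nuL * g⁻¹ = nuL := by
      rw [e]
      group
    rw [this]
    exact mem_zpowers _
  · rw [dichotomy HL_index HL_comm tL_notin tL_conj g hg]
    exact inv_mem (mem_zpowers _)

/-- The map to the unitary group. -/
theorem exists_phiL : ∃ φ : ↥(HH.subgroupOf LL) →* PSU 4 Cfsg.Agent.Lib.Compute.Schur2.SU43.K9 3, Function.Surjective φ ∧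
    ∀ x : ↥(HH.subgroupOf LL), φ x = 1 ↔ ((x : ↥LL)) ∈ zpowers nuL := by
  obtain ⟨φ, hs, hk⟩ := exists_phi
  let e : ↥(HH.subgroupOf LL) ≃* ↥HH := Subgroup.subgroupOfEquivOfLe hHL
  refine ⟨φ.comp e.toMonoidHom, hs.comp e.surjective, ?_⟩
  intro x
  show φ (e x) = 1 ↔ _
  rw [hk]
  constructor
  · intro h
    obtain ⟨k, hk'⟩ := mem_zpowers_iff.1 h
    exact mem_zpowers_iff.2 ⟨k, Subtype.ext hk'⟩
  · intro h
    obtain ⟨k, hk'⟩ := mem_zpowers_iff.1 h
    exact mem_zpowers_iff.2 ⟨k, congrArg Subtype.val hk'⟩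

instance : Finite (PSU 4 Cfsg.Agent.Lib.Compute.Schur2.SU43.K9 3) :=
  Nat.finite_of_card_ne_zero (by rw [Cfsg.Agent.Lib.Compute.Schur2.SU43.card_PSU']; norm_num)

theorem no_normal_two : ∀ W : Subgroup ↥LL, W.Normal → IsPGroup 2 W → W = ⊥ := by
  intro W hW h2
  obtain ⟨φ, hs, hk⟩ := exists_phiL
  haveI := Cfsg.Agent.Lib.Compute.Schur2.SU43.simple_PSU
  refine no_normal_two_of (P := PSU 4 Cfsg.Agent.Lib.Compute.Schur2.SU43.K9 3) HL_index HL_comm tL_notin tL_conj nuL_pow nuL_ne φ hs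
    (fun x hx => (hk x).1 hx) ?_ W hW h2
  intro k
  rw [Cfsg.Agent.Lib.Compute.Schur2.SU43.card_PSU']
  intro h
  have h3 : 3 ∣ 2 ^ k := by
    rw [← h]
    norm_num
  have := Nat.Prime.dvd_of_dvd_pow (by norm_num) h3
  omega

theorem exists_NM {X : Type*} [Group X] [Finite X] (f : X →* ↥LL) (hf : Function.Surjective f) :
    ∃ (N M : Subgroup X) (_ : N.Normal) (_ : M.Normal), f.ker ≤ N ∧ N ≤ M ∧ Nat.card N = 3 * Nat.card f.ker ∧
      Nonempty (↥M ⧸ N.subgroupOf M ≃* PSU 4 Cfsg.Agent.Lib.Compute.Schur2.SU43.K9 3) ∧ M.index = 2 := by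
  obtain ⟨φ, hs, hk⟩ := exists_phiL
  refine transfer_fischer f hf (H := HH.subgroupOf LL) (ν := nuL) nuP_mem HL_index zp_normal ?_ φ hs hk
  rw [Nat.card_zpowers]
  haveI : Fact (Nat.Prime 3) := ⟨by norm_num⟩
  exact orderOf_eq_prime nuL_pow nuL_ne

end Cfsg.Agent.Lib.Sporadic.LeechCen3
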