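import Mathlib
import Cfsg.Agent.Lib.Sporadic.LeechSeven2
import Cfsg.Agent.Lib.Sporadic.MonsterCent

/-!
# An element of order seven in the automorphism group of the lattice: the kernel
-/

set_option autoImplicit false

namespace Cfsg.Agent.Lib.Sporadic.LeechSeven

open Subgroup Cfsg Cfsg.Agent.Lib.Sporadic.GolayCore
  Cfsg.Agent.Lib.Sporadic.LeechNorm Cfsg.Agent.Lib.Sporadic.LeechFacts
  Cfsg.Agent.Lib.Sporadic.LeechAut Cfsg.Agent.Lib.Sporadic.LeechClasses
  Cfsg.Agent.Lib.Sporadic.LeechAct Cfsg.Agent.Lib.Sporadic.LeechMod2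
  Cfsg.Agent.Lib.Sporadic.LeechLocal Cfsg.Agent.Lib.Sporadic.LeechOrbits
  Cfsg.Agent.Lib.Sporadic.LeechMat Cfsg.Agent.Lib.Sporadic.LeechKey
  Cfsg.Agent.Lib.Sporadic.LeechMonomial
  Cfsg.Agent.Lib.Sporadic.MonsterModel

open Cfsg.Agent.Lib.Sporadic.M24N7 (s7 s7_mem s7L toL_s7 s7_pow7 acc1 acc2 mem1 acc2_rel)
open Cfsg.Agent.Lib.Compute.M24Enum (powL eq_of_toL toL_pow)

local notation "toLL" => Cfsg.Agent.Lib.Compute.M24.toL
local notation "SL3" => Matrix.SpecialLinearGroup (Fin 3) (ZMod 2)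

/-- The words invariant under `s7`. -/
def W8 : List ℕ := [0,2101096,10305542,12406638,4370577,6471673,14676119,16777215]

/-- Words of the code invariant under `s7`. -/
def invar (m : ℕ) : Bool := (List.range 24).all fun i => m.testBit (s7L.getD i 0) == m.testBit i

theorem W8_all : codeList.all (fun m => !(invar m) || W8.contains m) = true := by decide +kernel

theorem W8_code : ∀ m ∈ W8, m ∈ codeList := by decide +kernel

/-- The inverse table. -/
def invT (T : List ℕ) : List ℕ := (List.range 24).map fun j => T.idxOf j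

theorem acc1_inv : acc1.all (fun T => (List.range 24).all (fun i => (invT T).getD (T.getD i 0) 0 == i)) = true := by
  decide +kernel

/-- The action of a monomial element on a list. -/
def monoL (T : List ℕ) (m : ℕ) (l : List ℤ) : List ℤ := signL m (permL (invT T) l)

/-- The element acts trivially on the basis. -/
def triv3 (T : List ℕ) (m : ℕ) : Bool :=
  (List.range 3).all fun i => (List.range 3).all fun j =>
    ((dotL (monoL T m (O1L.getD j [])) (O2L.getD i [])) / 8) % 2 == if i = j then 1 else 0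

def goodTm (T : List ℕ) (m : ℕ) : Bool :=
  (m == 0 || m == 16777215) && (List.range 7).any fun k => T == powL s7L k

theorem ker_chk : acc1.all (fun T => W8.all fun m => !(triv3 T m) || goodTm T m) = true := by decide +kernel

theorem cast_eq_iff (x : ℤ) (e : ℕ) (he : e = 0 ∨ e = 1) : ((x : ℤ) : ZMod 2) = ((e : ℤ) : ZMod 2) ↔ x % 2 = e := by
  rw [ZMod.intCast_eq_intCast_iff']
  push_cast
  rcases he with rfl | rfl <;> simp

theorem mem_DD_of {g : Co0} (h : mkC g * mkC c0 = mkC c0 * mkC g) : g * c0 = c0 * g := by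
  have h1 : mkC ((c0 * g)⁻¹ * (g * c0)) = 1 := by
    rw [map_mul, map_inv, map_mul, map_mul, h]
    group
  rcases (mkC_eq_one_iff _).1 h1 with h2 | h2
  · exact (inv_mul_eq_one.1 h2).symm
  · exfalso
    have hneg : ∀ x : Co0, x * negCo0 = negCo0 * x := fun x =>
      (Subgroup.mem_center_iff.1 negCo0_mem_center x)
    have h3 : g * c0 = c0 * g * negCo0 := by
      rw [← h2]
      group
    have h4 : g * c0 * g⁻¹ = c0 * negCo0 := by
      rw [h3]
      calc c0 * g * negCo0 * g⁻¹ = c0 * (g * negCo0) * g⁻¹ := by group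
        _ = c0 * (negCo0 * g) * g⁻¹ := by rw [hneg g]
        _ = c0 * negCo0 := by group
    have h5 : (g * c0 * g⁻¹) ^ 7 = 1 := by
      rw [conj_pow, c0_pow7]
      group
    rw [h4, (show Commute c0 negCo0 from hneg c0).mul_pow, c0_pow7, one_mul] at h5
    have h6 : negCo0 * negCo0 = 1 := by
      apply co0_ext_u8
      intro i
      apply Subtype.ext
      rw [negCo0_mul_smul, one_smul]
      rw [show negCo0 • u8 i = -u8 i from rfl]
      simp
    have h7 : negCo0 ^ 7 = negCo0 := by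
      have e : negCo0 ^ 7 = (negCo0 * negCo0) * (negCo0 * negCo0) * (negCo0 * negCo0) * negCo0 := by
        simp only [pow_succ, pow_zero, one_mul, mul_assoc]
      rw [e, h6]
      simp
    rw [h7] at h5
    exact negCo0_ne_one h5

/-- The projection of the centraliser. -/
noncomputable def mkD : ↥DD →* ↥(centralizer ({mkC c0} : Set Spor.Co1)) :=
  (mkC.comp DD.subtype).codRestrict _ (fun d => by
    rw [mem_centralizer_singleton_iff]
    show mkC d * mkC c0 = mkC c0 * mkC d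
    rw [← map_mul, ← map_mul, mem_DD.1 d.2])

theorem coe_mkD (d : ↥DD) : ((mkD d : ↥(centralizer ({mkC c0} : Set Spor.Co1))) : Spor.Co1) = mkC (d : Co0) := rfl

theorem mkD_surj : Function.Surjective mkD := by
  rintro ⟨x, hx⟩
  obtain ⟨g, rfl⟩ := QuotientGroup.mk'_surjective (center Co0) x
  rw [mem_centralizer_singleton_iff] at hx
  exact ⟨⟨g, mem_DD.2 (mem_DD_of hx)⟩, rfl⟩

theorem mat_neg : mat negCo0 = 1 := by
  rw [← mat_one]
  ext i j
  rw [mat_apply, mat_apply, one_smul, smul_cl]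
  congr 1
  exact cl_neg' (uY j)

theorem ker_le : mkD.ker ≤ PhiD.ker := by
  rintro ⟨d, hd⟩ h
  rw [MonoidHom.mem_ker] at h ⊢
  have h1 : mkC d = 1 := congrArg Subtype.val h
  apply Subtype.ext
  rw [coe_PhiD]
  rcases (mkC_eq_one_iff d).1 h1 with rfl | rfl
  · exact mat_one
  · exact mat_neg

/-- The homomorphism on the centraliser in `Co1`. -/
noncomputable def phiC : ↥(centralizer ({mkC c0} : Set Spor.Co1)) →* SL3 :=
  (MonoidHom.liftOfSurjective mkD mkD_surj) ⟨PhiD, ker_le⟩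

theorem phiC_mkD (d : ↥DD) : phiC (mkD d) = PhiD d :=
  MonoidHom.liftOfRightInverse_comp_apply mkD _ _ ⟨PhiD, ker_le⟩ d

theorem phiC_surj : Function.Surjective phiC := by
  intro g
  obtain ⟨d, rfl⟩ := PhiD_surj g
  exact ⟨mkD d, phiC_mkD d⟩

/-- The action on the basis is trivial if the matrix is. -/
theorem fix_of_mat {d : Co0} (hd : d * c0 = c0 * d) (h : mat d = 1) (j : Fin 3) : cl (d • uY j) = cl (uY j) := by
  obtain ⟨a', ha'⟩ := closed hd (Fin.castLE (by norm_num) j)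
  obtain ⟨c, hc⟩ := exists_ySum a'
  have h1 : cl (d • uY j) = ySum c := by
    rw [← hc, ← ha']
    rfl
  have h2 : ∀ l, c l = if l = j then 1 else 0 := by
    intro l
    have h3 := congrFun (congrFun h l) j
    rw [mat_apply, smul_cl, h1, pr_ySum, Matrix.one_apply] at h3
    exact h3
  have v1 : (1 : ZMod 2).val = 1 := rfl
  have v0 : (0 : ZMod 2).val = 0 := rfl
  rw [h1, ySum, Finset.sum_eq_single j]
  · rw [h2, if_pos rfl, v1, one_nsmul]
  · intro l _ hl
    rw [h2, if_neg hl, v0, zero_nsmul]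
  · simp

theorem sign_ofMask_zero (hc : ofMask 0 ∈ supports (golayCode : Set (GolayPt → ZMod 2))) : signCo0 (ofMask 0) hc = 1 := by
  apply co0_ext_u8
  intro i
  apply Subtype.ext
  rw [coe_signCo0_smul, one_smul]
  funext p
  simp [signChange]

theorem sign_ofMask_all (hc : ofMask 16777215 ∈ supports (golayCode : Set (GolayPt → ZMod 2))) :
    signCo0 (ofMask 16777215) hc = negCo0 := by
  apply co0_ext_u8
  intro i
  apply Subtype.ext
  rw [coe_signCo0_smul, coe_negCo0_smul]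
  funext p
  have : p ∈ ofMask 16777215 := by
    rw [mem_ofMask]
    revert p
    decide
  simp [signChange, this]

/-- The kernel. -/
theorem mkC_of_mat {d : Co0} (hd : d * c0 = c0 * d) (h : mat d = 1) : mkC d ∈ zpowers (mkC c0) := by
  have h0 := fix_of_mat hd h 0
  have hN : d ∈ N := by
    rw [mem_N_iff_v8, ← O1v_zero]
    exact h0
  obtain ⟨σ, c, hσ⟩ := exists_form hN
  have hM := monom_monoElt σ c
  rw [← hσ] at hM
  have h1 : Monom (d * c0) ((σ : Equiv.Perm GolayPt) * s7) := hM.mul monom_c0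
  have h2 : Monom (c0 * d) (s7 * (σ : Equiv.Perm GolayPt)) := monom_c0.mul hM
  rw [hd] at h1
  have h3 : (σ : Equiv.Perm GolayPt) * s7 = s7 * σ := h1.unique h2
  have hT := mem1 σ.2 (by rw [pow_one]; exact h3)
  -- the sign
  have h4 : signCo0 c.1 c.2 * c0 = c0 * signCo0 c.1 c.2 := by
    have e1 : permCo0 σ.1 σ.2 * c0 = c0 * permCo0 σ.1 σ.2 := by
      have e2 := permCo0_mul σ ⟨s7, s7_mem⟩
      have e3 := permCo0_mul ⟨s7, s7_mem⟩ σ
      have e4 : σ * ⟨s7, s7_mem⟩ = ⟨s7, s7_mem⟩ * σ := Subtype.ext h3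
      rw [e4] at e2
      exact e2.symm.trans e3
    have e5 : signCo0 c.1 c.2 * c0 * permCo0 σ.1 σ.2 = c0 * signCo0 c.1 c.2 * permCo0 σ.1 σ.2 := by
      calc signCo0 c.1 c.2 * c0 * permCo0 σ.1 σ.2 = signCo0 c.1 c.2 * (c0 * permCo0 σ.1 σ.2) := by group
        _ = signCo0 c.1 c.2 * (permCo0 σ.1 σ.2 * c0) := by rw [e1]
        _ = (signCo0 c.1 c.2 * permCo0 σ.1 σ.2) * c0 := by group
        _ = d * c0 := by rw [hσ]; rfl
        _ = c0 * d := hd
        _ = c0 * (signCo0 c.1 c.2 * permCo0 σ.1 σ.2) := by rw [hσ]; rfl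
        _ = c0 * signCo0 c.1 c.2 * permCo0 σ.1 σ.2 := by group
    exact mul_right_cancel e5
  have h5 : ∀ p : GolayPt, s7 p ∈ c.1 ↔ p ∈ c.1 := by
    intro p
    have e1 : (signCo0 c.1 c.2 * c0) • u8 p = (c0 * signCo0 c.1 c.2) • u8 p := by rw [h4]
    have e2 := congrFun (congrArg Subtype.val e1) (s7 p)
    rw [mul_smul, mul_smul] at e2
    have e3 : ((signCo0 c.1 c.2 • c0 • u8 p : leechLattice) : V) (s7 p) =
        if s7 p ∈ c.1 then -(permV s7 (u8 p : V)) (s7 p) else (permV s7 (u8 p : V)) (s7 p) := rfl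
    have e4 : ((c0 • signCo0 c.1 c.2 • u8 p : leechLattice) : V) (s7 p) =
        (signChange c.1 (u8 p : V)) p := by
      show (signChange c.1 (u8 p : V)) (s7.symm (s7 p)) = _
      simp
    rw [e3, e4] at e2
    have e5 : (permV s7 (u8 p : V)) (s7 p) = 8 := by
      show (u8 p : V) (s7.symm (s7 p)) = 8
      simp [coe_u8]
    have e6 : (signChange c.1 (u8 p : V)) p = if p ∈ c.1 then -8 else 8 := by
      simp [signChange, coe_u8]
    rw [e5, e6] at e2
    by_cases h6 : p ∈ c.1 <;> by_cases h7 : s7 p ∈ c.1 <;> simp [h6, h7] at e2 ⊢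
  set m := toMask c.1 with hm
  have hcm : ofMask m = c.1 := ofMask_toMask _
  have hmc : m ∈ codeList := by
    rw [← ofMask_mem_supports_iff (toMask_lt _), hcm]
    exact c.2
  have hinv : invar m = true := by
    simp only [invar, List.all_eq_true, List.mem_range, beq_iff_eq]
    intro i hi
    have hp := h5 (pt i)
    have e1 : idx (pt i) = i := idx_pt hi
    have e2 : s7L.getD i 0 = idx (s7 (pt i)) := by
      rw [← toL_s7, ← e1, toL_getD, e1]
    rw [e2, hm, testBit_toMask]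
    conv_rhs => rw [← e1]
    rw [testBit_toMask]
    simp [hp]
  have hmW : m ∈ W8 := by
    have := List.all_eq_true.1 W8_all m hmc
    rw [hinv] at this
    simpa using this
  set T := toLL (σ : Equiv.Perm GolayPt) with hTdef
  have hTi := List.all_eq_true.1 acc1_inv T hT
  have hcc : ofMask m ∈ supports (golayCode : Set (GolayPt → ZMod 2)) := by
    rw [hcm]
    exact c.2
  have hact : Acts d (monoL T m) := by
    have e1 : d = signCo0 (ofMask m) hcc * permCo0 σ.1 σ.2 := by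
      rw [hσ]
      show signCo0 c.1 c.2 * permCo0 σ.1 σ.2 = _
      congr 1
      simp only [hcm]
    rw [e1]
    exact (acts_sign hcc).comp (acts_of_toL σ.2 hTi)
  have htriv : triv3 T m = true := by
    simp only [triv3, List.all_eq_true, List.mem_range, beq_iff_eq]
    intro i hi j hj
    have h6 := congrFun (congrFun h ⟨i, hi⟩) ⟨j, hj⟩
    rw [mat_apply, uY, O1v, smul_cl, hact.smul (inLattice_sound (O1L_ok _)) (hact.mem (inLattice_sound (O1L_ok _))), fY, O2v, pr_vec, Matrix.one_apply] at h6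
    have h7 : ((if i = j then 1 else 0 : ℕ) : ℕ) = 0 ∨ ((if i = j then 1 else 0 : ℕ) : ℕ) = 1 := by
      split_ifs <;> simp
    have h8 := (cast_eq_iff ((dotL (monoL T m (O1L.getD j [])) (O2L.getD i [])) / 8) (if i = j then 1 else 0) h7).1 (by
      by_cases hij : i = j
      · subst hij
        simpa using h6
      · have hne : (⟨i, hi⟩ : Fin 3) ≠ ⟨j, hj⟩ := fun e => hij (congrArg Fin.val e)
        simpa [hij, hne] using h6)
    rw [h8]
    split_ifs <;> simp
  have hgood : goodTm T m = true := by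
    have := List.all_eq_true.1 (List.all_eq_true.1 ker_chk T hT) m hmW
    rw [htriv] at this
    simpa using this
  simp only [goodTm, Bool.and_eq_true, Bool.or_eq_true, beq_iff_eq, List.any_eq_true, List.mem_range] at hgood
  obtain ⟨hm0, k, hk, hTk⟩ := hgood
  have hσk : (σ : Equiv.Perm GolayPt) = s7 ^ k := by
    apply eq_of_toL
    rw [← hTdef, hTk, toL_pow, toL_s7]
  have hperm : permCo0 σ.1 σ.2 = c0 ^ k := by
    rw [c0_pow_eq]
    congr 1
  have hd2 : d = signCo0 (ofMask m) hcc * c0 ^ k := by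
    rw [← hperm, hσ]
    show signCo0 c.1 c.2 * permCo0 σ.1 σ.2 = _
    congr 1
    simp only [hcm]
  refine ⟨(k : ℤ), ?_⟩
  show mkC c0 ^ (k : ℤ) = mkC d
  rw [zpow_natCast, hd2, map_mul, map_pow]
  rcases hm0 with hm0 | hm0
  · have e : ∀ hcc' : ofMask m ∈ supports (golayCode : Set (GolayPt → ZMod 2)), signCo0 (ofMask m) hcc' = 1 := by
      rw [hm0]
      exact sign_ofMask_zero
    rw [e hcc, map_one, one_mul]
  · have e : ∀ hcc' : ofMask m ∈ supports (golayCode : Set (GolayPt → ZMod 2)), signCo0 (ofMask m) hcc' = negCo0 := by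
      rw [hm0]
      exact sign_ofMask_all
    rw [e hcc, mkC_neg, one_mul]

theorem mat_c0 : mat c0 = 1 := by
  rw [← mat_one]
  ext i j
  rw [mat_apply, mat_apply, one_smul, smul_cl]
  congr 1
  exact O1v_fix _

theorem phiC_ker (x : ↥(centralizer ({mkC c0} : Set Spor.Co1))) :
    phiC x = 1 ↔ (x : Spor.Co1) ∈ zpowers (mkC c0) := by
  obtain ⟨d, rfl⟩ := mkD_surj x
  rw [phiC_mkD, coe_mkD]
  constructor
  · intro h
    apply mkC_of_mat (mem_DD.1 d.2)
    have := congrArg Subtype.val h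
    rw [coe_PhiD] at this
    exact this
  · rintro ⟨k, hk⟩
    have hc0 : PhiD ⟨c0, mem_DD.2 rfl⟩ = 1 := by
      apply Subtype.ext
      rw [coe_PhiD]
      exact mat_c0
    have h1 : mkD ((⟨c0, mem_DD.2 rfl⟩ : ↥DD) ^ k) = mkD d := by
      apply Subtype.ext
      rw [map_zpow]
      exact hk
    rw [← phiC_mkD, ← h1, phiC_mkD, map_zpow, hc0, one_zpow]

theorem O1v_eq_RLv (i : Fin 7) : RLv ⟨50 + i.val, by omega⟩ = O1v i := by
  apply Subtype.ext
  show vecOf (RL.getD (50 + i.val) []) = vecOf (O1L.getD i.val [])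
  rw [RL_O1 ⟨50 + i.val, by omega⟩ (by simp) (by simp; omega)]
  simp

theorem O2v_eq_RLv (i : Fin 7) : RLv ⟨57 + i.val, by omega⟩ = O2v i := by
  apply Subtype.ext
  show vecOf (RL.getD (57 + i.val) []) = vecOf (O2L.getD i.val [])
  rw [RL_O2 ⟨57 + i.val, by omega⟩ (by simp)]
  simp

/-- The data. -/
noncomputable def heldData : MonsterModel.FxD c0 SL3 64 where
  reps := RLv
  fix := RLv_fix
  inj := fun _ _ h => RLv_inj h
  cov := fix_cases
  phi := phiC
  phi_surj := phiC_surj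
  phi_ker := phiC_ker
  triv := by
    intro g hg h
    have hd := mem_DD_of hg
    apply mkC_of_mat hd
    ext i j
    rw [mat_apply, smul_cl, Matrix.one_apply]
    have h1 := h ⟨50 + (Fin.castLE (by norm_num : 3 ≤ 7) j).val, by simp; omega⟩
    have e : RLv ⟨50 + (Fin.castLE (by norm_num : 3 ≤ 7) j).val, by simp; omega⟩ = uY j := O1v_eq_RLv _
    rw [e] at h1
    rw [h1]
    exact dual i j

/-! ### An element squaring `c0` -/

theorem exists_tau : ∃ t : Co0, t ∈ N ∧ t * c0 = c0 ^ 2 * t := by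
  obtain ⟨g, hg, ex⟩ := Cfsg.Agent.Lib.Compute.M24.exists_of_inM24 (L := [0,1,2,11,17,5,6,4,10,3,21,9,15,12,16,13,19,7,23,14,18,8,22,20]) (by decide +kernel)
  have hrel : g * s7 = s7 ^ 2 * g := by
    apply eq_of_toL
    rw [Cfsg.Agent.Lib.Compute.M24Enum.toL_mul, Cfsg.Agent.Lib.Compute.M24Enum.toL_mul, toL_pow, toL_s7, ex]
    decide +kernel
  refine ⟨permCo0 g hg, monom_mem_N (monom_perm ⟨g, hg⟩), ?_⟩
  have e2 := permCo0_mul ⟨g, hg⟩ ⟨s7, s7_mem⟩
  have e3 := permCo0_mul ⟨s7 ^ 2, pow_mem s7_mem 2⟩ ⟨g, hg⟩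
  have e4 : (⟨g, hg⟩ : Cfsg.M24) * ⟨s7, s7_mem⟩ = ⟨s7 ^ 2, pow_mem s7_mem 2⟩ * ⟨g, hg⟩ := Subtype.ext hrel
  rw [e4] at e2
  have e5 : c0 ^ 2 = permCo0 (s7 ^ 2) (pow_mem s7_mem 2) := c0_pow_eq 2
  rw [e5]
  exact e2.symm.trans e3

theorem exists_y0 {w : leechLattice} (hw : cl (c0 • w) = cl w) (hn : sqNorm (w : V) = 64) :
    ∃ y : Co0, cl (y • w) = cl w ∧ y * c0 = c0 ^ 2 * y := by
  obtain ⟨t, htN, ht⟩ := exists_tau
  have htv : t • cl v8 = cl v8 := mem_N_iff.1 htN
  have key : ∀ e : Co0, cl (e • w) = cl v8 → cl ((e⁻¹ * t * e) • w) = cl w := by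
    intro e he
    have h1 : cl ((e⁻¹ * t * e) • w) = e⁻¹ • (t • cl (e • w)) := by
      rw [smul_cl, smul_cl, mul_smul, mul_smul]
    rw [h1, he, htv, ← he, smul_cl, inv_smul_smul]
  rcases t4_cases w hw hn with ⟨a, ha⟩ | ⟨a, ha⟩
  · obtain ⟨e, he, he1⟩ := exists_eA a
    have hew : cl (e • w) = cl v8 := by rw [← smul_cl, ha, smul_cl, he1]
    refine ⟨e⁻¹ * t * e, key e hew, ?_⟩
    have he' : e⁻¹ * c0 = c0 * e⁻¹ := by
      calc e⁻¹ * c0 = e⁻¹ * (c0 * e) * e⁻¹ := by group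
        _ = e⁻¹ * (e * c0) * e⁻¹ := by rw [he]
        _ = c0 * e⁻¹ := by group
    have he2 : e⁻¹ * c0 ^ 2 = c0 ^ 2 * e⁻¹ := by
      rw [pow_two]
      calc e⁻¹ * (c0 * c0) = (e⁻¹ * c0) * c0 := by group
        _ = (c0 * e⁻¹) * c0 := by rw [he']
        _ = c0 * (e⁻¹ * c0) := by group
        _ = c0 * (c0 * e⁻¹) := by rw [he']
        _ = c0 * c0 * e⁻¹ := by group
    calc e⁻¹ * t * e * c0 = e⁻¹ * t * (e * c0) := by group
      _ = e⁻¹ * t * (c0 * e) := by rw [he]
      _ = e⁻¹ * (t * c0) * e := by group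
      _ = e⁻¹ * (c0 ^ 2 * t) * e := by rw [ht]
      _ = (e⁻¹ * c0 ^ 2) * t * e := by group
      _ = (c0 ^ 2 * e⁻¹) * t * e := by rw [he2]
      _ = c0 ^ 2 * (e⁻¹ * t * e) := by group
  · obtain ⟨e, he, he1⟩ := exists_eB a
    have hew : cl (e • w) = cl v8 := by rw [← smul_cl, ha, smul_cl, he1]
    refine ⟨e⁻¹ * t * e, key e hew, ?_⟩
    have h1 : e * c0 = c0⁻¹ * e := by
      rw [eq_inv_mul_iff_mul_eq]
      exact he
    have h2 : e⁻¹ * c0⁻¹ = c0 * e⁻¹ := by
      calc e⁻¹ * c0⁻¹ = e⁻¹ * (c0⁻¹ * e) * e⁻¹ := by group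
        _ = e⁻¹ * (e * c0) * e⁻¹ := by rw [h1]
        _ = c0 * e⁻¹ := by group
    have h3 : t * c0⁻¹ = (c0 ^ 2)⁻¹ * t := by
      calc t * c0⁻¹ = (c0 ^ 2)⁻¹ * (c0 ^ 2 * t) * c0⁻¹ := by group
        _ = (c0 ^ 2)⁻¹ * (t * c0) * c0⁻¹ := by rw [ht]
        _ = (c0 ^ 2)⁻¹ * t := by group
    have h4 : e⁻¹ * (c0 ^ 2)⁻¹ = c0 ^ 2 * e⁻¹ := by
      have e5 : (c0 ^ 2)⁻¹ = c0⁻¹ * c0⁻¹ := by rw [pow_two, mul_inv_rev]
      rw [e5, pow_two]
      calc e⁻¹ * (c0⁻¹ * c0⁻¹) = (e⁻¹ * c0⁻¹) * c0⁻¹ := by group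
        _ = (c0 * e⁻¹) * c0⁻¹ := by rw [h2]
        _ = c0 * (e⁻¹ * c0⁻¹) := by group
        _ = c0 * (c0 * e⁻¹) := by rw [h2]
        _ = c0 * c0 * e⁻¹ := by group
    calc e⁻¹ * t * e * c0 = e⁻¹ * t * (e * c0) := by group
      _ = e⁻¹ * t * (c0⁻¹ * e) := by rw [h1]
      _ = e⁻¹ * (t * c0⁻¹) * e := by group
      _ = e⁻¹ * ((c0 ^ 2)⁻¹ * t) * e := by rw [h3]
      _ = (e⁻¹ * (c0 ^ 2)⁻¹) * t * e := by group
      _ = (c0 ^ 2 * e⁻¹) * t * e := by rw [h4]
      _ = c0 ^ 2 * (e⁻¹ * t * e) := by group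

theorem no_normal_two (W : Subgroup SL3) (hW : W.Normal) (h2 : IsPGroup 2 W) : W = ⊥ := by
  haveI := Cfsg.Agent.S3035.simple_SL3
  rcases hW.eq_bot_or_eq_top with h | h
  · exact h
  · exfalso
    obtain ⟨k, hk⟩ := IsPGroup.iff_card.1 h2
    rw [h, Subgroup.card_top, Nat.card_eq_fintype_card, Cfsg.Agent.S3035.card_SL3] at hk
    have h3 : (7 : ℕ) ∣ 2 ^ k := by
      rw [← hk]
      norm_num
    have := (Nat.prime_dvd_prime_iff_eq (by norm_num) Nat.prime_two).1 ((by norm_num : Nat.Prime 7).dvd_of_dvd_pow h3)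
    omega

end Cfsg.Agent.Lib.Sporadic.LeechSeven
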