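import Mathlib
import Cfsg.Agent.Lib.Sporadic.LeechSeven3

/-!
# Centralisers in `Co0`: a framework

Given an element `c` of odd order in `Co0`, a finite set of classes of the lattice modulo two permuted by the
centraliser of `c`, and a finite set `Ω` with an incidence with these classes, we obtain homomorphisms of the
centraliser to the symmetric group of `Ω`.
-/

set_option autoImplicit false

namespace Cfsg.Agent.Lib.Sporadic.LeechCentFw

open Subgroup Cfsg Cfsg.Agent.Lib.Sporadic.GolayCore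
  Cfsg.Agent.Lib.Sporadic.LeechNorm Cfsg.Agent.Lib.Sporadic.LeechFacts
  Cfsg.Agent.Lib.Sporadic.LeechAut Cfsg.Agent.Lib.Sporadic.LeechClasses
  Cfsg.Agent.Lib.Sporadic.LeechAct Cfsg.Agent.Lib.Sporadic.LeechMod2
  Cfsg.Agent.Lib.Sporadic.LeechLocal Cfsg.Agent.Lib.Sporadic.LeechOrbits
  Cfsg.Agent.Lib.Sporadic.LeechMat Cfsg.Agent.Lib.Sporadic.LeechKey
  Cfsg.Agent.Lib.Sporadic.LeechMonomial
  Cfsg.Agent.Lib.Sporadic.LeechSeven
  Cfsg.Agent.Lib.Sporadic.MonsterModel

local notation "toLL" => Cfsg.Agent.Lib.Compute.M24.toL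

open Cfsg.Agent.Lib.Compute.M24 (mulL idL toL_one)

theorem neg_sq : negCo0 * negCo0 = 1 := by
  apply co0_ext_u8
  intro i
  apply Subtype.ext
  rw [negCo0_mul_smul, one_smul]
  rw [show negCo0 • u8 i = -u8 i from rfl]
  simp

theorem neg_pow_odd {p : ℕ} (hp : Odd p) : negCo0 ^ p = negCo0 := by
  obtain ⟨k, rfl⟩ := hp
  rw [pow_succ, pow_mul, pow_two, neg_sq, one_pow, one_mul]

section comm

variable {c : Co0} {p : ℕ}

theorem comm_inv {d : Co0} (hd : d * c = c * d) : d⁻¹ * c = c * d⁻¹ := by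
  calc d⁻¹ * c = d⁻¹ * (c * d) * d⁻¹ := by group
    _ = d⁻¹ * (d * c) * d⁻¹ := by rw [hd]
    _ = c * d⁻¹ := by group

theorem comm_of_mk (hp : Odd p) (hc : c ^ p = 1) {g : Co0} (h : mkC g * mkC c = mkC c * mkC g) : g * c = c * g := by
  have h1 : mkC ((c * g)⁻¹ * (g * c)) = 1 := by
    rw [map_mul, map_inv, map_mul, map_mul, h]
    group
  rcases (mkC_eq_one_iff _).1 h1 with h2 | h2
  · exact (inv_mul_eq_one.1 h2).symm
  · exfalso
    have hneg : ∀ x : Co0, x * negCo0 = negCo0 * x := fun x =>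
      (Subgroup.mem_center_iff.1 negCo0_mem_center x)
    have h3 : g * c = c * g * negCo0 := by
      rw [← h2]
      group
    have h4 : g * c * g⁻¹ = c * negCo0 := by
      rw [h3]
      calc c * g * negCo0 * g⁻¹ = c * (g * negCo0) * g⁻¹ := by group
        _ = c * (negCo0 * g) * g⁻¹ := by rw [hneg g]
        _ = c * negCo0 := by group
    have h5 : (g * c * g⁻¹) ^ p = 1 := by
      rw [conj_pow, hc]
      group
    rw [h4, (show Commute c negCo0 from hneg c).mul_pow, hc, one_mul, neg_pow_odd hp] at h5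
    exact negCo0_ne_one h5

/-- The centraliser. -/
abbrev DDc (c : Co0) : Subgroup Co0 := centralizer ({c} : Set Co0)

theorem mem_DDc {d : Co0} : d ∈ DDc c ↔ d * c = c * d := mem_centralizer_singleton_iff

/-- The projection of the centraliser. -/
noncomputable def mkDc (c : Co0) : ↥(DDc c) →* ↥(centralizer ({mkC c} : Set Spor.Co1)) :=
  (mkC.comp (DDc c).subtype).codRestrict _ (fun d => by
    rw [mem_centralizer_singleton_iff]
    show mkC d * mkC c = mkC c * mkC d
    rw [← map_mul, ← map_mul, mem_DDc.1 d.2])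

theorem coe_mkDc (d : ↥(DDc c)) : ((mkDc c d : ↥(centralizer ({mkC c} : Set Spor.Co1))) : Spor.Co1) = mkC (d : Co0) := rfl

theorem mkDc_surj (hp : Odd p) (hc : c ^ p = 1) : Function.Surjective (mkDc c) := by
  rintro ⟨x, hx⟩
  obtain ⟨g, rfl⟩ := QuotientGroup.mk'_surjective (center Co0) x
  rw [mem_centralizer_singleton_iff] at hx
  exact ⟨⟨g, mem_DDc.2 (comm_of_mk hp hc hx)⟩, rfl⟩

end comm

/-! ### The incidence -/

/-- Classes permuted by the centraliser, with an incidence. -/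
structure BlockD (c : Co0) (Ω : Type*) (nT : ℕ) where
  T : Fin nT → leechLattice
  T_inj : ∀ a a', cl (T a) = cl (T a') → a = a'
  closed : ∀ d : Co0, d * c = c * d → ∀ a, ∃ a', cl (d • T a) = cl (T a')
  inc : Ω → Fin nT → Bool
  inc_inj : ∀ ω ω', (∀ a, inc ω a = inc ω' a) → ω = ω'

variable {c : Co0} {Ω : Type*} {nT : ℕ} (A : BlockD c Ω nT)

/-- An element of `Co0` induces a permutation of `Ω`. -/
def BlockD.Good (d : Co0) (σ : Equiv.Perm Ω) : Prop :=
  ∀ a a', cl (d • A.T a) = cl (A.T a') → ∀ ω, A.inc (σ ω) a' = A.inc ω a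

namespace BlockD

variable {A}

theorem good_one : A.Good 1 1 := by
  intro a a' h ω
  rw [one_smul] at h
  rw [A.T_inj _ _ h]
  rfl

theorem good_mul {d d' : Co0} {σ σ' : Equiv.Perm Ω} (hd' : d' * c = c * d') (h : A.Good d σ) (h' : A.Good d' σ') :
    A.Good (d * d') (σ * σ') := by
  intro a a' e ω
  obtain ⟨b, hb⟩ := A.closed d' hd' a
  have e1 : cl (d • A.T b) = cl (A.T a') := by
    rw [← e, mul_smul, ← smul_cl, ← hb, smul_cl]
  rw [Equiv.Perm.mul_apply, h b a' e1, h' a b hb]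

theorem good_inv {d : Co0} {σ : Equiv.Perm Ω} (h : A.Good d σ) : A.Good d⁻¹ σ⁻¹ := by
  intro a a' e ω
  have e1 : cl (d • A.T a') = cl (A.T a) := by
    calc cl (d • A.T a') = d • cl (A.T a') := (smul_cl _ _).symm
      _ = d • cl (d⁻¹ • A.T a) := by rw [e]
      _ = cl (A.T a) := by rw [smul_cl, smul_inv_smul]
  have := h a' a e1 (σ⁻¹ ω)
  have e2 : σ (σ⁻¹ ω) = ω := by simp
  rw [e2] at this
  exact this.symm

theorem good_unique {d : Co0} {σ σ' : Equiv.Perm Ω} (hd : d * c = c * d) (h : A.Good d σ) (h' : A.Good d σ') : σ = σ' := by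
  ext ω
  have key : σ ω = σ' ω := by
    apply A.inc_inj
    intro a'
    obtain ⟨a, ha⟩ := A.closed d⁻¹ (comm_inv hd) a'
    have e1 : cl (d • A.T a) = cl (A.T a') := by
      calc cl (d • A.T a) = d • cl (A.T a) := (smul_cl _ _).symm
        _ = d • cl (d⁻¹ • A.T a') := by rw [ha]
        _ = cl (A.T a') := by rw [smul_cl, smul_inv_smul]
    rw [h a a' e1, h' a a' e1]
  rw [key]

theorem good_neg : A.Good negCo0 1 := by
  intro a a' e ω
  rw [show negCo0 • A.T a = -A.T a from rfl, cl_neg'] at e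
  rw [A.T_inj _ _ e]
  rfl

theorem good_c (hfix : ∀ a, cl (c • A.T a) = cl (A.T a)) : A.Good c 1 := by
  intro a a' e ω
  rw [hfix] at e
  rw [A.T_inj _ _ e]
  rfl

variable {L : Subgroup (Equiv.Perm Ω)} (hL : ∀ d : Co0, d * c = c * d → ∃ σ ∈ L, A.Good d σ)

/-- The homomorphism on the centraliser in `Co0`. -/
noncomputable def phiD : ↥(DDc c) →* ↥L where
  toFun d := ⟨(hL d (mem_DDc.1 d.2)).choose, (hL d (mem_DDc.1 d.2)).choose_spec.1⟩
  map_one' := Subtype.ext (good_unique (A := A) (by simp) (hL _ (mem_DDc.1 (1 : ↥(DDc c)).2)).choose_spec.2 good_one)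
  map_mul' := by
    intro x y
    apply Subtype.ext
    exact good_unique (A := A) (mem_DDc.1 (x * y).2) (hL _ (mem_DDc.1 (x * y).2)).choose_spec.2
      (good_mul (mem_DDc.1 y.2) (hL _ (mem_DDc.1 x.2)).choose_spec.2 (hL _ (mem_DDc.1 y.2)).choose_spec.2)

theorem phiD_spec (d : ↥(DDc c)) : A.Good (d : Co0) ((phiD hL d : ↥L) : Equiv.Perm Ω) :=
  (hL d (mem_DDc.1 d.2)).choose_spec.2

theorem ker_le : (mkDc c).ker ≤ (phiD hL).ker := by
  rintro ⟨d, hd⟩ h
  rw [MonoidHom.mem_ker] at h ⊢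
  have h1 : mkC d = 1 := congrArg Subtype.val h
  apply Subtype.ext
  rcases (mkC_eq_one_iff d).1 h1 with rfl | rfl
  · exact good_unique (A := A) (by simp) (phiD_spec hL ⟨1, hd⟩) good_one
  · exact good_unique (A := A) (mem_DDc.1 hd) (phiD_spec hL ⟨negCo0, hd⟩) good_neg

variable {p : ℕ} (hp : Odd p) (hcp : c ^ p = 1)

/-- The homomorphism on the centraliser in `Co1`. -/
noncomputable def phiC : ↥(centralizer ({mkC c} : Set Spor.Co1)) →* ↥L :=
  (MonoidHom.liftOfSurjective (mkDc c) (mkDc_surj hp hcp)) ⟨phiD hL, ker_le hL⟩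

theorem phiC_mk (d : ↥(DDc c)) : phiC hL hp hcp (mkDc c d) = phiD hL d :=
  MonoidHom.liftOfRightInverse_comp_apply (mkDc c) _ _ ⟨phiD hL, ker_le hL⟩ d

/-- The data for the centraliser. -/
noncomputable def toFxD
    (hsurj : ∀ σ ∈ L, ∃ d : Co0, d * c = c * d ∧ A.Good d σ)
    (hker : ∀ d : Co0, d * c = c * d → A.Good d 1 → mkC d ∈ zpowers (mkC c))
    (hfix : ∀ a, cl (c • A.T a) = cl (A.T a))
    {n : ℕ} (reps : Fin n → leechLattice)
    (fix : ∀ i, cl (c • reps i) = cl (reps i))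
    (inj : ∀ i j, cl (reps i) = cl (reps j) → i = j)
    (cov : ∀ v : leechLattice, cl (c • v) = cl v → ∃ i, cl v = cl (reps i))
    (hT : ∀ a, ∃ i, cl (A.T a) = cl (reps i)) : MonsterModel.FxD c ↥L n where
  reps := reps
  fix := fix
  inj := inj
  cov := cov
  phi := phiC hL hp hcp
  phi_surj := by
    rintro ⟨σ, hσ⟩
    obtain ⟨d, hd, hg⟩ := hsurj σ hσ
    refine ⟨mkDc c ⟨d, mem_DDc.2 hd⟩, ?_⟩
    rw [phiC_mk]
    exact Subtype.ext (good_unique (A := A) hd (phiD_spec hL ⟨d, mem_DDc.2 hd⟩) hg)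
  phi_ker := by
    intro x
    obtain ⟨d, rfl⟩ := mkDc_surj hp hcp x
    rw [phiC_mk, coe_mkDc]
    constructor
    · intro h
      apply hker d (mem_DDc.1 d.2)
      have := phiD_spec hL d
      rwa [h] at this
    · rintro ⟨k, hk⟩
      have hc0 : phiD hL ⟨c, mem_DDc.2 rfl⟩ = 1 :=
        Subtype.ext (good_unique (A := A) rfl (phiD_spec hL ⟨c, mem_DDc.2 rfl⟩) (good_c hfix))
      have h1 : mkDc c ((⟨c, mem_DDc.2 rfl⟩ : ↥(DDc c)) ^ k) = mkDc c d := by
        apply Subtype.ext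
        rw [map_zpow]
        exact hk
      rw [← phiC_mk hL hp hcp, ← h1, phiC_mk, map_zpow, hc0, one_zpow]
  triv := by
    intro g hg h
    have hd := comm_of_mk hp hcp hg
    apply hker g hd
    intro a a' e ω
    obtain ⟨i, hi⟩ := hT a
    have h1 : cl (g • A.T a) = cl (A.T a) := by
      rw [← smul_cl, hi, smul_cl, h, ← hi]
    rw [h1] at e
    rw [A.T_inj _ _ e]
    rfl

/-- The covering property from transitivity. -/
theorem cover_of {T0 : Fin nT} (hT0 : cl (A.T T0) = cl v8)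
    (htrans : ∀ a, ∃ (e : Co0) (σ : Equiv.Perm Ω), e * c = c * e ∧ σ ∈ L ∧ A.Good e σ ∧ cl (e • A.T a) = cl (A.T T0))
    (hN : ∀ n ∈ N, n * c = c * n → ∃ ρ ∈ L, A.Good n ρ) :
    ∀ d : Co0, d * c = c * d → ∃ σ ∈ L, A.Good d σ := by
  intro d hd
  obtain ⟨a, ha⟩ := A.closed d hd T0
  obtain ⟨e, σ, he, hσ, hg, hcl⟩ := htrans a
  have hn : e * d ∈ N := by
    rw [mem_N_iff, ← hT0, smul_cl, mul_smul, ← smul_cl e, ha, smul_cl, hcl]
  have hcomm : (e * d) * c = c * (e * d) := by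
    calc (e * d) * c = e * (d * c) := by group
      _ = e * (c * d) := by rw [hd]
      _ = (e * c) * d := by group
      _ = (c * e) * d := by rw [he]
      _ = c * (e * d) := by group
  obtain ⟨ρ, hρ, hg2⟩ := hN _ hn hcomm
  refine ⟨σ⁻¹ * ρ, mul_mem (inv_mem hσ) hρ, ?_⟩
  have e1 : d = e⁻¹ * (e * d) := by group
  rw [e1]
  exact good_mul hcomm (good_inv hg) hg2

/-- The kernel. -/
theorem ker_of {T0 : Fin nT} (hT0 : cl (A.T T0) = cl v8) {Stab : Set (Equiv.Perm Ω)}
    (hsame : ∀ a, (∀ ω, A.inc ω a = A.inc ω T0) → a ≠ T0 → ∃ (e : Co0) (σ : Equiv.Perm Ω), e * c = c * e ∧ σ ∉ Stab ∧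
      A.Good e σ ∧ cl (e • A.T a) = cl (A.T T0))
    (hN : ∀ n ∈ N, n * c = c * n → ∃ ρ ∈ Stab, A.Good n ρ)
    (hkerN : ∀ n ∈ N, n * c = c * n → A.Good n 1 → mkC n ∈ zpowers (mkC c)) :
    ∀ d : Co0, d * c = c * d → A.Good d 1 → mkC d ∈ zpowers (mkC c) := by
  intro d hd hg
  obtain ⟨a, ha⟩ := A.closed d hd T0
  have hs : ∀ ω, A.inc ω a = A.inc ω T0 := fun ω => hg T0 a ha ω
  by_cases h0 : a = T0
  · subst h0
    apply hkerN d _ hd hg
    rw [mem_N_iff, ← hT0, smul_cl, ha]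
  · exfalso
    obtain ⟨e, σ, he, hσ, hge, hcl⟩ := hsame a hs h0
    have hn : e * d ∈ N := by
      rw [mem_N_iff, ← hT0, smul_cl, mul_smul, ← smul_cl e, ha, smul_cl, hcl]
    have hcomm : (e * d) * c = c * (e * d) := by
      calc (e * d) * c = e * (d * c) := by group
        _ = e * (c * d) := by rw [hd]
        _ = (e * c) * d := by group
        _ = (c * e) * d := by rw [he]
        _ = c * (e * d) := by group
    obtain ⟨ρ, hρ, hg2⟩ := hN _ hn hcomm
    have h1 := good_unique (A := A) hcomm hg2 (good_mul hd hge hg)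
    rw [h1, mul_one] at hρ
    exact hσ hρ

end BlockD

/-! ### Tables -/

/-- The value of a functional. -/
def fValG (act : List ℤ → List ℤ) (gF : List (List ℤ)) (i : ℕ) (a : List ℤ) : ℤ :=
  (dotL a (gF.getD i []) / 8 - dotL a (act (gF.getD i [])) / 8) % 2

/-- The key of a vector. -/
def keyG (sep : List (List ℤ)) (a : List ℤ) : List ℤ := sep.map fun s => (dotL a s / 8) % 2

/-- A number from a key. -/
def numOf (l : List ℤ) : ℕ := l.foldr (fun b acc => 2 * acc + b.toNat) 0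

/-- The table of classes fixed by an element. -/
structure FixTab (c : Co0) (act : List ℤ → List ℤ) (gF tF RL sep : List (List ℤ)) (r n n0 : ℕ) : Prop where
  hact : Acts c act
  len : RL.length = n
  card : 2 ^ 24 = n * 2 ^ r
  gF_ok : ∀ i : Fin r, inLattice (gF.getD i []) = true
  tF_ok : ∀ i : Fin r, inLattice (tF.getD i []) = true
  RL_ok : ∀ i : Fin n, inLattice (RL.getD i []) = true
  dual : ∀ i j : Fin r, fValG act gF i (tF.getD j []) = if i = j then 1 else 0
  ker : ∀ (i : Fin r) (j : Fin n), fValG act gF i (RL.getD j []) = 0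
  sep_ok : ∀ s ∈ sep, inLattice s = true
  keys : (RL.map (keyG sep)).Nodup
  fix : ∀ i : Fin n, congL (act (RL.getD i [])) (RL.getD i []) = true
  low : ∀ i : Fin n, i.val < n0 → normL (RL.getD i []) ≤ 48
  high : ∀ i : Fin n, n0 ≤ i.val → normL (RL.getD i []) = 64
  le : n0 ≤ n

namespace FixTab

variable {c : Co0} {act : List ℤ → List ℤ} {gF tF RL sep : List (List ℤ)} {r n n0 : ℕ}
  (h : FixTab c act gF tF RL sep r n n0)

include h

/-- A functional. -/
noncomputable def gv (i : Fin r) : leechLattice := ⟨vecOf (gF.getD i []), inLattice_sound (h.gF_ok i)⟩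

/-- A dual vector. -/
noncomputable def tv (i : Fin r) : leechLattice := ⟨vecOf (tF.getD i []), inLattice_sound (h.tF_ok i)⟩

/-- A representative. -/
noncomputable def rv (i : Fin n) : leechLattice := ⟨vecOf (RL.getD i []), inLattice_sound (h.RL_ok i)⟩

theorem c_gv (i : Fin r) : c • h.gv i = ⟨vecOf (act (gF.getD i [])), h.hact.mem (inLattice_sound (h.gF_ok i))⟩ :=
  h.hact.smul _ _

/-- The map whose kernel contains the fixed classes. -/
noncomputable def Fn : Q →+ (Fin r → ZMod 2) :=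
  AddMonoidHom.mk' (fun x i => pr (h.gv i) x - pr (c • h.gv i) x) (by
    intro x y
    funext i
    simp only [map_add, Pi.add_apply]
    abel)

theorem Fn_apply {a : List ℤ} (ha : vecOf a ∈ leechLattice) (i : Fin r) :
    h.Fn (cl ⟨vecOf a, ha⟩) i = ((fValG act gF i a : ℤ) : ZMod 2) := by
  show pr (h.gv i) _ - pr (c • h.gv i) _ = _
  rw [h.c_gv, gv, pr_vec, pr_vec, fValG, cast_mod2]
  push_cast
  rfl

theorem Fn_tv (i j : Fin r) : h.Fn (cl (h.tv j)) i = if i = j then 1 else 0 := by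
  rw [tv, h.Fn_apply, h.dual]
  split_ifs <;> simp

theorem Fn_surj : Function.Surjective h.Fn := by
  intro a
  refine ⟨∑ j, (a j).val • cl (h.tv j), ?_⟩
  funext i
  rw [map_sum, Finset.sum_apply]
  simp only [map_nsmul, Pi.smul_apply, h.Fn_tv, nsmul_eq_mul]
  rw [Finset.sum_eq_single i]
  · simp
  · intro b _ hb
    simp [Ne.symm hb]
  · simp

theorem card_ker_Fn : Nat.card h.Fn.ker = n := by
  have h1 := AddSubgroup.card_mul_index h.Fn.ker
  rw [AddSubgroup.index_ker, AddMonoidHom.range_eq_top.2 h.Fn_surj, AddSubgroup.card_top, card_Q] at h1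
  have h2 : Nat.card (Fin r → ZMod 2) = 2 ^ r := by
    rw [Nat.card_eq_fintype_card]
    simp [ZMod.card]
  rw [h2, h.card] at h1
  exact Nat.eq_of_mul_eq_mul_right (by positivity) h1

theorem rv_mem (i : Fin n) : cl (h.rv i) ∈ h.Fn.ker := by
  rw [AddMonoidHom.mem_ker]
  funext j
  rw [rv, h.Fn_apply, h.ker]
  simp

theorem keyG_congr {a b : List ℤ} (ha : vecOf a ∈ leechLattice) (hb : vecOf b ∈ leechLattice)
    (e : cl ⟨vecOf a, ha⟩ = cl ⟨vecOf b, hb⟩) : keyG sep a = keyG sep b := by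
  unfold keyG
  apply List.map_congr_left
  intro s hsm
  have hsL := inLattice_sound (h.sep_ok s hsm)
  have h1 := cl_dot e ⟨vecOf s, hsL⟩
  have e1 : dotInt (vecOf a) (vecOf s) = dotL a s := dotInt_vecOf a s
  have e2 : dotInt (vecOf b) (vecOf s) = dotL b s := dotInt_vecOf b s
  have h2 := eight_dvd_dot ha hsL
  have h3 := eight_dvd_dot hb hsL
  simp only at h1
  rw [e1, e2] at h1
  rw [e1] at h2
  rw [e2] at h3
  omega

theorem rv_inj {i j : Fin n} (e : cl (h.rv i) = cl (h.rv j)) : i = j := by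
  have h1 := h.keyG_congr _ _ e
  have hlen : (RL.map (keyG sep)).length = n := by rw [List.length_map, h.len]
  have hi : i.val < RL.length := by rw [h.len]; exact i.2
  have hj : j.val < RL.length := by rw [h.len]; exact j.2
  rw [List.getD_eq_getElem _ _ hi, List.getD_eq_getElem _ _ hj] at h1
  have h2 : (RL.map (keyG sep))[i.val]'(by rw [hlen]; exact i.2) = (RL.map (keyG sep))[j.val]'(by rw [hlen]; exact j.2) := by
    simpa using h1
  exact Fin.ext ((h.keys.getElem_inj_iff).1 h2)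

theorem fix_mem_ker (v : leechLattice) (hv : cl (c • v) = cl v) : cl v ∈ h.Fn.ker := by
  rw [AddMonoidHom.mem_ker]
  funext i
  show pr (h.gv i) _ - pr (c • h.gv i) _ = 0
  rw [pr_cl, pr_cl]
  have h1 := cl_dot hv (c • h.gv i)
  rw [Cfsg.Agent.Lib.Sporadic.LeechA0.co0_dotInt] at h1
  obtain ⟨x, hx⟩ := eight_dvd_dot v.2 (h.gv i).2
  obtain ⟨y, hy⟩ := eight_dvd_dot v.2 (c • h.gv i).2
  rw [hx, hy] at h1 ⊢
  rw [Int.mul_ediv_cancel_left _ (by norm_num), Int.mul_ediv_cancel_left _ (by norm_num)]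
  rw [← Int.cast_sub, ZMod.intCast_zmod_eq_zero_iff_dvd]
  push_cast
  omega

/-- The classes fixed by `c`. -/
theorem cov (v : leechLattice) (hv : cl (c • v) = cl v) : ∃ i, cl v = cl (h.rv i) := by
  let f : Fin n → h.Fn.ker := fun i => ⟨cl (h.rv i), h.rv_mem i⟩
  have hf : Function.Injective f := fun i j e => h.rv_inj (congrArg Subtype.val e)
  have hb := (Function.Injective.bijective_of_nat_card_le hf (by
    rw [h.card_ker_Fn, Nat.card_eq_fintype_card]; simp))
  obtain ⟨i, hi⟩ := hb.2 ⟨cl v, h.fix_mem_ker v hv⟩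
  exact ⟨i, (congrArg Subtype.val hi).symm⟩

theorem rv_fix (i : Fin n) : cl (c • h.rv i) = cl (h.rv i) := by
  rw [rv, h.hact.smul (inLattice_sound (h.RL_ok i)) (h.hact.mem (inLattice_sound (h.RL_ok i)))]
  exact cl_of_congL _ _ (h.fix i)

/-- The classes of type four. -/
noncomputable def T (a : Fin (n - n0)) : leechLattice := h.rv ⟨n0 + a.val, by omega⟩

theorem T_norm (a : Fin (n - n0)) : sqNorm (h.T a : V) = 64 :=
  (sqNorm_vecOf _).trans (h.high ⟨n0 + a.val, by omega⟩ (by simp))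

theorem T_inj (a a' : Fin (n - n0)) (e : cl (h.T a) = cl (h.T a')) : a = a' := by
  have := h.rv_inj e
  have h2 := congrArg Fin.val this
  simp only at h2
  exact Fin.ext (by omega)

theorem T_fix (a : Fin (n - n0)) : cl (c • h.T a) = cl (h.T a) := h.rv_fix _

theorem t4_cases (v : leechLattice) (hv : cl (c • v) = cl v) (hn : sqNorm (v : V) = 64) :
    ∃ a, cl v = cl (h.T a) := by
  obtain ⟨i, hi⟩ := h.cov v hv
  have hnorm : sqNorm (h.rv i : V) = normL (RL.getD i []) := sqNorm_vecOf _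
  by_cases h50 : i.val < n0
  · exfalso
    have h1 := h.low i h50
    rw [← hnorm] at h1
    have hne : v ≠ h.rv i := by
      rintro rfl
      omega
    rcases short_cong v (h.rv i) hne (by omega) (by omega) hi with h2 | h2
    · rw [h2] at hn
      simp only [NegMemClass.coe_neg, sqNorm_neg] at hn
      omega
    · omega
  · refine ⟨⟨i.val - n0, by have := i.2; omega⟩, ?_⟩
    rw [hi]
    congr 2
    apply Fin.ext
    simp only
    omega

theorem closed (d : Co0) (hd : d * c = c * d) (a : Fin (n - n0)) : ∃ a', cl (d • h.T a) = cl (h.T a') := by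
  apply h.t4_cases
  · rw [← mul_smul, ← hd, mul_smul, ← smul_cl, h.T_fix, smul_cl]
  · rw [co0_sqNorm]
    exact h.T_norm a

/-- The structure with an incidence. -/
noncomputable def toBlock {Ω : Type*} (inc : Ω → Fin (n - n0) → Bool)
    (inc_inj : ∀ ω ω', (∀ a, inc ω a = inc ω' a) → ω = ω') : BlockD c Ω (n - n0) where
  T := h.T
  T_inj := h.T_inj
  closed := h.closed
  inc := inc
  inc_inj := inc_inj

/-- The keys as numbers are invariants of classes. -/
theorem numOf_congr {a b : List ℤ} (ha : vecOf a ∈ leechLattice) (hb : vecOf b ∈ leechLattice)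
    (e : cl ⟨vecOf a, ha⟩ = cl ⟨vecOf b, hb⟩) : numOf (keyG sep a) = numOf (keyG sep b) := by
  rw [h.keyG_congr ha hb e]

/-- The incidence from tables. -/
def incT {Ω : Type*} (OB T4K : List ℕ) (code : Ω → ℕ) {m : ℕ} (ω : Ω) (a : Fin m) : Bool :=
  (OB.getD (T4K.getD a.val 0) 0).testBit (code ω)

/-- Checking an element by tables. -/
theorem good_of_K {Ω : Type*} {OB T4K : List ℕ} {code : Ω → ℕ}
    (hK : ∀ a : Fin (n - n0), numOf (keyG sep (RL.getD (n0 + a.val) [])) = T4K.getD a.val 0)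
    (inc_inj : ∀ ω ω', (∀ a : Fin (n - n0), incT OB T4K code ω a = incT OB T4K code ω' a) → ω = ω')
    {d : Co0} {f : List ℤ → List ℤ} (hd : Acts d f) {σ : Equiv.Perm Ω} {K : List ℕ}
    (h1 : ∀ a : Fin (n - n0), numOf (keyG sep (f (RL.getD (n0 + a.val) []))) = K.getD a.val 0)
    (h2 : ∀ (a : Fin (n - n0)) (ω : Ω), (OB.getD (K.getD a.val 0) 0).testBit (code (σ ω)) =
      (OB.getD (T4K.getD a.val 0) 0).testBit (code ω)) :
    (h.toBlock (incT OB T4K code) inc_inj).Good d σ := by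
  intro a a' e ω
  have hm := inLattice_sound (h.RL_ok ⟨n0 + a.val, by omega⟩)
  have e1 : d • (h.T a) = ⟨vecOf (f (RL.getD (n0 + a.val) [])), hd.mem hm⟩ := hd.smul hm (hd.mem hm)
  have e2 := h.numOf_congr (hd.mem hm) (inLattice_sound (h.RL_ok ⟨n0 + a'.val, by omega⟩)) (by
    show cl _ = cl (h.T a')
    rw [← e1]
    exact e)
  have e3 := hK a'
  simp only at e2
  show (OB.getD (T4K.getD a'.val 0) 0).testBit (code (σ ω)) = (OB.getD (T4K.getD a.val 0) 0).testBit (code ω)
  rw [← h2 a ω, ← h1, e2, e3]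

end FixTab

/-! ### Elements of the monomial group commuting with a permutation -/

/-- Words invariant under a table. -/
def invarT (sL : List ℕ) (m : ℕ) : Bool := (List.range 24).all fun i => m.testBit (sL.getD i 0) == m.testBit i

theorem perm_comm {σ s : Equiv.Perm GolayPt} (hσ : σ ∈ M24) (hs : s ∈ M24) (h : σ * s = s * σ) :
    permCo0 σ hσ * permCo0 s hs = permCo0 s hs * permCo0 σ hσ := by
  have e2 := permCo0_mul ⟨σ, hσ⟩ ⟨s, hs⟩
  have e3 := permCo0_mul ⟨s, hs⟩ ⟨σ, hσ⟩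
  have e4 : (⟨σ, hσ⟩ : Cfsg.M24) * ⟨s, hs⟩ = ⟨s, hs⟩ * ⟨σ, hσ⟩ := Subtype.ext h
  rw [e4] at e2
  exact e2.symm.trans e3

theorem form_of_comm {s : Equiv.Perm GolayPt} (hs : s ∈ M24) {d : Co0} (hN : d ∈ N)
    (hd : d * permCo0 s hs = permCo0 s hs * d) :
    ∃ (σ : Cfsg.M24) (m : ℕ) (hcc : ofMask m ∈ supports (golayCode : Set (GolayPt → ZMod 2))),
      d = signCo0 (ofMask m) hcc * permCo0 σ.1 σ.2 ∧ (σ : Equiv.Perm GolayPt) * s = s * σ ∧ m ∈ codeList ∧
      invarT (toLL s) m = true := by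
  obtain ⟨σ, c, hσ⟩ := exists_form hN
  have hM := monom_monoElt σ c
  rw [← hσ] at hM
  have hms : Monom (permCo0 s hs) s := monom_perm ⟨s, hs⟩
  have h1 : Monom (d * permCo0 s hs) ((σ : Equiv.Perm GolayPt) * s) := hM.mul hms
  have h2 : Monom (permCo0 s hs * d) (s * (σ : Equiv.Perm GolayPt)) := hms.mul hM
  rw [hd] at h1
  have h3 : (σ : Equiv.Perm GolayPt) * s = s * σ := h1.unique h2
  have h4 : signCo0 c.1 c.2 * permCo0 s hs = permCo0 s hs * signCo0 c.1 c.2 := by
    have e1 : permCo0 σ.1 σ.2 * permCo0 s hs = permCo0 s hs * permCo0 σ.1 σ.2 := perm_comm σ.2 hs h3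
    have e5 : signCo0 c.1 c.2 * permCo0 s hs * permCo0 σ.1 σ.2 = permCo0 s hs * signCo0 c.1 c.2 * permCo0 σ.1 σ.2 := by
      calc signCo0 c.1 c.2 * permCo0 s hs * permCo0 σ.1 σ.2 = signCo0 c.1 c.2 * (permCo0 s hs * permCo0 σ.1 σ.2) := by group
        _ = signCo0 c.1 c.2 * (permCo0 σ.1 σ.2 * permCo0 s hs) := by rw [e1]
        _ = (signCo0 c.1 c.2 * permCo0 σ.1 σ.2) * permCo0 s hs := by group
        _ = d * permCo0 s hs := by rw [hσ]; rfl
        _ = permCo0 s hs * d := hd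
        _ = permCo0 s hs * (signCo0 c.1 c.2 * permCo0 σ.1 σ.2) := by rw [hσ]; rfl
        _ = permCo0 s hs * signCo0 c.1 c.2 * permCo0 σ.1 σ.2 := by group
    exact mul_right_cancel e5
  have h5 : ∀ p : GolayPt, s p ∈ c.1 ↔ p ∈ c.1 := by
    intro p
    have e1 : (signCo0 c.1 c.2 * permCo0 s hs) • u8 p = (permCo0 s hs * signCo0 c.1 c.2) • u8 p := by rw [h4]
    have e2 := congrFun (congrArg Subtype.val e1) (s p)
    rw [mul_smul, mul_smul] at e2
    have e3 : ((signCo0 c.1 c.2 • permCo0 s hs • u8 p : leechLattice) : V) (s p) =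
        if s p ∈ c.1 then -(permV s (u8 p : V)) (s p) else (permV s (u8 p : V)) (s p) := rfl
    have e4 : ((permCo0 s hs • signCo0 c.1 c.2 • u8 p : leechLattice) : V) (s p) =
        (signChange c.1 (u8 p : V)) p := by
      show (signChange c.1 (u8 p : V)) (s.symm (s p)) = _
      simp
    rw [e3, e4] at e2
    have e5 : (permV s (u8 p : V)) (s p) = 8 := by
      show (u8 p : V) (s.symm (s p)) = 8
      simp [coe_u8]
    have e6 : (signChange c.1 (u8 p : V)) p = if p ∈ c.1 then -8 else 8 := by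
      simp [signChange, coe_u8]
    rw [e5, e6] at e2
    by_cases h6 : p ∈ c.1 <;> by_cases h7 : s p ∈ c.1 <;> simp [h6, h7] at e2 ⊢
  set m := toMask c.1 with hm
  have hcm : ofMask m = c.1 := ofMask_toMask _
  have hmc : m ∈ codeList := by
    rw [← ofMask_mem_supports_iff (toMask_lt _), hcm]
    exact c.2
  have hinv : invarT (toLL s) m = true := by
    simp only [invarT, List.all_eq_true, List.mem_range, beq_iff_eq]
    intro i hi
    have hp := h5 (pt i)
    have e1 : idx (pt i) = i := idx_pt hi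
    have e2 : (toLL s).getD i 0 = idx (s (pt i)) := by
      rw [← e1, toL_getD, e1]
    rw [e2, hm, testBit_toMask]
    conv_rhs => rw [← e1]
    rw [testBit_toMask]
    simp [hp]
  have hcc : ofMask m ∈ supports (golayCode : Set (GolayPt → ZMod 2)) := by
    rw [hcm]
    exact c.2
  refine ⟨σ, m, hcc, ?_, h3, hmc, hinv⟩
  rw [hσ]
  show signCo0 c.1 c.2 * permCo0 σ.1 σ.2 = _
  congr 1
  simp only [hcm]

/-! ### Words -/

/-- The table of a word. -/
def evalW (gL : List (List ℕ)) (w : List ℕ) : List ℕ := w.foldr (fun i acc => mulL (gL.getD i []) acc) idL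

theorem exists_word {Pred : Equiv.Perm GolayPt → Prop} (h1 : Pred 1) (hmul : ∀ x y, Pred x → Pred y → Pred (x * y))
    {gL : List (List ℕ)} (hg : ∀ i, i < gL.length → ∃ g : Equiv.Perm GolayPt, toLL g = gL.getD i [] ∧ Pred g)
    (w : List ℕ) (hw : ∀ i ∈ w, i < gL.length) :
    ∃ g : Equiv.Perm GolayPt, toLL g = evalW gL w ∧ Pred g := by
  induction w with
  | nil => exact ⟨1, toL_one, h1⟩
  | cons i w ih =>
    obtain ⟨g, hg1, hg2⟩ := ih (fun j hj => hw j (List.mem_cons_of_mem _ hj))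
    obtain ⟨g', hg1', hg2'⟩ := hg i (hw i (List.mem_cons_self))
    refine ⟨g' * g, ?_, hmul _ _ hg2' hg2⟩
    rw [Cfsg.Agent.Lib.Compute.M24Enum.toL_mul, hg1, hg1']
    simp only [evalW, List.foldr_cons]

/-! ### Even permutations -/

theorem alternating_le {α : Type*} [Fintype α] [DecidableEq α] (R : Subgroup (Equiv.Perm α)) {a₀ b₀ : α} (hab : a₀ ≠ b₀)
    (h : ∀ x y : α, x ≠ y → Equiv.swap x y * Equiv.swap a₀ b₀ ∈ R) : alternatingGroup α ≤ R := by
  set τ := Equiv.swap a₀ b₀ with hτ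
  have hττ : τ * τ = 1 := Equiv.swap_mul_self a₀ b₀
  have key : ∀ σ : Equiv.Perm α, (Equiv.Perm.sign σ = 1 → σ ∈ R) ∧ (Equiv.Perm.sign σ = -1 → σ * τ ∈ R) := by
    intro σ
    induction σ using Equiv.Perm.swap_induction_on' with
    | one =>
      refine ⟨fun _ => one_mem _, fun h1 => ?_⟩
      simp at h1
    | mul_swap f x y hxy ih =>
      have hs : Equiv.Perm.sign (f * Equiv.swap x y) = - Equiv.Perm.sign f := by
        rw [map_mul, Equiv.Perm.sign_swap hxy]
        simp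
      constructor
      · intro h1
        rw [hs] at h1
        have h2 : Equiv.Perm.sign f = -1 := by
          rw [← neg_neg (Equiv.Perm.sign f), h1]
        have h3 := ih.2 h2
        have h4 := h x y hxy
        have hτi : τ⁻¹ = τ := Equiv.swap_inv _ _
        have e : f * Equiv.swap x y = (f * τ) * (Equiv.swap x y * τ)⁻¹ := by
          rw [mul_inv_rev, hτi, Equiv.swap_inv]
          calc f * Equiv.swap x y = f * (τ * τ) * Equiv.swap x y := by rw [hττ, mul_one]
            _ = _ := by group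
        rw [e]
        exact mul_mem h3 (inv_mem h4)
      · intro h1
        rw [hs] at h1
        have h2 : Equiv.Perm.sign f = 1 := by
          have := congrArg Neg.neg h1
          simpa using this
        have h3 := ih.1 h2
        have h4 := h x y hxy
        have e : f * Equiv.swap x y * τ = f * (Equiv.swap x y * τ) := by group
        rw [e]
        exact mul_mem h3 h4
  intro σ hσ
  exact (key σ).1 (Equiv.Perm.mem_alternatingGroup.1 hσ)

/-! ### Powers of permutations -/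

theorem perm_one (h1 : (1 : Equiv.Perm GolayPt) ∈ M24) : permCo0 1 h1 = 1 := by
  have e := permCo0_mul ⟨1, h1⟩ ⟨1, h1⟩
  have e1 : (⟨1, h1⟩ : Cfsg.M24) * ⟨1, h1⟩ = ⟨1, h1⟩ := Subtype.ext (mul_one _)
  rw [e1] at e
  exact left_eq_mul.1 e

theorem perm_pow {s : Equiv.Perm GolayPt} (hs : s ∈ M24) (k : ℕ) : permCo0 s hs ^ k = permCo0 (s ^ k) (pow_mem hs k) := by
  induction k with
  | zero =>
    rw [pow_zero]
    exact (perm_one _).symm
  | succ k ih =>
    rw [pow_succ, ih]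
    have := permCo0_mul ⟨s ^ k, pow_mem hs k⟩ ⟨s, hs⟩
    exact this.symm.trans (by congr 1; exact (pow_succ s k).symm)

/-! ### Paths of generators -/

namespace BlockD

variable {c : Co0} {Ω : Type*} {nT : ℕ} {A : BlockD c Ω nT}

section path

variable {ι : Type*} (gE : ι → Co0) (gF : ι → List ℤ → List ℤ) (gρ : ι → Equiv.Perm Ω)

/-- The element of a path. -/
def pathE : List ι → Co0
  | [] => 1
  | k :: p => pathE p * gE k

/-- The permutation of a path. -/
def pathR : List ι → Equiv.Perm Ω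
  | [] => 1
  | k :: p => pathR p * gρ k

/-- The action of a path on vectors. -/
def pathF : List ι → List ℤ → List ℤ
  | [], l => l
  | k :: p, l => pathF p (gF k l)

variable {gE gF gρ}

theorem pathE_comm (hc : ∀ i, gE i * c = c * gE i) (p : List ι) : pathE gE p * c = c * pathE gE p := by
  induction p with
  | nil => simp [pathE]
  | cons k p ih =>
    simp only [pathE]
    calc pathE gE p * gE k * c = pathE gE p * (gE k * c) := by group
      _ = pathE gE p * (c * gE k) := by rw [hc]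
      _ = (pathE gE p * c) * gE k := by group
      _ = (c * pathE gE p) * gE k := by rw [ih]
      _ = c * (pathE gE p * gE k) := by group

theorem pathE_acts (ha : ∀ i, Acts (gE i) (gF i)) (p : List ι) : Acts (pathE gE p) (pathF gF p) := by
  induction p with
  | nil =>
    intro l hl
    simp [pathE, pathF]
  | cons k p ih =>
    exact ih.comp (ha k)

theorem pathR_mem {L : Subgroup (Equiv.Perm Ω)} (hL : ∀ i, gρ i ∈ L) (p : List ι) : pathR gρ p ∈ L := by
  induction p with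
  | nil => exact one_mem _
  | cons k p ih => exact mul_mem ih (hL k)

theorem path_good (hc : ∀ i, gE i * c = c * gE i) (hg : ∀ i, A.Good (gE i) (gρ i)) (p : List ι) :
    A.Good (pathE gE p) (pathR gρ p) := by
  induction p with
  | nil => exact good_one
  | cons k p ih => exact good_mul (hc k) ih (hg k)

end path

/-- The permutations induced by the centraliser. -/
def goodRange (A : BlockD c Ω nT) : Subgroup (Equiv.Perm Ω) where
  carrier := {σ | ∃ d : Co0, d * c = c * d ∧ A.Good d σ}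
  one_mem' := ⟨1, by simp, good_one⟩
  mul_mem' := by
    rintro _ _ ⟨d, hd, hg⟩ ⟨d', hd', hg'⟩
    refine ⟨d * d', ?_, good_mul hd' hg hg'⟩
    calc d * d' * c = d * (d' * c) := by group
      _ = d * (c * d') := by rw [hd']
      _ = (d * c) * d' := by group
      _ = (c * d) * d' := by rw [hd]
      _ = c * (d * d') := by group
  inv_mem' := by
    rintro _ ⟨d, hd, hg⟩
    exact ⟨d⁻¹, comm_inv hd, good_inv hg⟩

theorem mem_goodRange {σ : Equiv.Perm Ω} : σ ∈ A.goodRange ↔ ∃ d : Co0, d * c = c * d ∧ A.Good d σ := Iff.rfl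

/-! ### The monomial part -/

theorem N_part {s : Equiv.Perm GolayPt} (hs : s ∈ M24) (hcs : c = permCo0 s hs) (S0 : Submonoid (Equiv.Perm Ω))
    {acc : List (List ℕ)} {W : List ℕ} (hacc : ∀ (σ : Equiv.Perm GolayPt), σ ∈ M24 → σ * s = s * σ → toLL σ ∈ acc)
    (hW : ∀ m ∈ codeList, invarT (toLL s) m = true → m ∈ W)
    (hperm : ∀ (σ : Equiv.Perm GolayPt) (hσ : σ ∈ M24), toLL σ ∈ acc → ∃ ρ ∈ S0, A.Good (permCo0 σ hσ) ρ)
    (hsign : ∀ m ∈ W, ∀ hcc : ofMask m ∈ supports (golayCode : Set (GolayPt → ZMod 2)),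
      ∃ ρ ∈ S0, A.Good (signCo0 (ofMask m) hcc) ρ) :
    ∀ n ∈ N, n * c = c * n → ∃ ρ ∈ S0, A.Good n ρ := by
  subst hcs
  intro n hn hcomm
  obtain ⟨σ, m, hcc, e, h3, hmc, hinv⟩ := form_of_comm hs hn hcomm
  obtain ⟨ρ₁, hρ₁, hg₁⟩ := hsign m (hW m hmc hinv) hcc
  obtain ⟨ρ₂, hρ₂, hg₂⟩ := hperm σ.1 σ.2 (hacc σ.1 σ.2 h3)
  refine ⟨ρ₁ * ρ₂, mul_mem hρ₁ hρ₂, ?_⟩
  rw [e]
  exact good_mul (perm_comm σ.2 hs h3) hg₁ hg₂

theorem perm_of_words {s : Equiv.Perm GolayPt} (hs : s ∈ M24) (hcs : c = permCo0 s hs) (S0 : Submonoid (Equiv.Perm Ω))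
    {gL : List (List ℕ)} {ws : List (List ℕ)}
    (hg : ∀ i, i < gL.length → ∃ (g : Equiv.Perm GolayPt) (hgm : g ∈ M24), toLL g = gL.getD i [] ∧ g * s = s * g ∧
      ∃ ρ ∈ S0, A.Good (permCo0 g hgm) ρ)
    (hws : ∀ w ∈ ws, ∀ i ∈ w, i < gL.length) :
    ∀ (σ : Equiv.Perm GolayPt) (hσ : σ ∈ M24), toLL σ ∈ ws.map (evalW gL) → ∃ ρ ∈ S0, A.Good (permCo0 σ hσ) ρ := by
  subst hcs
  intro σ hσ h
  obtain ⟨w, hw, e⟩ := List.mem_map.1 h
  obtain ⟨g, hg1, hg2m, -, hg2⟩ := exists_word (Pred := fun g => ∃ hgm : g ∈ M24, g * s = s * g ∧ ∃ ρ ∈ S0, A.Good (permCo0 g hgm) ρ)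
    ⟨one_mem _, by simp, 1, one_mem _, by rw [perm_one]; exact good_one⟩ (by
      rintro x y ⟨hx, hxs, ρ, hρ, hgx⟩ ⟨hy, hys, ρ', hρ', hgy⟩
      refine ⟨mul_mem hx hy, ?_, ρ * ρ', mul_mem hρ hρ', ?_⟩
      · calc x * y * s = x * (y * s) := by group
          _ = x * (s * y) := by rw [hys]
          _ = (x * s) * y := by group
          _ = (s * x) * y := by rw [hxs]
          _ = s * (x * y) := by group
      · have e2 := permCo0_mul ⟨x, hx⟩ ⟨y, hy⟩
        have e3 : permCo0 (x * y) (mul_mem hx hy) = permCo0 x hx * permCo0 y hy := e2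
        rw [e3]
        exact good_mul (perm_comm hy hs hys) hgx hgy) (fun i hi => by
      obtain ⟨g, hgm, h1, h2, h3⟩ := hg i hi
      exact ⟨g, h1, hgm, h2, h3⟩) w (hws w hw)
  have : σ = g := by
    apply Cfsg.Agent.Lib.Compute.M24Enum.eq_of_toL
    rw [hg1, e]
  subst this
  exact hg2

end BlockD

/-! ### The kernel on the monomial part -/

/-- Triviality of the incidence. -/
def trivChk (sep RL : List (List ℤ)) (n0 nT : ℕ) (OB T4K : List ℕ) (nΩ : ℕ) (T : List ℕ) (m : ℕ) : Bool :=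
  (List.range nT).all fun a => (List.range nΩ).all fun j =>
    (OB.getD (numOf (keyG sep (monoL T m (RL.getD (n0 + a) [])))) 0).testBit j == (OB.getD (T4K.getD a 0) 0).testBit j

/-- The elements of the kernel. -/
def goodTmG (sL : List ℕ) (p : ℕ) (T : List ℕ) (m : ℕ) : Bool :=
  (m == 0 || m == 16777215) && (List.range p).any fun k => T == Cfsg.Agent.Lib.Compute.M24Enum.powL sL k

theorem kerN_part {c : Co0} {act : List ℤ → List ℤ} {gF tF RL sep : List (List ℤ)} {r n n0 : ℕ}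
    (h : FixTab c act gF tF RL sep r n n0) {s : Equiv.Perm GolayPt} (hs : s ∈ M24) (hcs : c = permCo0 s hs)
    {Ω : Type*} {OB T4K : List ℕ} {code : Ω → ℕ}
    (hK : ∀ a : Fin (n - n0), numOf (keyG sep (RL.getD (n0 + a.val) [])) = T4K.getD a.val 0)
    (inc_inj : ∀ ω ω', (∀ a : Fin (n - n0), FixTab.incT OB T4K code ω a = FixTab.incT OB T4K code ω' a) → ω = ω')
    {acc : List (List ℕ)} {W : List ℕ} (hacc : ∀ (σ : Equiv.Perm GolayPt), σ ∈ M24 → σ * s = s * σ → toLL σ ∈ acc)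
    (hW : ∀ m ∈ codeList, invarT (toLL s) m = true → m ∈ W)
    (hinv : ∀ T ∈ acc, (List.range 24).all (fun i => (invT T).getD (T.getD i 0) 0 == i) = true)
    {nΩ : ℕ} (hcode : ∀ j, j < nΩ → ∃ ω, code ω = j) (p : ℕ)
    (hchk : acc.all (fun T => W.all fun m => !(trivChk sep RL n0 (n - n0) OB T4K nΩ T m) || goodTmG (toLL s) p T m) = true) :
    ∀ x ∈ N, x * c = c * x → (h.toBlock (FixTab.incT OB T4K code) inc_inj).Good x 1 → mkC x ∈ zpowers (mkC c) := by
  subst hcs
  intro x hx hcomm hgood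
  obtain ⟨σ, m, hcc, e, h3, hmc, hinv'⟩ := form_of_comm hs hx hcomm
  have hT := hacc σ.1 σ.2 h3
  have hmW := hW m hmc hinv'
  set T := toLL (σ : Equiv.Perm GolayPt) with hTdef
  have hTi := hinv T hT
  have hact : Acts x (monoL T m) := by
    rw [e]
    exact (acts_sign hcc).comp (acts_of_toL σ.2 hTi)
  have htriv : trivChk sep RL n0 (n - n0) OB T4K nΩ T m = true := by
    simp only [trivChk, List.all_eq_true, List.mem_range, beq_iff_eq]
    intro a ha j hj
    obtain ⟨ω, rfl⟩ := hcode j hj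
    obtain ⟨a', ha'⟩ := h.closed x hcomm ⟨a, ha⟩
    have hm := inLattice_sound (h.RL_ok ⟨n0 + a, by omega⟩)
    have e1 : x • (h.T ⟨a, ha⟩) = ⟨vecOf (monoL T m (RL.getD (n0 + a) [])), hact.mem hm⟩ := hact.smul hm (hact.mem hm)
    have e2 := h.numOf_congr (hact.mem hm) (inLattice_sound (h.RL_ok ⟨n0 + a'.val, by omega⟩)) (by
      show cl _ = cl (h.T a')
      rw [← e1]
      exact ha')
    have e3 := hK a'
    simp only at e2
    rw [e2, e3]
    exact hgood ⟨a, ha⟩ a' ha' ω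
  have hgd : goodTmG (toLL s) p T m = true := by
    have := List.all_eq_true.1 (List.all_eq_true.1 hchk T hT) m hmW
    rw [htriv] at this
    simpa using this
  simp only [goodTmG, Bool.and_eq_true, Bool.or_eq_true, beq_iff_eq, List.any_eq_true, List.mem_range] at hgd
  obtain ⟨hm0, k, hk, hTk⟩ := hgd
  have hσk : (σ : Equiv.Perm GolayPt) = s ^ k := by
    apply Cfsg.Agent.Lib.Compute.M24Enum.eq_of_toL
    rw [← hTdef, hTk, Cfsg.Agent.Lib.Compute.M24Enum.toL_pow]
  have hperm : permCo0 σ.1 σ.2 = permCo0 s hs ^ k := by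
    rw [perm_pow]
    congr 1
  refine ⟨(k : ℤ), ?_⟩
  show mkC (permCo0 s hs) ^ (k : ℤ) = mkC x
  rw [zpow_natCast, e, hperm, map_mul, map_pow]
  rcases hm0 with hm0 | hm0
  · have e5 : ∀ hcc' : ofMask m ∈ supports (golayCode : Set (GolayPt → ZMod 2)), signCo0 (ofMask m) hcc' = 1 := by
      rw [hm0]
      exact sign_ofMask_zero
    rw [e5 hcc, map_one, one_mul]
  · have e5 : ∀ hcc' : ofMask m ∈ supports (golayCode : Set (GolayPt → ZMod 2)), signCo0 (ofMask m) hcc' = negCo0 := by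
      rw [hm0]
      exact sign_ofMask_all
    rw [e5 hcc, mkC_neg, one_mul]

end Cfsg.Agent.Lib.Sporadic.LeechCentFw
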