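import Mathlib
import Cfsg.Agent.Lib.Sporadic.LeechCentFw

/-!
# A faster test for the kernel
-/

set_option autoImplicit false

namespace Cfsg.Agent.Lib.Sporadic.LeechCentFw

open Cfsg.Agent.Lib.Sporadic.LeechMat Cfsg.Agent.Lib.Sporadic.LeechSeven

/-- A faster test. -/
def baseChk (sep RL : List (List ℤ)) (n0 : ℕ) (OB T4K base : List ℕ) (T : List ℕ) (m : ℕ) : Bool :=
  base.all fun a => OB.getD (numOf (keyG sep (monoL T m (RL.getD (n0 + a) [])))) 0 == OB.getD (T4K.getD a 0) 0

theorem eq_of_bits {x y n : ℕ} (hx : x < 2 ^ n) (hy : y < 2 ^ n) (h : ∀ j, j < n → x.testBit j = y.testBit j) : x = y := by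
  apply Nat.eq_of_testBit_eq
  intro j
  by_cases hj : j < n
  · exact h j hj
  · have h2 : 2 ^ n ≤ 2 ^ j := Nat.pow_le_pow_right (by norm_num) (not_lt.1 hj)
    rw [Nat.testBit_eq_false_of_lt (lt_of_lt_of_le hx h2), Nat.testBit_eq_false_of_lt (lt_of_lt_of_le hy h2)]

theorem getD_lt_of_all {OB : List ℕ} {N : ℕ} (hN : 0 < N) (hOB : OB.all (fun x => Nat.blt x N) = true) (x : ℕ) : OB.getD x 0 < N := by
  by_cases hx : x < OB.length
  · rw [List.getD_eq_getElem _ _ hx]
    have h1 := List.all_eq_true.1 hOB _ (List.getElem_mem hx)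
    simpa [Nat.blt_eq] using h1
  · rw [List.getD_eq_default _ _ (not_lt.1 hx)]
    exact hN

theorem chk_of_base {sep RL : List (List ℤ)} {n0 nT : ℕ} {OB T4K : List ℕ} {nΩ : ℕ} {acc : List (List ℕ)} {W : List ℕ}
    {sL : List ℕ} {p : ℕ} (base : List ℕ) (hb : ∀ a ∈ base, a < nT) (hOB : OB.all (fun x => Nat.blt x (2 ^ nΩ)) = true)
    (h : acc.all (fun T => W.all fun m => !(baseChk sep RL n0 OB T4K base T m) || goodTmG sL p T m) = true) :
    acc.all (fun T => W.all fun m => !(trivChk sep RL n0 nT OB T4K nΩ T m) || goodTmG sL p T m) = true := by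
  simp only [List.all_eq_true] at h ⊢
  intro T hT m hm
  have h1 := h T hT m hm
  cases ht : trivChk sep RL n0 nT OB T4K nΩ T m
  · simp
  · have h2 : baseChk sep RL n0 OB T4K base T m = true := by
      simp only [baseChk, List.all_eq_true, beq_iff_eq]
      intro a ha
      simp only [trivChk, List.all_eq_true, List.mem_range, beq_iff_eq] at ht
      exact eq_of_bits (getD_lt_of_all (by positivity) hOB _) (getD_lt_of_all (by positivity) hOB _)
        (fun j hj => ht a (hb a ha) j hj)
    rw [h2] at h1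
    simpa using h1

end Cfsg.Agent.Lib.Sporadic.LeechCentFw
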