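import Mathlib
import Cfsg.Agent.Lib.Sporadic.LeechCentFw2

/-!
# Reducing a search in the Mathieu group, and tables of keys
-/

set_option autoImplicit false

namespace Cfsg.Agent.Lib.Sporadic.LeechCentFw

open Cfsg Cfsg.Agent.Lib.Sporadic.LeechMat Cfsg.Agent.Lib.Sporadic.LeechSeven
  Cfsg.Agent.Lib.Compute.Golay Cfsg.Agent.Lib.Compute.M24Enum
open Cfsg.Agent.Lib.Compute.M24 hiding toL_mul

/-- Keys from a map over a list. -/
theorem K_of_map {sep RL : List (List ℤ)} {n0 nT : ℕ} {K : List ℕ} {f : List ℤ → List ℤ}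
    (hl : RL.length = n0 + nT)
    (h : (RL.drop n0).map (fun v => numOf (keyG sep (f v))) = K) :
    ∀ a : Fin nT, numOf (keyG sep (f (RL.getD (n0 + a.val) []))) = K.getD a.val 0 := by
  intro a
  have h1 : a.val < (RL.drop n0).length := by
    rw [List.length_drop, hl]
    have := a.2
    omega
  have h2 : a.val < K.length := by
    rw [← h, List.length_map]
    exact h1
  have h3 : n0 + a.val < RL.length := by
    rw [hl]
    have := a.2
    omega
  rw [List.getD_eq_getElem _ _ h3, List.getD_eq_getElem _ _ h2]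
  have e : K[a.val] = ((RL.drop n0).map (fun v => numOf (keyG sep (f v))))[a.val]'(by rw [List.length_map]; exact h1) := by
    simp only [h]
  rw [e, List.getElem_map, List.getElem_drop]

theorem comm_of_tables {L sL : List ℕ} {S : P} (hS : toL S = sL) (hv : validL L = true) (h : mulL L sL = mulL sL L) :
    ofL L * S = S * ofL L := by
  apply eq_of_toL
  rw [toL_mul, toL_mul, toL_ofL hv, hS, h]

theorem apply_ofL {L : List ℕ} (hv : validL L = true) {i : ℕ} (hi : i < 24) :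
    (ofL L) (idxPt i) = idxPt (L.getD i 0) := by
  have h := (codes_ofL hv) (idxPt i)
  rw [ptIdx_idxPt hi] at h
  exact h

/-- An element of `M24` commuting with a permutation of shape `3^8` lies in a given list, given a search for the elements
fixing a point and a cycle. -/
theorem acc_of_reduce {sL : List ℕ} {S : P} (hS : toL S = sL) (hSv : validL sL = true)
    {acc R TR0 TR1 : List (List ℕ)} {e : ℕ} {pos : List (ℕ × ℕ)} {ks : List ℕ} {lvs : List Lvl}
    {m₁ c1 c2 d1 d2 : ℕ}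
    (hcert : certOK e e pos ks lvs [1, m₁] = true) (hs : search pos R lvs [] = true)
    (he : (List.range 24).map (tb e) = sL)
    (hc : sL.getD 0 0 = c1 ∧ sL.getD c1 0 = c2 ∧ sL.getD 1 0 = d1 ∧ sL.getD d1 0 = d2 ∧ sL.getD d2 0 = 1 ∧ c1 < 24 ∧ c2 < 24 ∧ d1 < 24 ∧ d2 < 24)
    (hne : (1 : ℕ) ≠ 0 ∧ (1 : ℕ) ≠ c1 ∧ (1 : ℕ) ≠ c2)
    (hm₁ : ∀ i, i < 24 → m₁.testBit i = decide (i = 1 ∨ i = d1 ∨ i = d2))
    (hcl : ∀ c, (c = 1 ∨ c = d1 ∨ c = d2) → ∀ i, (i = 1 ∨ i = d1 ∨ i = d2) →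
      (i = c ∨ i = sL.getD c 0 ∨ i = sL.getD (sL.getD c 0) 0))
    (hcl2 : ∀ c, (c = 1 ∨ c = d1 ∨ c = d2) → (sL.getD c 0 = 1 ∨ sL.getD c 0 = d1 ∨ sL.getD c 0 = d2))
    (h0 : ∀ p, p < 24 → validL (TR0.getD p []) = true ∧ inM24 (TR0.getD p []) = true ∧
      mulL (TR0.getD p []) sL = mulL sL (TR0.getD p []) ∧ (TR0.getD p []).getD 0 0 = p)
    (h1 : ∀ q, q < 24 → validL (TR1.getD q []) = true ∧ inM24 (TR1.getD q []) = true ∧
      mulL (TR1.getD q []) sL = mulL sL (TR1.getD q []) ∧ (TR1.getD q []).getD 0 0 = 0 ∧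
      (q = 0 ∨ q = c1 ∨ q = c2 ∨ (TR1.getD q []).getD 1 0 = q ∨ (TR1.getD q []).getD d1 0 = q ∨ (TR1.getD q []).getD d2 0 = q))
    (hprod : (List.range 24).all (fun p => (List.range 24).all (fun q => R.all (fun r =>
      acc.contains (mulL (mulL (TR0.getD p []) (TR1.getD q [])) r)))) = true)
    (y : P) (hy : y ∈ M24) (hyS : y * S = S * y) : toL y ∈ acc := by
  obtain ⟨hc1, hc2, hd1, hd2, hd3, hc1l, hc2l, hd1l, hd2l⟩ := hc
  have hSa : ∀ i, i < 24 → S (idxPt i) = idxPt (sL.getD i 0) := by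
    intro i hi
    have h := codes_toL S (idxPt i)
    rw [ptIdx_idxPt hi, hS] at h
    exact h
  have hSlt : ∀ i, sL.getD i 0 < 24 := fun i => getD_lt_of_validL hSv i
  -- first step
  set p := ptIdx (y (idxPt 0)) with hp
  have hp24 : p < 24 := ptIdx_lt _
  obtain ⟨hv0, hm0, hcm0, hf0⟩ := h0 p hp24
  set a := ofL (TR0.getD p []) with ha
  have haM : a ∈ M24 := mem_M24_of_inM24 (codes_ofL hv0) hm0
  have haS : a * S = S * a := comm_of_tables hS hv0 hcm0
  have ha0 : a (idxPt 0) = y (idxPt 0) := by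
    rw [ha, apply_ofL hv0 (by norm_num), hf0, hp, idxPt_ptIdx]
  set y₁ := a⁻¹ * y with hy₁
  have hy₁M : y₁ ∈ M24 := mul_mem (inv_mem haM) hy
  have hy₁S : y₁ * S = S * y₁ := by
    have h2 : a⁻¹ * S = S * a⁻¹ := by
      rw [inv_mul_eq_iff_eq_mul, ← mul_assoc, haS, mul_assoc, mul_inv_cancel, mul_one]
    calc y₁ * S = a⁻¹ * (y * S) := by rw [hy₁]; group
      _ = a⁻¹ * (S * y) := by rw [hyS]
      _ = (a⁻¹ * S) * y := by group
      _ = (S * a⁻¹) * y := by rw [h2]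
      _ = S * y₁ := by rw [hy₁]; group
  have hcomm₁ : ∀ x, y₁ (S x) = S (y₁ x) := fun x => congrArg (fun t : P => t x) hy₁S
  have hy₁0 : y₁ (idxPt 0) = idxPt 0 := by
    show a⁻¹ (y (idxPt 0)) = idxPt 0
    rw [← ha0]
    simp
  -- second step
  set q := ptIdx (y₁ (idxPt 1)) with hq
  have hq24 : q < 24 := ptIdx_lt _
  have hqe : y₁ (idxPt 1) = idxPt q := by rw [hq, idxPt_ptIdx]
  have hy₁c1 : y₁ (idxPt c1) = idxPt c1 := by
    have h2 := hcomm₁ (idxPt 0)
    rw [hSa 0 (by norm_num), hc1, hy₁0, hSa 0 (by norm_num), hc1] at h2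
    exact h2
  have hy₁c2 : y₁ (idxPt c2) = idxPt c2 := by
    have h2 := hcomm₁ (idxPt c1)
    rw [hSa c1 hc1l, hc2, hy₁c1, hSa c1 hc1l, hc2] at h2
    exact h2
  obtain ⟨hv1, hm1, hcm1, hf1, hq1⟩ := h1 q hq24
  have hq2 : (TR1.getD q []).getD 1 0 = q ∨ (TR1.getD q []).getD d1 0 = q ∨ (TR1.getD q []).getD d2 0 = q := by
    rcases hq1 with h3 | h3 | h3 | h3
    · exfalso
      rw [h3] at hqe
      have h4 := y₁.injective (hqe.trans hy₁0.symm)
      have h5 := congrArg ptIdx h4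
      rw [ptIdx_idxPt (by norm_num), ptIdx_idxPt (by norm_num)] at h5
      exact hne.1 h5
    · exfalso
      rw [h3] at hqe
      have h4 := y₁.injective (hqe.trans hy₁c1.symm)
      have h5 := congrArg ptIdx h4
      rw [ptIdx_idxPt (by norm_num), ptIdx_idxPt hc1l] at h5
      exact hne.2.1 h5
    · exfalso
      rw [h3] at hqe
      have h4 := y₁.injective (hqe.trans hy₁c2.symm)
      have h5 := congrArg ptIdx h4
      rw [ptIdx_idxPt (by norm_num), ptIdx_idxPt hc2l] at h5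
      exact hne.2.2 h5
    · exact h3
  set b := ofL (TR1.getD q []) with hb
  have hbM : b ∈ M24 := mem_M24_of_inM24 (codes_ofL hv1) hm1
  have hbS : b * S = S * b := comm_of_tables hS hv1 hcm1
  have hb0 : b (idxPt 0) = idxPt 0 := by
    rw [hb, apply_ofL hv1 (by norm_num), hf1]
  obtain ⟨c, hcC, hcq⟩ : ∃ c, (c = 1 ∨ c = d1 ∨ c = d2) ∧ b (idxPt c) = idxPt q := by
    rcases hq2 with h3 | h3 | h3
    · exact ⟨1, Or.inl rfl, by rw [hb, apply_ofL hv1 (by norm_num), h3]⟩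
    · exact ⟨d1, Or.inr (Or.inl rfl), by rw [hb, apply_ofL hv1 hd1l, h3]⟩
    · exact ⟨d2, Or.inr (Or.inr rfl), by rw [hb, apply_ofL hv1 hd2l, h3]⟩
  have hc24 : c < 24 := by
    rcases hcC with rfl | rfl | rfl
    · norm_num
    · exact hd1l
    · exact hd2l
  set y₂ := b⁻¹ * y₁ with hy₂
  have hy₂M : y₂ ∈ M24 := mul_mem (inv_mem hbM) hy₁M
  have hy₂S : y₂ * S = S * y₂ := by
    have h2 : b⁻¹ * S = S * b⁻¹ := by
      rw [inv_mul_eq_iff_eq_mul, ← mul_assoc, hbS, mul_assoc, mul_inv_cancel, mul_one]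
    calc y₂ * S = b⁻¹ * (y₁ * S) := by rw [hy₂]; group
      _ = b⁻¹ * (S * y₁) := by rw [hy₁S]
      _ = (b⁻¹ * S) * y₁ := by group
      _ = (S * b⁻¹) * y₁ := by rw [h2]
      _ = S * y₂ := by rw [hy₂]; group
  have hcomm₂ : ∀ x, y₂ (S x) = S (y₂ x) := fun x => congrArg (fun t : P => t x) hy₂S
  have hy₂0 : y₂ (idxPt 0) = idxPt 0 := by
    show b⁻¹ (y₁ (idxPt 0)) = idxPt 0
    rw [hy₁0]
    exact Equiv.Perm.inv_eq_iff_eq.2 hb0.symm
  have hy₂1 : y₂ (idxPt 1) = idxPt c := by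
    show b⁻¹ (y₁ (idxPt 1)) = idxPt c
    rw [hqe, ← hcq]
    simp
  have hy₂d1 : y₂ (idxPt d1) = idxPt (sL.getD c 0) := by
    have h2 := hcomm₂ (idxPt 1)
    rw [hSa 1 (by norm_num), hd1, hy₂1, hSa c hc24] at h2
    exact h2
  have hy₂d2 : y₂ (idxPt d2) = idxPt (sL.getD (sL.getD c 0) 0) := by
    have h2 := hcomm₂ (idxPt d1)
    rw [hSa d1 hd1l, hd2, hy₂d1, hSa _ (hSlt c)] at h2
    exact h2
  have hcC1 := hcl2 c hcC
  have hcC2 := hcl2 _ hcC1
  have hbl : ∀ m ∈ [1, m₁], ∀ x : GolayPt, Nat.testBit m (ptIdx (y₂ x)) = Nat.testBit m (ptIdx x) := by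
    intro m hm x
    have hx := ptIdx_lt x
    have hyx := ptIdx_lt (y₂ x)
    simp only [List.mem_cons, List.not_mem_nil, or_false] at hm
    rcases hm with rfl | rfl
    · have h2 : ∀ i, i < 24 → Nat.testBit 1 i = decide (i = 0) := by decide
      rw [h2 _ hx, h2 _ hyx]
      apply decide_eq_decide.2
      constructor
      · intro h3
        have h4 : y₂ x = idxPt 0 := by rw [← h3, idxPt_ptIdx]
        have h5 := y₂.injective (h4.trans hy₂0.symm)
        rw [h5, ptIdx_idxPt (by norm_num)]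
      · intro h3
        have h4 : x = idxPt 0 := by rw [← h3, idxPt_ptIdx]
        rw [h4, hy₂0, ptIdx_idxPt (by norm_num)]
    · rw [hm₁ _ hx, hm₁ _ hyx]
      apply decide_eq_decide.2
      constructor
      · intro h3
        have h4 := hcl c hcC _ h3
        have h5 : ∃ k, (k = 1 ∨ k = d1 ∨ k = d2) ∧ k < 24 ∧ y₂ x = y₂ (idxPt k) := by
          rcases h4 with h6 | h6 | h6
          · exact ⟨1, Or.inl rfl, by norm_num, by rw [hy₂1, ← h6, idxPt_ptIdx]⟩
          · exact ⟨d1, Or.inr (Or.inl rfl), hd1l, by rw [hy₂d1, ← h6, idxPt_ptIdx]⟩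
          · exact ⟨d2, Or.inr (Or.inr rfl), hd2l, by rw [hy₂d2, ← h6, idxPt_ptIdx]⟩
        obtain ⟨k, hk, hk24, h6⟩ := h5
        have h7 := y₂.injective h6
        rw [h7, ptIdx_idxPt hk24]
        exact hk
      · intro h3
        have h4 : x = idxPt 1 ∨ x = idxPt d1 ∨ x = idxPt d2 := by
          rcases h3 with h5 | h5 | h5
          · left; rw [← h5, idxPt_ptIdx]
          · right; left; rw [← h5, idxPt_ptIdx]
          · right; right; rw [← h5, idxPt_ptIdx]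
        rcases h4 with h5 | h5 | h5
        · rw [h5, hy₂1, ptIdx_idxPt hc24]
          exact hcC
        · rw [h5, hy₂d1, ptIdx_idxPt (hSlt _)]
          exact hcC1
        · rw [h5, hy₂d2, ptIdx_idxPt (hSlt _)]
          exact hcC2
  have hR := enum_toL hcert hs (he.trans hS.symm) (he.trans hS.symm) hy₂M hy₂S hbl
  have hyeq : y = a * (b * y₂) := by
    rw [hy₂, hy₁]
    group
  have hprod' := List.all_eq_true.1 (List.all_eq_true.1 (List.all_eq_true.1 hprod p (List.mem_range.2 hp24)) q (List.mem_range.2 hq24)) _ hR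
  have h9 := List.contains_iff_mem.1 hprod'
  have e9 : toL y = mulL (mulL (TR0.getD p []) (TR1.getD q [])) (toL y₂) := by
    rw [hyeq, ← mul_assoc, toL_mul, toL_mul, ha, hb, toL_ofL hv0, toL_ofL hv1]
  rw [e9]
  exact h9

end Cfsg.Agent.Lib.Sporadic.LeechCentFw
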