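import Mathlib
import Cfsg.Agent.Lib.Sporadic.LeechCentFw3

/-!
# Fixed classes as a space spanned by few vectors, with the norms given by a tree of generators
-/

set_option autoImplicit false

namespace Cfsg.Agent.Lib.Sporadic.LeechCenFix

open Subgroup Cfsg Cfsg.Agent.Lib.Sporadic.GolayCore
  Cfsg.Agent.Lib.Sporadic.LeechNorm Cfsg.Agent.Lib.Sporadic.LeechFacts
  Cfsg.Agent.Lib.Sporadic.LeechAut Cfsg.Agent.Lib.Sporadic.LeechClasses
  Cfsg.Agent.Lib.Sporadic.LeechAct Cfsg.Agent.Lib.Sporadic.LeechMod2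
  Cfsg.Agent.Lib.Sporadic.LeechLocal Cfsg.Agent.Lib.Sporadic.LeechOrbits
  Cfsg.Agent.Lib.Sporadic.LeechMat Cfsg.Agent.Lib.Sporadic.LeechKey
  Cfsg.Agent.Lib.Sporadic.LeechMonomial
  Cfsg.Agent.Lib.Sporadic.LeechSeven
  Cfsg.Agent.Lib.Sporadic.LeechCentFw

/-! ### Linear combinations in the quotient -/

theorem q_two (x : Q) : x + x = 0 := by
  induction x using QuotientAddGroup.induction_on with
  | H v =>
    have h : cl (v + v) = cl 0 := by
      rw [cl_eq_iff]
      refine ⟨(v : V), v.2, ?_⟩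
      simp only [AddSubgroup.coe_add, ZeroMemClass.coe_zero, sub_zero, two_nsmul]
    exact h

theorem smul_addQ (g : Co0) (p q : Q) : g • (p + q) = g • p + g • q := by
  induction p using QuotientAddGroup.induction_on with
  | H x =>
    induction q using QuotientAddGroup.induction_on with
    | H y => exact congrArg cl (Cfsg.Agent.Lib.Sporadic.LeechAut.co0_map_add g x y)

theorem smul_zeroQ (g : Co0) : g • (0 : Q) = 0 := by
  have h : g • cl (0 : leechLattice) = cl 0 := by
    rw [smul_cl]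
    congr 1
    have := Cfsg.Agent.Lib.Sporadic.LeechAut.co0_map_add g 0 0
    simpa using this
  exact h

/-- A linear combination of classes. -/
def spanR (B : ℕ → Q) : ℕ → ℕ → Q
  | 0, _ => 0
  | n + 1, k => spanR B n k + (if k.testBit n then B n else 0)

/-- A linear map on numbers. -/
def applyR (img : ℕ → ℕ) : ℕ → ℕ → ℕ
  | 0, _ => 0
  | n + 1, k => Nat.xor (applyR img n k) (bif k.testBit n then img n else 0)

theorem spanR_zero (B : ℕ → Q) (n : ℕ) : spanR B n 0 = 0 := by
  induction n with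
  | zero => rfl
  | succ n ih =>
    simp [spanR, ih]

theorem spanR_xor (B : ℕ → Q) (n a b : ℕ) : spanR B n (Nat.xor a b) = spanR B n a + spanR B n b := by
  induction n with
  | zero => simp [spanR]
  | succ n ih =>
    simp only [spanR]
    rw [ih]
    have e : (Nat.xor a b).testBit n = ((a.testBit n) ^^ (b.testBit n)) := Nat.testBit_xor a b n
    rw [e]
    cases a.testBit n <;> cases b.testBit n <;> simp
    · abel
    · abel
    · have := q_two (B n)
      calc spanR B n a + spanR B n b = spanR B n a + (B n + B n) + spanR B n b := by rw [this]; simp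
        _ = spanR B n a + B n + (spanR B n b + B n) := by abel

theorem smul_spanR {B : ℕ → Q} {g : Co0} {img : ℕ → ℕ} {m : ℕ} (himg : ∀ j, j < m → g • B j = spanR B m (img j)) (k n : ℕ)
    (hn : n ≤ m) : g • spanR B n k = spanR B m (applyR img n k) := by
  induction n with
  | zero =>
    simp only [spanR, applyR]
    rw [smul_zeroQ, spanR_zero]
  | succ n ih =>
    simp only [spanR, applyR]
    rw [smul_addQ, ih (by omega), spanR_xor]
    congr 1
    cases k.testBit n
    · simp only [Bool.false_eq_true, if_false, cond_false]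
      rw [smul_zeroQ, spanR_zero]
    · simp only [if_true, cond_true]
      exact himg n (by omega)

theorem smul_fix_spanR {B : ℕ → Q} {c : Co0} (hf : ∀ j, j < 12 → c • B j = B j) (k n : ℕ) (hn : n ≤ 12) :
    c • spanR B n k = spanR B n k := by
  induction n with
  | zero =>
    simp only [spanR]
    exact smul_zeroQ c
  | succ n ih =>
    simp only [spanR]
    rw [smul_addQ, ih (by omega)]
    congr 1
    cases k.testBit n
    · simp only [Bool.false_eq_true, if_false]
      exact smul_zeroQ c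
    · simp only [if_true]
      exact hf n (by omega)

/-- Lists for linear combinations. -/
def spanL (bL : List (List ℤ)) : ℕ → ℕ → List ℤ
  | 0, _ => [0,0,0,0,0,0,0,0,0,0,0,0,0,0,0,0,0,0,0,0,0,0,0,0]
  | n + 1, k => bif k.testBit n then addL (spanL bL n k) (bL.getD n []) else spanL bL n k

/-! ### Norms along a tree -/

/-- A class has a vector of the given norm. -/
def HasRep (B : ℕ → Q) (k : ℕ) (n : ℤ) : Prop := ∃ v : leechLattice, cl v = spanR B 12 k ∧ sqNorm (v : V) = n

theorem hasRep_of_tree {B : ℕ → Q} {gs : ℕ → Co0} {imgs : ℕ → ℕ → ℕ} {ng : ℕ}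
    (hg : ∀ i, i < ng → ∀ j, j < 12 → gs i • B j = spanR B 12 (imgs i j))
    {TY PA GN RK : ℕ → ℕ}
    (hroot : ∀ k, k < 4096 → RK k = 0 → HasRep B k (16 * (TY k : ℤ)))
    (hstep : ∀ k, k < 4096 → RK k ≠ 0 → PA k < 4096 ∧ RK (PA k) < RK k ∧ TY (PA k) = TY k ∧ GN k < ng ∧
      applyR (imgs (GN k)) 12 (PA k) = k) :
    ∀ k, k < 4096 → HasRep B k (16 * (TY k : ℤ)) := by
  have key : ∀ r k, RK k = r → k < 4096 → HasRep B k (16 * (TY k : ℤ)) := by
    intro r
    induction r using Nat.strong_induction_on with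
    | _ r ih =>
      intro k hr hk
      by_cases h0 : RK k = 0
      · exact hroot k hk h0
      · obtain ⟨h1, h2, h3, h4, h5⟩ := hstep k hk h0
        obtain ⟨v, hv, hn⟩ := ih _ (by omega) (PA k) rfl h1
        refine ⟨gs (GN k) • v, ?_, ?_⟩
        · rw [← smul_cl, hv, smul_spanR (hg _ h4) (PA k) 12 le_rfl, h5]
        · rw [co0_sqNorm, hn, h3]
  intro k hk
  exact key _ k rfl hk

/-! ### The data of the fixed space -/

/-- The fixed space. -/
structure FixB (c : Co0) (act : List ℤ → List ℤ) (gF tF bL sep : List (List ℤ)) : Prop where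
  hact : Acts c act
  gF_ok : ∀ i : Fin 12, inLattice (gF.getD i []) = true
  tF_ok : ∀ i : Fin 12, inLattice (tF.getD i []) = true
  dual : ∀ i j : Fin 12, fValG act gF i (tF.getD j []) = if i = j then 1 else 0
  bL_ok : ∀ j : Fin 12, inLattice (bL.getD j []) = true
  sep_ok : ∀ j : Fin 12, inLattice (sep.getD j []) = true
  fix : ∀ j : Fin 12, congL (act (bL.getD j [])) (bL.getD j []) = true
  pair : ∀ i j : Fin 12, (dotL (bL.getD j []) (sep.getD i []) / 8) % 2 = if i = j then 1 else 0

namespace FixB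

variable {c : Co0} {act : List ℤ → List ℤ} {gF tF bL sep : List (List ℤ)}
  (h : FixB c act gF tF bL sep)

include h

/-- A functional. -/
noncomputable def gv (i : Fin 12) : leechLattice := ⟨vecOf (gF.getD i []), inLattice_sound (h.gF_ok i)⟩

/-- A dual vector. -/
noncomputable def tv (i : Fin 12) : leechLattice := ⟨vecOf (tF.getD i []), inLattice_sound (h.tF_ok i)⟩

theorem c_gv (i : Fin 12) : c • h.gv i = ⟨vecOf (act (gF.getD i [])), h.hact.mem (inLattice_sound (h.gF_ok i))⟩ :=
  h.hact.smul _ _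

/-- The map whose kernel contains the fixed classes. -/
noncomputable def Fn : Q →+ (Fin 12 → ZMod 2) :=
  AddMonoidHom.mk' (fun x i => pr (h.gv i) x - pr (c • h.gv i) x) (by
    intro x y
    funext i
    simp only [map_add, Pi.add_apply]
    abel)

theorem Fn_apply {a : List ℤ} (ha : vecOf a ∈ leechLattice) (i : Fin 12) :
    h.Fn (cl ⟨vecOf a, ha⟩) i = ((fValG act gF i a : ℤ) : ZMod 2) := by
  show pr (h.gv i) _ - pr (c • h.gv i) _ = _
  rw [h.c_gv, gv, pr_vec, pr_vec, fValG, cast_mod2]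
  push_cast
  rfl

theorem Fn_tv (i j : Fin 12) : h.Fn (cl (h.tv j)) i = if i = j then 1 else 0 := by
  rw [tv, h.Fn_apply, h.dual]
  split_ifs <;> simp

theorem Fn_surj : Function.Surjective h.Fn := by
  intro a
  refine ⟨∑ j, (a j).val • cl (h.tv j), ?_⟩
  funext i
  rw [map_sum, Finset.sum_apply]
  simp only [map_nsmul, Pi.smul_apply, h.Fn_tv, nsmul_eq_mul]
  rw [Finset.sum_eq_single i]
  · simp
  · intro b _ hb
    simp [Ne.symm hb]
  · simp

theorem card_ker_Fn : Nat.card h.Fn.ker = 4096 := by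
  have h1 := AddSubgroup.card_mul_index h.Fn.ker
  rw [AddSubgroup.index_ker, AddMonoidHom.range_eq_top.2 h.Fn_surj, AddSubgroup.card_top, card_Q] at h1
  have h2 : Nat.card (Fin 12 → ZMod 2) = 2 ^ 12 := by
    rw [Nat.card_eq_fintype_card]
    simp [ZMod.card]
  rw [h2] at h1
  have h3 : (2 : ℕ) ^ 24 = 4096 * 2 ^ 12 := by norm_num
  rw [h3] at h1
  exact Nat.eq_of_mul_eq_mul_right (by positivity) h1

theorem fix_mem_ker (x : Q) (hv : c • x = x) : x ∈ h.Fn.ker := by
  induction x using QuotientAddGroup.induction_on with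
  | H v =>
    rw [AddMonoidHom.mem_ker]
    funext i
    show pr (h.gv i) _ - pr (c • h.gv i) _ = 0
    have e : (QuotientAddGroup.mk v : Q) = cl v := rfl
    have hv' : cl (c • v) = cl v := hv
    rw [e, pr_cl, pr_cl]
    have h1 := Cfsg.Agent.Lib.Sporadic.MonsterModel.cl_dot hv' (c • h.gv i)
    rw [Cfsg.Agent.Lib.Sporadic.LeechA0.co0_dotInt] at h1
    obtain ⟨x, hx⟩ := Cfsg.Agent.Lib.Sporadic.MonsterModel.eight_dvd_dot v.2 (h.gv i).2
    obtain ⟨y, hy⟩ := Cfsg.Agent.Lib.Sporadic.MonsterModel.eight_dvd_dot v.2 (c • h.gv i).2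
    rw [hx, hy] at h1 ⊢
    rw [Int.mul_ediv_cancel_left _ (by norm_num), Int.mul_ediv_cancel_left _ (by norm_num)]
    rw [← Int.cast_sub, ZMod.intCast_zmod_eq_zero_iff_dvd]
    push_cast
    omega

/-- A basis vector. -/
noncomputable def bv (j : Fin 12) : leechLattice := ⟨vecOf (bL.getD j []), inLattice_sound (h.bL_ok j)⟩

/-- A functional for a basis. -/
noncomputable def sv (j : Fin 12) : leechLattice := ⟨vecOf (sep.getD j []), inLattice_sound (h.sep_ok j)⟩

/-- The basis in the quotient. -/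
noncomputable def B (n : ℕ) : Q := if hn : n < 12 then cl (h.bv ⟨n, hn⟩) else 0

theorem B_eq (j : Fin 12) : h.B j = cl (h.bv j) := by
  simp [B]

theorem c_B (j : ℕ) (hj : j < 12) : c • h.B j = h.B j := by
  have e := h.B_eq ⟨j, hj⟩
  simp only at e
  rw [e, bv, smul_cl, h.hact.smul (inLattice_sound (h.bL_ok ⟨j, hj⟩)) (h.hact.mem (inLattice_sound (h.bL_ok ⟨j, hj⟩)))]
  exact cl_of_congL _ _ (h.fix ⟨j, hj⟩)

theorem c_span (k : ℕ) : c • spanR h.B 12 k = spanR h.B 12 k := smul_fix_spanR h.c_B k 12 le_rfl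

theorem pr_B (i j : Fin 12) : pr (h.sv i) (h.B j) = if i = j then 1 else 0 := by
  rw [h.B_eq, bv, sv, pr_vec]
  rw [← cast_mod2, h.pair]
  split_ifs <;> simp

theorem pr_span (i : Fin 12) (k n : ℕ) (hn : n ≤ 12) :
    pr (h.sv i) (spanR h.B n k) = if i.val < n ∧ k.testBit i.val = true then 1 else 0 := by
  induction n with
  | zero => simp [spanR]
  | succ n ih =>
    simp only [spanR]
    rw [map_add, ih (by omega)]
    by_cases hb : k.testBit n = true
    · rw [hb, if_pos rfl]
      have := h.pr_B i ⟨n, by omega⟩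
      simp only at this
      rw [this]
      by_cases hi : i.val = n
      · have e : i = ⟨n, by omega⟩ := Fin.ext hi
        have h1 : ¬ (i.val < n ∧ k.testBit i.val = true) := fun h' => by omega
        have h2 : i.val < n + 1 ∧ k.testBit i.val = true := ⟨by omega, by rw [hi]; exact hb⟩
        rw [if_pos e, if_neg h1, if_pos h2, zero_add]
      · have e : i ≠ ⟨n, by omega⟩ := fun e => hi (by rw [e])
        have hlt : i.val < n + 1 ↔ i.val < n := by omega
        simp [e, hlt]
    · rw [if_neg hb, map_zero, add_zero]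
      by_cases hi : i.val = n
      · have h1 : ¬ (i.val < n ∧ k.testBit i.val = true) := fun h' => by omega
        have h2 : ¬ (i.val < n + 1 ∧ k.testBit i.val = true) := fun h' => hb (by rw [← hi]; exact h'.2)
        rw [if_neg h1, if_neg h2]
      · have hlt : i.val < n + 1 ↔ i.val < n := by omega
        simp [hlt]

theorem span_inj {k k' : ℕ} (hk : k < 4096) (hk' : k' < 4096) (e : spanR h.B 12 k = spanR h.B 12 k') : k = k' := by
  apply Cfsg.Agent.Lib.Sporadic.LeechCentFw.eq_of_bits (n := 12) (by simpa using hk) (by simpa using hk')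
  intro j hj
  have e1 := h.pr_span ⟨j, hj⟩ k 12 le_rfl
  have e2 := h.pr_span ⟨j, hj⟩ k' 12 le_rfl
  rw [e, e2] at e1
  simp only [hj, true_and] at e1
  cases hb : k.testBit j <;> cases hb' : k'.testBit j <;> simp [hb, hb'] at e1 ⊢

theorem span_cov (x : Q) (hx : c • x = x) : ∃ k, k < 4096 ∧ x = spanR h.B 12 k := by
  let f : Fin 4096 → h.Fn.ker := fun k => ⟨spanR h.B 12 k, h.fix_mem_ker _ (h.c_span k)⟩
  have hf : Function.Injective f := fun a b e =>
    Fin.ext (h.span_inj a.2 b.2 (congrArg Subtype.val e))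
  have hb := Function.Injective.bijective_of_nat_card_le hf (by
    rw [h.card_ker_Fn, Nat.card_eq_fintype_card]; simp)
  obtain ⟨k, hk⟩ := hb.2 ⟨x, h.fix_mem_ker x hx⟩
  exact ⟨k, k.2, (congrArg Subtype.val hk).symm⟩

/-- A list of a combination. -/
theorem spanL_mem (k n : ℕ) (hn : n ≤ 12) : vecOf (spanL bL n k) ∈ leechLattice := by
  induction n with
  | zero =>
    have h0 : vecOf [0,0,0,0,0,0,0,0,0,0,0,0,0,0,0,0,0,0,0,0,0,0,0,0] ∈ leechLattice := inLattice_sound (by decide +kernel)
    exact h0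
  | succ n ih =>
    simp only [spanL]
    cases k.testBit n
    · exact ih (by omega)
    · show vecOf (addL _ _) ∈ leechLattice
      rw [vecOf_addL]
      exact leechLattice.add_mem (ih (by omega)) (inLattice_sound (h.bL_ok ⟨n, by omega⟩))

theorem cl_spanL (k n : ℕ) (hn : n ≤ 12) : cl ⟨vecOf (spanL bL n k), h.spanL_mem k n hn⟩ = spanR h.B n k := by
  induction n with
  | zero =>
    have h0 : (⟨vecOf [0,0,0,0,0,0,0,0,0,0,0,0,0,0,0,0,0,0,0,0,0,0,0,0], h.spanL_mem k 0 hn⟩ : leechLattice) = 0 := by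
      apply Subtype.ext
      funext p
      have hp := idx_lt p
      show ([0,0,0,0,0,0,0,0,0,0,0,0,0,0,0,0,0,0,0,0,0,0,0,0] : List ℤ).getD (idx p) 0 = 0
      generalize idx p = i at hp
      interval_cases i <;> rfl
    show cl ⟨vecOf [0,0,0,0,0,0,0,0,0,0,0,0,0,0,0,0,0,0,0,0,0,0,0,0], _⟩ = 0
    rw [h0]
    rfl
  | succ n ih =>
    simp only [spanR]
    rw [← ih (by omega)]
    have hB := h.B_eq ⟨n, by omega⟩
    simp only at hB
    cases hb : k.testBit n
    · have e : (⟨vecOf (spanL bL (n + 1) k), h.spanL_mem k (n + 1) hn⟩ : leechLattice) = ⟨vecOf (spanL bL n k), h.spanL_mem k n (by omega)⟩ := by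
        apply Subtype.ext
        simp [spanL, hb]
      rw [e]
      simp
    · simp only [if_true]
      rw [hB]
      have e : (⟨vecOf (spanL bL (n + 1) k), h.spanL_mem k (n + 1) hn⟩ : leechLattice) = ⟨vecOf (spanL bL n k), h.spanL_mem k n (by omega)⟩ + h.bv ⟨n, by omega⟩ := by
        apply Subtype.ext
        show vecOf (spanL bL (n + 1) k) = vecOf (spanL bL n k) + vecOf (bL.getD n [])
        simp only [spanL, hb, cond_true]
        exact vecOf_addL _ _
      rw [e]
      rfl

/-- The image of a basis vector under an element, from a congruence. -/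
theorem img_of_cong {g : Co0} {f : List ℤ → List ℤ} (hf : Acts g f) {j : ℕ} (hj : j < 12) {m : ℕ}
    (hc : congL (f (bL.getD j [])) (spanL bL 12 m) = true) : g • h.B j = spanR h.B 12 m := by
  have e := h.B_eq ⟨j, hj⟩
  simp only at e
  rw [e, bv, smul_cl, hf.smul (inLattice_sound (h.bL_ok ⟨j, hj⟩)) (hf.mem (inLattice_sound (h.bL_ok ⟨j, hj⟩))),
    ← h.cl_spanL m 12 le_rfl]
  exact cl_of_congL _ _ hc

/-- A vector of a class. -/
theorem rep_of_cong {a : List ℤ} (ha : inLattice a = true) {k : ℕ} (hc : congL a (spanL bL 12 k) = true) {n : ℤ}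
    (hn : normL a = n) : HasRep h.B k n := by
  refine ⟨⟨vecOf a, inLattice_sound ha⟩, ?_, ?_⟩
  · rw [← h.cl_spanL k 12 le_rfl]
    exact cl_of_congL _ _ hc
  · rw [← hn]
    exact sqNorm_vecOf a

/-! ### Classes of norm `32` -/

variable {TY : ℕ → ℕ} (hrep : ∀ k, k < 4096 → HasRep h.B k (16 * (TY k : ℤ))) (hle : ∀ k, k < 4096 → TY k ≤ 4)

include hrep hle

/-- The type of a vector. -/
theorem type_of_vec (v : leechLattice) (hv : c • cl v = cl v) {t : ℕ} (ht : t ≤ 4) (hn : sqNorm (v : V) = 16 * (t : ℤ)) :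
    ∃ k, k < 4096 ∧ cl v = spanR h.B 12 k ∧ TY k = t := by
  obtain ⟨k, hk, e⟩ := h.span_cov _ hv
  refine ⟨k, hk, e, ?_⟩
  obtain ⟨w, hw, hnw⟩ := hrep k hk
  have hTY := hle k hk
  by_contra hne
  have hne' : (16 * (TY k : ℤ)) ≠ 16 * (t : ℤ) := by
    intro h2
    apply hne
    have : (TY k : ℤ) = t := by linarith
    exact_mod_cast this
  have hvw : v ≠ w := by
    rintro rfl
    rw [hn] at hnw
    exact hne' hnw.symm
  rcases short_cong v w hvw (by rw [hn]; push_cast; omega) (by rw [hnw]; push_cast; omega) (e.trans hw.symm) with h3 | h3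
  · rw [h3] at hn
    simp only [NegMemClass.coe_neg, sqNorm_neg] at hn
    rw [hn] at hnw
    exact hne' hnw.symm
  · have h4 := h3.1
    have h5 := h3.2.1
    rw [hn] at h4
    rw [hnw] at h5
    apply hne'
    rw [h4, h5]

variable {T2f IX : ℕ → ℕ}
  (hT2 : ∀ a, a < 378 → T2f a < 4096 ∧ TY (T2f a) = 2)
  (hT2n : ∀ a b, a < 378 → b < 378 → T2f a = T2f b → a = b)
  (hIX : ∀ k, k < 4096 → TY k = 2 → IX k < 378 ∧ T2f (IX k) = k)

/-- The representatives. -/
noncomputable def repT (a : Fin 378) : leechLattice :=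
  (hrep (T2f a) (hT2 a a.2).1).choose

omit hle in
theorem repT_cl (a : Fin 378) : cl (h.repT hrep hT2 a) = spanR h.B 12 (T2f a) :=
  (hrep (T2f a) (hT2 a a.2).1).choose_spec.1

omit hle in
theorem repT_norm (a : Fin 378) : sqNorm (h.repT hrep hT2 a : V) = 32 := by
  have := (hrep (T2f a) (hT2 a a.2).1).choose_spec.2
  have e : (16 * ((TY (T2f a) : ℕ) : ℤ)) = 32 := by
    rw [(hT2 a a.2).2]
    norm_num
  exact this.trans e

/-- The block of classes of norm `32`. -/
noncomputable def toBlock2 : BlockD c (Fin 378) 378 where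
  T := h.repT hrep hT2
  T_inj a a' e := by
    rw [h.repT_cl hrep hT2, h.repT_cl hrep hT2] at e
    exact Fin.ext (hT2n a a' a.2 a'.2 (h.span_inj (hT2 a a.2).1 (hT2 a' a'.2).1 e))
  closed d hd a := by
    set v := h.repT hrep hT2 a with hv
    have hcv : c • cl v = cl v := by
      rw [hv, h.repT_cl hrep hT2]
      exact h.c_span _
    have hfixv : c • cl (d • v) = cl (d • v) := by
      rw [← smul_cl, ← mul_smul, ← hd, mul_smul, hcv]
    have hnv : sqNorm ((d • v : leechLattice) : V) = 16 * ((2 : ℕ) : ℤ) := by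
      rw [co0_sqNorm, hv, h.repT_norm hrep hT2]
      norm_num
    obtain ⟨k, hk, e, ht⟩ := h.type_of_vec hrep hle _ hfixv (by norm_num) hnv
    obtain ⟨h1, h2⟩ := hIX k hk ht
    refine ⟨⟨IX k, h1⟩, ?_⟩
    rw [e, h.repT_cl hrep hT2]
    simp only
    rw [h2]
  inc ω a := decide (ω = a)
  inc_inj ω ω' e := by
    have := e ω
    simp only [decide_true] at this
    exact (decide_eq_true_iff.1 this.symm).symm

/-- Every element of the centraliser induces a permutation of the block. -/
theorem good2_iff {d : Co0} {σ : Equiv.Perm (Fin 378)}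
    (hg : ∀ a, cl (d • (h.toBlock2 hrep hle hT2 hT2n hIX).T a) = cl ((h.toBlock2 hrep hle hT2 hT2n hIX).T (σ a))) :
    (h.toBlock2 hrep hle hT2 hT2n hIX).Good d σ := by
  intro a a' e ω
  have e2 := (h.toBlock2 hrep hle hT2 hT2n hIX).T_inj _ _ ((hg a).symm.trans e)
  show decide (σ ω = a') = decide (ω = a)
  rw [← e2]
  simp

theorem exists_good2 (d : Co0) (hd : d * c = c * d) : ∃ σ : Equiv.Perm (Fin 378), (h.toBlock2 hrep hle hT2 hT2n hIX).Good d σ := by
  set A := h.toBlock2 hrep hle hT2 hT2n hIX with hA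
  choose f hf using A.closed d hd
  have hinj : Function.Injective f := by
    intro a b e
    apply A.T_inj
    have h1 := hf a
    rw [e, ← hf b] at h1
    rw [← smul_cl, ← smul_cl] at h1
    exact MulAction.injective d h1
  obtain ⟨σ, hσ⟩ : ∃ σ : Equiv.Perm (Fin 378), ⇑σ = f :=
    ⟨Equiv.ofBijective f (Finite.injective_iff_bijective.1 hinj), rfl⟩
  refine ⟨σ, h.good2_iff hrep hle hT2 hT2n hIX (fun a => ?_)⟩
  rw [hσ]
  exact hf a

/-- A check by tables. -/
theorem good2_of_img {d : Co0} {img : ℕ → ℕ} (himg : ∀ j, j < 12 → d • h.B j = spanR h.B 12 (img j))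
    {σ : Equiv.Perm (Fin 378)} (hk : ∀ a : Fin 378, applyR img 12 (T2f a) = T2f (σ a)) :
    (h.toBlock2 hrep hle hT2 hT2n hIX).Good d σ := by
  apply h.good2_iff hrep hle hT2 hT2n hIX
  intro a
  show cl (d • h.repT hrep hT2 a) = cl (h.repT hrep hT2 (σ a))
  rw [← smul_cl, h.repT_cl hrep hT2, h.repT_cl hrep hT2, smul_spanR himg _ 12 le_rfl, hk]

end FixB

end Cfsg.Agent.Lib.Sporadic.LeechCenFix
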