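import Mathlib
import Cfsg.Agent.Lib.Sporadic.LeechMcT

/-!
# The orbits of the stabiliser of two minimal vectors on the 47104 vectors: certificates
-/

set_option autoImplicit false

namespace Cfsg.Agent.Lib.Sporadic.LeechCo2

open Cfsg Cfsg.Agent.Lib.Sporadic.GolayCore Cfsg.Agent.Lib.Sporadic.LeechBasic
  Cfsg.Agent.Lib.Sporadic.LeechNorm Cfsg.Agent.Lib.Sporadic.LeechFacts
  Cfsg.Agent.Lib.Sporadic.LeechAut Cfsg.Agent.Lib.Sporadic.LeechMat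
  Cfsg.Agent.Lib.Sporadic.LeechOrb Cfsg.Agent.Lib.Sporadic.LeechShape
  Cfsg.Agent.Lib.Sporadic.LeechKey Cfsg.Agent.Lib.Sporadic.LeechMin
  Cfsg.Agent.Lib.Sporadic.LeechA0 Cfsg.Agent.Lib.Sporadic.LeechEnum
  Cfsg.Agent.Lib.Sporadic.LeechTree
  Cfsg.Agent.Lib.Sporadic.M24Chain Cfsg.Agent.Lib.Sporadic.M24Tbl

open Cfsg.Agent.Lib.Sporadic.LeechMcT

def rm16L : List ℤ := [-1,-1,-1,-1,-1,-1,-1,-1,-1,-1,-1,-1,-1,-1,-1,-1,-1,-1,-1,-1,-1,-1,3,-1]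
theorem rm16L_ok : inLattice rm16L = true := by decide +kernel

def rp16L : List ℤ := [-3,-1,-1,-1,-1,-1,1,1,-1,1,1,-1,1,-1,1,1,1,1,1,1,1,1,1,1]
theorem rp16L_ok : inLattice rp16L = true := by decide +kernel

def rm8L : List ℤ := [-2,-2,-2,-2,-2,0,0,-2,0,0,-2,0,-2,0,0,0,0,0,0,0,0,0,0,0]
theorem rm8L_ok : inLattice rm8L = true := by decide +kernel

def rp8L : List ℤ := [-3,-1,-1,-1,-1,-1,-1,-1,-1,1,1,1,-1,1,1,-1,-1,1,1,1,-1,1,1,1]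
theorem rp8L_ok : inLattice rp8L = true := by decide +kernel

def rzL : List ℤ := [-3,-1,-1,-1,-1,-1,-1,-1,-1,-1,-1,-1,1,-1,1,-1,1,1,1,-1,-1,-1,1,1]
theorem rzL_ok : inLattice rzL = true := by decide +kernel

end Cfsg.Agent.Lib.Sporadic.LeechCo2
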