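import Mathlib
import Cfsg.Agent.Lib.Sporadic.LeechCo2

/-!
# The orbit of inner product -16
-/

set_option autoImplicit false

namespace Cfsg.Agent.Lib.Sporadic.LeechCo2

open Cfsg Cfsg.Agent.Lib.Sporadic.GolayCore Cfsg.Agent.Lib.Sporadic.LeechBasic
  Cfsg.Agent.Lib.Sporadic.LeechNorm Cfsg.Agent.Lib.Sporadic.LeechFacts
  Cfsg.Agent.Lib.Sporadic.LeechAut Cfsg.Agent.Lib.Sporadic.LeechMat
  Cfsg.Agent.Lib.Sporadic.LeechOrb Cfsg.Agent.Lib.Sporadic.LeechShape
  Cfsg.Agent.Lib.Sporadic.LeechKey Cfsg.Agent.Lib.Sporadic.LeechMin
  Cfsg.Agent.Lib.Sporadic.LeechA0 Cfsg.Agent.Lib.Sporadic.LeechEnum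
  Cfsg.Agent.Lib.Sporadic.LeechTree
  Cfsg.Agent.Lib.Sporadic.M24Chain Cfsg.Agent.Lib.Sporadic.M24Tbl

open Cfsg.Agent.Lib.Sporadic.LeechMcT

def certm16 : ℕ := 0x40210010c82201008c82210008000242010884201008884401080000422110000000011442001010c82000008c44000010c8200000800045201044042100008221000908042208804200000004a411080084401188042000011082001010800201188084210008880000011480422008400422008c40000010c40232010840221000000240010444200010884200000000252010882201108400001188042000011040222000046002108042000009082200010c42002110000230010800210000000000018c80472110040422088400202190840202008088400011040410010884400008c80420000000232088044200000048421008084421008044422000000441010442002108046401110400000008c8023201088200100000000300004200119084021001084200111088022100000000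

theorem run_m16 : runN (fun _ => true) mgens 274 certm16 [encL rm16L] (BST.leaf.ins (encL rm16L)) = true := by decide +kernel

end Cfsg.Agent.Lib.Sporadic.LeechCo2
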