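import Mathlib
import Cfsg.Agent.Lib.Sporadic.LeechFiveData3

/-!
# An element of order five in the automorphism group of the lattice: the centraliser
-/

set_option autoImplicit false
set_option maxRecDepth 100000

namespace Cfsg.Agent.Lib.Sporadic.LeechFive

open Subgroup Cfsg Cfsg.Agent.Lib.Sporadic.GolayCore
  Cfsg.Agent.Lib.Sporadic.LeechNorm Cfsg.Agent.Lib.Sporadic.LeechFacts
  Cfsg.Agent.Lib.Sporadic.LeechAut Cfsg.Agent.Lib.Sporadic.LeechClasses
  Cfsg.Agent.Lib.Sporadic.LeechAct Cfsg.Agent.Lib.Sporadic.LeechMod2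
  Cfsg.Agent.Lib.Sporadic.LeechLocal Cfsg.Agent.Lib.Sporadic.LeechOrbits
  Cfsg.Agent.Lib.Sporadic.LeechMat Cfsg.Agent.Lib.Sporadic.LeechKey
  Cfsg.Agent.Lib.Sporadic.LeechMonomial
  Cfsg.Agent.Lib.Sporadic.LeechSeven
  Cfsg.Agent.Lib.Sporadic.LeechCentFw

open Cfsg.Agent.Lib.Compute.M24Enum (eq_of_toL toL_mul toL_ofL codes_ofL)
open Cfsg.Agent.Lib.Compute.M24 (mem_M24_of_inM24)

local notation "toLL" => Cfsg.Agent.Lib.Compute.M24.toL

/-- The wreath product. -/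
abbrev LW : Subgroup (Equiv.Perm Om) := Cfsg.alternatingFiveWreathTwo

/-- The swap of the two sets of five points. -/
def cmm : Equiv.Perm Om := Equiv.sumComm (Fin 5) (Fin 5)

theorem cmm_sum (a b : Equiv.Perm (Fin 5)) : cmm * Equiv.Perm.sumCongr a b = Equiv.Perm.sumCongr b a * cmm := by
  ext x
  rcases x with i | i <;> rfl

theorem cmm_cmm : cmm * cmm = 1 := by
  ext x
  rcases x with i | i <;> rfl

theorem cmm_inv : cmm⁻¹ = cmm := by
  rw [inv_eq_iff_mul_eq_one]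
  exact cmm_cmm

theorem cmm_conj (a b : Equiv.Perm (Fin 5)) : cmm * Equiv.Perm.sumCongr a b * cmm = Equiv.Perm.sumCongr b a := by
  ext x
  rcases x with i | i <;> rfl

theorem sum_one : Equiv.Perm.sumCongr (1 : Equiv.Perm (Fin 5)) (1 : Equiv.Perm (Fin 5)) = 1 := by
  ext x
  rcases x with i | i <;> rfl

theorem wreath_form (x : Equiv.Perm Om) (hx : x ∈ LW) : ∃ σ τ : alternatingGroup (Fin 5),
    x = Equiv.Perm.sumCongr (σ : Equiv.Perm (Fin 5)) (τ : Equiv.Perm (Fin 5)) ∨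
    x = Equiv.Perm.sumCongr (σ : Equiv.Perm (Fin 5)) (τ : Equiv.Perm (Fin 5)) * cmm := by
  induction hx using Subgroup.closure_induction with
  | mem x hx =>
    rcases hx with ⟨σ, τ, rfl⟩ | hx
    · exact ⟨σ, τ, Or.inl rfl⟩
    · refine ⟨1, 1, Or.inr ?_⟩
      rw [Set.mem_singleton_iff] at hx
      rw [hx]
      show _ = Equiv.Perm.sumCongr (1 : Equiv.Perm (Fin 5)) (1 : Equiv.Perm (Fin 5)) * cmm
      rw [sum_one, one_mul]
      rfl
  | one =>
    refine ⟨1, 1, Or.inl ?_⟩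
    exact sum_one.symm
  | mul x y _ _ hx hy =>
    obtain ⟨a, b, h1⟩ := hx
    obtain ⟨c, d, h2⟩ := hy
    rcases h1 with rfl | rfl <;> rcases h2 with rfl | rfl
    · exact ⟨a * c, b * d, Or.inl (by simp [Equiv.Perm.sumCongr_mul])⟩
    · exact ⟨a * c, b * d, Or.inr (by
        rw [← mul_assoc, Equiv.Perm.sumCongr_mul]
        rfl)⟩
    · refine ⟨a * d, b * c, Or.inr ?_⟩
      rw [mul_assoc, cmm_sum, ← mul_assoc, Equiv.Perm.sumCongr_mul]
      rfl
    · refine ⟨a * d, b * c, Or.inl ?_⟩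
      rw [mul_assoc, ← mul_assoc cmm, cmm_sum, mul_assoc, cmm_cmm, mul_one, Equiv.Perm.sumCongr_mul]
      rfl
  | inv x _ hx =>
    obtain ⟨a, b, h1⟩ := hx
    rcases h1 with rfl | rfl
    · refine ⟨a⁻¹, b⁻¹, Or.inl ?_⟩
      rw [Equiv.Perm.sumCongr_inv]
      rfl
    · refine ⟨b⁻¹, a⁻¹, Or.inr ?_⟩
      rw [mul_inv_rev, cmm_inv, Equiv.Perm.sumCongr_inv, cmm_sum]
      rfl

theorem a5_fact : ∀ σ : alternatingGroup (Fin 5), σ ≠ 1 → ∃ y : alternatingGroup (Fin 5),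
    y * σ * y⁻¹ * σ⁻¹ ≠ 1 ∧ (y * σ * y⁻¹ * σ⁻¹) ^ 15 = 1 := by
  decide +kernel

theorem no_normal_two (W : Subgroup ↥LW) (hW : W.Normal) (h2 : IsPGroup 2 W) : W = ⊥ := by
  have key : ∀ u ∈ W, ∀ k : ℕ, Odd k → u ^ k = 1 → u = 1 := by
    intro u hu k hk hk1
    obtain ⟨n, hn⟩ := h2 ⟨u, hu⟩
    have h1 : u ^ (2 ^ n) = 1 := congrArg Subtype.val hn
    have h3 : orderOf u ∣ Nat.gcd (2 ^ n) k := Nat.dvd_gcd (orderOf_dvd_of_pow_eq_one h1) (orderOf_dvd_of_pow_eq_one hk1)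
    have h4 : Nat.gcd (2 ^ n) k = 1 := Nat.Coprime.pow_left n (Nat.coprime_two_left.2 hk)
    rw [h4, Nat.dvd_one, orderOf_eq_one_iff] at h3
    exact h3
  have hL : ∀ σ τ : alternatingGroup (Fin 5), Equiv.Perm.sumCongr (σ : Equiv.Perm (Fin 5)) (τ : Equiv.Perm (Fin 5)) ∈ LW :=
    fun σ τ => Subgroup.subset_closure (Set.mem_union_left _ ⟨σ, τ, rfl⟩)
  -- commutators
  have hcm : ∀ x ∈ W, ∀ Y : ↥LW, Y * x * Y⁻¹ * x⁻¹ ∈ W := fun x hx Y =>
    mul_mem (hW.conj_mem x hx Y) (inv_mem hx)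
  have ho : ∀ (a b : Equiv.Perm (Fin 5)) (k : ℕ), (Equiv.Perm.sumCongr a b) ^ k = Equiv.Perm.sumCongr (a ^ k) (b ^ k) := by
    intro a b k
    induction k with
    | zero => simp [sum_one]
    | succ k ih => rw [pow_succ, ih, Equiv.Perm.sumCongr_mul, pow_succ, pow_succ]
  rw [eq_bot_iff]
  intro x hx
  rw [mem_bot]
  obtain ⟨σ, τ, hf⟩ := wreath_form x x.2
  rcases hf with hf | hf
  · -- preserving
    have hone : ∀ y : alternatingGroup (Fin 5), y * σ * y⁻¹ * σ⁻¹ ≠ 1 → (y * σ * y⁻¹ * σ⁻¹) ^ 15 = 1 → False := by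
      intro y h1 h3
      have hu := hcm x hx ⟨_, hL y 1⟩
      have e : ((⟨_, hL y 1⟩ * x * (⟨_, hL y 1⟩ : ↥LW)⁻¹ * x⁻¹ : ↥LW) : Equiv.Perm Om) =
          Equiv.Perm.sumCongr ((y * σ * y⁻¹ * σ⁻¹ : alternatingGroup (Fin 5)) : Equiv.Perm (Fin 5))
            ((1 : alternatingGroup (Fin 5)) : Equiv.Perm (Fin 5)) := by
        simp only [Subgroup.coe_mul, Subgroup.coe_inv, hf, Equiv.Perm.sumCongr_inv, Equiv.Perm.sumCongr_mul]
        simp
      have h5 := key _ hu 15 (by decide) (by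
        apply Subtype.ext
        rw [Subgroup.coe_pow, e, ho]
        have e2 := congrArg Subtype.val h3
        rw [Subgroup.coe_pow] at e2
        rw [e2]
        simp [sum_one])
      have h6 := congrArg Subtype.val h5
      rw [e] at h6
      apply h1
      apply Subtype.ext
      have h7 := congrArg (fun f : Equiv.Perm Om => fun i : Fin 5 => f (Sum.inl i)) h6
      refine Equiv.ext fun i => ?_
      have h8 := congrFun h7 i
      simpa using h8
    have htwo : ∀ y : alternatingGroup (Fin 5), y * τ * y⁻¹ * τ⁻¹ ≠ 1 → (y * τ * y⁻¹ * τ⁻¹) ^ 15 = 1 → False := by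
      intro y h1 h3
      have hu := hcm x hx ⟨_, hL 1 y⟩
      have e : ((⟨_, hL 1 y⟩ * x * (⟨_, hL 1 y⟩ : ↥LW)⁻¹ * x⁻¹ : ↥LW) : Equiv.Perm Om) =
          Equiv.Perm.sumCongr ((1 : alternatingGroup (Fin 5)) : Equiv.Perm (Fin 5))
            ((y * τ * y⁻¹ * τ⁻¹ : alternatingGroup (Fin 5)) : Equiv.Perm (Fin 5)) := by
        simp only [Subgroup.coe_mul, Subgroup.coe_inv, hf, Equiv.Perm.sumCongr_inv, Equiv.Perm.sumCongr_mul]
        simp
      have h5 := key _ hu 15 (by decide) (by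
        apply Subtype.ext
        rw [Subgroup.coe_pow, e, ho]
        have e2 := congrArg Subtype.val h3
        rw [Subgroup.coe_pow] at e2
        rw [e2]
        simp [sum_one])
      have h6 := congrArg Subtype.val h5
      rw [e] at h6
      apply h1
      apply Subtype.ext
      have h7 := congrArg (fun f : Equiv.Perm Om => fun i : Fin 5 => f (Sum.inr i)) h6
      refine Equiv.ext fun i => ?_
      have h8 := congrFun h7 i
      simpa using h8
    have hσ : σ = 1 := by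
      by_contra h
      obtain ⟨y, h1, h3⟩ := a5_fact σ h
      exact hone y h1 h3
    have hτ : τ = 1 := by
      by_contra h
      obtain ⟨y, h1, h3⟩ := a5_fact τ h
      exact htwo y h1 h3
    apply Subtype.ext
    rw [hf, hσ, hτ]
    exact sum_one
  · -- swapping
    exfalso
    have hY : Equiv.Perm.sumCongr (gB : Equiv.Perm (Fin 5)) (1 : Equiv.Perm (Fin 5)) ∈ LW := hL gB 1
    have hu := hcm x hx ⟨_, hY⟩
    have hx2 : (x : Equiv.Perm Om) * Equiv.Perm.sumCongr ((gB : Equiv.Perm (Fin 5))⁻¹) 1 * (x : Equiv.Perm Om)⁻¹ =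
        Equiv.Perm.sumCongr 1 ((τ : Equiv.Perm (Fin 5)) * (gB : Equiv.Perm (Fin 5))⁻¹ * (τ : Equiv.Perm (Fin 5))⁻¹) := by
      rw [hf, mul_inv_rev, cmm_inv]
      have e3 : ∀ A B : Equiv.Perm Om, A * cmm * B * (cmm * A⁻¹) = A * (cmm * B * cmm) * A⁻¹ := by
        intro A B
        group
      rw [e3, cmm_conj, Equiv.Perm.sumCongr_inv, Equiv.Perm.sumCongr_mul, Equiv.Perm.sumCongr_mul]
      simp
    have e : ((⟨_, hY⟩ * x * (⟨_, hY⟩ : ↥LW)⁻¹ * x⁻¹ : ↥LW) : Equiv.Perm Om) =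
        Equiv.Perm.sumCongr (gB : Equiv.Perm (Fin 5)) ((τ : Equiv.Perm (Fin 5)) * (gB : Equiv.Perm (Fin 5))⁻¹ * (τ : Equiv.Perm (Fin 5))⁻¹) := by
      simp only [Subgroup.coe_mul, Subgroup.coe_inv]
      rw [Equiv.Perm.sumCongr_inv, inv_one]
      have e4 : ∀ A X B C : Equiv.Perm Om, A * X * B * C = A * (X * B * C) := by
        intro A X B C
        group
      rw [e4, hx2, Equiv.Perm.sumCongr_mul]
      simp
    have hg3 : (gB : Equiv.Perm (Fin 5)) ^ 3 = 1 := by decide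
    have h5 := key _ hu 3 (by decide) (by
      apply Subtype.ext
      rw [Subgroup.coe_pow, e, ho, hg3, conj_pow, inv_pow, hg3]
      simp [sum_one])
    have h6 := congrArg Subtype.val h5
    rw [e] at h6
    have h7 := congrArg (fun f : Equiv.Perm Om => f (Sum.inl 0)) h6
    have h8 : (gB : Equiv.Perm (Fin 5)) 0 = 0 := by simpa using h7
    exact absurd h8 (by decide)


theorem e5w_mem (w1 w2 : List Bool) (sw : Bool) : e5w w1 w2 sw ∈ LW := by
  unfold e5w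
  refine mul_mem (Subgroup.subset_closure (Set.mem_union_left _ ⟨aw w1, aw w2, rfl⟩)) ?_
  split_ifs
  · exact Subgroup.subset_closure (Set.mem_union_right _ rfl)
  · exact one_mem _

/-- The stabiliser of the family. -/
def stabS : Submonoid (Equiv.Perm Om) where
  carrier := {σ | inStab σ}
  one_mem' := by
    intro S hS
    have : S.image ((1 : Equiv.Perm Om) : Om → Om) = S := by simp
    rw [this]
    exact hS
  mul_mem' := by
    intro a b ha hb S hS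
    have : S.image ((a * b : Equiv.Perm Om) : Om → Om) = (S.image b).image a := by
      rw [Finset.image_image]
      rfl
    rw [this]
    exact ha _ (hb S hS)

/-- Permutations in the wreath product stabilising the family. -/
def S0 : Submonoid (Equiv.Perm Om) := LW.toSubmonoid ⊓ stabS

/-- The structure. -/
noncomputable def AB : BlockD c5 Om (256 - 181) := tab.toBlock (FixTab.incT OB T4K code5) inc_inj

/-- The first class. -/
def T0 : Fin (256 - 181) := ⟨0, by norm_num⟩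

theorem hT0 : cl (AB.T T0) = cl v8 := by
  congr 1
  apply Subtype.ext
  funext p
  show vecOf (RL.getD (181 + 0) []) p = (Pi.single none 8 : GolayPt → ℤ) p
  revert p
  decide +kernel

/-! ### The generators -/

theorem comm_mat {M : List (List ℤ)} (hM : matCheck M 8 = true)
    (h : (List.range 24).all (fun i => matL M 8 (permL sLi (unitL i)) == permL sLi (matL M 8 (unitL i))) = true) :
    matCo0 hM * c5 = c5 * matCo0 hM := by
  apply ext_of_acts ((acts_mat hM).comp acts_c5) (acts_c5.comp (acts_mat hM))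
  intro i hi
  exact beq_iff_eq.1 (List.all_eq_true.1 h i hi)

/-- The generators. -/
noncomputable def gEE : Fin 3 → Co0 := ![matCo0 m0_ok, matCo0 m1_ok, matCo0 m2_ok]

/-- The action on lists. -/
def gFF : Fin 3 → List ℤ → List ℤ := ![matL m0 8, matL m1 8, matL m2 8]

/-- The induced permutations. -/
def gRR : Fin 3 → Equiv.Perm Om := ![rho0, rho1, rho2]

theorem gFF_acts (i : Fin 3) : Acts (gEE i) (gFF i) := by
  fin_cases i
  · exact acts_mat m0_ok
  · exact acts_mat m1_ok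
  · exact acts_mat m2_ok

theorem gEE_comm (i : Fin 3) : gEE i * c5 = c5 * gEE i := by
  fin_cases i
  · exact comm_mat m0_ok m0_comm
  · exact comm_mat m1_ok m1_comm
  · exact comm_mat m2_ok m2_comm

theorem gEE_good (i : Fin 3) : AB.Good (gEE i) (gRR i) := by
  fin_cases i
  · exact tab.good_of_K hK inc_inj (acts_mat m0_ok) K0_1 K0_2
  · exact tab.good_of_K hK inc_inj (acts_mat m1_ok) K1_1 K1_2
  · exact tab.good_of_K hK inc_inj (acts_mat m2_ok) K2_1 K2_2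

theorem gRR_mem (i : Fin 3) : gRR i ∈ LW := by
  fin_cases i
  · exact e5w_mem _ _ _
  · exact e5w_mem _ _ _
  · exact e5w_mem _ _ _

/-- The paths. -/
def path5 : List (List (Fin 3)) := [[],
  [0,1,1,2,0],
  [0,2,0,2],
  [1,0,2,0],
  [0,0,0,0],
  [0,1,0,0,0],
  [0,2,1,1,0],
  [0,1,0,0,1],
  [0,2,1,2,0],
  [2,1,0,0],
  [2,0,0,0,0],
  [0,2,2],
  [2,2,2],
  [0,0,1,1,0,0],
  [1,1,1,2,2,0],
  [2,0,2,2],
  [0,1],
  [0,1,0],
  [0,0,0,1],
  [2,0,2],
  [2,2,0,0,0,0],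
  [0,0,2,0,2],
  [0,0,1,0],
  [2,2],
  [1,1,2,2,0],
  [1,2,0],
  [0],
  [2,0,0,0],
  [0,2,0],
  [0,1,2,2],
  [1,1,0],
  [1,2,2,0],
  [1,2,1,1,0],
  [1,1,0,0,0,1],
  [0,1,0,2],
  [0,1,0,0,2],
  [0,0,1,2,0],
  [2,0,0,2,2,0],
  [0,2,1,0,0],
  [1,2,0,0,0,0],
  [1,1,2,0],
  [2,2,1,0,0],
  [0,0,2],
  [0,1,1,0,0],
  [1,2],
  [0,0],
  [2,2,0],
  [2,1,1,0],
  [2,1,2,0],
  [1,0,2],
  [2,1,2,0,0,0,0],
  [0,2,0,0,2],
  [0,0,0],
  [1,2,2,2],
  [1,0,0,0],
  [1,0,0,1],
  [2,0,0,2],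
  [1,0],
  [1,0,0,2],
  [0,2,2,0],
  [1,0,0],
  [0,0,1],
  [0,1,2,0],
  [1,0,1,0,2],
  [2,0],
  [2],
  [0,2],
  [1,0,0,0,1],
  [0,0,2,2,0],
  [1],
  [1,1,0,0],
  [1,2,1,0,0],
  [2,0,0,1],
  [1,1,1,2,0],
  [1,2,2]]

theorem path_chk : ∀ a : Fin (256 - 181), congL (BlockD.pathF gFF (path5.getD a.val []) (RL.getD (181 + a.val) [])) (RL.getD 181 []) = true := by
  decide +kernel

theorem same_chk : ∀ a : Fin (256 - 181), (∀ ω : Om, FixTab.incT OB T4K code5 ω a = FixTab.incT OB T4K code5 ω T0) → a ≠ T0 →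
    ¬ inStab (BlockD.pathR gRR (path5.getD a.val [])) := by
  decide +kernel

theorem path_cl (a : Fin (256 - 181)) : cl (BlockD.pathE gEE (path5.getD a.val []) • AB.T a) = cl (AB.T T0) := by
  have hm := inLattice_sound (tab.RL_ok ⟨181 + a.val, by omega⟩)
  have hA := BlockD.pathE_acts gFF_acts (path5.getD a.val [])
  have e : AB.T a = ⟨vecOf (RL.getD (181 + a.val) []), hm⟩ := rfl
  rw [e, hA.smul hm (hA.mem hm)]
  exact cl_of_congL _ (inLattice_sound (tab.RL_ok ⟨181 + (T0 : Fin (256 - 181)).val, by omega⟩)) (path_chk a)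

/-! ### The monomial part -/

theorem hW5 : ∀ m ∈ codeList, invarT (toLL S) m = true → m ∈ W5 := by
  intro m hm h
  rw [toL_S] at h
  have := List.all_eq_true.1 W5_all m hm
  rw [h] at this
  simpa using this

theorem inM24_tg0 : Cfsg.Agent.Lib.Compute.M24.inM24 tg0 = true := by decide +kernel
theorem inM24_tg1 : Cfsg.Agent.Lib.Compute.M24.inM24 tg1 = true := by decide +kernel

theorem comm_tg {t : List ℕ} (hv : Cfsg.Agent.Lib.Compute.M24.validL t = true) (h : Cfsg.Agent.Lib.Compute.M24.mulL t sL = Cfsg.Agent.Lib.Compute.M24.mulL sL t) :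
    Cfsg.Agent.Lib.Compute.M24Enum.ofL t * S = S * Cfsg.Agent.Lib.Compute.M24Enum.ofL t := by
  apply eq_of_toL
  rw [toL_mul, toL_mul, toL_ofL hv, toL_S, h]

theorem hgens : ∀ i, i < tgL.length → ∃ (g : Equiv.Perm GolayPt) (hgm : g ∈ Cfsg.M24), toLL g = tgL.getD i [] ∧ g * S = S * g ∧
    ∃ ρ ∈ S0, AB.Good (permCo0 g hgm) ρ := by
  intro i hi
  have hl : tgL.length = 2 := rfl
  rw [hl] at hi
  interval_cases i
  · have hm := mem_M24_of_inM24 (codes_ofL tg0_valid) inM24_tg0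
    refine ⟨_, hm, toL_ofL tg0_valid, comm_tg tg0_valid tg0_comm, rhoT0, ⟨e5w_mem _ _ _, rhoT0_stab⟩, ?_⟩
    exact tab.good_of_K hK inc_inj (acts_of_toL hm (by rw [toL_ofL tg0_valid]; exact tg0_inv)) KT0_1 KT0_2
  · have hm := mem_M24_of_inM24 (codes_ofL tg1_valid) inM24_tg1
    refine ⟨_, hm, toL_ofL tg1_valid, comm_tg tg1_valid tg1_comm, rhoT1, ⟨e5w_mem _ _ _, rhoT1_stab⟩, ?_⟩
    exact tab.good_of_K hK inc_inj (acts_of_toL hm (by rw [toL_ofL tg1_valid]; exact tg1_inv)) KT1_1 KT1_2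

theorem hN5 : ∀ n ∈ N, n * c5 = c5 * n → ∃ ρ ∈ S0, AB.Good n ρ := by
  refine BlockD.N_part S_mem rfl S0 (acc := accL) (W := W5) (fun σ hσ h => acc_mem σ hσ h) hW5 ?_ ?_
  · intro σ hσ h
    rw [← ws5_acc] at h
    exact BlockD.perm_of_words S_mem rfl S0 hgens ws5_ok σ hσ h
  · intro m hm hcc
    rw [← W5_eq] at hm
    obtain ⟨x, hx, rfl⟩ := List.mem_map.1 hm
    refine ⟨e5w x.2.2.1 x.2.2.2.1 x.2.2.2.2, ⟨e5w_mem _ _ _, WD_stab x hx⟩, ?_⟩
    exact tab.good_of_K hK inc_inj (acts_sign hcc) (WD_1 x hx) (WD_2 x hx)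

theorem hcover : ∀ d : Co0, d * c5 = c5 * d → ∃ σ ∈ LW, AB.Good d σ :=
  BlockD.cover_of hT0
    (fun a => ⟨_, _, BlockD.pathE_comm gEE_comm _, BlockD.pathR_mem gRR_mem _, BlockD.path_good gEE_comm gEE_good _, path_cl a⟩)
    (fun n hn hc => by
      obtain ⟨ρ, hρ, hg⟩ := hN5 n hn hc
      exact ⟨ρ, hρ.1, hg⟩)

theorem hker : ∀ d : Co0, d * c5 = c5 * d → AB.Good d 1 → mkC d ∈ zpowers (mkC c5) := by
  refine BlockD.ker_of hT0 (Stab := {σ | inStab σ}) ?_ ?_ ?_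
  · intro a hs h0
    exact ⟨_, _, BlockD.pathE_comm gEE_comm _, same_chk a hs h0, BlockD.path_good gEE_comm gEE_good _, path_cl a⟩
  · intro n hn hc
    obtain ⟨ρ, hρ, hg⟩ := hN5 n hn hc
    exact ⟨ρ, hρ.2, hg⟩
  · exact kerN_part tab S_mem rfl hK inc_inj (fun σ hσ h => acc_mem σ hσ h) hW5 accL_inv hcode 5 (by
      rw [toL_S]
      exact ker_chk)

/-! ### Surjectivity -/

/-- The words. -/
def wsS : List (List (Fin 3)) := [[],[],[0,2,2,1,0,0],[2,0,0,2,2,2,1,2],[2,2,2,1,2,0,0,0],[],[],[1,0,1,1,0,0,2,2],[0,2,1,0,0,0],[0,0,0,2,2,1],[0,2,2,1,0,0],[1,0,1,1,0,0,2,2],[],[2,2,1,2,1,1,0,2],[2,0,1,1,1,1],[2,0,0,2,2,2,1,2],[0,2,1,0,0,0],[2,2,1,2,1,1,0,2],[],[0,2,1,2,1,0],[2,2,2,1,2,0,0,0],[0,0,0,2,2,1],[2,0,1,1,1,1],[0,2,1,2,1,0],[]]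

theorem wsS_chk : ∀ x y : Fin 5, x ≠ y → BlockD.pathR gRR (wsS.getD (5 * x.val + y.val) []) =
    Equiv.Perm.sumCongr (Equiv.swap x y * Equiv.swap 0 1) 1 := by
  decide +kernel

theorem wComm_chk : BlockD.pathR gRR [1,0,0,2,2,1,0] = cmm := by
  decide +kernel

theorem path_mem (p : List (Fin 3)) : BlockD.pathR gRR p ∈ AB.goodRange :=
  ⟨_, BlockD.pathE_comm gEE_comm _, BlockD.path_good gEE_comm gEE_good _⟩

/-- The first factor. -/
def iota : Equiv.Perm (Fin 5) →* Equiv.Perm Om where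
  toFun σ := Equiv.Perm.sumCongr σ 1
  map_one' := sum_one
  map_mul' := by
    intro a b
    rw [Equiv.Perm.sumCongr_mul, one_mul]

theorem LW_le : LW ≤ AB.goodRange := by
  have h1 : alternatingGroup (Fin 5) ≤ AB.goodRange.comap iota := by
    apply alternating_le (a₀ := 0) (b₀ := 1) (AB.goodRange.comap iota) (by decide)
    intro x y hxy
    show Equiv.Perm.sumCongr _ 1 ∈ AB.goodRange
    rw [← wsS_chk x y hxy]
    exact path_mem _
  have hc : cmm ∈ AB.goodRange := by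
    rw [← wComm_chk]
    exact path_mem _
  apply (Subgroup.closure_le _).2
  rintro g (⟨σ, τ, rfl⟩ | hg)
  · have e : Equiv.Perm.sumCongr (σ : Equiv.Perm (Fin 5)) (τ : Equiv.Perm (Fin 5)) =
        iota σ * (cmm * iota τ * cmm⁻¹) := by
      rw [cmm_inv]
      show _ = Equiv.Perm.sumCongr _ 1 * (cmm * Equiv.Perm.sumCongr _ 1 * cmm)
      rw [cmm_conj, Equiv.Perm.sumCongr_mul]
      simp
    rw [e]
    exact mul_mem (h1 σ.2) (mul_mem (mul_mem hc (h1 τ.2)) (inv_mem hc))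
  · rw [Set.mem_singleton_iff] at hg
    rw [hg]
    exact hc

theorem c5_pow : c5 ^ 5 = 1 := by
  have e : ∀ (σ : Equiv.Perm GolayPt) (h : σ ∈ Cfsg.M24), σ = 1 → permCo0 σ h = 1 := by
    rintro σ h rfl
    exact perm_one h
  rw [c5, perm_pow]
  exact e _ _ S_pow

/-- The data. -/
noncomputable def hnData : MonsterModel.FxD c5 ↥LW 256 :=
  BlockD.toFxD (A := AB) (L := LW) hcover (p := 5) (by decide) c5_pow (fun σ hσ => LW_le hσ) hker tab.T_fix tab.rv tab.rv_fix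
    (fun _ _ h => tab.rv_inj h) tab.cov (fun a => ⟨⟨181 + a.val, by omega⟩, rfl⟩)

theorem c5_mem : c5 ∈ N := monom_mem_N (monom_perm ⟨S, S_mem⟩)

theorem mkC_c5_ne : mkC c5 ≠ 1 := by
  intro h
  have e : S = 1 := by
    rcases (mkC_eq_one_iff _).1 h with h1 | h1
    · have h2 := (monom_perm ⟨S, S_mem⟩)
      have h3 : Monom c5 S := h2
      rw [h1] at h3
      exact h3.unique Monom.one
    · have h2 : Monom c5 S := monom_perm ⟨S, S_mem⟩
      rw [h1] at h2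
      exact h2.unique (show Monom negCo0 1 from neg_mem_signSub)
  have h4 := toL_S
  rw [e, Cfsg.Agent.Lib.Compute.M24.toL_one] at h4
  revert h4
  decide +kernel

end Cfsg.Agent.Lib.Sporadic.LeechFive
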