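import Mathlib
import Cfsg.Agent.Lib.Sporadic.LeechCentFw2

/-!
# Data for an element of order five in the automorphism group of the lattice
-/

set_option autoImplicit false
set_option maxRecDepth 100000
set_option maxHeartbeats 0

namespace Cfsg.Agent.Lib.Sporadic.LeechFive

open Cfsg Cfsg.Agent.Lib.Sporadic.LeechMat Cfsg.Agent.Lib.Sporadic.LeechKey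
  Cfsg.Agent.Lib.Sporadic.LeechSeven Cfsg.Agent.Lib.Sporadic.LeechCentFw
  Cfsg.Agent.Lib.Sporadic.LeechLocal Cfsg.Agent.Lib.Sporadic.LeechAct Cfsg.Agent.Lib.Sporadic.GolayCore
open Cfsg.Agent.Lib.Compute.M24 Cfsg.Agent.Lib.Compute.M24Enum

/-- The permutation. -/
def sL : List ℕ := [0,18,6,3,2,21,1,5,16,12,7,19,8,9,17,15,13,11,4,22,10,20,14,23]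

/-- The inverse permutation. -/
def sLi : List ℕ := [0,6,4,3,18,7,2,10,12,13,20,17,9,16,22,15,8,14,1,11,21,5,19,23]

theorem validL_sL : validL sL = true := by decide +kernel

/-- The permutation. -/
noncomputable def S : P := ofL sL

theorem toL_S : toL S = sL := toL_ofL validL_sL

theorem S_mem : S ∈ Cfsg.M24 := mem_M24_of_inM24 (codes_ofL validL_sL) (by decide +kernel)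

/-- The element of `Co0`. -/
noncomputable def c5 : Co0 := Cfsg.Agent.Lib.Sporadic.LeechAut.permCo0 S S_mem

theorem acts_c5 : Acts c5 (permL sLi) := acts_of_toL S_mem (by rw [toL_S]; decide +kernel)

theorem S_pow : S ^ 5 = 1 := by
  apply eq_of_toL
  rw [toL_pow, toL_S, toL_one]
  decide +kernel

set_option maxHeartbeats 4000000 in
def gF : List (List ℤ) := [[2,0,0,-2,2,0,0,0,0,0,-2,2,0,2,0,0,0,0,0,0,0,-2,-2,0],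
  [2,2,0,0,0,2,0,0,0,0,-2,0,2,0,0,0,-2,0,0,2,0,0,0,2],
  [1,3,1,1,-1,1,1,-1,-1,1,-1,1,1,-1,-1,1,1,1,1,1,1,1,-1,1],
  [-1,1,-1,1,1,-1,-1,-1,-1,1,1,1,-1,-1,1,1,1,3,1,-1,1,-1,-1,1],
  [-2,2,0,0,0,0,0,0,0,0,0,2,0,0,0,0,2,0,2,-2,0,2,2,0],
  [0,0,0,0,2,2,0,0,0,-2,-2,-2,0,2,-2,0,0,0,2,0,0,0,0,0],
  [1,-1,-1,-1,1,-1,-1,1,-1,1,3,1,1,-1,1,-1,-1,1,-1,1,1,-1,1,1],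
  [-2,0,0,0,-2,0,2,0,2,0,0,0,0,0,0,0,-2,0,2,2,0,0,0,-2],
  [0,0,0,0,0,0,0,0,0,0,-2,-2,-2,2,2,0,0,-2,0,0,2,0,2,0],
  [1,1,1,1,-1,-1,1,1,1,1,1,1,-1,-3,-1,1,-1,1,-1,-1,1,-1,1,1],
  [0,0,0,0,2,0,0,2,0,-2,0,2,0,0,0,0,-2,0,2,2,2,0,0,0],
  [1,-1,-1,-1,1,1,1,1,3,1,-1,-1,1,-1,1,-1,1,1,-1,-1,-1,1,1,-1],
  [0,0,-2,2,0,0,2,0,-2,0,0,2,0,0,2,0,0,0,0,2,0,0,0,2],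
  [0,0,-2,0,0,2,0,-2,0,0,0,0,0,0,0,0,0,0,2,-2,2,2,-2,0],
  [0,0,0,2,0,0,0,0,-2,0,0,0,2,0,0,2,-2,-2,0,0,2,0,-2,0],
  [1,-1,-1,-3,1,1,1,1,1,-1,-1,-1,-1,-1,-1,1,1,1,-1,1,-1,-1,1,-1]]

set_option maxHeartbeats 4000000 in
def tF : List (List ℤ) := [[0,8,0,6,-4,2,6,0,-2,2,-2,6,4,-4,0,4,-4,0,4,4,4,2,0,4],
  [5,3,-3,1,3,1,3,1,-3,1,-1,7,-1,-1,3,1,-3,1,3,3,9,-1,-1,5],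
  [0,4,-6,-2,4,6,6,-2,2,0,-8,2,-2,2,2,2,4,4,8,0,4,2,0,0],
  [3,5,-3,1,3,5,7,3,3,-1,-5,3,1,-5,-1,3,-3,7,5,7,3,-1,1,3],
  [2,6,-2,4,2,-2,2,0,-6,4,2,10,2,-4,2,4,0,4,2,0,6,-2,-2,6],
  [2,4,-2,-2,4,0,0,4,0,0,2,6,0,-6,0,2,-2,6,2,2,4,-2,4,4],
  [6,4,-6,0,4,4,6,2,0,2,-2,8,4,-6,2,4,-6,6,4,6,8,-2,-4,4],
  [1,3,-5,-3,3,5,1,-1,3,1,-3,1,1,-3,1,1,3,5,3,-3,1,3,1,1],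
  [4,0,-4,0,4,0,2,2,-2,0,2,8,0,-2,2,0,-4,2,2,2,6,-2,-2,4],
  [2,0,-2,2,2,4,2,0,2,0,-2,-2,2,-2,-2,2,-2,0,2,-4,4,2,-2,0],
  [5,5,-1,1,3,5,7,3,-1,-3,-9,3,1,1,-1,5,-7,-1,5,9,7,-3,-1,3],
  [3,1,-5,-5,5,5,5,3,3,-1,-5,3,3,1,1,-1,-1,3,3,5,-1,-1,3,1],
  [2,0,-2,-6,6,2,4,6,6,-2,-2,4,0,-2,-2,0,-2,4,4,2,2,-2,4,-2],
  [4,6,0,-4,2,4,2,0,0,0,-6,4,2,0,-2,2,2,2,2,2,0,0,0,2],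
  [-2,4,-4,0,2,2,4,0,-2,0,-2,2,-2,0,2,2,2,4,6,4,4,0,4,2],
  [3,5,-3,1,5,5,3,1,-1,-3,-7,5,-1,3,1,1,-3,-1,7,1,7,1,1,5]]

def sepL : List (List ℤ) := [[1,1,1,-1,1,1,1,1,3,3,1,-1,3,3,-1,1,3,-1,1,-1,1,1,-1,-1],
  [0,0,0,-2,0,0,0,-4,2,-2,0,2,2,-2,2,0,-2,-2,0,-2,0,0,2,-2],
  [2,2,2,0,-2,0,2,0,0,4,0,2,0,0,-2,0,0,-2,-2,-2,0,0,2,2],
  [-6,0,0,-2,0,-2,0,-2,0,0,-2,0,0,0,0,0,0,0,0,0,-2,-2,0,2],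
  [-2,2,2,0,-2,0,2,0,0,4,0,-2,0,0,2,0,0,2,-2,2,0,0,-2,2],
  [-2,2,2,2,2,0,2,0,2,2,0,0,2,2,0,-4,2,0,2,0,0,0,0,0],
  [-1,3,3,-1,-1,-3,-1,1,-1,-1,1,1,-1,-1,-3,1,-1,-3,-1,1,1,1,1,1],
  [3,-1,3,-1,-1,1,-1,-3,-1,-1,1,-3,-1,3,1,1,-1,1,-1,1,1,1,1,1]]

def RLc0 : List (List ℤ) := [[0,0,0,0,0,0,0,0,0,0,0,0,0,0,0,0,0,0,0,0,0,0,0,0],
  [-1,-1,-1,-1,-1,1,-1,1,-1,-1,1,1,-1,-1,1,1,-1,1,-1,1,1,1,1,-3],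
  [3,-1,-1,1,-1,1,-1,1,1,1,1,-1,1,1,-1,1,1,-1,-1,-1,1,1,-1,-1],
  [-1,1,1,1,1,-1,1,-1,-1,-1,-1,-1,-1,-1,-1,1,-1,-1,1,-1,-1,-1,-1,-3],
  [1,-1,-1,1,-1,-1,-1,-1,-1,-1,-1,1,-1,-1,1,1,-1,1,-1,1,-1,-1,1,3],
  [-1,1,1,3,1,-1,1,-1,1,1,-1,1,1,1,1,1,1,1,1,1,-1,-1,1,-1],
  [0,0,0,-4,0,0,0,0,0,0,0,0,0,0,0,4,0,0,0,0,0,0,0,0],
  [-4,0,0,0,0,0,0,0,0,0,0,0,0,0,0,0,0,0,0,0,0,0,0,4],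
  [-1,-1,-1,1,-1,1,-1,1,1,1,1,-1,1,1,-1,1,1,-1,-1,-1,1,1,-1,3],
  [1,-1,-1,-1,-1,-1,-1,-1,1,1,-1,-1,1,1,-1,-3,1,-1,-1,-1,-1,-1,-1,1],
  [0,2,2,2,2,0,2,0,0,0,0,0,0,0,0,2,0,0,2,0,0,0,0,2],
  [2,0,0,-2,0,0,0,0,0,0,0,2,0,0,2,-2,0,2,0,2,0,0,2,0],
  [1,1,1,-1,1,1,1,1,-1,-1,1,-1,-1,-1,-1,1,-1,-1,1,-1,1,1,-1,3],
  [0,0,0,0,0,0,0,0,0,0,0,0,0,0,0,-4,0,0,0,0,0,0,0,-4],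
  [2,0,0,-2,0,-2,0,-2,0,0,-2,0,0,0,0,0,0,0,0,0,-2,-2,0,2],
  [1,-1,-1,-3,-1,-1,-1,-1,-1,-1,-1,1,-1,-1,1,1,-1,1,-1,1,-1,-1,1,-1],
  [-1,1,1,-1,1,1,1,1,1,1,1,-1,1,1,-1,3,1,-1,1,-1,1,1,-1,1],
  [0,0,0,-4,0,0,0,0,0,0,0,0,0,0,0,0,0,0,0,0,0,0,0,-4],
  [-1,-1,-1,3,-1,1,-1,1,-1,-1,1,1,-1,-1,1,1,-1,1,-1,1,1,1,1,1],
  [1,1,1,-1,1,-1,1,-1,-1,-1,-1,1,-1,-1,1,3,-1,1,1,1,-1,-1,1,1],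
  [-1,-1,-1,-1,-1,-1,-1,-1,-1,-1,-1,-1,-1,-1,-1,3,-1,-1,-1,-1,-1,-1,-1,-1],
  [-4,0,0,0,0,0,0,0,0,0,0,0,0,0,0,-4,0,0,0,0,0,0,0,0],
  [0,2,2,2,2,0,2,0,0,0,0,0,0,0,0,-2,0,0,2,0,0,0,0,-2],
  [2,0,0,0,0,0,0,0,-2,-2,0,0,-2,-2,0,-2,-2,0,0,0,0,0,0,2],
  [0,2,2,-2,2,0,2,0,0,0,0,0,0,0,0,2,0,0,2,0,0,0,0,-2],
  [-4,0,0,-4,0,0,0,0,0,0,0,0,0,0,0,0,0,0,0,0,0,0,0,0],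
  [-1,-1,-1,-3,-1,1,-1,1,1,1,1,-1,1,1,-1,1,1,-1,-1,-1,1,1,-1,-1],
  [1,1,1,-1,1,1,1,1,-1,-1,1,-1,-1,-1,-1,-3,-1,-1,1,-1,1,1,-1,-1],
  [1,1,1,-3,1,1,1,1,1,1,1,1,1,1,1,1,1,1,1,1,1,1,1,1],
  [-4,0,0,0,0,0,0,0,0,0,0,0,0,0,0,0,0,0,0,0,0,0,0,-4],
  [1,1,1,1,1,1,1,1,1,1,1,1,1,1,1,1,1,1,1,1,1,1,1,-3],
  [3,-1,-1,-1,-1,1,-1,1,-1,-1,1,1,-1,-1,1,1,-1,1,-1,1,1,1,1,1]]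

def RLc1 : List (List ℤ) := [[3,1,1,1,1,-1,1,-1,-1,-1,-1,-1,-1,-1,-1,1,-1,-1,1,-1,-1,-1,-1,1],
  [2,0,0,0,0,0,0,0,-2,-2,0,0,-2,-2,0,2,-2,0,0,0,0,0,0,-2],
  [2,0,0,2,0,0,0,0,0,0,0,2,0,0,2,2,0,2,0,2,0,0,2,0],
  [-2,0,0,2,0,-2,0,-2,0,0,-2,0,0,0,0,0,0,0,0,0,-2,-2,0,2],
  [0,-2,-2,2,-2,0,-2,0,0,0,0,0,0,0,0,2,0,0,-2,0,0,0,0,-2],
  [-3,-1,-1,1,-1,-1,-1,-1,-1,-1,-1,1,-1,-1,1,1,-1,1,-1,1,-1,-1,1,-1],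
  [1,-1,-1,3,-1,-1,-1,-1,1,1,-1,-1,1,1,-1,1,1,-1,-1,-1,-1,-1,-1,1],
  [-3,1,1,1,1,1,1,1,1,1,1,1,1,1,1,1,1,1,1,1,1,1,1,1],
  [-1,1,1,-1,1,-1,1,-1,1,1,-1,1,1,1,1,-3,1,1,1,1,-1,-1,1,-1],
  [-2,0,0,0,0,0,0,0,-2,-2,0,0,-2,-2,0,2,-2,0,0,0,0,0,0,2],
  [-2,0,0,-2,0,2,0,2,0,0,2,0,0,0,0,0,0,0,0,0,2,2,0,2],
  [-3,1,1,-1,1,1,1,1,-1,-1,1,-1,-1,-1,-1,1,-1,-1,1,-1,1,1,-1,-1],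
  [0,0,0,-4,0,0,0,0,0,0,0,0,0,0,0,-4,0,0,0,0,0,0,0,0],
  [-1,-1,-1,-3,-1,-1,-1,-1,1,1,-1,1,1,1,1,-1,1,1,-1,1,-1,-1,1,1],
  [4,0,0,0,0,0,0,0,0,0,0,0,0,0,0,-4,0,0,0,0,0,0,0,0],
  [2,0,0,2,0,2,0,2,0,0,2,0,0,0,0,0,0,0,0,0,2,2,0,2],
  [1,-1,-1,-1,-1,-1,-1,-1,1,1,-1,-1,1,1,-1,1,1,-1,-1,-1,-1,-1,-1,-3],
  [3,1,1,-1,1,-1,1,-1,1,1,-1,1,1,1,1,1,1,1,1,1,-1,-1,1,-1],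
  [4,0,0,-4,0,0,0,0,0,0,0,0,0,0,0,0,0,0,0,0,0,0,0,0],
  [1,1,1,1,1,-1,1,-1,1,1,-1,-1,1,1,-1,3,1,-1,1,-1,-1,-1,-1,-1],
  [0,0,0,0,0,0,0,0,0,0,0,0,0,0,0,-4,0,0,0,0,0,0,0,4],
  [2,0,0,0,0,0,0,0,2,2,0,0,2,2,0,2,2,0,0,0,0,0,0,2],
  [-2,0,0,-2,0,0,0,0,0,0,0,2,0,0,2,2,0,2,0,2,0,0,2,0],
  [-1,1,1,1,1,-1,1,-1,-1,-1,-1,-1,-1,-1,-1,-3,-1,-1,1,-1,-1,-1,-1,1],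
  [-3,-1,-1,-1,-1,-1,-1,-1,1,1,-1,-1,1,1,-1,1,1,-1,-1,-1,-1,-1,-1,1],
  [-1,1,1,-1,1,-1,1,-1,1,1,-1,1,1,1,1,1,1,1,1,1,-1,-1,1,3],
  [1,-1,-1,3,-1,1,-1,1,1,1,1,1,1,1,1,-1,1,1,-1,1,1,1,1,-1],
  [-2,0,0,2,0,0,0,0,0,0,0,2,0,0,2,-2,0,2,0,2,0,0,2,0],
  [0,0,0,-4,0,0,0,0,0,0,0,0,0,0,0,0,0,0,0,0,0,0,0,4],
  [2,2,2,0,2,0,2,0,0,0,0,2,0,0,2,0,0,2,2,2,0,0,2,2],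
  [5,1,1,1,1,1,1,1,1,1,1,1,1,1,1,1,1,1,1,1,1,1,1,1],
  [-1,1,1,-1,1,-1,1,-1,1,1,-1,1,1,1,1,5,1,1,1,1,-1,-1,1,-1]]

def RLc2 : List (List ℤ) := [[-4,-2,-2,-2,-2,0,-2,0,0,0,0,0,0,0,0,-2,0,0,-2,0,0,0,0,2],
  [2,0,0,2,0,0,0,0,0,0,0,-2,0,0,-2,2,0,-2,0,-2,0,0,-2,-4],
  [-2,0,0,2,0,2,0,2,0,0,2,0,0,0,0,4,0,0,0,0,2,2,0,2],
  [-4,2,2,-2,2,0,2,0,0,0,0,0,0,0,0,-2,0,0,2,0,0,0,0,-2],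
  [2,0,0,4,0,0,0,0,2,2,0,0,2,2,0,2,2,0,0,0,0,0,0,-2],
  [2,0,0,-2,0,0,0,0,0,0,0,-2,0,0,-2,-2,0,-2,0,-2,0,0,-2,4],
  [-3,-1,-1,3,-1,-1,-1,-1,1,1,-1,-1,1,1,-1,1,1,-1,-1,-1,-1,-1,-1,-3],
  [-3,1,1,-3,1,1,1,1,1,1,1,1,1,1,1,-3,1,1,1,1,1,1,1,1],
  [-1,-1,-1,3,-1,1,-1,1,-1,-1,1,1,-1,-1,1,-3,-1,1,-1,1,1,1,1,-3],
  [5,1,1,-1,1,1,1,1,-1,-1,1,-1,-1,-1,-1,1,-1,-1,1,-1,1,1,-1,-1],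
  [-2,-2,-2,2,-2,0,-2,0,2,2,0,0,2,2,0,0,2,0,-2,0,0,0,0,0],
  [0,0,0,2,0,-2,0,-2,-2,-2,-2,0,-2,-2,0,2,-2,0,0,0,-2,-2,0,0],
  [0,0,0,2,0,0,0,0,2,2,0,2,2,2,2,0,2,2,0,2,0,0,2,2],
  [0,0,0,0,0,2,0,2,0,0,2,2,0,0,2,2,0,2,0,2,2,2,2,2],
  [0,0,0,2,0,2,0,2,-2,-2,2,0,-2,-2,0,-2,-2,0,0,0,2,2,0,0],
  [2,2,2,0,2,-2,2,-2,0,0,-2,0,0,0,0,-2,0,0,2,0,-2,-2,0,0],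
  [1,1,1,1,1,1,1,1,1,1,1,1,1,1,1,1,1,1,1,1,1,1,1,5],
  [-5,-1,-1,-1,-1,1,-1,1,-1,-1,1,1,-1,-1,1,1,-1,1,-1,1,1,1,1,1],
  [1,1,1,3,1,1,1,1,-1,-1,1,-1,-1,-1,-1,-3,-1,-1,1,-1,1,1,-1,3],
  [-5,1,1,1,1,-1,1,-1,-1,-1,-1,-1,-1,-1,-1,1,-1,-1,1,-1,-1,-1,-1,1],
  [-3,-1,-1,-3,-1,-1,-1,-1,-1,-1,-1,1,-1,-1,1,-3,-1,1,-1,1,-1,-1,1,-1],
  [3,1,1,-1,1,-1,1,-1,1,1,-1,1,1,1,1,-3,1,1,1,1,-1,-1,1,3],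
  [2,0,0,2,0,2,0,2,0,0,2,0,0,0,0,4,0,0,0,0,2,2,0,-2],
  [-2,0,0,4,0,0,0,0,2,2,0,0,2,2,0,2,2,0,0,0,0,0,0,2],
  [3,1,1,-3,1,-1,1,-1,-1,-1,-1,-1,-1,-1,-1,-3,-1,-1,1,-1,-1,-1,-1,1],
  [1,-1,-1,-5,-1,-1,-1,-1,1,1,-1,-1,1,1,-1,1,1,-1,-1,-1,-1,-1,-1,1],
  [5,-1,-1,1,-1,-1,-1,-1,-1,-1,-1,1,-1,-1,1,1,-1,1,-1,1,-1,-1,1,-1],
  [1,1,1,-3,1,1,1,1,1,1,1,1,1,1,1,-3,1,1,1,1,1,1,1,-3],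
  [0,0,0,-2,0,2,0,2,-2,-2,2,0,-2,-2,0,2,-2,0,0,0,2,2,0,0],
  [1,1,1,1,1,-1,1,-1,1,1,-1,-1,1,1,-1,-5,1,-1,1,-1,-1,-1,-1,-1],
  [0,0,0,-2,0,0,0,0,2,2,0,2,2,2,2,0,2,2,0,2,0,0,2,-2],
  [-4,2,2,2,2,0,2,0,0,0,0,0,0,0,0,-2,0,0,2,0,0,0,0,2]]

def RLc3 : List (List ℤ) := [[-1,1,1,-1,1,-1,1,-1,1,1,-1,1,1,1,1,1,1,1,1,1,-1,-1,1,-5],
  [-1,1,1,1,1,-1,1,-1,-1,-1,-1,-1,-1,-1,-1,5,-1,-1,1,-1,-1,-1,-1,1],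
  [5,-1,-1,-1,-1,-1,-1,-1,1,1,-1,-1,1,1,-1,1,1,-1,-1,-1,-1,-1,-1,1],
  [1,-1,-1,-5,-1,1,-1,1,1,1,1,1,1,1,1,-1,1,1,-1,1,1,1,1,-1],
  [-2,0,0,-2,0,2,0,2,0,0,2,0,0,0,0,4,0,0,0,0,2,2,0,-2],
  [-4,2,2,-2,2,0,2,0,0,0,0,0,0,0,0,2,0,0,2,0,0,0,0,2],
  [2,0,0,-4,0,0,0,0,2,2,0,0,2,2,0,-2,2,0,0,0,0,0,0,2],
  [0,0,0,0,0,2,0,2,0,0,2,-2,0,0,-2,-2,0,-2,0,-2,2,2,-2,2],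
  [-3,1,1,-1,1,1,1,1,-1,-1,1,-1,-1,-1,-1,-3,-1,-1,1,-1,1,1,-1,3],
  [-1,-1,-1,5,-1,-1,-1,-1,1,1,-1,1,1,1,1,-1,1,1,-1,1,-1,-1,1,1],
  [0,0,0,0,0,-2,0,-2,0,0,-2,-2,0,0,-2,2,0,-2,0,-2,-2,-2,-2,2],
  [-2,0,0,2,0,0,0,0,0,0,0,-2,0,0,-2,-2,0,-2,0,-2,0,0,-2,-4],
  [-3,-1,-1,-3,-1,-1,-1,-1,-1,-1,-1,1,-1,-1,1,1,-1,1,-1,1,-1,-1,1,3],
  [-5,1,1,-1,1,-1,1,-1,1,1,-1,1,1,1,1,1,1,1,1,1,-1,-1,1,-1],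
  [1,-1,-1,-1,-1,-1,-1,-1,1,1,-1,-1,1,1,-1,1,1,-1,-1,-1,-1,-1,-1,5],
  [3,1,1,-1,1,1,1,1,1,1,1,-1,1,1,-1,3,1,-1,1,-1,1,1,-1,-3],
  [-2,0,0,-2,0,0,0,0,0,0,0,-2,0,0,-2,2,0,-2,0,-2,0,0,-2,-4],
  [-2,0,0,2,0,-2,0,-2,0,0,-2,0,0,0,0,4,0,0,0,0,-2,-2,0,-2],
  [2,0,0,-4,0,0,0,0,-2,-2,0,0,-2,-2,0,2,-2,0,0,0,0,0,0,2],
  [0,0,0,-2,0,0,0,0,2,2,0,-2,2,2,-2,0,2,-2,0,-2,0,0,-2,2],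
  [3,-1,-1,3,-1,1,-1,1,-1,-1,1,1,-1,-1,1,1,-1,1,-1,1,1,1,1,-3],
  [-2,2,2,0,2,0,2,0,0,0,0,2,0,0,2,0,0,2,2,2,0,0,2,-2],
  [0,0,0,-2,0,0,0,0,-2,-2,0,2,-2,-2,2,0,-2,2,0,2,0,0,2,2],
  [2,2,2,2,2,0,2,0,2,2,0,0,2,2,0,0,2,0,2,0,0,0,0,0],
  [-1,-1,-1,1,-1,1,-1,1,1,1,1,-1,1,1,-1,1,1,-1,-1,-1,1,1,-1,-5],
  [1,-1,-1,-1,-1,-1,-1,-1,1,1,-1,-1,1,1,-1,5,1,-1,-1,-1,-1,-1,-1,1],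
  [2,0,0,2,0,2,0,2,0,0,2,0,0,0,0,-4,0,0,0,0,2,2,0,-2],
  [-2,0,0,-4,0,0,0,0,2,2,0,0,2,2,0,2,2,0,0,0,0,0,0,2],
  [3,1,1,3,1,-1,1,-1,1,1,-1,1,1,1,1,1,1,1,1,1,-1,-1,1,3],
  [-1,-1,-1,-3,-1,1,-1,1,1,1,1,-1,1,1,-1,-3,1,-1,-1,-1,1,1,-1,3],
  [1,1,1,-1,1,1,1,1,-1,-1,1,-1,-1,-1,-1,1,-1,-1,1,-1,1,1,-1,-5],
  [3,-1,-1,3,-1,1,-1,1,-1,-1,1,1,-1,-1,1,-3,-1,1,-1,1,1,1,1,1]]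

def RLc4 : List (List ℤ) := [[-2,-2,-2,0,-2,0,-2,0,0,0,0,2,0,0,2,0,0,2,-2,2,0,0,2,2],
  [0,0,0,2,0,2,0,2,2,2,2,0,2,2,0,2,2,0,0,0,2,2,0,0],
  [-5,-1,-1,1,-1,1,-1,1,1,1,1,-1,1,1,-1,1,1,-1,-1,-1,1,1,-1,-1],
  [-3,1,1,3,1,1,1,1,-1,-1,1,-1,-1,-1,-1,-3,-1,-1,1,-1,1,1,-1,-1],
  [-1,-1,-1,-1,-1,1,-1,1,-1,-1,1,1,-1,-1,1,1,-1,1,-1,1,1,1,1,5],
  [1,-1,-1,-3,-1,-1,-1,-1,-1,-1,-1,1,-1,-1,1,-3,-1,1,-1,1,-1,-1,1,3],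
  [-1,1,1,1,1,-1,1,-1,-1,-1,-1,-1,-1,-1,-1,1,-1,-1,1,-1,-1,-1,-1,5],
  [-3,-1,-1,-1,-1,-1,-1,-1,1,1,-1,-1,1,1,-1,-3,1,-1,-1,-1,-1,-1,-1,-3],
  [-2,0,0,-2,0,0,0,0,0,0,0,2,0,0,2,-2,0,2,0,2,0,0,2,-4],
  [-2,0,0,2,0,2,0,2,0,0,2,0,0,0,0,-4,0,0,0,0,2,2,0,2],
  [4,-2,-2,-2,-2,0,-2,0,0,0,0,0,0,0,0,-2,0,0,-2,0,0,0,0,2],
  [2,0,0,-2,0,0,0,0,0,0,0,-2,0,0,-2,-2,0,-2,0,-2,0,0,-2,-4],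
  [4,2,2,-2,2,0,2,0,0,0,0,0,0,0,0,-2,0,0,2,0,0,0,0,-2],
  [2,0,0,-4,0,0,0,0,2,2,0,0,2,2,0,2,2,0,0,0,0,0,0,-2],
  [1,-1,-1,1,-1,-1,-1,-1,-1,-1,-1,1,-1,-1,1,1,-1,1,-1,1,-1,-1,1,-5],
  [-1,1,1,-5,1,-1,1,-1,1,1,-1,1,1,1,1,1,1,1,1,1,-1,-1,1,-1],
  [-1,1,1,-3,1,-1,1,-1,-1,-1,-1,-1,-1,-1,-1,-3,-1,-1,1,-1,-1,-1,-1,-3],
  [3,-1,-1,-3,-1,1,-1,1,1,1,1,-1,1,1,-1,-3,1,-1,-1,-1,1,1,-1,-1],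
  [2,-2,-2,0,-2,0,-2,0,0,0,0,2,0,0,2,0,0,2,-2,2,0,0,2,-2],
  [2,2,2,0,2,2,2,2,0,0,2,0,0,0,0,2,0,0,2,0,2,2,0,0],
  [0,0,0,0,0,2,0,2,0,0,2,-2,0,0,-2,2,0,-2,0,-2,2,2,-2,-2],
  [-1,-1,-1,-1,-1,-1,-1,-1,-1,-1,-1,-1,-1,-1,-1,-5,-1,-1,-1,-1,-1,-1,-1,-1],
  [-3,1,1,1,1,-1,1,-1,1,1,-1,-1,1,1,-1,3,1,-1,1,-1,-1,-1,-1,3],
  [1,1,1,-1,1,-1,1,-1,-1,-1,-1,1,-1,-1,1,-5,-1,1,1,1,-1,-1,1,1],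
  [2,-2,-2,-2,-2,0,-2,0,2,2,0,0,2,2,0,0,2,0,-2,0,0,0,0,0],
  [-2,0,0,2,0,0,0,0,0,0,0,-2,0,0,-2,-2,0,-2,0,-2,0,0,-2,4],
  [3,1,1,1,1,-1,1,-1,-1,-1,-1,-1,-1,-1,-1,-3,-1,-1,1,-1,-1,-1,-1,-3],
  [-3,-1,-1,3,-1,1,-1,1,1,1,1,1,1,1,1,-1,1,1,-1,1,1,1,1,3],
  [-1,1,1,-3,1,1,1,1,-1,-1,1,1,-1,-1,1,3,-1,1,1,1,1,1,1,3],
  [-3,-1,-1,-3,-1,1,-1,1,-1,-1,1,-1,-1,-1,-1,3,-1,-1,-1,-1,1,1,-1,1],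
  [-2,0,0,-4,0,0,0,0,2,2,0,0,2,2,0,-2,2,0,0,0,0,0,0,-2],
  [-2,0,0,-2,0,0,0,0,0,0,0,-2,0,0,-2,2,0,-2,0,-2,0,0,-2,4]]

def RLc5 : List (List ℤ) := [[-2,0,0,2,0,-2,0,-2,0,0,-2,0,0,0,0,-4,0,0,0,0,-2,-2,0,-2],
  [2,-2,-2,0,-2,-2,-2,-2,0,0,-2,0,0,0,0,2,0,0,-2,0,-2,-2,0,0],
  [1,1,1,5,1,1,1,1,1,1,1,1,1,1,1,1,1,1,1,1,1,1,1,1],
  [-1,-1,-1,5,-1,1,-1,1,1,1,1,-1,1,1,-1,1,1,-1,-1,-1,1,1,-1,-1],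
  [1,1,1,-1,1,1,1,1,-1,-1,1,-1,-1,-1,-1,5,-1,-1,1,-1,1,1,-1,-1],
  [3,-1,-1,-1,-1,-1,-1,-1,-1,-1,-1,-1,-1,-1,-1,3,-1,-1,-1,-1,-1,-1,-1,3],
  [-3,1,1,-1,1,-1,1,-1,-1,-1,-1,1,-1,-1,1,3,-1,1,1,1,-1,-1,1,-3],
  [3,-1,-1,-3,-1,-1,-1,-1,1,1,-1,1,1,1,1,-1,1,1,-1,1,-1,-1,1,-3],
  [-2,2,2,0,2,-2,2,-2,0,0,-2,0,0,0,0,2,0,0,2,0,-2,-2,0,0],
  [4,2,2,2,2,0,2,0,0,0,0,0,0,0,0,-2,0,0,2,0,0,0,0,2],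
  [1,-1,-1,5,-1,-1,-1,-1,-1,-1,-1,1,-1,-1,1,1,-1,1,-1,1,-1,-1,1,-1],
  [3,1,1,-3,1,1,1,1,-1,-1,1,1,-1,-1,1,3,-1,1,1,1,1,1,1,-1],
  [-1,1,1,-1,1,1,1,1,1,1,1,-1,1,1,-1,-5,1,-1,1,-1,1,1,-1,1],
  [1,-1,-1,-3,-1,1,-1,1,-1,-1,1,-1,-1,-1,-1,3,-1,-1,-1,-1,1,1,-1,-3],
  [4,2,2,-2,2,0,2,0,0,0,0,0,0,0,0,2,0,0,2,0,0,0,0,2],
  [2,0,0,4,0,0,0,0,2,2,0,0,2,2,0,-2,2,0,0,0,0,0,0,2],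
  [-2,0,0,-2,0,2,0,2,0,0,2,0,0,0,0,-4,0,0,0,0,2,2,0,-2],
  [-2,2,2,-2,2,0,2,0,2,2,0,0,2,2,0,0,2,0,2,0,0,0,0,0],
  [-3,1,1,-3,1,1,1,1,1,1,1,1,1,1,1,1,1,1,1,1,1,1,1,-3],
  [-1,-1,-1,-5,-1,1,-1,1,-1,-1,1,1,-1,-1,1,1,-1,1,-1,1,1,1,1,1],
  [3,-1,-1,-3,-1,1,-1,1,1,1,1,-1,1,1,-1,1,1,-1,-1,-1,1,1,-1,3],
  [0,0,0,0,0,0,0,0,0,0,0,0,0,0,0,0,0,0,0,0,0,0,0,8],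
  [2,-2,2,2,-2,0,-2,0,2,-2,0,0,-2,2,0,0,2,-4,2,0,0,0,0,0],
  [0,0,0,2,0,0,0,0,2,2,0,-2,-2,2,2,0,-2,2,4,-2,0,0,2,-2],
  [1,1,1,-1,1,1,1,1,-1,3,1,3,-1,-1,-1,1,3,-1,1,-1,-3,-3,-1,-1],
  [1,3,3,-1,-1,-1,-1,-1,1,-3,3,-1,1,1,-1,1,1,-1,-1,-1,3,-1,-1,1],
  [1,3,3,1,3,-1,3,-1,-1,-1,-1,1,-1,-1,1,1,-1,1,3,1,-1,-1,1,-1],
  [-2,0,0,0,0,0,0,0,-2,-2,0,0,-2,-2,0,2,-2,0,0,0,0,0,0,-6],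
  [2,0,0,-6,0,-2,0,-2,0,0,-2,0,0,0,0,0,0,0,0,0,-2,-2,0,-2],
  [-1,-3,-3,1,-3,-1,-3,-1,-1,-1,-1,-1,-1,-1,-1,1,-1,-1,-3,-1,-1,-1,-1,1],
  [-5,-1,-1,-3,-1,1,-1,1,1,1,1,-1,1,1,-1,-3,1,-1,-1,-1,1,1,-1,-1],
  [2,0,0,0,0,0,0,0,-2,-2,0,0,-2,-2,0,-6,-2,0,0,0,0,0,0,-2]]

def RLc6 : List (List ℤ) := [[-2,0,0,0,0,2,0,2,2,2,2,-2,2,2,-2,0,2,-2,0,-2,2,2,-2,0],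
  [0,2,2,0,2,2,2,2,2,2,2,0,2,2,0,0,2,0,2,0,2,2,0,2],
  [2,0,0,-2,0,2,0,2,0,0,2,0,0,0,0,0,0,0,0,0,2,-6,0,-2],
  [-1,-3,1,-1,1,-1,1,-1,1,1,-1,1,-3,1,1,-3,1,1,1,1,-1,3,-3,-1],
  [-1,-1,-1,-1,-1,1,-1,1,-1,-1,1,-3,-1,-1,-3,1,-1,-3,-1,-3,1,1,-3,1],
  [-1,3,3,1,3,1,3,1,1,1,1,-1,1,1,-1,1,1,-1,3,-1,1,1,-1,-1],
  [4,0,0,4,0,0,0,0,0,0,0,0,0,0,0,4,0,0,0,0,0,0,0,4],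
  [0,0,0,0,0,-2,0,2,0,4,-2,2,0,0,-2,2,0,-2,0,2,-2,2,2,2],
  [-2,-2,-2,0,2,-2,2,-2,0,0,-2,0,0,4,0,2,0,0,-2,0,2,2,0,0],
  [1,-3,-3,-1,1,-1,1,-1,-1,3,3,1,-1,-1,1,-1,-1,1,1,1,3,-1,1,1],
  [3,-1,-1,-3,-1,-1,-1,-1,1,1,-1,1,1,1,1,-1,1,1,-1,1,-1,-1,1,5],
  [-1,-1,-1,-1,3,-1,3,-1,-1,-1,-1,-1,-1,3,-1,-1,-1,-1,-1,-1,3,3,-1,-1],
  [2,-2,-2,0,2,-4,2,0,0,0,0,-2,0,0,2,0,0,2,2,-2,0,0,-2,2],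
  [-2,-2,-2,-2,-2,0,-2,0,2,2,0,0,2,2,0,0,2,0,-2,0,0,0,0,-4],
  [0,-2,-2,0,-2,2,-2,2,-2,-2,2,0,-2,-2,0,0,-2,0,-2,0,2,2,0,2],
  [0,-2,-2,-2,2,-2,-2,2,0,0,-2,2,0,0,2,0,0,2,2,-2,-2,2,2,0],
  [1,-1,-1,1,-1,1,3,-3,3,-1,1,-1,-1,-1,-1,-1,3,-1,-1,-1,1,-3,-1,1],
  [-1,-3,-3,1,1,1,1,1,3,-1,1,1,-1,-1,1,-1,3,1,1,-3,1,1,1,-1],
  [0,-2,-2,0,-2,-2,-2,-2,2,2,-2,0,2,2,0,0,2,0,-2,0,-2,-2,0,2],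
  [-2,-2,-2,0,2,-4,2,0,0,0,0,2,0,0,-2,0,0,-2,2,2,0,0,2,2],
  [0,0,0,-2,0,0,0,4,2,-2,0,2,2,-2,2,0,-2,-2,0,-2,0,0,2,-2],
  [-1,-1,-1,1,-1,-3,-1,-3,1,1,-3,-1,1,1,-1,1,1,-1,-1,-1,-3,-3,-1,-1],
  [1,1,1,1,1,-3,1,-3,1,1,-3,1,1,1,1,1,1,1,1,1,-3,-3,1,1],
  [1,1,-3,-3,1,-1,1,3,1,1,-1,3,1,-3,-1,-1,1,-1,1,-1,-1,-1,-1,-1],
  [2,2,2,0,-2,-4,-2,0,0,0,0,2,0,0,-2,0,0,-2,-2,2,0,0,2,2],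
  [-4,0,0,-2,0,0,0,0,2,2,0,2,2,2,2,0,2,2,0,2,0,0,2,2],
  [2,0,0,2,0,2,0,2,0,0,2,0,0,0,0,0,0,0,0,0,-6,2,0,2],
  [-1,1,1,1,-3,-1,-3,-1,-1,-1,-1,-1,-1,3,-1,1,-1,-1,1,-1,3,3,-1,1],
  [1,3,-1,1,-1,1,-1,1,-1,-1,1,-1,3,-1,-1,-1,-1,-1,-1,-1,1,-3,3,-3],
  [1,-1,-1,-1,-1,-3,-1,-3,1,1,-3,1,1,1,1,-1,1,1,-1,1,-3,-3,1,-1],
  [-1,1,1,1,1,1,1,1,-1,-1,1,-3,3,-1,1,-1,3,1,-3,-3,1,1,1,-1],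
  [2,-2,-2,0,2,0,-2,0,0,-4,0,-2,0,0,2,0,0,2,2,2,0,0,-2,2]]

def RLc7 : List (List ℤ) := [[2,2,2,-2,2,0,2,0,2,2,0,0,2,2,0,0,2,0,2,0,0,0,0,4],
  [-3,1,-3,-1,1,1,1,-3,-1,-1,1,3,-1,3,-1,1,-1,-1,1,-1,1,1,-1,-1],
  [1,-1,-1,1,-1,-1,3,-1,-1,-1,-1,1,-1,3,1,1,3,1,3,1,-1,-1,-3,-1],
  [-1,-3,-3,-1,1,-1,1,-1,1,-3,3,1,1,1,1,1,1,1,1,1,3,-1,1,-1],
  [-2,0,0,2,0,0,0,0,0,0,0,-2,0,0,-2,2,0,-2,0,-2,0,0,6,0],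
  [0,-6,2,2,2,0,2,0,0,0,0,0,0,0,0,2,0,0,2,0,0,0,0,2],
  [-1,1,1,1,1,-1,1,-1,-1,-1,-1,3,-1,-1,3,1,-1,3,1,3,-1,-1,3,1],
  [1,1,1,-3,1,1,1,1,1,1,1,1,1,1,1,-3,1,1,1,1,1,1,1,5],
  [2,-2,2,0,2,-2,-2,2,0,0,2,0,0,0,0,2,0,0,-2,0,-2,2,4,0],
  [-4,0,0,-4,0,0,0,0,0,0,0,0,0,0,0,4,0,0,0,0,0,0,0,-4],
  [0,0,0,0,0,-2,0,2,0,-4,-2,2,0,0,-2,2,0,-2,0,2,-2,2,2,2],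
  [0,0,0,2,0,0,0,0,-2,2,-4,-2,2,-2,-2,0,-2,2,0,2,0,0,2,2],
  [-2,-2,2,2,2,0,-2,0,2,2,0,0,-2,-2,0,0,-2,0,-2,0,0,-4,0,0],
  [1,3,3,-1,-1,3,-1,-1,1,1,-1,-1,1,1,3,1,1,3,-1,-1,-1,-1,-1,1],
  [1,1,1,1,1,1,-3,1,1,1,1,1,1,-3,1,1,-3,1,-3,1,1,1,-3,1],
  [3,-1,3,-1,-1,1,-1,-3,-1,-1,1,-3,-1,3,1,1,-1,1,-1,1,1,1,1,1],
  [-2,-2,-2,0,2,0,-2,0,0,-4,0,2,0,0,-2,0,0,-2,2,-2,0,0,2,2],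
  [4,0,0,-2,0,0,0,0,2,2,0,2,2,2,2,0,2,2,0,2,0,0,2,2],
  [-2,0,0,0,0,2,0,2,-2,-2,2,2,-2,-2,2,0,-2,2,0,2,2,2,2,0],
  [0,2,2,-2,2,-2,2,-2,0,0,-2,2,0,0,2,0,0,2,2,2,-2,-2,2,0],
  [1,-1,-1,1,-1,3,-1,3,-1,-1,3,1,-1,-1,1,1,-1,1,-1,1,3,3,1,-1],
  [-1,-3,-3,-1,1,1,1,1,1,-3,-3,-1,1,1,-1,-1,1,-1,1,-1,-3,1,-1,1],
  [-2,0,0,0,0,-2,0,-2,2,2,-2,2,2,2,2,0,2,2,0,2,-2,-2,2,0],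
  [-2,-2,2,2,2,0,-2,0,-2,2,-4,0,2,-2,0,0,2,0,2,0,0,0,0,0],
  [-2,2,2,0,-2,-4,-2,0,0,0,0,-2,0,0,2,0,0,2,-2,-2,0,0,-2,2],
  [-1,3,3,-1,-1,-3,-1,1,-1,-1,1,1,-1,-1,-3,1,-1,-3,-1,1,1,1,1,1],
  [-2,2,2,2,2,0,2,0,2,2,0,0,2,2,0,-4,2,0,2,0,0,0,0,0],
  [-2,2,2,0,-2,0,2,0,0,4,0,-2,0,0,2,0,0,2,-2,2,0,0,-2,2],
  [-6,0,0,-2,0,-2,0,-2,0,0,-2,0,0,0,0,0,0,0,0,0,-2,-2,0,2],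
  [2,2,2,0,-2,0,2,0,0,4,0,2,0,0,-2,0,0,-2,-2,-2,0,0,2,2],
  [0,0,0,-2,0,0,0,-4,2,-2,0,2,2,-2,2,0,-2,-2,0,-2,0,0,2,-2],
  [1,1,1,-1,1,1,1,1,3,3,1,-1,3,3,-1,1,3,-1,1,-1,1,1,-1,-1]]

def RL : List (List ℤ) := RLc0 ++ RLc1 ++ RLc2 ++ RLc3 ++ RLc4 ++ RLc5 ++ RLc6 ++ RLc7

def KL : List ℕ := [0,58,247,223,168,249,235,227,20,109,87,203,174,222,167,157,118,53,15,202,86,61,137,216,98,214,33,112,189,34,73,24,253,199,225,176,125,138,71,170,211,36,83,140,42,90,252,133,114,238,23,37,31,250,55,192,145,13,43,220,244,156,107,18,180,40,121,95,14,195,101,128,209,77,186,119,38,178,127,46,136,217,69,60,160,241,154,237,215,134,75,99,148,228,19,106,204,1,80,234,76,129,208,100,147,155,108,21,126,47,1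79,149,254,175,51,27,236,190,239,115,213,172,91,44,219,62,111,243,85,93,54,103,251,130,30,79,233,184,117,2,158,207,105,56,245,221,182,231,123,151,198,11,173,212,35,200,153,5,242,63,110,218,124,224,177,116,232,185,210,171,92,122,183,230,64,17,141,165,159,206,3,193,81,205,166,142,67,229,146,52,28,6,188,32,113,26,50,255,8,89,197,41,120,181,66,143,246,59,39,187,29,169,248,194,94,7,161,240,68,226,196,9,88,74,135,132,97,48,10,150,22,162,4,201,152,12,144,164,65,16,96,49,72,25,191,84,163,70,139,45,78,131,102,104,57,82]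

def T4K : List ℕ := [193,81,205,166,142,67,229,146,52,28,6,188,32,113,26,50,255,8,89,197,41,120,181,66,143,246,59,39,187,29,169,248,194,94,7,161,240,68,226,196,9,88,74,135,132,97,48,10,150,22,162,4,201,152,12,144,164,65,16,96,49,72,25,191,84,163,70,139,45,78,131,102,104,57,82]

def OB : List ℕ := [0,0,0,0,68,0,136,514,36,257,144,0,132,0,0,0,129,0,0,0,0,0,144,0,0,65,130,0,144,66,0,0,513,0,0,0,0,0,0,528,0,65,0,0,0,80,0,0,65,48,264,0,72,0,0,0,0,33,0,272,0,0,0,0,0,513,132,258,130,0,516,0,129,0,260,0,0,0,132,0,0,33,136,0,136,0,0,0,129,34,0,0,0,0,130,0,40,513,0,0,0,0,520,0,33,0,0,0,0,0,0,0,0,257,0,0,0,0,0,0,257,0,0,0,0,0,0,0,0,0,0,516,528,0,0,260,0,0,0,68,0,0,272,68,40,0,80,0,0,0,72,0,48,0,0,0,0,0,0,0,0,34,72,528,520,0,66,0,0,48,0,0,0,0,0,0,0,0,0,0,0,272,0,0,0,0,0,66,258,0,0,80,0,36,520,0,264,516,0,0,0,36,0,0,0,260,0,0,0,0,0,0,0,0,0,0,0,0,0,0,0,0,0,0,0,0,514,0,0,514,0,0,0,0,0,0,0,0,0,0,40,0,0,0,0,0,264,0,34,0,0,0,0,0,0,258]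

theorem RL_keys : (RL.map fun a => numOf (keyG sepL a)) = KL := by decide +kernel

theorem KL_nodup : KL.Nodup := by decide +kernel

/-- The table of the fixed classes. -/
theorem tab : FixTab c5 (permL sLi) gF tF RL sepL 16 256 181 where
  hact := acts_c5
  len := by decide +kernel
  card := by norm_num
  gF_ok := by decide +kernel
  tF_ok := by decide +kernel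
  RL_ok := by decide +kernel
  dual := by decide +kernel
  ker := by decide +kernel
  sep_ok := by decide +kernel
  keys := List.Nodup.of_map numOf (by rw [List.map_map]; show (RL.map (fun a => numOf (keyG sepL a))).Nodup; rw [RL_keys]; exact KL_nodup)
  fix := by decide +kernel
  low := by decide +kernel
  high := by decide +kernel
  le := by norm_num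

theorem hK : ∀ a : Fin (256 - 181), numOf (keyG sepL (RL.getD (181 + a.val) [])) = T4K.getD a.val 0 := by decide +kernel

/-! ### The set of ten points -/

/-- The ten points. -/
abbrev Om := Fin 5 ⊕ Fin 5

/-- The code of a point. -/
def code5 : Om → ℕ
  | Sum.inl i => i.val
  | Sum.inr i => 5 + i.val

theorem hcode : ∀ j, j < 10 → ∃ ω, code5 ω = j := by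
  intro j hj
  by_cases h : j < 5
  · exact ⟨Sum.inl ⟨j, h⟩, rfl⟩
  · exact ⟨Sum.inr ⟨j - 5, by omega⟩, by simp only [code5]; omega⟩

theorem inc_inj : ∀ ω ω' : Om, (∀ a : Fin (256 - 181), FixTab.incT OB T4K code5 ω a = FixTab.incT OB T4K code5 ω' a) → ω = ω' := by
  decide +kernel

/-- The generators of the alternating group. -/
def gA : alternatingGroup (Fin 5) :=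
  ⟨Equiv.swap 0 1 * Equiv.swap 1 2 * Equiv.swap 2 3 * Equiv.swap 3 4, Equiv.Perm.mem_alternatingGroup.2 (by decide)⟩

def gB : alternatingGroup (Fin 5) := ⟨Equiv.swap 0 1 * Equiv.swap 1 2, Equiv.Perm.mem_alternatingGroup.2 (by decide)⟩

/-- Words in the alternating group. -/
def aw : List Bool → alternatingGroup (Fin 5)
  | [] => 1
  | x :: l => (if x then gB else gA) * aw l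

/-- Elements of the wreath product. -/
def e5w (w1 w2 : List Bool) (sw : Bool) : Equiv.Perm Om :=
  Equiv.Perm.sumCongr (aw w1 : Equiv.Perm (Fin 5)) (aw w2 : Equiv.Perm (Fin 5)) * (if sw then Equiv.sumComm _ _ else 1)

/-- A family of subsets of the ten points. -/
def famF : List (Finset Om) := [
{Sum.inl 0, Sum.inl 1, Sum.inr 2, Sum.inr 3},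
  {Sum.inl 1, Sum.inl 3, Sum.inr 1, Sum.inr 3},
  {Sum.inl 0, Sum.inl 3, Sum.inr 1, Sum.inr 2},
  {Sum.inl 0, Sum.inl 3, Sum.inr 3, Sum.inr 4},
  {Sum.inl 3, Sum.inl 4, Sum.inr 2, Sum.inr 3},
  {Sum.inl 1, Sum.inl 4, Sum.inr 1, Sum.inr 2},
  {Sum.inl 0, Sum.inl 4, Sum.inr 2, Sum.inr 4},
  {Sum.inl 3, Sum.inl 4, Sum.inr 1, Sum.inr 4},
  {Sum.inl 1, Sum.inl 3, Sum.inr 2, Sum.inr 4},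
  {Sum.inl 1, Sum.inl 4, Sum.inr 3, Sum.inr 4},
  {Sum.inl 0, Sum.inl 1, Sum.inr 1, Sum.inr 4},
  {Sum.inl 0, Sum.inl 4, Sum.inr 1, Sum.inr 3}]

/-- Preservation of the family. -/
def inStab (σ : Equiv.Perm Om) : Prop := ∀ S ∈ famF, S.image σ ∈ famF

instance (σ : Equiv.Perm Om) : Decidable (inStab σ) := by
  unfold inStab
  infer_instance


end Cfsg.Agent.Lib.Sporadic.LeechFive
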