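import Mathlib
import Cfsg.Agent.Lib.Sporadic.LeechFiveData

set_option autoImplicit false
set_option maxRecDepth 100000
set_option maxHeartbeats 0

namespace Cfsg.Agent.Lib.Sporadic.LeechFive

open Cfsg Cfsg.Agent.Lib.Sporadic.LeechMat Cfsg.Agent.Lib.Sporadic.LeechKey
  Cfsg.Agent.Lib.Sporadic.LeechSeven Cfsg.Agent.Lib.Sporadic.LeechCentFw
  Cfsg.Agent.Lib.Sporadic.LeechLocal Cfsg.Agent.Lib.Sporadic.LeechAct Cfsg.Agent.Lib.Sporadic.GolayCore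
open Cfsg.Agent.Lib.Compute.M24 Cfsg.Agent.Lib.Compute.M24Enum

set_option maxHeartbeats 4000000 in
def m0 : List (List ℤ) := [[-6,0,0,0,0,0,0,0,2,2,0,0,2,2,0,2,2,0,0,0,0,0,0,2],
  [0,-2,2,-2,2,-2,2,2,0,0,2,-2,0,0,2,0,0,-2,2,2,-2,-2,-2,0],
  [0,2,-2,-2,2,-2,2,-2,0,0,-2,-2,0,0,-2,0,0,2,2,2,2,2,-2,0],
  [2,0,0,0,0,0,0,0,2,2,0,0,2,2,0,2,2,0,0,0,0,0,0,-6],
  [0,2,2,-2,-2,2,2,-2,0,0,-2,2,0,0,2,0,0,-2,2,-2,-2,2,-2,0],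
  [0,2,2,-2,-2,-2,-2,2,0,0,2,-2,0,0,2,0,0,2,-2,-2,2,2,-2,0],
  [0,2,2,-2,2,-2,-2,-2,0,0,2,2,0,0,-2,0,0,-2,2,-2,2,-2,2,0],
  [0,-2,-2,-2,2,2,2,-2,0,0,2,-2,0,0,2,0,0,-2,-2,-2,2,2,2,0],
  [0,-2,2,-2,-2,-2,2,-2,0,0,2,2,0,0,-2,0,0,2,-2,2,-2,2,2,0],
  [0,-2,-2,-2,2,-2,-2,2,0,0,-2,2,0,0,2,0,0,2,2,-2,-2,2,2,0],
  [0,-2,2,-2,-2,2,-2,2,0,0,-2,-2,0,0,-2,0,0,-2,2,2,2,2,2,0],
  [2,0,0,0,0,0,0,0,2,2,0,0,2,-6,0,2,2,0,0,0,0,0,0,2],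
  [0,-2,2,-2,2,2,-2,-2,0,0,-2,2,0,0,2,0,0,2,-2,2,2,-2,-2,0],
  [0,2,-2,-2,-2,2,-2,-2,0,0,2,-2,0,0,2,0,0,2,2,2,-2,-2,2,0],
  [2,0,0,0,0,0,0,0,-6,2,0,0,2,2,0,2,2,0,0,0,0,0,0,2],
  [2,0,0,0,0,0,0,0,2,2,0,0,2,2,0,-6,2,0,0,0,0,0,0,2],
  [0,2,-2,-2,-2,-2,2,2,0,0,-2,2,0,0,2,0,0,-2,-2,2,2,-2,2,0],
  [2,0,0,0,0,0,0,0,2,2,0,0,2,2,0,2,-6,0,0,0,0,0,0,2],
  [0,2,2,-2,2,2,2,2,0,0,-2,-2,0,0,-2,0,0,2,-2,-2,-2,-2,2,0],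
  [2,0,0,0,0,0,0,0,2,-6,0,0,2,2,0,2,2,0,0,0,0,0,0,2],
  [0,2,-2,-2,2,2,-2,2,0,0,2,2,0,0,-2,0,0,-2,-2,2,-2,2,-2,0],
  [0,-2,-2,-2,-2,2,2,2,0,0,2,2,0,0,-2,0,0,2,2,-2,2,-2,-2,0],
  [2,0,0,0,0,0,0,0,2,2,0,0,-6,2,0,2,2,0,0,0,0,0,0,2],
  [0,-2,-2,-2,-2,-2,-2,-2,0,0,-2,-2,0,0,-2,0,0,-2,-2,-2,-2,-2,-2,0]]

theorem m0_ok : matCheck m0 8 = true := by decide +kernel

theorem m0_comm : (List.range 24).all (fun i => matL m0 8 (permL sLi (unitL i)) == permL sLi (matL m0 8 (unitL i))) = true := by decide +kernel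

def K0 : List ℕ := [32,9,197,6,201,12,10,144,150,89,29,66,142,135,68,139,78,65,72,132,196,205,8,7,194,4,193,152,84,82,81,88,146,94,22,16,25,26,28,143,74,67,70,131,49,59,50,248,52,161,162,164,97,104,229,41,191,181,188,48,57,255,246,240,166,169,163,102,96,226,39,45,113,120,187]

theorem K0_1 : ∀ a : Fin (256 - 181), numOf (keyG sepL (matL m0 8 (RL.getD (181 + a.val) []))) = K0.getD a.val 0 := by decide +kernel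

def rho0 : Equiv.Perm Om := e5w [false,false,false,true,false] [true,false,true,false] true

theorem K0_2 : ∀ (a : Fin (256 - 181)) (ω : Om), (OB.getD (K0.getD a.val 0) 0).testBit (code5 (rho0 ω)) = (OB.getD (T4K.getD a.val 0) 0).testBit (code5 ω) := by decide +kernel

set_option maxHeartbeats 4000000 in
def m1 : List (List ℤ) := [[4,0,0,0,0,2,0,2,0,0,2,2,0,0,2,-2,0,2,0,2,2,2,2,2],
  [0,0,0,0,0,2,-4,2,0,0,-2,2,0,0,-2,-2,0,-2,0,-2,-2,2,2,-2],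
  [0,0,0,0,-4,-2,0,2,0,0,2,2,0,0,2,-2,0,-2,0,-2,2,-2,-2,-2],
  [2,2,2,2,2,0,2,0,-2,-2,0,0,-2,-2,0,0,-2,0,2,0,0,0,0,-4],
  [0,0,0,0,0,-2,0,-2,0,0,2,-2,0,0,-2,-2,0,2,-4,-2,2,2,2,-2],
  [0,0,0,0,0,2,0,-2,0,0,2,-2,0,-4,2,-2,0,-2,0,-2,-2,-2,2,2],
  [0,0,-4,0,0,2,0,2,0,0,2,-2,0,0,-2,-2,0,2,0,2,-2,-2,-2,-2],
  [0,0,0,0,0,-2,0,2,0,0,-2,-2,0,0,-2,-2,-4,-2,0,2,2,-2,2,2],
  [-2,-2,-2,2,-2,0,2,0,-2,-2,0,0,-2,2,0,0,2,0,2,0,0,0,4,0],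
  [-2,-2,-2,2,2,0,2,0,2,-2,0,4,2,-2,0,0,-2,0,-2,0,0,0,0,0],
  [0,0,0,0,0,-2,0,-2,-4,0,2,2,0,0,-2,-2,0,-2,0,2,-2,2,-2,2],
  [2,2,-2,2,-2,0,2,0,-2,2,-4,0,2,-2,0,0,2,0,-2,0,0,0,0,0],
  [-2,2,2,2,-2,0,-2,0,2,-2,0,0,-2,-2,0,0,2,0,-2,4,0,0,0,0],
  [-2,-2,2,2,-2,0,-2,0,-2,2,0,0,2,-2,0,0,-2,4,2,0,0,0,0,0],
  [2,-2,2,2,2,0,-2,0,-2,-2,0,0,2,2,0,0,2,0,-2,0,0,-4,0,0],
  [0,0,0,4,0,2,0,2,0,0,2,-2,0,0,-2,2,0,-2,0,-2,2,2,-2,2],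
  [-2,2,-2,2,2,0,-2,0,-2,2,0,0,-2,2,4,0,-2,0,-2,0,0,0,0,0],
  [2,-2,2,2,-2,0,2,0,2,2,0,0,-2,2,0,0,-2,0,-2,0,-4,0,0,0],
  [0,-4,0,0,0,2,0,-2,0,0,-2,-2,0,0,2,-2,0,-2,0,2,2,2,-2,-2],
  [2,2,-2,2,-2,0,-2,-4,2,-2,0,0,2,2,0,0,-2,0,2,0,0,0,0,0],
  [0,0,0,0,0,2,0,-2,0,0,-2,2,-4,0,-2,-2,0,2,0,-2,2,-2,-2,2],
  [0,0,0,0,0,-2,0,2,0,-4,-2,-2,0,0,2,-2,0,2,0,-2,-2,2,-2,2],
  [2,-2,-2,2,2,-4,-2,0,2,2,0,0,-2,-2,0,0,2,0,2,0,0,0,0,0],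
  [2,-2,-2,-2,-2,0,-2,0,-2,-2,0,0,-2,-2,0,4,-2,0,-2,0,0,0,0,0]]

theorem m1_ok : matCheck m1 8 = true := by decide +kernel

theorem m1_comm : (List.range 24).all (fun i => matL m1 8 (permL sLi (unitL i)) == permL sLi (matL m1 8 (unitL i))) = true := by decide +kernel

def K1 : List ℕ := [57,113,240,187,102,150,45,229,94,131,12,52,181,196,143,82,162,104,25,152,67,50,194,8,248,84,164,39,166,29,65,48,10,139,146,41,88,4,191,6,246,135,96,144,163,142,255,197,68,70,26,161,81,32,201,72,22,59,74,16,97,205,188,7,78,132,169,89,226,193,49,28,120,9,66]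

theorem K1_1 : ∀ a : Fin (256 - 181), numOf (keyG sepL (matL m1 8 (RL.getD (181 + a.val) []))) = K1.getD a.val 0 := by decide +kernel

def rho1 : Equiv.Perm Om := e5w [] [false,true,false,true,true,false] true

theorem K1_2 : ∀ (a : Fin (256 - 181)) (ω : Om), (OB.getD (K1.getD a.val 0) 0).testBit (code5 (rho1 ω)) = (OB.getD (T4K.getD a.val 0) 0).testBit (code5 ω) := by decide +kernel

set_option maxHeartbeats 4000000 in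
def m2 : List (List ℤ) := [[0,2,2,-2,2,0,2,0,0,0,0,0,0,0,0,2,0,0,2,0,0,0,0,6],
  [-2,0,0,0,0,-2,0,-2,2,2,2,-2,-2,-2,-2,0,2,-2,0,2,2,-2,-2,0],
  [-2,0,0,0,0,2,0,-2,-2,2,-2,-2,2,-2,-2,0,2,2,0,-2,-2,2,-2,0],
  [0,2,2,6,2,0,2,0,0,0,0,0,0,0,0,2,0,0,2,0,0,0,0,-2],
  [-2,0,0,0,0,2,0,2,2,2,-2,-2,-2,2,2,0,-2,-2,0,-2,-2,-2,-2,0],
  [-2,0,0,0,0,2,0,-2,-2,2,2,2,-2,2,2,0,2,-2,0,-2,2,2,2,0],
  [-2,0,0,0,0,-2,0,-2,2,-2,-2,2,2,2,-2,0,-2,-2,0,-2,2,2,-2,0],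
  [-2,0,0,0,0,2,0,2,2,-2,-2,-2,-2,2,-2,0,2,2,0,2,2,2,2,0],
  [-2,0,0,0,0,2,0,-2,-2,-2,-2,-2,2,-2,2,0,-2,-2,0,2,2,-2,2,0],
  [-2,0,0,0,0,2,0,-2,-2,-2,2,2,-2,2,-2,0,-2,2,0,2,-2,-2,-2,0],
  [-2,0,0,0,0,2,0,2,2,-2,2,2,2,-2,2,0,2,-2,0,2,-2,2,-2,0],
  [0,2,2,-2,-6,0,2,0,0,0,0,0,0,0,0,2,0,0,2,0,0,0,0,-2],
  [-2,0,0,0,0,-2,0,2,-2,2,-2,2,-2,-2,-2,0,-2,-2,0,2,-2,2,2,0],
  [-2,0,0,0,0,-2,0,2,-2,-2,-2,2,-2,-2,2,0,2,2,0,-2,2,-2,-2,0],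
  [0,-6,2,-2,2,0,2,0,0,0,0,0,0,0,0,2,0,0,2,0,0,0,0,-2],
  [0,2,2,-2,2,0,2,0,0,0,0,0,0,0,0,-6,0,0,2,0,0,0,0,-2],
  [-2,0,0,0,0,-2,0,-2,2,-2,2,-2,-2,-2,2,0,-2,2,0,-2,-2,2,2,0],
  [0,2,2,-2,2,0,2,0,0,0,0,0,0,0,0,2,0,0,-6,0,0,0,0,-2],
  [-2,0,0,0,0,-2,0,2,-2,-2,2,-2,2,2,-2,0,2,-2,0,-2,-2,-2,2,0],
  [0,2,-6,-2,2,0,2,0,0,0,0,0,0,0,0,2,0,0,2,0,0,0,0,-2],
  [-2,0,0,0,0,2,0,2,2,2,2,2,2,-2,-2,0,-2,2,0,-2,2,-2,2,0],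
  [-2,0,0,0,0,-2,0,2,-2,2,2,-2,2,2,2,0,-2,2,0,2,2,2,-2,0],
  [0,2,2,-2,2,0,-6,0,0,0,0,0,0,0,0,2,0,0,2,0,0,0,0,-2],
  [-2,0,0,0,0,-2,0,-2,2,2,-2,2,2,2,2,0,2,2,0,2,-2,-2,2,0]]

theorem m2_ok : matCheck m2 8 = true := by decide +kernel

theorem m2_comm : (List.range 24).all (fun i => matL m2 8 (permL sLi (unitL i)) == permL sLi (matL m2 8 (unitL i))) = true := by decide +kernel

def K2 : List ℕ := [32,88,7,162,161,166,4,144,50,49,142,29,66,26,191,188,187,65,25,70,6,94,89,163,164,255,248,201,150,52,104,48,205,146,139,41,113,45,143,67,68,28,226,229,8,12,84,169,246,152,196,102,97,57,39,120,74,78,22,9,81,10,82,240,59,193,197,194,96,132,131,135,72,16,181]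

theorem K2_1 : ∀ a : Fin (256 - 181), numOf (keyG sepL (matL m2 8 (RL.getD (181 + a.val) []))) = K2.getD a.val 0 := by decide +kernel

def rho2 : Equiv.Perm Om := e5w [true,false,false] [false,true,false,true,false,false,false,false] true

theorem K2_2 : ∀ (a : Fin (256 - 181)) (ω : Om), (OB.getD (K2.getD a.val 0) 0).testBit (code5 (rho2 ω)) = (OB.getD (T4K.getD a.val 0) 0).testBit (code5 ω) := by decide +kernel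

def tg0 : List ℕ := [0,6,4,15,18,11,2,17,21,7,14,16,5,10,12,23,20,8,1,13,22,19,9,3]

theorem tg0_valid : validL tg0 = true := by decide +kernel

theorem tg0_comm : mulL tg0 sL = mulL sL tg0 := by decide +kernel

theorem tg0_inv : (List.range 24).all (fun i => (invT tg0).getD (tg0.getD i 0) 0 == i) = true := by decide +kernel

def KT0 : List ℕ := [193,49,66,41,26,88,113,29,52,7,102,72,59,10,97,82,16,8,57,74,45,28,94,70,4,6,68,67,48,25,89,104,50,65,120,81,96,32,9,84,22,39,78,12,255,142,191,229,150,226,162,139,201,248,131,240,196,181,132,144,161,163,146,187,164,188,205,143,166,197,135,246,152,169,194]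

theorem KT0_1 : ∀ a : Fin (256 - 181), numOf (keyG sepL (permL (invT tg0) (RL.getD (181 + a.val) []))) = KT0.getD a.val 0 := by decide +kernel

def rhoT0 : Equiv.Perm Om := e5w [false,true,false,false,false] [false,false,false,false,true] false

theorem KT0_2 : ∀ (a : Fin (256 - 181)) (ω : Om), (OB.getD (KT0.getD a.val 0) 0).testBit (code5 (rhoT0 ω)) = (OB.getD (T4K.getD a.val 0) 0).testBit (code5 ω) := by decide +kernel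

theorem rhoT0_stab : inStab (rhoT0) := by decide +kernel

def tg1 : List ℕ := [3,13,8,15,12,4,16,18,5,10,1,14,7,20,19,0,21,22,9,17,6,2,11,23]

theorem tg1_valid : validL tg1 = true := by decide +kernel

theorem tg1_comm : mulL tg1 sL = mulL sL tg1 := by decide +kernel

theorem tg1_inv : (List.range 24).all (fun i => (invT tg1).getD (tg1.getD i 0) 0 == i) = true := by decide +kernel

def KT1 : List ℕ := [193,104,78,50,26,84,102,188,142,166,146,6,32,72,52,28,82,8,96,70,120,16,94,4,74,10,68,226,196,246,248,144,132,162,194,240,152,150,164,22,88,48,12,66,7,97,9,29,59,187,181,135,201,161,143,169,39,65,41,49,89,25,113,67,191,229,131,205,255,139,197,163,57,81,45]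

theorem KT1_1 : ∀ a : Fin (256 - 181), numOf (keyG sepL (permL (invT tg1) (RL.getD (181 + a.val) []))) = KT1.getD a.val 0 := by decide +kernel

def rhoT1 : Equiv.Perm Om := e5w [true,false,true] [false,false,false,true,false] false

theorem KT1_2 : ∀ (a : Fin (256 - 181)) (ω : Om), (OB.getD (KT1.getD a.val 0) 0).testBit (code5 (rhoT1 ω)) = (OB.getD (T4K.getD a.val 0) 0).testBit (code5 ω) := by decide +kernel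

theorem rhoT1_stab : inStab (rhoT1) := by decide +kernel

def tgL : List (List ℕ) := [tg0,tg1]

def ws5 : List (List ℕ) := [[],[1,1,1,1,1,1],[0,0,0],[1,1,1],[1,1,1,0,0,0],[1,0,1,1,0,1],[1,1,1,0],[1,1,1,1,1,1,0],[0],[0,0,0,0],[1,0,1],[0,0],[1,1,1,0,0],[1,1,1,1,0,1],[1,1,1,1,1,1,0,0],[1,1,1,1,0],[0,0,1,1],[1,1,1,1,1,1,1,0],[1,1,0,1,1,0,1],[1,0],[1,1,1,1,1,1,1],[1,1,1,1,0,0,0],[1,0,0,0],[1],[1,1,1,1],[1,0,0],[1,1,1,1,1,1,1,0,0],[1,1,1,1,0,0],[1,1,0,1],[1,1,1,1,1,0,1],[1,1,1,1,1,1,1,1],[1,1,0,0,0],[1,1,1,1,1,0,0,0],[1,1],[1,1,1,1,1],[1,1,1,1,1,0],[1,1,1,1,1,1,1,1,0],[0,1,1,0,1],[1,1,1,0,1,1,0,1],[1,1,0],[1,1,0,0],[1,1,1,1,1,0,0],[0,1],[1,1,1,0,1],[1,1,1,1,1,1,0,1],[1,1,1,1,1,1,0,1,1],[1,1,1,1,0,1,1,0],[1,0,1,1,0],[1,1,1,0,1,1],[0,1,1],[1,0,1,1],[0,0,1],[1,1,1,1,0,1,1],[1,1,1,1,1,0,1,1,0],[1,1,0,1,1,0],[1,1,1,0,1,1,0],[1,1,0,1,1],[1,1,1,1,1,1,0,1,1,0],[0,1,1,0],[1,1,1,1,1,0,1,1]]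


end Cfsg.Agent.Lib.Sporadic.LeechFive
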