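import Mathlib
import Cfsg.Agent.Lib.Sporadic.LeechCo3b

/-!
# The stabiliser of two vectors of norm 48 with inner product -32
-/

set_option autoImplicit false

namespace Cfsg.Agent.Lib.Sporadic.LeechHS

open Cfsg Cfsg.Agent.Lib.Sporadic.GolayCore Cfsg.Agent.Lib.Sporadic.LeechBasic
  Cfsg.Agent.Lib.Sporadic.LeechNorm Cfsg.Agent.Lib.Sporadic.LeechFacts
  Cfsg.Agent.Lib.Sporadic.LeechAut Cfsg.Agent.Lib.Sporadic.LeechMat
  Cfsg.Agent.Lib.Sporadic.LeechOrb Cfsg.Agent.Lib.Sporadic.LeechShape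
  Cfsg.Agent.Lib.Sporadic.LeechKey Cfsg.Agent.Lib.Sporadic.LeechMin
  Cfsg.Agent.Lib.Sporadic.LeechA0 Cfsg.Agent.Lib.Sporadic.LeechEnum
  Cfsg.Agent.Lib.Sporadic.LeechTree
  Cfsg.Agent.Lib.Sporadic.M24Chain Cfsg.Agent.Lib.Sporadic.M24Tbl

open Cfsg.Agent.Lib.Sporadic.LeechCo3

def w0L : List ℤ := [-5,-1,-1,-1,-1,-1,-1,-1,-1,-1,-1,-1,-1,-1,-1,-1,-1,-1,-1,-1,-1,-1,-1,-1]
theorem w0L_ok : inLattice w0L = true := by decide +kernel
/-- The second vector. -/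
def W0 : leechLattice := ⟨vecOf w0L, inLattice_sound w0L_ok⟩
/-- The joint stabiliser. -/
def KH : Subgroup Co0 := MulAction.stabilizer Co0 U0 ⊓ MulAction.stabilizer Co0 W0

theorem acts_memH {g : Co0} {f : List ℤ → List ℤ} (h : Acts g f) (hf : f u0L = u0L) (hf' : f w0L = w0L) : g ∈ KH := by
  refine Subgroup.mem_inf.2 ⟨?_, ?_⟩
  · show g • U0 = U0
    apply Subtype.ext
    have := h u0L (inLattice_sound u0L_ok)
    rw [hf] at this
    exact this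
  · show g • W0 = W0
    apply Subtype.ext
    have := h w0L (inLattice_sound w0L_ok)
    rw [hf'] at this
    exact this

def hT0 : List ℕ := [0,12,15,20,14,17,21,22,18,8,9,7,6,19,11,16,4,5,10,1,13,3,2,23]
def hI0 : List ℕ := [0,19,22,21,16,17,12,11,9,10,18,14,1,20,4,2,15,5,8,13,3,6,7,23]
def hS0 : List ℕ := [0,95,110,105,80,85,60,55,45,50,90,70,5,100,20,10,75,25,40,65,15,30,35,115]
theorem hS0_eq : hS0 = hI0.map (fun t => 5 * t) := by decide +kernel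
theorem hT0_ok : goodT hT0 = true := by decide +kernel
noncomputable def hg0 : Co0 := permCo0 (gPerm hT0 hT0_ok) (gPerm_mem hT0_ok)
theorem hact0 : Acts hg0 (permL hI0) := acts_perm hT0_ok (by decide +kernel)
def hT1 : List ℕ := [0,18,10,12,1,6,3,22,5,16,13,8,9,4,15,20,14,7,17,2,11,19,21,23]
def hI1 : List ℕ := [0,4,19,6,13,8,5,17,11,12,2,20,3,10,16,14,9,18,1,21,15,22,7,23]
def hS1 : List ℕ := [0,20,95,30,65,40,25,85,55,60,10,100,15,50,80,70,45,90,5,105,75,110,35,115]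
theorem hS1_eq : hS1 = hI1.map (fun t => 5 * t) := by decide +kernel
theorem hT1_ok : goodT hT1 = true := by decide +kernel
noncomputable def hg1 : Co0 := permCo0 (gPerm hT1 hT1_ok) (gPerm_mem hT1_ok)
theorem hact1 : Acts hg1 (permL hI1) := acts_perm hT1_ok (by decide +kernel)
def hT2 : List ℕ := [0,5,11,8,9,22,4,2,7,20,15,18,14,1,3,12,13,16,19,10,17,6,21,23]
def hI2 : List ℕ := [0,13,7,14,6,1,21,8,3,4,19,2,15,16,12,10,17,20,11,18,9,22,5,23]
def hS2 : List ℕ := [0,65,35,70,30,5,105,40,15,20,95,10,75,80,60,50,85,100,55,90,45,110,25,115]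
theorem hS2_eq : hS2 = hI2.map (fun t => 5 * t) := by decide +kernel
theorem hT2_ok : goodT hT2 = true := by decide +kernel
noncomputable def hg2 : Co0 := permCo0 (gPerm hT2 hT2_ok) (gPerm_mem hT2_ok)
theorem hact2 : Acts hg2 (permL hI2) := acts_perm hT2_ok (by decide +kernel)
def hM3 : List (List ℤ) :=
  [[3,0,0,0,1,0,0,0,1,0,0,1,0,1,1,0,0,1,0,0,0,0,0,-1],
  [1,0,0,0,-1,0,0,0,-1,0,0,-1,0,-1,-1,0,0,3,0,0,0,0,0,1],
  [0,-1,-1,1,0,1,1,1,0,-1,-1,0,1,0,0,-1,1,0,1,1,-1,1,1,0],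
  [1,0,0,0,-1,0,0,0,3,0,0,-1,0,-1,-1,0,0,-1,0,0,0,0,0,1],
  [0,-1,-1,1,0,1,-1,-1,0,1,1,0,1,0,0,1,1,0,1,-1,1,-1,1,0],
  [0,1,-1,1,0,-1,1,1,0,1,1,0,1,0,0,-1,-1,0,-1,1,1,-1,1,0],
  [0,1,-1,1,0,-1,1,-1,0,-1,1,0,-1,0,0,1,1,0,1,1,1,1,-1,0],
  [0,-1,1,1,0,-1,1,1,0,1,-1,0,-1,0,0,1,-1,0,1,-1,1,1,1,0],
  [0,1,1,1,0,1,-1,-1,0,1,-1,0,-1,0,0,-1,1,0,-1,1,1,1,1,0],
  [0,1,1,1,0,1,1,1,0,-1,1,0,-1,0,0,1,1,0,-1,-1,-1,-1,1,0],
  [0,1,-1,-1,0,1,1,1,0,1,-1,0,1,0,0,1,1,0,-1,-1,1,1,-1,0],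
  [0,1,-1,-1,0,1,-1,1,0,1,1,0,-1,0,0,1,-1,0,1,1,-1,1,1,0],
  [1,0,0,0,3,0,0,0,-1,0,0,-1,0,-1,-1,0,0,-1,0,0,0,0,0,1],
  [0,1,1,-1,0,-1,-1,1,0,-1,1,0,1,0,0,-1,1,0,1,-1,1,1,1,0],
  [0,1,1,1,0,1,-1,1,0,-1,-1,0,1,0,0,1,-1,0,1,1,1,-1,-1,0],
  [1,0,0,0,-1,0,0,0,-1,0,0,-1,0,3,-1,0,0,-1,0,0,0,0,0,1],
  [0,1,1,-1,0,-1,1,-1,0,1,-1,0,1,0,0,1,1,0,1,1,-1,-1,1,0],
  [0,-1,1,1,0,-1,-1,1,0,1,1,0,1,0,0,1,1,0,-1,1,-1,1,-1,0],
  [0,-1,1,-1,0,1,1,-1,0,-1,1,0,1,0,0,1,-1,0,-1,1,1,1,1,0],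
  [0,1,1,1,0,1,1,-1,0,1,1,0,1,0,0,-1,-1,0,1,-1,-1,1,-1,0],
  [0,-1,1,-1,0,1,1,1,0,1,1,0,-1,0,0,-1,1,0,1,1,1,-1,-1,0],
  [1,0,0,0,-1,0,0,0,-1,0,0,3,0,-1,-1,0,0,-1,0,0,0,0,0,1],
  [1,0,0,0,-1,0,0,0,-1,0,0,-1,0,-1,3,0,0,-1,0,0,0,0,0,1],
  [-1,0,0,0,1,0,0,0,1,0,0,1,0,1,1,0,0,1,0,0,0,0,0,3]]
theorem hM3_ok : matCheck hM3 4 = true := by decide +kernel
noncomputable def hg3 : Co0 := matCo0 hM3_ok
theorem hact3 : Acts hg3 (matL hM3 4) := acts_mat hM3_ok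
def hgens : List (ℕ → ℕ) :=
  [(fun c => permAux c hS0), (fun c => permAux c hS1), (fun c => permAux c hS2), (fun c => encL (matL hM3 4 (decL c)))]

theorem h_genok : ∀ f ∈ hgens, GenOK KH f := by
  intro f hf
  simp only [hgens, List.mem_cons, List.not_mem_nil, or_false] at hf
  rcases hf with rfl | rfl | rfl | rfl
  · rw [hS0_eq]
    exact genOK_perm hact0 (acts_memH hact0 (by decide +kernel) (by decide +kernel)) (by decide +kernel) (by decide +kernel)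
  · rw [hS1_eq]
    exact genOK_perm hact1 (acts_memH hact1 (by decide +kernel) (by decide +kernel)) (by decide +kernel) (by decide +kernel)
  · rw [hS2_eq]
    exact genOK_perm hact2 (acts_memH hact2 (by decide +kernel) (by decide +kernel)) (by decide +kernel) (by decide +kernel)
  · exact genOK_mat hM3_ok (acts_memH hact3 (by decide +kernel) (by decide +kernel))


def tM : List (List ℤ) :=
  [[3,0,0,1,0,1,1,0,0,1,0,0,0,0,0,1,0,0,0,1,0,0,0,-1],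
  [0,1,1,0,1,0,0,1,1,0,1,1,-1,1,-1,0,-1,-1,-1,0,1,1,-1,0],
  [0,1,1,0,-1,0,0,1,-1,0,1,-1,1,-1,-1,0,1,-1,1,0,1,1,1,0],
  [1,0,0,-1,0,3,-1,0,0,-1,0,0,0,0,0,-1,0,0,0,-1,0,0,0,1],
  [0,1,-1,0,-1,0,0,-1,1,0,1,1,1,1,1,0,1,-1,-1,0,-1,1,1,0],
  [1,0,0,3,0,-1,-1,0,0,-1,0,0,0,0,0,-1,0,0,0,-1,0,0,0,1],
  [1,0,0,-1,0,-1,-1,0,0,-1,0,0,0,0,0,3,0,0,0,-1,0,0,0,1],
  [0,1,1,0,-1,0,0,-1,1,0,1,-1,-1,1,1,0,-1,1,1,0,1,-1,1,0],
  [0,1,-1,0,1,0,0,1,1,0,1,-1,1,1,-1,0,1,1,1,0,-1,-1,-1,0],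
  [1,0,0,-1,0,-1,-1,0,0,-1,0,0,0,0,0,-1,0,0,0,3,0,0,0,1],
  [0,1,1,0,1,0,0,1,1,0,-1,-1,1,-1,1,0,-1,1,-1,0,-1,1,1,0],
  [0,1,-1,0,1,0,0,-1,-1,0,-1,1,1,1,-1,0,-1,1,1,0,1,1,1,0],
  [0,-1,1,0,1,0,0,-1,1,0,1,1,-1,-1,-1,0,1,1,1,0,-1,1,1,0],
  [0,1,-1,0,1,0,0,1,1,0,-1,1,-1,-1,1,0,1,-1,1,0,1,-1,1,0],
  [0,-1,-1,0,1,0,0,1,-1,0,1,-1,-1,1,1,0,1,1,-1,0,1,1,1,0],
  [1,0,0,-1,0,-1,3,0,0,-1,0,0,0,0,0,-1,0,0,0,-1,0,0,0,1],
  [0,-1,1,0,1,0,0,-1,1,0,-1,-1,1,1,1,0,1,-1,1,0,1,1,-1,0],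
  [0,-1,-1,0,-1,0,0,1,1,0,1,1,1,-1,1,0,-1,1,1,0,1,1,-1,0],
  [0,-1,1,0,-1,0,0,1,1,0,-1,1,1,1,-1,0,1,1,-1,0,1,-1,1,0],
  [1,0,0,-1,0,-1,-1,0,0,3,0,0,0,0,0,-1,0,0,0,-1,0,0,0,1],
  [0,1,1,0,-1,0,0,1,-1,0,-1,1,-1,1,1,0,1,1,1,0,-1,1,-1,0],
  [0,1,1,0,1,0,0,-1,-1,0,1,1,1,-1,1,0,1,1,-1,0,1,-1,-1,0],
  [0,-1,1,0,1,0,0,1,-1,0,1,1,1,1,1,0,-1,-1,1,0,-1,-1,1,0],
  [-1,0,0,1,0,1,1,0,0,1,0,0,0,0,0,1,0,0,0,1,0,0,0,3]]
theorem tM_ok : matCheck tM 4 = true := by decide +kernel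

def y00L : List ℤ := [4,0,0,0,0,0,0,0,0,0,0,0,0,0,0,0,0,0,0,0,0,0,0,4]
theorem y00L_ok : inLattice y00L = true := by decide +kernel
/-- The base point of the hundred points. -/
def Y00 : leechLattice := ⟨vecOf y00L, inLattice_sound y00L_ok⟩
def condsY : List (List ℤ × ℤ) := [(w0L, -24), (u0L, 24)]

/-- No fixed vector, and the inner products. -/
def pY (c : ℕ) : Bool :=
  !(Nat.beq (encL (matL tM 4 (decL c))) (encL (decL c))) &&
    ((dotLL y00L (decL c) == 8) || (dotLL y00L (decL c) == 16) || (dotLL y00L (decL c) == 32))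

def certY : ℕ := 0x108400021104462000000460021108800011108002000000c8202108000432080084400008c42002088842000000086420008400432108000421080040232008000242010c40411100000231010880222000000431010444411110440000008c8042210004200118840020000000060
def raL : List ℤ := [-3,1,1,1,1,1,1,1,1,1,1,1,1,1,1,1,1,1,1,1,1,1,1,1]
theorem raL_ok : inLattice raL = true := by decide +kernel
def certA : ℕ := 0x108400021104462000000460021108800011108002000000c8202108000432080084400008c42002088842000000086420008400432108000421080040232008000242010c40411100000231010880222000000431010444411110440000008c8042210004200118840020000000060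
def rbL : List ℤ := [0,0,0,0,0,0,0,0,0,0,0,2,0,2,0,2,2,2,0,0,0,2,2,2]
theorem rbL_ok : inLattice rbL = true := by decide +kernel
def certB : ℕ := 0x10084201110000422088040002280000442088000001190800202110400222000000440010882210008086202100044200009000202080000240010882001180080002200082002110046001080000000009442002110440232080082000010c00421008400232088400431000042000011080430000046001080000432100000411110444200000046002110440230010000001288082002110440202190440432088084210000046402100042000008c4043101080022000004620111040000000000000320008620210000023200000044001084000211088020000904041110000043200804640111040000000008a40208008442100840023101088220111040000001100042200808420119004400000004a202088800002188082000010c42001190084401110400000008c0040000004a421000080230008880000010c8421000008800210804042208804024000840042211040021000000024211044200001108020208888400000004640211000000219040043208808222000004024000880000000000000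

/-- The stabiliser of a point of the hundred points. -/
def KH1 : Subgroup Co0 := KH ⊓ MulAction.stabilizer Co0 Y00

def h1gens : List (ℕ → ℕ) := [(fun c => permAux c hS0), (fun c => permAux c hS1), (fun c => permAux c hS2)]

theorem h1_genok : ∀ f ∈ h1gens, GenOK KH1 f := by
  intro f hf
  simp only [h1gens, List.mem_cons, List.not_mem_nil, or_false] at hf
  have hy : ∀ {g : Co0} {f : List ℤ → List ℤ}, Acts g f → f y00L = y00L → g ∈ MulAction.stabilizer Co0 Y00 := by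
    intro g f h hf
    show g • Y00 = Y00
    apply Subtype.ext
    have := h y00L (inLattice_sound y00L_ok)
    rw [hf] at this
    exact this
  rcases hf with rfl | rfl | rfl
  · rw [hS0_eq]
    exact genOK_perm hact0 (Subgroup.mem_inf.2 ⟨acts_memH hact0 (by decide +kernel) (by decide +kernel), hy hact0 (by decide +kernel)⟩) (by decide +kernel) (by decide +kernel)
  · rw [hS1_eq]
    exact genOK_perm hact1 (Subgroup.mem_inf.2 ⟨acts_memH hact1 (by decide +kernel) (by decide +kernel), hy hact1 (by decide +kernel)⟩) (by decide +kernel) (by decide +kernel)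
  · rw [hS2_eq]
    exact genOK_perm hact2 (Subgroup.mem_inf.2 ⟨acts_memH hact2 (by decide +kernel) (by decide +kernel), hy hact2 (by decide +kernel)⟩) (by decide +kernel) (by decide +kernel)

def r22L : List ℤ := [1,-3,1,1,1,1,1,1,1,1,1,1,1,1,1,1,1,1,1,1,1,1,1,1]
def r77L : List ℤ := [2,0,2,0,2,2,2,0,0,0,2,2,0,0,0,0,0,0,0,0,0,0,0,2]
theorem r22L_ok : inLattice r22L = true := by decide +kernel
theorem r77L_ok : inLattice r77L = true := by decide +kernel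
def cert22 : ℕ := 0x40218808420110800023108008441108004441108000000
def cert77 : ℕ := 0x2088048001010880200011042002088400432110042002190080201190084401000048402188082210008c82001080000440010440432088040222108042000008c8400110000044101008222208800022100000000

end Cfsg.Agent.Lib.Sporadic.LeechHS
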