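import Mathlib
import Cfsg.Agent.Lib.Sporadic.LeechJ2Data

/-!
# An element of order five and its centraliser
-/

set_option autoImplicit false
set_option maxRecDepth 100000

namespace Cfsg.Agent.Lib.Sporadic.LeechJ2

open Cfsg Subgroup Cfsg.Agent.Lib.Sporadic.GolayCore Cfsg.Agent.Lib.Sporadic.LeechBasic
  Cfsg.Agent.Lib.Sporadic.LeechNorm Cfsg.Agent.Lib.Sporadic.LeechFacts
  Cfsg.Agent.Lib.Sporadic.LeechAut Cfsg.Agent.Lib.Sporadic.LeechMat
  Cfsg.Agent.Lib.Sporadic.LeechKey Cfsg.Agent.Lib.Sporadic.LeechEnum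
  Cfsg.Agent.Lib.Sporadic.LeechTree Cfsg.Agent.Lib.Sporadic.LeechA0
  Cfsg.Agent.Lib.Sporadic.LeechCenGrp Cfsg.Agent.Lib.Sporadic.LeechClasses
  Cfsg.Agent.Lib.Sporadic.LeechAct Cfsg.Agent.Lib.Sporadic.LeechOrbits
  Cfsg.Agent.Lib.Sporadic.LeechSeven Cfsg.Agent.Lib.Sporadic.LeechCenFix

theorem allM_ok : ∀ g, matCheck (allM g) 8 = true
  | 0 => y0_ok
  | 1 => y1_ok
  | 2 => y2_ok
  | 3 => y3_ok
  | _ + 4 => a_ok

/-- The explicit elements. -/
noncomputable def gC (g : ℕ) : Co0 := matCo0 (allM_ok g)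

theorem acts_gC (g : ℕ) : Acts (gC g) (matL (allM g) 8) := acts_mat (allM_ok g)

/-- The element of order five. -/
noncomputable abbrev aC : Co0 := gC 4

theorem acts_a : Acts aC (matL aM 8) := acts_gC 4

theorem aC_pow5 : aC ^ 5 = 1 := by
  have e : aC ^ 5 = aC * (aC * (aC * (aC * (aC * 1)))) := by
    simp only [pow_succ, pow_zero, one_mul, mul_one, mul_assoc]
  rw [e]
  apply ext_of_acts (acts_a.comp (acts_a.comp (acts_a.comp (acts_a.comp (acts_a.comp acts_one))))) acts_one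
  intro i hi
  exact beq_iff_eq.1 (List.all_eq_true.1 pow5_chk i hi)

theorem aC_ne_one : aC ≠ 1 := by
  intro h
  have h1 := acts_a (unitL 0) (inLattice_sound (by decide +kernel))
  rw [h, one_smul] at h1
  have h2 := congrFun h1 (pt 0)
  simp only [vecOf, idx_pt (show 0 < 24 by norm_num)] at h2
  exact ne1_chk (by rw [← h2]; decide +kernel)

theorem orderOf_aC : orderOf aC = 5 := orderOf_eq_prime aC_pow5 aC_ne_one

/-- The subgroup of order five. -/
noncomputable def A5 : Subgroup Co0 := zpowers aC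

theorem card_A5 : Nat.card A5 = 5 := by
  rw [A5, Nat.card_zpowers, orderOf_aC]

/-- The centraliser. -/
noncomputable abbrev CA : Subgroup Co0 := centralizer (A5 : Set Co0)

theorem mem_CA_of_comm {g : Co0} (h : g * aC = aC * g) : g ∈ CA := by
  rw [mem_centralizer_iff]
  intro x hx
  obtain ⟨n, rfl⟩ := mem_zpowers_iff.1 hx
  have hc : Commute aC g := h.symm
  exact (hc.zpow_left n).eq

theorem comm_of_mem_CA {g : Co0} (h : g ∈ CA) : g * aC = aC * g :=
  ((mem_centralizer_iff.1 h) aC (mem_zpowers aC)).symm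

theorem gC_comm : ∀ g, g < 5 → gC g * aC = aC * gC g := by
  intro g hg
  by_cases h4 : g = 4
  · subst h4; rfl
  · have hg4 : g < 4 := by omega
    apply ext_of_acts ((acts_gC g).comp acts_a) (acts_a.comp (acts_gC g))
    intro i hi
    have h1 := List.all_eq_true.1 comm_chk g (List.mem_range.2 hg4)
    exact beq_iff_eq.1 (List.all_eq_true.1 h1 i hi)

theorem gC_mem (g : ℕ) (hg : g < 5) : gC g ∈ CA := mem_CA_of_comm (gC_comm g hg)

end Cfsg.Agent.Lib.Sporadic.LeechJ2
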