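import Mathlib
import Cfsg.Agent.Lib.Sporadic.LeechJ2Data

/-!
# A quadratic condition on the minimal vectors
-/

set_option autoImplicit false
set_option maxRecDepth 1000000
set_option maxHeartbeats 0

namespace Cfsg.Agent.Lib.Sporadic.LeechJ2

open Cfsg Subgroup Cfsg.Agent.Lib.Sporadic.GolayCore Cfsg.Agent.Lib.Sporadic.LeechBasic
  Cfsg.Agent.Lib.Sporadic.LeechNorm Cfsg.Agent.Lib.Sporadic.LeechFacts
  Cfsg.Agent.Lib.Sporadic.LeechAut Cfsg.Agent.Lib.Sporadic.LeechMat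
  Cfsg.Agent.Lib.Sporadic.LeechKey Cfsg.Agent.Lib.Sporadic.LeechEnum
  Cfsg.Agent.Lib.Sporadic.LeechTree Cfsg.Agent.Lib.Sporadic.LeechA0
  Cfsg.Agent.Lib.Sporadic.LeechCenGrp Cfsg.Agent.Lib.Sporadic.LeechClasses
  Cfsg.Agent.Lib.Sporadic.LeechAct Cfsg.Agent.Lib.Sporadic.LeechOrbits
  Cfsg.Agent.Lib.Sporadic.LeechSeven Cfsg.Agent.Lib.Sporadic.LeechCenFix
open Cfsg.Agent.Lib.Compute.PermCert (get allB allB_iff)

/-- The pairs with positive sign. -/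
def Lp : List (ℕ × ℕ) := [(0,1),(0,23),(1,19),(1,23),(2,6),(2,21),(3,4),(3,20),(4,8),(4,9),(4,14),(4,22),(5,10),(5,12),(6,7),(6,21),(9,8),(9,14),(10,17),(10,18),(11,3),(11,20),(14,11),(14,20),(15,13),(15,17),(16,15),(16,17),(17,5),(17,12),(18,12),(18,16),(19,2),(19,6),(19,7),(19,21),(20,8),(20,9),(21,0),(21,23),(22,9),(22,14),(23,6),(23,7)]

/-- The pairs with negative sign. -/
def Ln : List (ℕ × ℕ) := [(0,0),(0,19),(1,0),(1,1),(2,2),(2,7),(3,3),(3,11),(5,5),(5,16),(6,2),(6,6),(7,0),(7,1),(7,19),(7,23),(8,3),(8,4),(8,11),(8,20),(9,9),(9,22),(10,13),(10,15),(11,4),(11,11),(12,5),(12,10),(12,12),(12,16),(13,13),(13,15),(13,17),(13,18),(14,3),(14,4),(15,15),(15,18),(16,13),(16,18),(17,10),(17,16),(18,5),(18,10),(20,14),(20,22),(21,1),(21,19),(22,8),(22,22),(23,2),(23,21)]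

theorem Lp_eq : allPairs.filter (fun p => decide (entM aM p = 4)) = Lp := by decide +kernel

theorem Ln_eq : allPairs.filter (fun p => decide (entM aM p = -4)) = Ln := by decide +kernel

theorem ent_ok : ∀ p ∈ allPairs, entM aM p = 0 ∨ entM aM p = 4 ∨ entM aM p = -4 := by decide +kernel

/-- The quadratic condition. -/
def P0 (y : ℕ → ℕ) : Bool := Nat.beq (Nat.add (Nat.mul (y 0) (Nat.add (y 1) (y 23))) (Nat.add (Nat.mul (y 1) (Nat.add (y 19) (y 23))) (Nat.add (Nat.mul (y 2) (Nat.add (y 6) (y 21))) (Nat.add (Nat.mul (y 3) (Nat.add (y 4) (y 20))) (Nat.add (Nat.mul (y 4) (Nat.add (y 8) (Nat.add (y 9) (Nat.add (y 14) (y 22))))) (Nat.add (Nat.mul (y 5) (Nat.add (y 10) (y 12))) (Nat.add (Nat.mul (y 6) (Nat.add (y 7) (y 21))) (Nat.add (Nat.mul (y 9) (Nat.add (y 8) (y 14))) (Nat.add (Nat.mul (y 10) (Nat.add (y 17) (y 18))) (Nat.add (Nat.mul (y 11) (Nat.add (y 3) (y 20))) (Nat.add (Nat.mul (y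 14) (Nat.add (y 11) (y 20))) (Nat.add (Nat.mul (y 15) (Nat.add (y 13) (y 17))) (Nat.add (Nat.mul (y 16) (Nat.add (y 15) (y 17))) (Nat.add (Nat.mul (y 17) (Nat.add (y 5) (y 12))) (Nat.add (Nat.mul (y 18) (Nat.add (y 12) (y 16))) (Nat.add (Nat.mul (y 19) (Nat.add (y 2) (Nat.add (y 6) (Nat.add (y 7) (y 21))))) (Nat.add (Nat.mul (y 20) (Nat.add (y 8) (y 9))) (Nat.add (Nat.mul (y 21) (Nat.add (y 0) (y 23))) (Nat.add (Nat.mul (y 22) (Nat.add (y 9) (y 14))) (Nat.add (Nat.mul (y 23) (Nat.add (y 6) (y 7))) (Nat.add (Nat.mul 8 (y 0)) (Nat.add (Nat.mul 8 (y 1)) (Nat.add (Nat.mul 8 (y 2)) (Nat.add (Nat.mul 8 (y 3)) (Nat.add (Nat.mul 8 (y 5)) (Nat.add (Nat.mul 8 (y 7)) (Nat.add (Nat.mul 8 (y 8)) (Nat.add (Nat.mul 8 (y 10)) (Nat.add (Nat.mul 8 (y 11)) (Nat.add (Nat.mul 8 (y 12)) (Nat.add (Nat.mul 24 (y 13)) (Nat.add (Nat.mul 8 (y 15)) (Nat.add (Nat.mul 8 (y 16)) (Nat.add (Nat.mul 8 (y 18)) (Nat.add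 (Nat.mul 8 (y 22)) (736)))))))))))))))))))))))))))))))))))) (Nat.add (Nat.mul (y 0) (Nat.add (y 0) (y 19))) (Nat.add (Nat.mul (y 1) (Nat.add (y 0) (y 1))) (Nat.add (Nat.mul (y 2) (Nat.add (y 2) (y 7))) (Nat.add (Nat.mul (y 3) (Nat.add (y 3) (y 11))) (Nat.add (Nat.mul (y 5) (Nat.add (y 5) (y 16))) (Nat.add (Nat.mul (y 6) (Nat.add (y 2) (y 6))) (Nat.add (Nat.mul (y 7) (Nat.add (y 0) (Nat.add (y 1) (Nat.add (y 19) (y 23))))) (Nat.add (Nat.mul (y 8) (Nat.add (y 3) (Nat.add (y 4) (Nat.add (y 11) (y 20))))) (Nat.add (Nat.mul (y 9) (Nat.add (y 9) (y 22))) (Nat.add (Nat.mul (y 10) (Nat.add (y 13) (y 15))) (Nat.add (Nat.mul (y 11) (Nat.add (y 4) (y 11))) (Nat.add (Nat.mul (y 12) (Nat.add (y 5) (Nat.add (y 10) (Nat.add (y 12) (y 16))))) (Nat.add (Nat.mul (y 13) (Nat.add (y 13) (Nat.add (y 15) (Nat.add (y 17) (y 18))))) (Nat.add (Nat.mul (y 14) (Nat.add (y 3) (y 4))) (Nat.add (Nat.mul (y 15) (Nat.add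 (y 15) (y 18))) (Nat.add (Nat.mul (y 16) (Nat.add (y 13) (y 18))) (Nat.add (Nat.mul (y 17) (Nat.add (y 10) (y 16))) (Nat.add (Nat.mul (y 18) (Nat.add (y 5) (y 10))) (Nat.add (Nat.mul (y 20) (Nat.add (y 14) (y 22))) (Nat.add (Nat.mul (y 21) (Nat.add (y 1) (y 19))) (Nat.add (Nat.mul (y 22) (Nat.add (y 8) (y 22))) (Nat.add (Nat.mul (y 23) (Nat.add (y 2) (y 21))) (Nat.add (Nat.mul 8 (y 4)) (Nat.add (Nat.mul 8 (y 6)) (Nat.add (Nat.mul 8 (y 9)) (Nat.add (Nat.mul 8 (y 14)) (Nat.add (Nat.mul 8 (y 17)) (Nat.add (Nat.mul 8 (y 19)) (Nat.add (Nat.mul 8 (y 20)) (Nat.add (Nat.mul 8 (y 21)) (Nat.add (Nat.mul 8 (y 23)) (832))))))))))))))))))))))))))))))))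

theorem P0_iff (y : ℕ → ℕ) : P0 y = true ↔ sumZ Lp y - sumZ Ln y = -32 := by
  unfold P0
  rw [Nat.beq_eq]
  simp only [Nat.add_eq, Nat.mul_eq, sumZ, Lp, Ln, List.map_cons, List.map_nil, List.sum_cons, List.sum_nil]
  constructor
  · intro h
    have h2 := congrArg (Nat.cast : ℕ → ℤ) h
    push_cast at h2
    linarith
  · intro h
    apply Nat.cast_injective (R := ℤ)
    push_cast
    linarith

/-- A block of octads. -/
def oc0 : List ℕ := (octadList.drop 0).take 64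

/-- A block of octads. -/
def oc1 : List ℕ := (octadList.drop 64).take 64

/-- A block of octads. -/
def oc2 : List ℕ := (octadList.drop 128).take 64

/-- A block of octads. -/
def oc3 : List ℕ := (octadList.drop 192).take 64

/-- A block of octads. -/
def oc4 : List ℕ := (octadList.drop 256).take 64

/-- A block of octads. -/
def oc5 : List ℕ := (octadList.drop 320).take 64

/-- A block of octads. -/
def oc6 : List ℕ := (octadList.drop 384).take 64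

/-- A block of octads. -/
def oc7 : List ℕ := (octadList.drop 448).take 64

/-- A block of octads. -/
def oc8 : List ℕ := (octadList.drop 512).take 64

/-- A block of octads. -/
def oc9 : List ℕ := (octadList.drop 576).take 64

/-- A block of octads. -/
def oc10 : List ℕ := (octadList.drop 640).take 64

/-- A block of octads. -/
def oc11 : List ℕ := (octadList.drop 704).take 64

theorem oc_eq : octadList = oc0 ++ oc1 ++ oc2 ++ oc3 ++ oc4 ++ oc5 ++ oc6 ++ oc7 ++ oc8 ++ oc9 ++ oc10 ++ oc11 := by decide +kernel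

end Cfsg.Agent.Lib.Sporadic.LeechJ2
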