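import Mathlib
import Cfsg.Agent.Lib.Sporadic.LeechJ2P0

/-!
# Counts of the minimal vectors with a quadratic condition, part a
-/

set_option autoImplicit false
set_option maxRecDepth 1000000
set_option maxHeartbeats 0

namespace Cfsg.Agent.Lib.Sporadic.LeechJ2

open Cfsg Subgroup Cfsg.Agent.Lib.Sporadic.GolayCore Cfsg.Agent.Lib.Sporadic.LeechBasic
  Cfsg.Agent.Lib.Sporadic.LeechNorm Cfsg.Agent.Lib.Sporadic.LeechFacts
  Cfsg.Agent.Lib.Sporadic.LeechAut Cfsg.Agent.Lib.Sporadic.LeechMat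
  Cfsg.Agent.Lib.Sporadic.LeechKey Cfsg.Agent.Lib.Sporadic.LeechEnum
  Cfsg.Agent.Lib.Sporadic.LeechTree Cfsg.Agent.Lib.Sporadic.LeechA0
  Cfsg.Agent.Lib.Sporadic.LeechCenGrp Cfsg.Agent.Lib.Sporadic.LeechClasses
  Cfsg.Agent.Lib.Sporadic.LeechAct Cfsg.Agent.Lib.Sporadic.LeechOrbits
  Cfsg.Agent.Lib.Sporadic.LeechSeven Cfsg.Agent.Lib.Sporadic.LeechCenFix
open Cfsg.Agent.Lib.Compute.PermCert (get allB allB_iff)

theorem cnt_t1 : t1List.countP P0 = 360 := by decide +kernel

theorem cnt_p0 : codeList.countP (fun c => P0 (y3 0 c)) = 1280 := by decide +kernel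

theorem cnt_p1 : codeList.countP (fun c => P0 (y3 1 c)) = 1280 := by decide +kernel

theorem cnt_p2 : codeList.countP (fun c => P0 (y3 2 c)) = 1280 := by decide +kernel

theorem cnt_p3 : codeList.countP (fun c => P0 (y3 3 c)) = 1280 := by decide +kernel

theorem cnt_p4 : codeList.countP (fun c => P0 (y3 4 c)) = 256 := by decide +kernel

theorem cnt_p5 : codeList.countP (fun c => P0 (y3 5 c)) = 1280 := by decide +kernel

theorem cnt_p6 : codeList.countP (fun c => P0 (y3 6 c)) = 1280 := by decide +kernel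

theorem cnt_p7 : codeList.countP (fun c => P0 (y3 7 c)) = 256 := by decide +kernel

theorem cnt_p8 : codeList.countP (fun c => P0 (y3 8 c)) = 256 := by decide +kernel

theorem cnt_p9 : codeList.countP (fun c => P0 (y3 9 c)) = 1280 := by decide +kernel

theorem cnt_p10 : codeList.countP (fun c => P0 (y3 10 c)) = 256 := by decide +kernel

theorem cnt_p11 : codeList.countP (fun c => P0 (y3 11 c)) = 1280 := by decide +kernel

end Cfsg.Agent.Lib.Sporadic.LeechJ2
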