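import Mathlib
import Cfsg.Agent.Lib.Sporadic.LeechJ2P0

/-!
# Counts of the minimal vectors with a quadratic condition, part b
-/

set_option autoImplicit false
set_option maxRecDepth 1000000
set_option maxHeartbeats 0

namespace Cfsg.Agent.Lib.Sporadic.LeechJ2

open Cfsg Subgroup Cfsg.Agent.Lib.Sporadic.GolayCore Cfsg.Agent.Lib.Sporadic.LeechBasic
  Cfsg.Agent.Lib.Sporadic.LeechNorm Cfsg.Agent.Lib.Sporadic.LeechFacts
  Cfsg.Agent.Lib.Sporadic.LeechAut Cfsg.Agent.Lib.Sporadic.LeechMat
  Cfsg.Agent.Lib.Sporadic.LeechKey Cfsg.Agent.Lib.Sporadic.LeechEnum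
  Cfsg.Agent.Lib.Sporadic.LeechTree Cfsg.Agent.Lib.Sporadic.LeechA0
  Cfsg.Agent.Lib.Sporadic.LeechCenGrp Cfsg.Agent.Lib.Sporadic.LeechClasses
  Cfsg.Agent.Lib.Sporadic.LeechAct Cfsg.Agent.Lib.Sporadic.LeechOrbits
  Cfsg.Agent.Lib.Sporadic.LeechSeven Cfsg.Agent.Lib.Sporadic.LeechCenFix
open Cfsg.Agent.Lib.Compute.PermCert (get allB allB_iff)

theorem cnt_p12 : codeList.countP (fun c => P0 (y3 12 c)) = 1280 := by decide +kernel

theorem cnt_p13 : codeList.countP (fun c => P0 (y3 13 c)) = 1280 := by decide +kernel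

theorem cnt_p14 : codeList.countP (fun c => P0 (y3 14 c)) = 256 := by decide +kernel

theorem cnt_p15 : codeList.countP (fun c => P0 (y3 15 c)) = 1280 := by decide +kernel

theorem cnt_p16 : codeList.countP (fun c => P0 (y3 16 c)) = 256 := by decide +kernel

theorem cnt_p17 : codeList.countP (fun c => P0 (y3 17 c)) = 256 := by decide +kernel

theorem cnt_p18 : codeList.countP (fun c => P0 (y3 18 c)) = 256 := by decide +kernel

theorem cnt_p19 : codeList.countP (fun c => P0 (y3 19 c)) = 256 := by decide +kernel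

theorem cnt_p20 : codeList.countP (fun c => P0 (y3 20 c)) = 256 := by decide +kernel

theorem cnt_p21 : codeList.countP (fun c => P0 (y3 21 c)) = 256 := by decide +kernel

theorem cnt_p22 : codeList.countP (fun c => P0 (y3 22 c)) = 1280 := by decide +kernel

theorem cnt_p23 : codeList.countP (fun c => P0 (y3 23 c)) = 256 := by decide +kernel

end Cfsg.Agent.Lib.Sporadic.LeechJ2
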