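import Mathlib
import Cfsg.Agent.Lib.Sporadic.LeechJ2P0

/-!
# Counts of the minimal vectors with a quadratic condition, part c
-/

set_option autoImplicit false
set_option maxRecDepth 1000000
set_option maxHeartbeats 0

namespace Cfsg.Agent.Lib.Sporadic.LeechJ2

open Cfsg Subgroup Cfsg.Agent.Lib.Sporadic.GolayCore Cfsg.Agent.Lib.Sporadic.LeechBasic
  Cfsg.Agent.Lib.Sporadic.LeechNorm Cfsg.Agent.Lib.Sporadic.LeechFacts
  Cfsg.Agent.Lib.Sporadic.LeechAut Cfsg.Agent.Lib.Sporadic.LeechMat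
  Cfsg.Agent.Lib.Sporadic.LeechKey Cfsg.Agent.Lib.Sporadic.LeechEnum
  Cfsg.Agent.Lib.Sporadic.LeechTree Cfsg.Agent.Lib.Sporadic.LeechA0
  Cfsg.Agent.Lib.Sporadic.LeechCenGrp Cfsg.Agent.Lib.Sporadic.LeechClasses
  Cfsg.Agent.Lib.Sporadic.LeechAct Cfsg.Agent.Lib.Sporadic.LeechOrbits
  Cfsg.Agent.Lib.Sporadic.LeechSeven Cfsg.Agent.Lib.Sporadic.LeechCenFix
open Cfsg.Agent.Lib.Compute.PermCert (get allB allB_iff)

theorem cnt_o0 : (oc0.map fun m => (evenSubs m).countP fun s => P0 (y2 m s)).sum = 1584 := by decide +kernel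

theorem cnt_o1 : (oc1.map fun m => (evenSubs m).countP fun s => P0 (y2 m s)).sum = 744 := by decide +kernel

theorem cnt_o2 : (oc2.map fun m => (evenSubs m).countP fun s => P0 (y2 m s)).sum = 1856 := by decide +kernel

theorem cnt_o3 : (oc3.map fun m => (evenSubs m).countP fun s => P0 (y2 m s)).sum = 1176 := by decide +kernel

theorem cnt_o4 : (oc4.map fun m => (evenSubs m).countP fun s => P0 (y2 m s)).sum = 912 := by decide +kernel

theorem cnt_o5 : (oc5.map fun m => (evenSubs m).countP fun s => P0 (y2 m s)).sum = 1792 := by decide +kernel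

end Cfsg.Agent.Lib.Sporadic.LeechJ2
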