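import Mathlib
import Cfsg.Agent.Lib.Sporadic.LeechJ2P0

/-!
# Counts of the minimal vectors with a quadratic condition, part d
-/

set_option autoImplicit false
set_option maxRecDepth 1000000
set_option maxHeartbeats 0

namespace Cfsg.Agent.Lib.Sporadic.LeechJ2

open Cfsg Subgroup Cfsg.Agent.Lib.Sporadic.GolayCore Cfsg.Agent.Lib.Sporadic.LeechBasic
  Cfsg.Agent.Lib.Sporadic.LeechNorm Cfsg.Agent.Lib.Sporadic.LeechFacts
  Cfsg.Agent.Lib.Sporadic.LeechAut Cfsg.Agent.Lib.Sporadic.LeechMat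
  Cfsg.Agent.Lib.Sporadic.LeechKey Cfsg.Agent.Lib.Sporadic.LeechEnum
  Cfsg.Agent.Lib.Sporadic.LeechTree Cfsg.Agent.Lib.Sporadic.LeechA0
  Cfsg.Agent.Lib.Sporadic.LeechCenGrp Cfsg.Agent.Lib.Sporadic.LeechClasses
  Cfsg.Agent.Lib.Sporadic.LeechAct Cfsg.Agent.Lib.Sporadic.LeechOrbits
  Cfsg.Agent.Lib.Sporadic.LeechSeven Cfsg.Agent.Lib.Sporadic.LeechCenFix
open Cfsg.Agent.Lib.Compute.PermCert (get allB allB_iff)

theorem cnt_o6 : (oc6.map fun m => (evenSubs m).countP fun s => P0 (y2 m s)).sum = 1952 := by decide +kernel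

theorem cnt_o7 : (oc7.map fun m => (evenSubs m).countP fun s => P0 (y2 m s)).sum = 1480 := by decide +kernel

theorem cnt_o8 : (oc8.map fun m => (evenSubs m).countP fun s => P0 (y2 m s)).sum = 1840 := by decide +kernel

theorem cnt_o9 : (oc9.map fun m => (evenSubs m).countP fun s => P0 (y2 m s)).sum = 1896 := by decide +kernel

theorem cnt_o10 : (oc10.map fun m => (evenSubs m).countP fun s => P0 (y2 m s)).sum = 1824 := by decide +kernel

theorem cnt_o11 : (oc11.map fun m => (evenSubs m).countP fun s => P0 (y2 m s)).sum = 1952 := by decide +kernel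

end Cfsg.Agent.Lib.Sporadic.LeechJ2
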