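import Mathlib
import Cfsg.Agent.Lib.Sporadic.LeechJ2Pa
import Cfsg.Agent.Lib.Sporadic.LeechJ2Pb
import Cfsg.Agent.Lib.Sporadic.LeechJ2Pc
import Cfsg.Agent.Lib.Sporadic.LeechJ2Pd

/-!
# A count of the minimal vectors with a quadratic condition
-/

set_option autoImplicit false
set_option maxRecDepth 1000000
set_option maxHeartbeats 0

namespace Cfsg.Agent.Lib.Sporadic.LeechJ2

open Cfsg Subgroup Cfsg.Agent.Lib.Sporadic.GolayCore Cfsg.Agent.Lib.Sporadic.LeechBasic
  Cfsg.Agent.Lib.Sporadic.LeechNorm Cfsg.Agent.Lib.Sporadic.LeechFacts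
  Cfsg.Agent.Lib.Sporadic.LeechAut Cfsg.Agent.Lib.Sporadic.LeechMat
  Cfsg.Agent.Lib.Sporadic.LeechKey Cfsg.Agent.Lib.Sporadic.LeechEnum
  Cfsg.Agent.Lib.Sporadic.LeechTree Cfsg.Agent.Lib.Sporadic.LeechA0
  Cfsg.Agent.Lib.Sporadic.LeechCenGrp Cfsg.Agent.Lib.Sporadic.LeechClasses
  Cfsg.Agent.Lib.Sporadic.LeechAct Cfsg.Agent.Lib.Sporadic.LeechOrbits
  Cfsg.Agent.Lib.Sporadic.LeechSeven Cfsg.Agent.Lib.Sporadic.LeechCenFix
open Cfsg.Agent.Lib.Compute.PermCert (get allB allB_iff)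

theorem cnt_P0 : cntP P0 = 37800 := by
  unfold cntP
  rw [cnt_t1, oc_eq]
  simp only [List.map_append, List.sum_append, cnt_o0, cnt_o1, cnt_o2, cnt_o3, cnt_o4, cnt_o5, cnt_o6, cnt_o7, cnt_o8, cnt_o9, cnt_o10, cnt_o11]
  have key : ((List.range 24).map fun p => codeList.countP fun c => P0 (y3 p c)) =
      ((List.range 24).map fun p => ([1280,1280,1280,1280,256,1280,1280,256,256,1280,256,1280,1280,1280,256,1280,256,256,256,256,256,256,1280,256] : List ℕ).getD p 0) := by
    apply List.map_congr_left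
    intro p hp
    have hp' := List.mem_range.1 hp
    interval_cases p
    · exact cnt_p0
    · exact cnt_p1
    · exact cnt_p2
    · exact cnt_p3
    · exact cnt_p4
    · exact cnt_p5
    · exact cnt_p6
    · exact cnt_p7
    · exact cnt_p8
    · exact cnt_p9
    · exact cnt_p10
    · exact cnt_p11
    · exact cnt_p12
    · exact cnt_p13
    · exact cnt_p14
    · exact cnt_p15
    · exact cnt_p16
    · exact cnt_p17
    · exact cnt_p18
    · exact cnt_p19
    · exact cnt_p20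
    · exact cnt_p21
    · exact cnt_p22
    · exact cnt_p23
  rw [key]
  decide +kernel

end Cfsg.Agent.Lib.Sporadic.LeechJ2
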