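import Mathlib
import Cfsg.Agent.Lib.Sporadic.LeechJ2P0
import Cfsg.Agent.Lib.Sporadic.LeechTree2

/-!
# Sparse conditions on minimal vectors
-/

set_option autoImplicit false
set_option maxRecDepth 1000000
set_option maxHeartbeats 0

namespace Cfsg.Agent.Lib.Sporadic.LeechJ2

open Cfsg Subgroup Cfsg.Agent.Lib.Sporadic.GolayCore Cfsg.Agent.Lib.Sporadic.LeechBasic
  Cfsg.Agent.Lib.Sporadic.LeechNorm Cfsg.Agent.Lib.Sporadic.LeechFacts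
  Cfsg.Agent.Lib.Sporadic.LeechAut Cfsg.Agent.Lib.Sporadic.LeechMat
  Cfsg.Agent.Lib.Sporadic.LeechKey Cfsg.Agent.Lib.Sporadic.LeechEnum
  Cfsg.Agent.Lib.Sporadic.LeechTree Cfsg.Agent.Lib.Sporadic.LeechA0
  Cfsg.Agent.Lib.Sporadic.LeechCenGrp Cfsg.Agent.Lib.Sporadic.LeechClasses
  Cfsg.Agent.Lib.Sporadic.LeechAct Cfsg.Agent.Lib.Sporadic.LeechOrbits
  Cfsg.Agent.Lib.Sporadic.LeechSeven Cfsg.Agent.Lib.Sporadic.LeechCenFix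
open Cfsg.Agent.Lib.Compute.PermCert (get allB allB_iff)

/-- The `j`-th fixed vector. -/
def vL (j : ℕ) : List ℤ := TL.getD (Nat.mul 4 j) []

/-- The conditions at level `j`. -/
def Cond (j : ℕ) : List (List ℤ × ℤ) := (TL.take (Nat.mul 4 j)).map fun t => (t, dotLL t (vL j))

/-- The sparse conditions at level 1. -/
def Cn1 : List (SP × ℕ × ℕ) := [([(0,4,0),(1,4,0)],0,0),([(1,0,4),(7,0,4)],16,0),([(0,0,2),(1,2,0),(2,2,0),(6,0,2),(7,2,0),(19,0,2),(21,2,0),(23,0,2)],0,16),([(0,2,0),(1,0,2),(2,0,2),(6,2,0),(7,2,0),(19,2,0),(21,0,2),(23,0,2)],16,0)]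

theorem Cn1_eq : toCn (Cond 1) = Cn1 := by decide +kernel

/-- The explicit test at level 1. -/
def E1 (y : ℕ → ℕ) : Bool := and (Nat.beq (Nat.add (Nat.add (Nat.add (Nat.mul 4 (y 0)) (Nat.mul 0 4)) (Nat.add (Nat.add (Nat.mul 4 (y 1)) (Nat.mul 0 4)) (0))) 0) (Nat.add (Nat.add (Nat.add (Nat.mul 0 (y 0)) (Nat.mul 4 4)) (Nat.add (Nat.add (Nat.mul 0 (y 1)) (Nat.mul 4 4)) (0))) 0)) (and (Nat.beq (Nat.add (Nat.add (Nat.add (Nat.mul 0 (y 1)) (Nat.mul 4 4)) (Nat.add (Nat.add (Nat.mul 0 (y 7)) (Nat.mul 4 4)) (0))) 0) (Nat.add (Nat.add (Nat.add (Nat.mul 4 (y 1)) (Nat.mul 0 4)) (Nat.add (Nat.add (Nat.mul 4 (y 7)) (Nat.mul 0 4)) (0))) 16)) (and (Nat.beq (Nat.add (Nat.add (Nat.add (Nat.mul 0 (y 0)) (Nat.mul 2 4)) (Nat.add (Nat.add (Nat.mul 2 (y 1)) (Nat.mul 0 4)) (Nat.add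 (Nat.add (Nat.mul 2 (y 2)) (Nat.mul 0 4)) (Nat.add (Nat.add (Nat.mul 0 (y 6)) (Nat.mul 2 4)) (Nat.add (Nat.add (Nat.mul 2 (y 7)) (Nat.mul 0 4)) (Nat.add (Nat.add (Nat.mul 0 (y 19)) (Nat.mul 2 4)) (Nat.add (Nat.add (Nat.mul 2 (y 21)) (Nat.mul 0 4)) (Nat.add (Nat.add (Nat.mul 0 (y 23)) (Nat.mul 2 4)) (0))))))))) 16) (Nat.add (Nat.add (Nat.add (Nat.mul 2 (y 0)) (Nat.mul 0 4)) (Nat.add (Nat.add (Nat.mul 0 (y 1)) (Nat.mul 2 4)) (Nat.add (Nat.add (Nat.mul 0 (y 2)) (Nat.mul 2 4)) (Nat.add (Nat.add (Nat.mul 2 (y 6)) (Nat.mul 0 4)) (Nat.add (Nat.add (Nat.mul 0 (y 7)) (Nat.mul 2 4)) (Nat.add (Nat.add (Nat.mul 2 (y 19)) (Nat.mul 0 4)) (Nat.add (Nat.add (Nat.mul 0 (y 21)) (Nat.mul 2 4)) (Nat.add (Nat.add (Nat.mul 2 (y 23)) (Nat.mul 0 4)) (0))))))))) 0)) (and (Nat.beq (Nat.add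 (Nat.add (Nat.add (Nat.mul 2 (y 0)) (Nat.mul 0 4)) (Nat.add (Nat.add (Nat.mul 0 (y 1)) (Nat.mul 2 4)) (Nat.add (Nat.add (Nat.mul 0 (y 2)) (Nat.mul 2 4)) (Nat.add (Nat.add (Nat.mul 2 (y 6)) (Nat.mul 0 4)) (Nat.add (Nat.add (Nat.mul 2 (y 7)) (Nat.mul 0 4)) (Nat.add (Nat.add (Nat.mul 2 (y 19)) (Nat.mul 0 4)) (Nat.add (Nat.add (Nat.mul 0 (y 21)) (Nat.mul 2 4)) (Nat.add (Nat.add (Nat.mul 0 (y 23)) (Nat.mul 2 4)) (0))))))))) 0) (Nat.add (Nat.add (Nat.add (Nat.mul 0 (y 0)) (Nat.mul 2 4)) (Nat.add (Nat.add (Nat.mul 2 (y 1)) (Nat.mul 0 4)) (Nat.add (Nat.add (Nat.mul 2 (y 2)) (Nat.mul 0 4)) (Nat.add (Nat.add (Nat.mul 0 (y 6)) (Nat.mul 2 4)) (Nat.add (Nat.add (Nat.mul 0 (y 7)) (Nat.mul 2 4)) (Nat.add (Nat.add (Nat.mul 0 (y 19)) (Nat.mul 2 4)) (Nat.add (Nat.add (Nat.mul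 2 (y 21)) (Nat.mul 0 4)) (Nat.add (Nat.add (Nat.mul 2 (y 23)) (Nat.mul 0 4)) (0))))))))) 16)) (true))))

theorem E1_eq (y : ℕ → ℕ) : condsB Cn1 y = E1 y := rfl

/-- The sparse conditions at level 2. -/
def Cn2 : List (SP × ℕ × ℕ) := [([(0,4,0),(1,4,0)],16,0),([(1,0,4),(7,0,4)],0,0),([(0,0,2),(1,2,0),(2,2,0),(6,0,2),(7,2,0),(19,0,2),(21,2,0),(23,0,2)],0,8),([(0,2,0),(1,0,2),(2,0,2),(6,2,0),(7,2,0),(19,2,0),(21,0,2),(23,0,2)],8,0),([(0,4,0),(1,0,4)],16,0),([(0,0,4),(21,4,0)],0,16),([(0,2,0),(1,2,0),(2,2,0),(6,2,0),(7,2,0),(19,2,0),(21,0,2),(23,0,2)],8,0),([(0,0,2),(1,0,2),(2,0,2),(6,0,2),(7,0,2),(19,2,0),(21,0,2),(23,2,0)],0,8)]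

theorem Cn2_eq : toCn (Cond 2) = Cn2 := by decide +kernel

/-- The explicit test at level 2. -/
def E2 (y : ℕ → ℕ) : Bool := and (Nat.beq (Nat.add (Nat.add (Nat.add (Nat.mul 4 (y 0)) (Nat.mul 0 4)) (Nat.add (Nat.add (Nat.mul 4 (y 1)) (Nat.mul 0 4)) (0))) 0) (Nat.add (Nat.add (Nat.add (Nat.mul 0 (y 0)) (Nat.mul 4 4)) (Nat.add (Nat.add (Nat.mul 0 (y 1)) (Nat.mul 4 4)) (0))) 16)) (and (Nat.beq (Nat.add (Nat.add (Nat.add (Nat.mul 0 (y 1)) (Nat.mul 4 4)) (Nat.add (Nat.add (Nat.mul 0 (y 7)) (Nat.mul 4 4)) (0))) 0) (Nat.add (Nat.add (Nat.add (Nat.mul 4 (y 1)) (Nat.mul 0 4)) (Nat.add (Nat.add (Nat.mul 4 (y 7)) (Nat.mul 0 4)) (0))) 0)) (and (Nat.beq (Nat.add (Nat.add (Nat.add (Nat.mul 0 (y 0)) (Nat.mul 2 4)) (Nat.add (Nat.add (Nat.mul 2 (y 1)) (Nat.mul 0 4)) (Nat.add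 (Nat.add (Nat.mul 2 (y 2)) (Nat.mul 0 4)) (Nat.add (Nat.add (Nat.mul 0 (y 6)) (Nat.mul 2 4)) (Nat.add (Nat.add (Nat.mul 2 (y 7)) (Nat.mul 0 4)) (Nat.add (Nat.add (Nat.mul 0 (y 19)) (Nat.mul 2 4)) (Nat.add (Nat.add (Nat.mul 2 (y 21)) (Nat.mul 0 4)) (Nat.add (Nat.add (Nat.mul 0 (y 23)) (Nat.mul 2 4)) (0))))))))) 8) (Nat.add (Nat.add (Nat.add (Nat.mul 2 (y 0)) (Nat.mul 0 4)) (Nat.add (Nat.add (Nat.mul 0 (y 1)) (Nat.mul 2 4)) (Nat.add (Nat.add (Nat.mul 0 (y 2)) (Nat.mul 2 4)) (Nat.add (Nat.add (Nat.mul 2 (y 6)) (Nat.mul 0 4)) (Nat.add (Nat.add (Nat.mul 0 (y 7)) (Nat.mul 2 4)) (Nat.add (Nat.add (Nat.mul 2 (y 19)) (Nat.mul 0 4)) (Nat.add (Nat.add (Nat.mul 0 (y 21)) (Nat.mul 2 4)) (Nat.add (Nat.add (Nat.mul 2 (y 23)) (Nat.mul 0 4)) (0))))))))) 0)) (and (Nat.beq (Nat.add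 (Nat.add (Nat.add (Nat.mul 2 (y 0)) (Nat.mul 0 4)) (Nat.add (Nat.add (Nat.mul 0 (y 1)) (Nat.mul 2 4)) (Nat.add (Nat.add (Nat.mul 0 (y 2)) (Nat.mul 2 4)) (Nat.add (Nat.add (Nat.mul 2 (y 6)) (Nat.mul 0 4)) (Nat.add (Nat.add (Nat.mul 2 (y 7)) (Nat.mul 0 4)) (Nat.add (Nat.add (Nat.mul 2 (y 19)) (Nat.mul 0 4)) (Nat.add (Nat.add (Nat.mul 0 (y 21)) (Nat.mul 2 4)) (Nat.add (Nat.add (Nat.mul 0 (y 23)) (Nat.mul 2 4)) (0))))))))) 0) (Nat.add (Nat.add (Nat.add (Nat.mul 0 (y 0)) (Nat.mul 2 4)) (Nat.add (Nat.add (Nat.mul 2 (y 1)) (Nat.mul 0 4)) (Nat.add (Nat.add (Nat.mul 2 (y 2)) (Nat.mul 0 4)) (Nat.add (Nat.add (Nat.mul 0 (y 6)) (Nat.mul 2 4)) (Nat.add (Nat.add (Nat.mul 0 (y 7)) (Nat.mul 2 4)) (Nat.add (Nat.add (Nat.mul 0 (y 19)) (Nat.mul 2 4)) (Nat.add (Nat.add (Nat.mul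 2 (y 21)) (Nat.mul 0 4)) (Nat.add (Nat.add (Nat.mul 2 (y 23)) (Nat.mul 0 4)) (0))))))))) 8)) (and (Nat.beq (Nat.add (Nat.add (Nat.add (Nat.mul 4 (y 0)) (Nat.mul 0 4)) (Nat.add (Nat.add (Nat.mul 0 (y 1)) (Nat.mul 4 4)) (0))) 0) (Nat.add (Nat.add (Nat.add (Nat.mul 0 (y 0)) (Nat.mul 4 4)) (Nat.add (Nat.add (Nat.mul 4 (y 1)) (Nat.mul 0 4)) (0))) 16)) (and (Nat.beq (Nat.add (Nat.add (Nat.add (Nat.mul 0 (y 0)) (Nat.mul 4 4)) (Nat.add (Nat.add (Nat.mul 4 (y 21)) (Nat.mul 0 4)) (0))) 16) (Nat.add (Nat.add (Nat.add (Nat.mul 4 (y 0)) (Nat.mul 0 4)) (Nat.add (Nat.add (Nat.mul 0 (y 21)) (Nat.mul 4 4)) (0))) 0)) (and (Nat.beq (Nat.add (Nat.add (Nat.add (Nat.mul 2 (y 0)) (Nat.mul 0 4)) (Nat.add (Nat.add (Nat.mul 2 (y 1)) (Nat.mul 0 4)) (Nat.add (Nat.add (Nat.mul 2 (y 2))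 (Nat.mul 0 4)) (Nat.add (Nat.add (Nat.mul 2 (y 6)) (Nat.mul 0 4)) (Nat.add (Nat.add (Nat.mul 2 (y 7)) (Nat.mul 0 4)) (Nat.add (Nat.add (Nat.mul 2 (y 19)) (Nat.mul 0 4)) (Nat.add (Nat.add (Nat.mul 0 (y 21)) (Nat.mul 2 4)) (Nat.add (Nat.add (Nat.mul 0 (y 23)) (Nat.mul 2 4)) (0))))))))) 0) (Nat.add (Nat.add (Nat.add (Nat.mul 0 (y 0)) (Nat.mul 2 4)) (Nat.add (Nat.add (Nat.mul 0 (y 1)) (Nat.mul 2 4)) (Nat.add (Nat.add (Nat.mul 0 (y 2)) (Nat.mul 2 4)) (Nat.add (Nat.add (Nat.mul 0 (y 6)) (Nat.mul 2 4)) (Nat.add (Nat.add (Nat.mul 0 (y 7)) (Nat.mul 2 4)) (Nat.add (Nat.add (Nat.mul 0 (y 19)) (Nat.mul 2 4)) (Nat.add (Nat.add (Nat.mul 2 (y 21)) (Nat.mul 0 4)) (Nat.add (Nat.add (Nat.mul 2 (y 23)) (Nat.mul 0 4)) (0))))))))) 8)) (and (Nat.beq (Nat.add (Nat.add (Nat.add (Nat.mul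 0 (y 0)) (Nat.mul 2 4)) (Nat.add (Nat.add (Nat.mul 0 (y 1)) (Nat.mul 2 4)) (Nat.add (Nat.add (Nat.mul 0 (y 2)) (Nat.mul 2 4)) (Nat.add (Nat.add (Nat.mul 0 (y 6)) (Nat.mul 2 4)) (Nat.add (Nat.add (Nat.mul 0 (y 7)) (Nat.mul 2 4)) (Nat.add (Nat.add (Nat.mul 2 (y 19)) (Nat.mul 0 4)) (Nat.add (Nat.add (Nat.mul 0 (y 21)) (Nat.mul 2 4)) (Nat.add (Nat.add (Nat.mul 2 (y 23)) (Nat.mul 0 4)) (0))))))))) 8) (Nat.add (Nat.add (Nat.add (Nat.mul 2 (y 0)) (Nat.mul 0 4)) (Nat.add (Nat.add (Nat.mul 2 (y 1)) (Nat.mul 0 4)) (Nat.add (Nat.add (Nat.mul 2 (y 2)) (Nat.mul 0 4)) (Nat.add (Nat.add (Nat.mul 2 (y 6)) (Nat.mul 0 4)) (Nat.add (Nat.add (Nat.mul 2 (y 7)) (Nat.mul 0 4)) (Nat.add (Nat.add (Nat.mul 0 (y 19)) (Nat.mul 2 4)) (Nat.add (Nat.add (Nat.mul 2 (y 21)) (Nat.mul 0 4)) (Nat.add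 (Nat.add (Nat.mul 0 (y 23)) (Nat.mul 2 4)) (0))))))))) 0)) (true))))))))

theorem E2_eq (y : ℕ → ℕ) : condsB Cn2 y = E2 y := rfl

/-- The test at level 2. -/
def P2 (y : ℕ → ℕ) : Bool := and (E2 y) (P0 y)

/-- The sparse conditions at level 3. -/
def Cn3 : List (SP × ℕ × ℕ) := [([(0,4,0),(1,4,0)],16,0),([(1,0,4),(7,0,4)],0,0),([(0,0,2),(1,2,0),(2,2,0),(6,0,2),(7,2,0),(19,0,2),(21,2,0),(23,0,2)],0,8),([(0,2,0),(1,0,2),(2,0,2),(6,2,0),(7,2,0),(19,2,0),(21,0,2),(23,0,2)],8,0),([(0,4,0),(1,0,4)],16,0),([(0,0,4),(21,4,0)],0,16),([(0,2,0),(1,2,0),(2,2,0),(6,2,0),(7,2,0),(19,2,0),(21,0,2),(23,0,2)],8,0),([(0,0,2),(1,0,2),(2,0,2),(6,0,2),(7,0,2),(19,2,0),(21,0,2),(23,2,0)],0,8),([(0,4,0),(3,4,0)],16,0),([(0,0,2),(1,0,2),(3,0,2),(7,0,2),(8,0,2),(11,2,0),(14,0,2),(21,2,0)],0,8),([(1,2,0),(2,2,0),(4,0,2),(7,2,0),(9,0,2),(11,0,2),(14,2,0),(23,0,2)],0,8),([(1,0,2),(2,0,2),(8,2,0),(9,2,0),(11,2,0),(19,2,0),(20,0,2),(21,0,2)],0,0)]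

theorem Cn3_eq : toCn (Cond 3) = Cn3 := by decide +kernel

/-- The explicit test at level 3. -/
def E3 (y : ℕ → ℕ) : Bool := and (Nat.beq (Nat.add (Nat.add (Nat.add (Nat.mul 4 (y 0)) (Nat.mul 0 4)) (Nat.add (Nat.add (Nat.mul 4 (y 1)) (Nat.mul 0 4)) (0))) 0) (Nat.add (Nat.add (Nat.add (Nat.mul 0 (y 0)) (Nat.mul 4 4)) (Nat.add (Nat.add (Nat.mul 0 (y 1)) (Nat.mul 4 4)) (0))) 16)) (and (Nat.beq (Nat.add (Nat.add (Nat.add (Nat.mul 0 (y 1)) (Nat.mul 4 4)) (Nat.add (Nat.add (Nat.mul 0 (y 7)) (Nat.mul 4 4)) (0))) 0) (Nat.add (Nat.add (Nat.add (Nat.mul 4 (y 1)) (Nat.mul 0 4)) (Nat.add (Nat.add (Nat.mul 4 (y 7)) (Nat.mul 0 4)) (0))) 0)) (and (Nat.beq (Nat.add (Nat.add (Nat.add (Nat.mul 0 (y 0)) (Nat.mul 2 4)) (Nat.add (Nat.add (Nat.mul 2 (y 1)) (Nat.mul 0 4)) (Nat.add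 (Nat.add (Nat.mul 2 (y 2)) (Nat.mul 0 4)) (Nat.add (Nat.add (Nat.mul 0 (y 6)) (Nat.mul 2 4)) (Nat.add (Nat.add (Nat.mul 2 (y 7)) (Nat.mul 0 4)) (Nat.add (Nat.add (Nat.mul 0 (y 19)) (Nat.mul 2 4)) (Nat.add (Nat.add (Nat.mul 2 (y 21)) (Nat.mul 0 4)) (Nat.add (Nat.add (Nat.mul 0 (y 23)) (Nat.mul 2 4)) (0))))))))) 8) (Nat.add (Nat.add (Nat.add (Nat.mul 2 (y 0)) (Nat.mul 0 4)) (Nat.add (Nat.add (Nat.mul 0 (y 1)) (Nat.mul 2 4)) (Nat.add (Nat.add (Nat.mul 0 (y 2)) (Nat.mul 2 4)) (Nat.add (Nat.add (Nat.mul 2 (y 6)) (Nat.mul 0 4)) (Nat.add (Nat.add (Nat.mul 0 (y 7)) (Nat.mul 2 4)) (Nat.add (Nat.add (Nat.mul 2 (y 19)) (Nat.mul 0 4)) (Nat.add (Nat.add (Nat.mul 0 (y 21)) (Nat.mul 2 4)) (Nat.add (Nat.add (Nat.mul 2 (y 23)) (Nat.mul 0 4)) (0))))))))) 0)) (and (Nat.beq (Nat.add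 (Nat.add (Nat.add (Nat.mul 2 (y 0)) (Nat.mul 0 4)) (Nat.add (Nat.add (Nat.mul 0 (y 1)) (Nat.mul 2 4)) (Nat.add (Nat.add (Nat.mul 0 (y 2)) (Nat.mul 2 4)) (Nat.add (Nat.add (Nat.mul 2 (y 6)) (Nat.mul 0 4)) (Nat.add (Nat.add (Nat.mul 2 (y 7)) (Nat.mul 0 4)) (Nat.add (Nat.add (Nat.mul 2 (y 19)) (Nat.mul 0 4)) (Nat.add (Nat.add (Nat.mul 0 (y 21)) (Nat.mul 2 4)) (Nat.add (Nat.add (Nat.mul 0 (y 23)) (Nat.mul 2 4)) (0))))))))) 0) (Nat.add (Nat.add (Nat.add (Nat.mul 0 (y 0)) (Nat.mul 2 4)) (Nat.add (Nat.add (Nat.mul 2 (y 1)) (Nat.mul 0 4)) (Nat.add (Nat.add (Nat.mul 2 (y 2)) (Nat.mul 0 4)) (Nat.add (Nat.add (Nat.mul 0 (y 6)) (Nat.mul 2 4)) (Nat.add (Nat.add (Nat.mul 0 (y 7)) (Nat.mul 2 4)) (Nat.add (Nat.add (Nat.mul 0 (y 19)) (Nat.mul 2 4)) (Nat.add (Nat.add (Nat.mul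 2 (y 21)) (Nat.mul 0 4)) (Nat.add (Nat.add (Nat.mul 2 (y 23)) (Nat.mul 0 4)) (0))))))))) 8)) (and (Nat.beq (Nat.add (Nat.add (Nat.add (Nat.mul 4 (y 0)) (Nat.mul 0 4)) (Nat.add (Nat.add (Nat.mul 0 (y 1)) (Nat.mul 4 4)) (0))) 0) (Nat.add (Nat.add (Nat.add (Nat.mul 0 (y 0)) (Nat.mul 4 4)) (Nat.add (Nat.add (Nat.mul 4 (y 1)) (Nat.mul 0 4)) (0))) 16)) (and (Nat.beq (Nat.add (Nat.add (Nat.add (Nat.mul 0 (y 0)) (Nat.mul 4 4)) (Nat.add (Nat.add (Nat.mul 4 (y 21)) (Nat.mul 0 4)) (0))) 16) (Nat.add (Nat.add (Nat.add (Nat.mul 4 (y 0)) (Nat.mul 0 4)) (Nat.add (Nat.add (Nat.mul 0 (y 21)) (Nat.mul 4 4)) (0))) 0)) (and (Nat.beq (Nat.add (Nat.add (Nat.add (Nat.mul 2 (y 0)) (Nat.mul 0 4)) (Nat.add (Nat.add (Nat.mul 2 (y 1)) (Nat.mul 0 4)) (Nat.add (Nat.add (Nat.mul 2 (y 2))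 (Nat.mul 0 4)) (Nat.add (Nat.add (Nat.mul 2 (y 6)) (Nat.mul 0 4)) (Nat.add (Nat.add (Nat.mul 2 (y 7)) (Nat.mul 0 4)) (Nat.add (Nat.add (Nat.mul 2 (y 19)) (Nat.mul 0 4)) (Nat.add (Nat.add (Nat.mul 0 (y 21)) (Nat.mul 2 4)) (Nat.add (Nat.add (Nat.mul 0 (y 23)) (Nat.mul 2 4)) (0))))))))) 0) (Nat.add (Nat.add (Nat.add (Nat.mul 0 (y 0)) (Nat.mul 2 4)) (Nat.add (Nat.add (Nat.mul 0 (y 1)) (Nat.mul 2 4)) (Nat.add (Nat.add (Nat.mul 0 (y 2)) (Nat.mul 2 4)) (Nat.add (Nat.add (Nat.mul 0 (y 6)) (Nat.mul 2 4)) (Nat.add (Nat.add (Nat.mul 0 (y 7)) (Nat.mul 2 4)) (Nat.add (Nat.add (Nat.mul 0 (y 19)) (Nat.mul 2 4)) (Nat.add (Nat.add (Nat.mul 2 (y 21)) (Nat.mul 0 4)) (Nat.add (Nat.add (Nat.mul 2 (y 23)) (Nat.mul 0 4)) (0))))))))) 8)) (and (Nat.beq (Nat.add (Nat.add (Nat.add (Nat.mul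 0 (y 0)) (Nat.mul 2 4)) (Nat.add (Nat.add (Nat.mul 0 (y 1)) (Nat.mul 2 4)) (Nat.add (Nat.add (Nat.mul 0 (y 2)) (Nat.mul 2 4)) (Nat.add (Nat.add (Nat.mul 0 (y 6)) (Nat.mul 2 4)) (Nat.add (Nat.add (Nat.mul 0 (y 7)) (Nat.mul 2 4)) (Nat.add (Nat.add (Nat.mul 2 (y 19)) (Nat.mul 0 4)) (Nat.add (Nat.add (Nat.mul 0 (y 21)) (Nat.mul 2 4)) (Nat.add (Nat.add (Nat.mul 2 (y 23)) (Nat.mul 0 4)) (0))))))))) 8) (Nat.add (Nat.add (Nat.add (Nat.mul 2 (y 0)) (Nat.mul 0 4)) (Nat.add (Nat.add (Nat.mul 2 (y 1)) (Nat.mul 0 4)) (Nat.add (Nat.add (Nat.mul 2 (y 2)) (Nat.mul 0 4)) (Nat.add (Nat.add (Nat.mul 2 (y 6)) (Nat.mul 0 4)) (Nat.add (Nat.add (Nat.mul 2 (y 7)) (Nat.mul 0 4)) (Nat.add (Nat.add (Nat.mul 0 (y 19)) (Nat.mul 2 4)) (Nat.add (Nat.add (Nat.mul 2 (y 21)) (Nat.mul 0 4)) (Nat.add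 (Nat.add (Nat.mul 0 (y 23)) (Nat.mul 2 4)) (0))))))))) 0)) (and (Nat.beq (Nat.add (Nat.add (Nat.add (Nat.mul 4 (y 0)) (Nat.mul 0 4)) (Nat.add (Nat.add (Nat.mul 4 (y 3)) (Nat.mul 0 4)) (0))) 0) (Nat.add (Nat.add (Nat.add (Nat.mul 0 (y 0)) (Nat.mul 4 4)) (Nat.add (Nat.add (Nat.mul 0 (y 3)) (Nat.mul 4 4)) (0))) 16)) (and (Nat.beq (Nat.add (Nat.add (Nat.add (Nat.mul 0 (y 0)) (Nat.mul 2 4)) (Nat.add (Nat.add (Nat.mul 0 (y 1)) (Nat.mul 2 4)) (Nat.add (Nat.add (Nat.mul 0 (y 3)) (Nat.mul 2 4)) (Nat.add (Nat.add (Nat.mul 0 (y 7)) (Nat.mul 2 4)) (Nat.add (Nat.add (Nat.mul 0 (y 8)) (Nat.mul 2 4)) (Nat.add (Nat.add (Nat.mul 2 (y 11)) (Nat.mul 0 4)) (Nat.add (Nat.add (Nat.mul 0 (y 14)) (Nat.mul 2 4)) (Nat.add (Nat.add (Nat.mul 2 (y 21)) (Nat.mul 0 4)) (0))))))))) 8) (Nat.add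 (Nat.add (Nat.add (Nat.mul 2 (y 0)) (Nat.mul 0 4)) (Nat.add (Nat.add (Nat.mul 2 (y 1)) (Nat.mul 0 4)) (Nat.add (Nat.add (Nat.mul 2 (y 3)) (Nat.mul 0 4)) (Nat.add (Nat.add (Nat.mul 2 (y 7)) (Nat.mul 0 4)) (Nat.add (Nat.add (Nat.mul 2 (y 8)) (Nat.mul 0 4)) (Nat.add (Nat.add (Nat.mul 0 (y 11)) (Nat.mul 2 4)) (Nat.add (Nat.add (Nat.mul 2 (y 14)) (Nat.mul 0 4)) (Nat.add (Nat.add (Nat.mul 0 (y 21)) (Nat.mul 2 4)) (0))))))))) 0)) (and (Nat.beq (Nat.add (Nat.add (Nat.add (Nat.mul 2 (y 1)) (Nat.mul 0 4)) (Nat.add (Nat.add (Nat.mul 2 (y 2)) (Nat.mul 0 4)) (Nat.add (Nat.add (Nat.mul 0 (y 4)) (Nat.mul 2 4)) (Nat.add (Nat.add (Nat.mul 2 (y 7)) (Nat.mul 0 4)) (Nat.add (Nat.add (Nat.mul 0 (y 9)) (Nat.mul 2 4)) (Nat.add (Nat.add (Nat.mul 0 (y 11)) (Nat.mul 2 4)) (Nat.add (Nat.add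 (Nat.mul 2 (y 14)) (Nat.mul 0 4)) (Nat.add (Nat.add (Nat.mul 0 (y 23)) (Nat.mul 2 4)) (0))))))))) 8) (Nat.add (Nat.add (Nat.add (Nat.mul 0 (y 1)) (Nat.mul 2 4)) (Nat.add (Nat.add (Nat.mul 0 (y 2)) (Nat.mul 2 4)) (Nat.add (Nat.add (Nat.mul 2 (y 4)) (Nat.mul 0 4)) (Nat.add (Nat.add (Nat.mul 0 (y 7)) (Nat.mul 2 4)) (Nat.add (Nat.add (Nat.mul 2 (y 9)) (Nat.mul 0 4)) (Nat.add (Nat.add (Nat.mul 2 (y 11)) (Nat.mul 0 4)) (Nat.add (Nat.add (Nat.mul 0 (y 14)) (Nat.mul 2 4)) (Nat.add (Nat.add (Nat.mul 2 (y 23)) (Nat.mul 0 4)) (0))))))))) 0)) (and (Nat.beq (Nat.add (Nat.add (Nat.add (Nat.mul 0 (y 1)) (Nat.mul 2 4)) (Nat.add (Nat.add (Nat.mul 0 (y 2)) (Nat.mul 2 4)) (Nat.add (Nat.add (Nat.mul 2 (y 8)) (Nat.mul 0 4)) (Nat.add (Nat.add (Nat.mul 2 (y 9)) (Nat.mul 0 4)) (Nat.add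 (Nat.add (Nat.mul 2 (y 11)) (Nat.mul 0 4)) (Nat.add (Nat.add (Nat.mul 2 (y 19)) (Nat.mul 0 4)) (Nat.add (Nat.add (Nat.mul 0 (y 20)) (Nat.mul 2 4)) (Nat.add (Nat.add (Nat.mul 0 (y 21)) (Nat.mul 2 4)) (0))))))))) 0) (Nat.add (Nat.add (Nat.add (Nat.mul 2 (y 1)) (Nat.mul 0 4)) (Nat.add (Nat.add (Nat.mul 2 (y 2)) (Nat.mul 0 4)) (Nat.add (Nat.add (Nat.mul 0 (y 8)) (Nat.mul 2 4)) (Nat.add (Nat.add (Nat.mul 0 (y 9)) (Nat.mul 2 4)) (Nat.add (Nat.add (Nat.mul 0 (y 11)) (Nat.mul 2 4)) (Nat.add (Nat.add (Nat.mul 0 (y 19)) (Nat.mul 2 4)) (Nat.add (Nat.add (Nat.mul 2 (y 20)) (Nat.mul 0 4)) (Nat.add (Nat.add (Nat.mul 2 (y 21)) (Nat.mul 0 4)) (0))))))))) 0)) (true))))))))))))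

theorem E3_eq (y : ℕ → ℕ) : condsB Cn3 y = E3 y := rfl

/-- The sparse conditions at level 4. -/
def Cn4 : List (SP × ℕ × ℕ) := [([(0,4,0),(1,4,0)],0,0),([(1,0,4),(7,0,4)],0,0),([(0,0,2),(1,2,0),(2,2,0),(6,0,2),(7,2,0),(19,0,2),(21,2,0),(23,0,2)],0,8),([(0,2,0),(1,0,2),(2,0,2),(6,2,0),(7,2,0),(19,2,0),(21,0,2),(23,0,2)],0,0),([(0,4,0),(1,0,4)],0,0),([(0,0,4),(21,4,0)],0,0),([(0,2,0),(1,2,0),(2,2,0),(6,2,0),(7,2,0),(19,2,0),(21,0,2),(23,0,2)],0,0),([(0,0,2),(1,0,2),(2,0,2),(6,0,2),(7,0,2),(19,2,0),(21,0,2),(23,2,0)],8,0),([(0,4,0),(3,4,0)],8,0),([(0,0,2),(1,0,2),(3,0,2),(7,0,2),(8,0,2),(11,2,0),(14,0,2),(21,2,0)],0,8),([(1,2,0),(2,2,0),(4,0,2),(7,2,0),(9,0,2),(11,0,2),(14,2,0),(23,0,2)],0,0),([(1,0,2),(2,0,2),(8,2,0),(9,2,0),(11,2,0),(19,2,0),(20,0,2),(21,0,2)],0,0),([(0,4,0),(4,4,0)],0,0),([(0,0,2),(1,0,2),(3,2,0),(7,0,2),(8,0,2),(11,0,2),(14,0,2),(21,2,0)],0,0),([(1,2,0),(2,2,0),(4,0,2),(7,2,0),(9,0,2),(11,2,0),(14,0,2),(23,0,2)],0,8),([(1,0,2),(2,0,2),(3,0,2),(4,0,2),(14,2,0),(19,2,0),(21,0,2),(22,0,2)],0,0)]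

theorem Cn4_eq : toCn (Cond 4) = Cn4 := by decide +kernel

/-- The explicit test at level 4. -/
def E4 (y : ℕ → ℕ) : Bool := and (Nat.beq (Nat.add (Nat.add (Nat.add (Nat.mul 4 (y 0)) (Nat.mul 0 4)) (Nat.add (Nat.add (Nat.mul 4 (y 1)) (Nat.mul 0 4)) (0))) 0) (Nat.add (Nat.add (Nat.add (Nat.mul 0 (y 0)) (Nat.mul 4 4)) (Nat.add (Nat.add (Nat.mul 0 (y 1)) (Nat.mul 4 4)) (0))) 0)) (and (Nat.beq (Nat.add (Nat.add (Nat.add (Nat.mul 0 (y 1)) (Nat.mul 4 4)) (Nat.add (Nat.add (Nat.mul 0 (y 7)) (Nat.mul 4 4)) (0))) 0) (Nat.add (Nat.add (Nat.add (Nat.mul 4 (y 1)) (Nat.mul 0 4)) (Nat.add (Nat.add (Nat.mul 4 (y 7)) (Nat.mul 0 4)) (0))) 0)) (and (Nat.beq (Nat.add (Nat.add (Nat.add (Nat.mul 0 (y 0)) (Nat.mul 2 4)) (Nat.add (Nat.add (Nat.mul 2 (y 1)) (Nat.mul 0 4)) (Nat.add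 (Nat.add (Nat.mul 2 (y 2)) (Nat.mul 0 4)) (Nat.add (Nat.add (Nat.mul 0 (y 6)) (Nat.mul 2 4)) (Nat.add (Nat.add (Nat.mul 2 (y 7)) (Nat.mul 0 4)) (Nat.add (Nat.add (Nat.mul 0 (y 19)) (Nat.mul 2 4)) (Nat.add (Nat.add (Nat.mul 2 (y 21)) (Nat.mul 0 4)) (Nat.add (Nat.add (Nat.mul 0 (y 23)) (Nat.mul 2 4)) (0))))))))) 8) (Nat.add (Nat.add (Nat.add (Nat.mul 2 (y 0)) (Nat.mul 0 4)) (Nat.add (Nat.add (Nat.mul 0 (y 1)) (Nat.mul 2 4)) (Nat.add (Nat.add (Nat.mul 0 (y 2)) (Nat.mul 2 4)) (Nat.add (Nat.add (Nat.mul 2 (y 6)) (Nat.mul 0 4)) (Nat.add (Nat.add (Nat.mul 0 (y 7)) (Nat.mul 2 4)) (Nat.add (Nat.add (Nat.mul 2 (y 19)) (Nat.mul 0 4)) (Nat.add (Nat.add (Nat.mul 0 (y 21)) (Nat.mul 2 4)) (Nat.add (Nat.add (Nat.mul 2 (y 23)) (Nat.mul 0 4)) (0))))))))) 0)) (and (Nat.beq (Nat.add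 (Nat.add (Nat.add (Nat.mul 2 (y 0)) (Nat.mul 0 4)) (Nat.add (Nat.add (Nat.mul 0 (y 1)) (Nat.mul 2 4)) (Nat.add (Nat.add (Nat.mul 0 (y 2)) (Nat.mul 2 4)) (Nat.add (Nat.add (Nat.mul 2 (y 6)) (Nat.mul 0 4)) (Nat.add (Nat.add (Nat.mul 2 (y 7)) (Nat.mul 0 4)) (Nat.add (Nat.add (Nat.mul 2 (y 19)) (Nat.mul 0 4)) (Nat.add (Nat.add (Nat.mul 0 (y 21)) (Nat.mul 2 4)) (Nat.add (Nat.add (Nat.mul 0 (y 23)) (Nat.mul 2 4)) (0))))))))) 0) (Nat.add (Nat.add (Nat.add (Nat.mul 0 (y 0)) (Nat.mul 2 4)) (Nat.add (Nat.add (Nat.mul 2 (y 1)) (Nat.mul 0 4)) (Nat.add (Nat.add (Nat.mul 2 (y 2)) (Nat.mul 0 4)) (Nat.add (Nat.add (Nat.mul 0 (y 6)) (Nat.mul 2 4)) (Nat.add (Nat.add (Nat.mul 0 (y 7)) (Nat.mul 2 4)) (Nat.add (Nat.add (Nat.mul 0 (y 19)) (Nat.mul 2 4)) (Nat.add (Nat.add (Nat.mul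 2 (y 21)) (Nat.mul 0 4)) (Nat.add (Nat.add (Nat.mul 2 (y 23)) (Nat.mul 0 4)) (0))))))))) 0)) (and (Nat.beq (Nat.add (Nat.add (Nat.add (Nat.mul 4 (y 0)) (Nat.mul 0 4)) (Nat.add (Nat.add (Nat.mul 0 (y 1)) (Nat.mul 4 4)) (0))) 0) (Nat.add (Nat.add (Nat.add (Nat.mul 0 (y 0)) (Nat.mul 4 4)) (Nat.add (Nat.add (Nat.mul 4 (y 1)) (Nat.mul 0 4)) (0))) 0)) (and (Nat.beq (Nat.add (Nat.add (Nat.add (Nat.mul 0 (y 0)) (Nat.mul 4 4)) (Nat.add (Nat.add (Nat.mul 4 (y 21)) (Nat.mul 0 4)) (0))) 0) (Nat.add (Nat.add (Nat.add (Nat.mul 4 (y 0)) (Nat.mul 0 4)) (Nat.add (Nat.add (Nat.mul 0 (y 21)) (Nat.mul 4 4)) (0))) 0)) (and (Nat.beq (Nat.add (Nat.add (Nat.add (Nat.mul 2 (y 0)) (Nat.mul 0 4)) (Nat.add (Nat.add (Nat.mul 2 (y 1)) (Nat.mul 0 4)) (Nat.add (Nat.add (Nat.mul 2 (y 2)) (Nat.mul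 0 4)) (Nat.add (Nat.add (Nat.mul 2 (y 6)) (Nat.mul 0 4)) (Nat.add (Nat.add (Nat.mul 2 (y 7)) (Nat.mul 0 4)) (Nat.add (Nat.add (Nat.mul 2 (y 19)) (Nat.mul 0 4)) (Nat.add (Nat.add (Nat.mul 0 (y 21)) (Nat.mul 2 4)) (Nat.add (Nat.add (Nat.mul 0 (y 23)) (Nat.mul 2 4)) (0))))))))) 0) (Nat.add (Nat.add (Nat.add (Nat.mul 0 (y 0)) (Nat.mul 2 4)) (Nat.add (Nat.add (Nat.mul 0 (y 1)) (Nat.mul 2 4)) (Nat.add (Nat.add (Nat.mul 0 (y 2)) (Nat.mul 2 4)) (Nat.add (Nat.add (Nat.mul 0 (y 6)) (Nat.mul 2 4)) (Nat.add (Nat.add (Nat.mul 0 (y 7)) (Nat.mul 2 4)) (Nat.add (Nat.add (Nat.mul 0 (y 19)) (Nat.mul 2 4)) (Nat.add (Nat.add (Nat.mul 2 (y 21)) (Nat.mul 0 4)) (Nat.add (Nat.add (Nat.mul 2 (y 23)) (Nat.mul 0 4)) (0))))))))) 0)) (and (Nat.beq (Nat.add (Nat.add (Nat.add (Nat.mul 0 (y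 0)) (Nat.mul 2 4)) (Nat.add (Nat.add (Nat.mul 0 (y 1)) (Nat.mul 2 4)) (Nat.add (Nat.add (Nat.mul 0 (y 2)) (Nat.mul 2 4)) (Nat.add (Nat.add (Nat.mul 0 (y 6)) (Nat.mul 2 4)) (Nat.add (Nat.add (Nat.mul 0 (y 7)) (Nat.mul 2 4)) (Nat.add (Nat.add (Nat.mul 2 (y 19)) (Nat.mul 0 4)) (Nat.add (Nat.add (Nat.mul 0 (y 21)) (Nat.mul 2 4)) (Nat.add (Nat.add (Nat.mul 2 (y 23)) (Nat.mul 0 4)) (0))))))))) 0) (Nat.add (Nat.add (Nat.add (Nat.mul 2 (y 0)) (Nat.mul 0 4)) (Nat.add (Nat.add (Nat.mul 2 (y 1)) (Nat.mul 0 4)) (Nat.add (Nat.add (Nat.mul 2 (y 2)) (Nat.mul 0 4)) (Nat.add (Nat.add (Nat.mul 2 (y 6)) (Nat.mul 0 4)) (Nat.add (Nat.add (Nat.mul 2 (y 7)) (Nat.mul 0 4)) (Nat.add (Nat.add (Nat.mul 0 (y 19)) (Nat.mul 2 4)) (Nat.add (Nat.add (Nat.mul 2 (y 21)) (Nat.mul 0 4)) (Nat.add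 (Nat.add (Nat.mul 0 (y 23)) (Nat.mul 2 4)) (0))))))))) 8)) (and (Nat.beq (Nat.add (Nat.add (Nat.add (Nat.mul 4 (y 0)) (Nat.mul 0 4)) (Nat.add (Nat.add (Nat.mul 4 (y 3)) (Nat.mul 0 4)) (0))) 0) (Nat.add (Nat.add (Nat.add (Nat.mul 0 (y 0)) (Nat.mul 4 4)) (Nat.add (Nat.add (Nat.mul 0 (y 3)) (Nat.mul 4 4)) (0))) 8)) (and (Nat.beq (Nat.add (Nat.add (Nat.add (Nat.mul 0 (y 0)) (Nat.mul 2 4)) (Nat.add (Nat.add (Nat.mul 0 (y 1)) (Nat.mul 2 4)) (Nat.add (Nat.add (Nat.mul 0 (y 3)) (Nat.mul 2 4)) (Nat.add (Nat.add (Nat.mul 0 (y 7)) (Nat.mul 2 4)) (Nat.add (Nat.add (Nat.mul 0 (y 8)) (Nat.mul 2 4)) (Nat.add (Nat.add (Nat.mul 2 (y 11)) (Nat.mul 0 4)) (Nat.add (Nat.add (Nat.mul 0 (y 14)) (Nat.mul 2 4)) (Nat.add (Nat.add (Nat.mul 2 (y 21)) (Nat.mul 0 4)) (0))))))))) 8) (Nat.add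 (Nat.add (Nat.add (Nat.mul 2 (y 0)) (Nat.mul 0 4)) (Nat.add (Nat.add (Nat.mul 2 (y 1)) (Nat.mul 0 4)) (Nat.add (Nat.add (Nat.mul 2 (y 3)) (Nat.mul 0 4)) (Nat.add (Nat.add (Nat.mul 2 (y 7)) (Nat.mul 0 4)) (Nat.add (Nat.add (Nat.mul 2 (y 8)) (Nat.mul 0 4)) (Nat.add (Nat.add (Nat.mul 0 (y 11)) (Nat.mul 2 4)) (Nat.add (Nat.add (Nat.mul 2 (y 14)) (Nat.mul 0 4)) (Nat.add (Nat.add (Nat.mul 0 (y 21)) (Nat.mul 2 4)) (0))))))))) 0)) (and (Nat.beq (Nat.add (Nat.add (Nat.add (Nat.mul 2 (y 1)) (Nat.mul 0 4)) (Nat.add (Nat.add (Nat.mul 2 (y 2)) (Nat.mul 0 4)) (Nat.add (Nat.add (Nat.mul 0 (y 4)) (Nat.mul 2 4)) (Nat.add (Nat.add (Nat.mul 2 (y 7)) (Nat.mul 0 4)) (Nat.add (Nat.add (Nat.mul 0 (y 9)) (Nat.mul 2 4)) (Nat.add (Nat.add (Nat.mul 0 (y 11)) (Nat.mul 2 4)) (Nat.add (Nat.add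 (Nat.mul 2 (y 14)) (Nat.mul 0 4)) (Nat.add (Nat.add (Nat.mul 0 (y 23)) (Nat.mul 2 4)) (0))))))))) 0) (Nat.add (Nat.add (Nat.add (Nat.mul 0 (y 1)) (Nat.mul 2 4)) (Nat.add (Nat.add (Nat.mul 0 (y 2)) (Nat.mul 2 4)) (Nat.add (Nat.add (Nat.mul 2 (y 4)) (Nat.mul 0 4)) (Nat.add (Nat.add (Nat.mul 0 (y 7)) (Nat.mul 2 4)) (Nat.add (Nat.add (Nat.mul 2 (y 9)) (Nat.mul 0 4)) (Nat.add (Nat.add (Nat.mul 2 (y 11)) (Nat.mul 0 4)) (Nat.add (Nat.add (Nat.mul 0 (y 14)) (Nat.mul 2 4)) (Nat.add (Nat.add (Nat.mul 2 (y 23)) (Nat.mul 0 4)) (0))))))))) 0)) (and (Nat.beq (Nat.add (Nat.add (Nat.add (Nat.mul 0 (y 1)) (Nat.mul 2 4)) (Nat.add (Nat.add (Nat.mul 0 (y 2)) (Nat.mul 2 4)) (Nat.add (Nat.add (Nat.mul 2 (y 8)) (Nat.mul 0 4)) (Nat.add (Nat.add (Nat.mul 2 (y 9)) (Nat.mul 0 4)) (Nat.add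 (Nat.add (Nat.mul 2 (y 11)) (Nat.mul 0 4)) (Nat.add (Nat.add (Nat.mul 2 (y 19)) (Nat.mul 0 4)) (Nat.add (Nat.add (Nat.mul 0 (y 20)) (Nat.mul 2 4)) (Nat.add (Nat.add (Nat.mul 0 (y 21)) (Nat.mul 2 4)) (0))))))))) 0) (Nat.add (Nat.add (Nat.add (Nat.mul 2 (y 1)) (Nat.mul 0 4)) (Nat.add (Nat.add (Nat.mul 2 (y 2)) (Nat.mul 0 4)) (Nat.add (Nat.add (Nat.mul 0 (y 8)) (Nat.mul 2 4)) (Nat.add (Nat.add (Nat.mul 0 (y 9)) (Nat.mul 2 4)) (Nat.add (Nat.add (Nat.mul 0 (y 11)) (Nat.mul 2 4)) (Nat.add (Nat.add (Nat.mul 0 (y 19)) (Nat.mul 2 4)) (Nat.add (Nat.add (Nat.mul 2 (y 20)) (Nat.mul 0 4)) (Nat.add (Nat.add (Nat.mul 2 (y 21)) (Nat.mul 0 4)) (0))))))))) 0)) (and (Nat.beq (Nat.add (Nat.add (Nat.add (Nat.mul 4 (y 0)) (Nat.mul 0 4)) (Nat.add (Nat.add (Nat.mul 4 (y 4)) (Nat.mul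 0 4)) (0))) 0) (Nat.add (Nat.add (Nat.add (Nat.mul 0 (y 0)) (Nat.mul 4 4)) (Nat.add (Nat.add (Nat.mul 0 (y 4)) (Nat.mul 4 4)) (0))) 0)) (and (Nat.beq (Nat.add (Nat.add (Nat.add (Nat.mul 0 (y 0)) (Nat.mul 2 4)) (Nat.add (Nat.add (Nat.mul 0 (y 1)) (Nat.mul 2 4)) (Nat.add (Nat.add (Nat.mul 2 (y 3)) (Nat.mul 0 4)) (Nat.add (Nat.add (Nat.mul 0 (y 7)) (Nat.mul 2 4)) (Nat.add (Nat.add (Nat.mul 0 (y 8)) (Nat.mul 2 4)) (Nat.add (Nat.add (Nat.mul 0 (y 11)) (Nat.mul 2 4)) (Nat.add (Nat.add (Nat.mul 0 (y 14)) (Nat.mul 2 4)) (Nat.add (Nat.add (Nat.mul 2 (y 21)) (Nat.mul 0 4)) (0))))))))) 0) (Nat.add (Nat.add (Nat.add (Nat.mul 2 (y 0)) (Nat.mul 0 4)) (Nat.add (Nat.add (Nat.mul 2 (y 1)) (Nat.mul 0 4)) (Nat.add (Nat.add (Nat.mul 0 (y 3)) (Nat.mul 2 4)) (Nat.add (Nat.add (Nat.mul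 2 (y 7)) (Nat.mul 0 4)) (Nat.add (Nat.add (Nat.mul 2 (y 8)) (Nat.mul 0 4)) (Nat.add (Nat.add (Nat.mul 2 (y 11)) (Nat.mul 0 4)) (Nat.add (Nat.add (Nat.mul 2 (y 14)) (Nat.mul 0 4)) (Nat.add (Nat.add (Nat.mul 0 (y 21)) (Nat.mul 2 4)) (0))))))))) 0)) (and (Nat.beq (Nat.add (Nat.add (Nat.add (Nat.mul 2 (y 1)) (Nat.mul 0 4)) (Nat.add (Nat.add (Nat.mul 2 (y 2)) (Nat.mul 0 4)) (Nat.add (Nat.add (Nat.mul 0 (y 4)) (Nat.mul 2 4)) (Nat.add (Nat.add (Nat.mul 2 (y 7)) (Nat.mul 0 4)) (Nat.add (Nat.add (Nat.mul 0 (y 9)) (Nat.mul 2 4)) (Nat.add (Nat.add (Nat.mul 2 (y 11)) (Nat.mul 0 4)) (Nat.add (Nat.add (Nat.mul 0 (y 14)) (Nat.mul 2 4)) (Nat.add (Nat.add (Nat.mul 0 (y 23)) (Nat.mul 2 4)) (0))))))))) 8) (Nat.add (Nat.add (Nat.add (Nat.mul 0 (y 1)) (Nat.mul 2 4)) (Nat.add (Nat.add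 (Nat.mul 0 (y 2)) (Nat.mul 2 4)) (Nat.add (Nat.add (Nat.mul 2 (y 4)) (Nat.mul 0 4)) (Nat.add (Nat.add (Nat.mul 0 (y 7)) (Nat.mul 2 4)) (Nat.add (Nat.add (Nat.mul 2 (y 9)) (Nat.mul 0 4)) (Nat.add (Nat.add (Nat.mul 0 (y 11)) (Nat.mul 2 4)) (Nat.add (Nat.add (Nat.mul 2 (y 14)) (Nat.mul 0 4)) (Nat.add (Nat.add (Nat.mul 2 (y 23)) (Nat.mul 0 4)) (0))))))))) 0)) (and (Nat.beq (Nat.add (Nat.add (Nat.add (Nat.mul 0 (y 1)) (Nat.mul 2 4)) (Nat.add (Nat.add (Nat.mul 0 (y 2)) (Nat.mul 2 4)) (Nat.add (Nat.add (Nat.mul 0 (y 3)) (Nat.mul 2 4)) (Nat.add (Nat.add (Nat.mul 0 (y 4)) (Nat.mul 2 4)) (Nat.add (Nat.add (Nat.mul 2 (y 14)) (Nat.mul 0 4)) (Nat.add (Nat.add (Nat.mul 2 (y 19)) (Nat.mul 0 4)) (Nat.add (Nat.add (Nat.mul 0 (y 21)) (Nat.mul 2 4)) (Nat.add (Nat.add (Nat.mul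 0 (y 22)) (Nat.mul 2 4)) (0))))))))) 0) (Nat.add (Nat.add (Nat.add (Nat.mul 2 (y 1)) (Nat.mul 0 4)) (Nat.add (Nat.add (Nat.mul 2 (y 2)) (Nat.mul 0 4)) (Nat.add (Nat.add (Nat.mul 2 (y 3)) (Nat.mul 0 4)) (Nat.add (Nat.add (Nat.mul 2 (y 4)) (Nat.mul 0 4)) (Nat.add (Nat.add (Nat.mul 0 (y 14)) (Nat.mul 2 4)) (Nat.add (Nat.add (Nat.mul 0 (y 19)) (Nat.mul 2 4)) (Nat.add (Nat.add (Nat.mul 2 (y 21)) (Nat.mul 0 4)) (Nat.add (Nat.add (Nat.mul 2 (y 22)) (Nat.mul 0 4)) (0))))))))) 0)) (true))))))))))))))))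

theorem E4_eq (y : ℕ → ℕ) : condsB Cn4 y = E4 y := rfl

/-- The sparse conditions at level 5. -/
def Cn5 : List (SP × ℕ × ℕ) := [([(0,4,0),(1,4,0)],16,0),([(1,0,4),(7,0,4)],0,0),([(0,0,2),(1,2,0),(2,2,0),(6,0,2),(7,2,0),(19,0,2),(21,2,0),(23,0,2)],0,8),([(0,2,0),(1,0,2),(2,0,2),(6,2,0),(7,2,0),(19,2,0),(21,0,2),(23,0,2)],8,0),([(0,4,0),(1,0,4)],16,0),([(0,0,4),(21,4,0)],0,16),([(0,2,0),(1,2,0),(2,2,0),(6,2,0),(7,2,0),(19,2,0),(21,0,2),(23,0,2)],8,0),([(0,0,2),(1,0,2),(2,0,2),(6,0,2),(7,0,2),(19,2,0),(21,0,2),(23,2,0)],0,8),([(0,4,0),(3,4,0)],16,0),([(0,0,2),(1,0,2),(3,0,2),(7,0,2),(8,0,2),(11,2,0),(14,0,2),(21,2,0)],0,8),([(1,2,0),(2,2,0),(4,0,2),(7,2,0),(9,0,2),(11,0,2),(14,2,0),(23,0,2)],0,0),([(1,0,2),(2,0,2),(8,2,0),(9,2,0),(11,2,0),(19,2,0),(20,0,2),(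21,0,2)],0,0),([(0,4,0),(4,4,0)],16,0),([(0,0,2),(1,0,2),(3,2,0),(7,0,2),(8,0,2),(11,0,2),(14,0,2),(21,2,0)],0,8),([(1,2,0),(2,2,0),(4,0,2),(7,2,0),(9,0,2),(11,2,0),(14,0,2),(23,0,2)],0,0),([(1,0,2),(2,0,2),(3,0,2),(4,0,2),(14,2,0),(19,2,0),(21,0,2),(22,0,2)],0,0),([(3,2,0),(5,2,0),(12,2,0),(14,2,0),(19,2,0),(20,2,0),(22,2,0),(23,2,0)],8,0),([(1,2,0),(4,2,0),(7,0,2),(8,0,2),(11,2,0),(12,0,2),(17,2,0),(20,0,2)],0,0),([(0,1,0),(1,0,1),(2,1,0),(3,0,1),(4,0,1),(5,0,1),(6,0,1),(7,0,1),(8,0,1),(9,0,1),(10,1,0),(11,0,3),(12,1,0),(13,0,1),(14,0,1),(15,1,0),(16,1,0),(17,0,1),(18,0,1),(19,0,1),(20,0,1),(21,0,1),(22,1,0),(23,0,1)],0,0),([(0,0,1),(1,0,1),(2,0,1),(3,1,0),(4,0,1),(5,1,0),(6,0,1),(7,1,0),(8,3,0),(9,0,1),(10,0,1),(11,1,0),(12,0,1),(13,1,0),(14,0,1),(15,0,1),(16,1,0),(17,0,1),(18,1,0),(19,0,1),(20,0,1),(21,1,0),(22,0,1),(23,0,1)],0,0)]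

theorem Cn5_eq : toCn (Cond 5) = Cn5 := by decide +kernel

/-- The explicit test at level 5. -/
def E5 (y : ℕ → ℕ) : Bool := and (Nat.beq (Nat.add (Nat.add (Nat.add (Nat.mul 4 (y 0)) (Nat.mul 0 4)) (Nat.add (Nat.add (Nat.mul 4 (y 1)) (Nat.mul 0 4)) (0))) 0) (Nat.add (Nat.add (Nat.add (Nat.mul 0 (y 0)) (Nat.mul 4 4)) (Nat.add (Nat.add (Nat.mul 0 (y 1)) (Nat.mul 4 4)) (0))) 16)) (and (Nat.beq (Nat.add (Nat.add (Nat.add (Nat.mul 0 (y 1)) (Nat.mul 4 4)) (Nat.add (Nat.add (Nat.mul 0 (y 7)) (Nat.mul 4 4)) (0))) 0) (Nat.add (Nat.add (Nat.add (Nat.mul 4 (y 1)) (Nat.mul 0 4)) (Nat.add (Nat.add (Nat.mul 4 (y 7)) (Nat.mul 0 4)) (0))) 0)) (and (Nat.beq (Nat.add (Nat.add (Nat.add (Nat.mul 0 (y 0)) (Nat.mul 2 4)) (Nat.add (Nat.add (Nat.mul 2 (y 1)) (Nat.mul 0 4)) (Nat.add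 (Nat.add (Nat.mul 2 (y 2)) (Nat.mul 0 4)) (Nat.add (Nat.add (Nat.mul 0 (y 6)) (Nat.mul 2 4)) (Nat.add (Nat.add (Nat.mul 2 (y 7)) (Nat.mul 0 4)) (Nat.add (Nat.add (Nat.mul 0 (y 19)) (Nat.mul 2 4)) (Nat.add (Nat.add (Nat.mul 2 (y 21)) (Nat.mul 0 4)) (Nat.add (Nat.add (Nat.mul 0 (y 23)) (Nat.mul 2 4)) (0))))))))) 8) (Nat.add (Nat.add (Nat.add (Nat.mul 2 (y 0)) (Nat.mul 0 4)) (Nat.add (Nat.add (Nat.mul 0 (y 1)) (Nat.mul 2 4)) (Nat.add (Nat.add (Nat.mul 0 (y 2)) (Nat.mul 2 4)) (Nat.add (Nat.add (Nat.mul 2 (y 6)) (Nat.mul 0 4)) (Nat.add (Nat.add (Nat.mul 0 (y 7)) (Nat.mul 2 4)) (Nat.add (Nat.add (Nat.mul 2 (y 19)) (Nat.mul 0 4)) (Nat.add (Nat.add (Nat.mul 0 (y 21)) (Nat.mul 2 4)) (Nat.add (Nat.add (Nat.mul 2 (y 23)) (Nat.mul 0 4)) (0))))))))) 0)) (and (Nat.beq (Nat.add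 (Nat.add (Nat.add (Nat.mul 2 (y 0)) (Nat.mul 0 4)) (Nat.add (Nat.add (Nat.mul 0 (y 1)) (Nat.mul 2 4)) (Nat.add (Nat.add (Nat.mul 0 (y 2)) (Nat.mul 2 4)) (Nat.add (Nat.add (Nat.mul 2 (y 6)) (Nat.mul 0 4)) (Nat.add (Nat.add (Nat.mul 2 (y 7)) (Nat.mul 0 4)) (Nat.add (Nat.add (Nat.mul 2 (y 19)) (Nat.mul 0 4)) (Nat.add (Nat.add (Nat.mul 0 (y 21)) (Nat.mul 2 4)) (Nat.add (Nat.add (Nat.mul 0 (y 23)) (Nat.mul 2 4)) (0))))))))) 0) (Nat.add (Nat.add (Nat.add (Nat.mul 0 (y 0)) (Nat.mul 2 4)) (Nat.add (Nat.add (Nat.mul 2 (y 1)) (Nat.mul 0 4)) (Nat.add (Nat.add (Nat.mul 2 (y 2)) (Nat.mul 0 4)) (Nat.add (Nat.add (Nat.mul 0 (y 6)) (Nat.mul 2 4)) (Nat.add (Nat.add (Nat.mul 0 (y 7)) (Nat.mul 2 4)) (Nat.add (Nat.add (Nat.mul 0 (y 19)) (Nat.mul 2 4)) (Nat.add (Nat.add (Nat.mul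 2 (y 21)) (Nat.mul 0 4)) (Nat.add (Nat.add (Nat.mul 2 (y 23)) (Nat.mul 0 4)) (0))))))))) 8)) (and (Nat.beq (Nat.add (Nat.add (Nat.add (Nat.mul 4 (y 0)) (Nat.mul 0 4)) (Nat.add (Nat.add (Nat.mul 0 (y 1)) (Nat.mul 4 4)) (0))) 0) (Nat.add (Nat.add (Nat.add (Nat.mul 0 (y 0)) (Nat.mul 4 4)) (Nat.add (Nat.add (Nat.mul 4 (y 1)) (Nat.mul 0 4)) (0))) 16)) (and (Nat.beq (Nat.add (Nat.add (Nat.add (Nat.mul 0 (y 0)) (Nat.mul 4 4)) (Nat.add (Nat.add (Nat.mul 4 (y 21)) (Nat.mul 0 4)) (0))) 16) (Nat.add (Nat.add (Nat.add (Nat.mul 4 (y 0)) (Nat.mul 0 4)) (Nat.add (Nat.add (Nat.mul 0 (y 21)) (Nat.mul 4 4)) (0))) 0)) (and (Nat.beq (Nat.add (Nat.add (Nat.add (Nat.mul 2 (y 0)) (Nat.mul 0 4)) (Nat.add (Nat.add (Nat.mul 2 (y 1)) (Nat.mul 0 4)) (Nat.add (Nat.add (Nat.mul 2 (y 2))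 (Nat.mul 0 4)) (Nat.add (Nat.add (Nat.mul 2 (y 6)) (Nat.mul 0 4)) (Nat.add (Nat.add (Nat.mul 2 (y 7)) (Nat.mul 0 4)) (Nat.add (Nat.add (Nat.mul 2 (y 19)) (Nat.mul 0 4)) (Nat.add (Nat.add (Nat.mul 0 (y 21)) (Nat.mul 2 4)) (Nat.add (Nat.add (Nat.mul 0 (y 23)) (Nat.mul 2 4)) (0))))))))) 0) (Nat.add (Nat.add (Nat.add (Nat.mul 0 (y 0)) (Nat.mul 2 4)) (Nat.add (Nat.add (Nat.mul 0 (y 1)) (Nat.mul 2 4)) (Nat.add (Nat.add (Nat.mul 0 (y 2)) (Nat.mul 2 4)) (Nat.add (Nat.add (Nat.mul 0 (y 6)) (Nat.mul 2 4)) (Nat.add (Nat.add (Nat.mul 0 (y 7)) (Nat.mul 2 4)) (Nat.add (Nat.add (Nat.mul 0 (y 19)) (Nat.mul 2 4)) (Nat.add (Nat.add (Nat.mul 2 (y 21)) (Nat.mul 0 4)) (Nat.add (Nat.add (Nat.mul 2 (y 23)) (Nat.mul 0 4)) (0))))))))) 8)) (and (Nat.beq (Nat.add (Nat.add (Nat.add (Nat.mul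 0 (y 0)) (Nat.mul 2 4)) (Nat.add (Nat.add (Nat.mul 0 (y 1)) (Nat.mul 2 4)) (Nat.add (Nat.add (Nat.mul 0 (y 2)) (Nat.mul 2 4)) (Nat.add (Nat.add (Nat.mul 0 (y 6)) (Nat.mul 2 4)) (Nat.add (Nat.add (Nat.mul 0 (y 7)) (Nat.mul 2 4)) (Nat.add (Nat.add (Nat.mul 2 (y 19)) (Nat.mul 0 4)) (Nat.add (Nat.add (Nat.mul 0 (y 21)) (Nat.mul 2 4)) (Nat.add (Nat.add (Nat.mul 2 (y 23)) (Nat.mul 0 4)) (0))))))))) 8) (Nat.add (Nat.add (Nat.add (Nat.mul 2 (y 0)) (Nat.mul 0 4)) (Nat.add (Nat.add (Nat.mul 2 (y 1)) (Nat.mul 0 4)) (Nat.add (Nat.add (Nat.mul 2 (y 2)) (Nat.mul 0 4)) (Nat.add (Nat.add (Nat.mul 2 (y 6)) (Nat.mul 0 4)) (Nat.add (Nat.add (Nat.mul 2 (y 7)) (Nat.mul 0 4)) (Nat.add (Nat.add (Nat.mul 0 (y 19)) (Nat.mul 2 4)) (Nat.add (Nat.add (Nat.mul 2 (y 21)) (Nat.mul 0 4)) (Nat.add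 (Nat.add (Nat.mul 0 (y 23)) (Nat.mul 2 4)) (0))))))))) 0)) (and (Nat.beq (Nat.add (Nat.add (Nat.add (Nat.mul 4 (y 0)) (Nat.mul 0 4)) (Nat.add (Nat.add (Nat.mul 4 (y 3)) (Nat.mul 0 4)) (0))) 0) (Nat.add (Nat.add (Nat.add (Nat.mul 0 (y 0)) (Nat.mul 4 4)) (Nat.add (Nat.add (Nat.mul 0 (y 3)) (Nat.mul 4 4)) (0))) 16)) (and (Nat.beq (Nat.add (Nat.add (Nat.add (Nat.mul 0 (y 0)) (Nat.mul 2 4)) (Nat.add (Nat.add (Nat.mul 0 (y 1)) (Nat.mul 2 4)) (Nat.add (Nat.add (Nat.mul 0 (y 3)) (Nat.mul 2 4)) (Nat.add (Nat.add (Nat.mul 0 (y 7)) (Nat.mul 2 4)) (Nat.add (Nat.add (Nat.mul 0 (y 8)) (Nat.mul 2 4)) (Nat.add (Nat.add (Nat.mul 2 (y 11)) (Nat.mul 0 4)) (Nat.add (Nat.add (Nat.mul 0 (y 14)) (Nat.mul 2 4)) (Nat.add (Nat.add (Nat.mul 2 (y 21)) (Nat.mul 0 4)) (0))))))))) 8) (Nat.add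 (Nat.add (Nat.add (Nat.mul 2 (y 0)) (Nat.mul 0 4)) (Nat.add (Nat.add (Nat.mul 2 (y 1)) (Nat.mul 0 4)) (Nat.add (Nat.add (Nat.mul 2 (y 3)) (Nat.mul 0 4)) (Nat.add (Nat.add (Nat.mul 2 (y 7)) (Nat.mul 0 4)) (Nat.add (Nat.add (Nat.mul 2 (y 8)) (Nat.mul 0 4)) (Nat.add (Nat.add (Nat.mul 0 (y 11)) (Nat.mul 2 4)) (Nat.add (Nat.add (Nat.mul 2 (y 14)) (Nat.mul 0 4)) (Nat.add (Nat.add (Nat.mul 0 (y 21)) (Nat.mul 2 4)) (0))))))))) 0)) (and (Nat.beq (Nat.add (Nat.add (Nat.add (Nat.mul 2 (y 1)) (Nat.mul 0 4)) (Nat.add (Nat.add (Nat.mul 2 (y 2)) (Nat.mul 0 4)) (Nat.add (Nat.add (Nat.mul 0 (y 4)) (Nat.mul 2 4)) (Nat.add (Nat.add (Nat.mul 2 (y 7)) (Nat.mul 0 4)) (Nat.add (Nat.add (Nat.mul 0 (y 9)) (Nat.mul 2 4)) (Nat.add (Nat.add (Nat.mul 0 (y 11)) (Nat.mul 2 4)) (Nat.add (Nat.add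 (Nat.mul 2 (y 14)) (Nat.mul 0 4)) (Nat.add (Nat.add (Nat.mul 0 (y 23)) (Nat.mul 2 4)) (0))))))))) 0) (Nat.add (Nat.add (Nat.add (Nat.mul 0 (y 1)) (Nat.mul 2 4)) (Nat.add (Nat.add (Nat.mul 0 (y 2)) (Nat.mul 2 4)) (Nat.add (Nat.add (Nat.mul 2 (y 4)) (Nat.mul 0 4)) (Nat.add (Nat.add (Nat.mul 0 (y 7)) (Nat.mul 2 4)) (Nat.add (Nat.add (Nat.mul 2 (y 9)) (Nat.mul 0 4)) (Nat.add (Nat.add (Nat.mul 2 (y 11)) (Nat.mul 0 4)) (Nat.add (Nat.add (Nat.mul 0 (y 14)) (Nat.mul 2 4)) (Nat.add (Nat.add (Nat.mul 2 (y 23)) (Nat.mul 0 4)) (0))))))))) 0)) (and (Nat.beq (Nat.add (Nat.add (Nat.add (Nat.mul 0 (y 1)) (Nat.mul 2 4)) (Nat.add (Nat.add (Nat.mul 0 (y 2)) (Nat.mul 2 4)) (Nat.add (Nat.add (Nat.mul 2 (y 8)) (Nat.mul 0 4)) (Nat.add (Nat.add (Nat.mul 2 (y 9)) (Nat.mul 0 4)) (Nat.add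 (Nat.add (Nat.mul 2 (y 11)) (Nat.mul 0 4)) (Nat.add (Nat.add (Nat.mul 2 (y 19)) (Nat.mul 0 4)) (Nat.add (Nat.add (Nat.mul 0 (y 20)) (Nat.mul 2 4)) (Nat.add (Nat.add (Nat.mul 0 (y 21)) (Nat.mul 2 4)) (0))))))))) 0) (Nat.add (Nat.add (Nat.add (Nat.mul 2 (y 1)) (Nat.mul 0 4)) (Nat.add (Nat.add (Nat.mul 2 (y 2)) (Nat.mul 0 4)) (Nat.add (Nat.add (Nat.mul 0 (y 8)) (Nat.mul 2 4)) (Nat.add (Nat.add (Nat.mul 0 (y 9)) (Nat.mul 2 4)) (Nat.add (Nat.add (Nat.mul 0 (y 11)) (Nat.mul 2 4)) (Nat.add (Nat.add (Nat.mul 0 (y 19)) (Nat.mul 2 4)) (Nat.add (Nat.add (Nat.mul 2 (y 20)) (Nat.mul 0 4)) (Nat.add (Nat.add (Nat.mul 2 (y 21)) (Nat.mul 0 4)) (0))))))))) 0)) (and (Nat.beq (Nat.add (Nat.add (Nat.add (Nat.mul 4 (y 0)) (Nat.mul 0 4)) (Nat.add (Nat.add (Nat.mul 4 (y 4)) (Nat.mul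 0 4)) (0))) 0) (Nat.add (Nat.add (Nat.add (Nat.mul 0 (y 0)) (Nat.mul 4 4)) (Nat.add (Nat.add (Nat.mul 0 (y 4)) (Nat.mul 4 4)) (0))) 16)) (and (Nat.beq (Nat.add (Nat.add (Nat.add (Nat.mul 0 (y 0)) (Nat.mul 2 4)) (Nat.add (Nat.add (Nat.mul 0 (y 1)) (Nat.mul 2 4)) (Nat.add (Nat.add (Nat.mul 2 (y 3)) (Nat.mul 0 4)) (Nat.add (Nat.add (Nat.mul 0 (y 7)) (Nat.mul 2 4)) (Nat.add (Nat.add (Nat.mul 0 (y 8)) (Nat.mul 2 4)) (Nat.add (Nat.add (Nat.mul 0 (y 11)) (Nat.mul 2 4)) (Nat.add (Nat.add (Nat.mul 0 (y 14)) (Nat.mul 2 4)) (Nat.add (Nat.add (Nat.mul 2 (y 21)) (Nat.mul 0 4)) (0))))))))) 8) (Nat.add (Nat.add (Nat.add (Nat.mul 2 (y 0)) (Nat.mul 0 4)) (Nat.add (Nat.add (Nat.mul 2 (y 1)) (Nat.mul 0 4)) (Nat.add (Nat.add (Nat.mul 0 (y 3)) (Nat.mul 2 4)) (Nat.add (Nat.add (Nat.mul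 2 (y 7)) (Nat.mul 0 4)) (Nat.add (Nat.add (Nat.mul 2 (y 8)) (Nat.mul 0 4)) (Nat.add (Nat.add (Nat.mul 2 (y 11)) (Nat.mul 0 4)) (Nat.add (Nat.add (Nat.mul 2 (y 14)) (Nat.mul 0 4)) (Nat.add (Nat.add (Nat.mul 0 (y 21)) (Nat.mul 2 4)) (0))))))))) 0)) (and (Nat.beq (Nat.add (Nat.add (Nat.add (Nat.mul 2 (y 1)) (Nat.mul 0 4)) (Nat.add (Nat.add (Nat.mul 2 (y 2)) (Nat.mul 0 4)) (Nat.add (Nat.add (Nat.mul 0 (y 4)) (Nat.mul 2 4)) (Nat.add (Nat.add (Nat.mul 2 (y 7)) (Nat.mul 0 4)) (Nat.add (Nat.add (Nat.mul 0 (y 9)) (Nat.mul 2 4)) (Nat.add (Nat.add (Nat.mul 2 (y 11)) (Nat.mul 0 4)) (Nat.add (Nat.add (Nat.mul 0 (y 14)) (Nat.mul 2 4)) (Nat.add (Nat.add (Nat.mul 0 (y 23)) (Nat.mul 2 4)) (0))))))))) 0) (Nat.add (Nat.add (Nat.add (Nat.mul 0 (y 1)) (Nat.mul 2 4)) (Nat.add (Nat.add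 (Nat.mul 0 (y 2)) (Nat.mul 2 4)) (Nat.add (Nat.add (Nat.mul 2 (y 4)) (Nat.mul 0 4)) (Nat.add (Nat.add (Nat.mul 0 (y 7)) (Nat.mul 2 4)) (Nat.add (Nat.add (Nat.mul 2 (y 9)) (Nat.mul 0 4)) (Nat.add (Nat.add (Nat.mul 0 (y 11)) (Nat.mul 2 4)) (Nat.add (Nat.add (Nat.mul 2 (y 14)) (Nat.mul 0 4)) (Nat.add (Nat.add (Nat.mul 2 (y 23)) (Nat.mul 0 4)) (0))))))))) 0)) (and (Nat.beq (Nat.add (Nat.add (Nat.add (Nat.mul 0 (y 1)) (Nat.mul 2 4)) (Nat.add (Nat.add (Nat.mul 0 (y 2)) (Nat.mul 2 4)) (Nat.add (Nat.add (Nat.mul 0 (y 3)) (Nat.mul 2 4)) (Nat.add (Nat.add (Nat.mul 0 (y 4)) (Nat.mul 2 4)) (Nat.add (Nat.add (Nat.mul 2 (y 14)) (Nat.mul 0 4)) (Nat.add (Nat.add (Nat.mul 2 (y 19)) (Nat.mul 0 4)) (Nat.add (Nat.add (Nat.mul 0 (y 21)) (Nat.mul 2 4)) (Nat.add (Nat.add (Nat.mul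 0 (y 22)) (Nat.mul 2 4)) (0))))))))) 0) (Nat.add (Nat.add (Nat.add (Nat.mul 2 (y 1)) (Nat.mul 0 4)) (Nat.add (Nat.add (Nat.mul 2 (y 2)) (Nat.mul 0 4)) (Nat.add (Nat.add (Nat.mul 2 (y 3)) (Nat.mul 0 4)) (Nat.add (Nat.add (Nat.mul 2 (y 4)) (Nat.mul 0 4)) (Nat.add (Nat.add (Nat.mul 0 (y 14)) (Nat.mul 2 4)) (Nat.add (Nat.add (Nat.mul 0 (y 19)) (Nat.mul 2 4)) (Nat.add (Nat.add (Nat.mul 2 (y 21)) (Nat.mul 0 4)) (Nat.add (Nat.add (Nat.mul 2 (y 22)) (Nat.mul 0 4)) (0))))))))) 0)) (and (Nat.beq (Nat.add (Nat.add (Nat.add (Nat.mul 2 (y 3)) (Nat.mul 0 4)) (Nat.add (Nat.add (Nat.mul 2 (y 5)) (Nat.mul 0 4)) (Nat.add (Nat.add (Nat.mul 2 (y 12)) (Nat.mul 0 4)) (Nat.add (Nat.add (Nat.mul 2 (y 14)) (Nat.mul 0 4)) (Nat.add (Nat.add (Nat.mul 2 (y 19)) (Nat.mul 0 4)) (Nat.add (Nat.add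 (Nat.mul 2 (y 20)) (Nat.mul 0 4)) (Nat.add (Nat.add (Nat.mul 2 (y 22)) (Nat.mul 0 4)) (Nat.add (Nat.add (Nat.mul 2 (y 23)) (Nat.mul 0 4)) (0))))))))) 0) (Nat.add (Nat.add (Nat.add (Nat.mul 0 (y 3)) (Nat.mul 2 4)) (Nat.add (Nat.add (Nat.mul 0 (y 5)) (Nat.mul 2 4)) (Nat.add (Nat.add (Nat.mul 0 (y 12)) (Nat.mul 2 4)) (Nat.add (Nat.add (Nat.mul 0 (y 14)) (Nat.mul 2 4)) (Nat.add (Nat.add (Nat.mul 0 (y 19)) (Nat.mul 2 4)) (Nat.add (Nat.add (Nat.mul 0 (y 20)) (Nat.mul 2 4)) (Nat.add (Nat.add (Nat.mul 0 (y 22)) (Nat.mul 2 4)) (Nat.add (Nat.add (Nat.mul 0 (y 23)) (Nat.mul 2 4)) (0))))))))) 8)) (and (Nat.beq (Nat.add (Nat.add (Nat.add (Nat.mul 2 (y 1)) (Nat.mul 0 4)) (Nat.add (Nat.add (Nat.mul 2 (y 4)) (Nat.mul 0 4)) (Nat.add (Nat.add (Nat.mul 0 (y 7)) (Nat.mul 2 4))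 (Nat.add (Nat.add (Nat.mul 0 (y 8)) (Nat.mul 2 4)) (Nat.add (Nat.add (Nat.mul 2 (y 11)) (Nat.mul 0 4)) (Nat.add (Nat.add (Nat.mul 0 (y 12)) (Nat.mul 2 4)) (Nat.add (Nat.add (Nat.mul 2 (y 17)) (Nat.mul 0 4)) (Nat.add (Nat.add (Nat.mul 0 (y 20)) (Nat.mul 2 4)) (0))))))))) 0) (Nat.add (Nat.add (Nat.add (Nat.mul 0 (y 1)) (Nat.mul 2 4)) (Nat.add (Nat.add (Nat.mul 0 (y 4)) (Nat.mul 2 4)) (Nat.add (Nat.add (Nat.mul 2 (y 7)) (Nat.mul 0 4)) (Nat.add (Nat.add (Nat.mul 2 (y 8)) (Nat.mul 0 4)) (Nat.add (Nat.add (Nat.mul 0 (y 11)) (Nat.mul 2 4)) (Nat.add (Nat.add (Nat.mul 2 (y 12)) (Nat.mul 0 4)) (Nat.add (Nat.add (Nat.mul 0 (y 17)) (Nat.mul 2 4)) (Nat.add (Nat.add (Nat.mul 2 (y 20)) (Nat.mul 0 4)) (0))))))))) 0)) (and (Nat.beq (Nat.add (Nat.add (Nat.add (Nat.mul 1 (y 0))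 (Nat.mul 0 4)) (Nat.add (Nat.add (Nat.mul 0 (y 1)) (Nat.mul 1 4)) (Nat.add (Nat.add (Nat.mul 1 (y 2)) (Nat.mul 0 4)) (Nat.add (Nat.add (Nat.mul 0 (y 3)) (Nat.mul 1 4)) (Nat.add (Nat.add (Nat.mul 0 (y 4)) (Nat.mul 1 4)) (Nat.add (Nat.add (Nat.mul 0 (y 5)) (Nat.mul 1 4)) (Nat.add (Nat.add (Nat.mul 0 (y 6)) (Nat.mul 1 4)) (Nat.add (Nat.add (Nat.mul 0 (y 7)) (Nat.mul 1 4)) (Nat.add (Nat.add (Nat.mul 0 (y 8)) (Nat.mul 1 4)) (Nat.add (Nat.add (Nat.mul 0 (y 9)) (Nat.mul 1 4)) (Nat.add (Nat.add (Nat.mul 1 (y 10)) (Nat.mul 0 4)) (Nat.add (Nat.add (Nat.mul 0 (y 11)) (Nat.mul 3 4)) (Nat.add (Nat.add (Nat.mul 1 (y 12)) (Nat.mul 0 4)) (Nat.add (Nat.add (Nat.mul 0 (y 13)) (Nat.mul 1 4)) (Nat.add (Nat.add (Nat.mul 0 (y 14)) (Nat.mul 1 4)) (Nat.add (Nat.add (Nat.mul 1 (y 15))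 (Nat.mul 0 4)) (Nat.add (Nat.add (Nat.mul 1 (y 16)) (Nat.mul 0 4)) (Nat.add (Nat.add (Nat.mul 0 (y 17)) (Nat.mul 1 4)) (Nat.add (Nat.add (Nat.mul 0 (y 18)) (Nat.mul 1 4)) (Nat.add (Nat.add (Nat.mul 0 (y 19)) (Nat.mul 1 4)) (Nat.add (Nat.add (Nat.mul 0 (y 20)) (Nat.mul 1 4)) (Nat.add (Nat.add (Nat.mul 0 (y 21)) (Nat.mul 1 4)) (Nat.add (Nat.add (Nat.mul 1 (y 22)) (Nat.mul 0 4)) (Nat.add (Nat.add (Nat.mul 0 (y 23)) (Nat.mul 1 4)) (0))))))))))))))))))))))))) 0) (Nat.add (Nat.add (Nat.add (Nat.mul 0 (y 0)) (Nat.mul 1 4)) (Nat.add (Nat.add (Nat.mul 1 (y 1)) (Nat.mul 0 4)) (Nat.add (Nat.add (Nat.mul 0 (y 2)) (Nat.mul 1 4)) (Nat.add (Nat.add (Nat.mul 1 (y 3)) (Nat.mul 0 4)) (Nat.add (Nat.add (Nat.mul 1 (y 4)) (Nat.mul 0 4)) (Nat.add (Nat.add (Nat.mul 1 (y 5)) (Nat.mul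 0 4)) (Nat.add (Nat.add (Nat.mul 1 (y 6)) (Nat.mul 0 4)) (Nat.add (Nat.add (Nat.mul 1 (y 7)) (Nat.mul 0 4)) (Nat.add (Nat.add (Nat.mul 1 (y 8)) (Nat.mul 0 4)) (Nat.add (Nat.add (Nat.mul 1 (y 9)) (Nat.mul 0 4)) (Nat.add (Nat.add (Nat.mul 0 (y 10)) (Nat.mul 1 4)) (Nat.add (Nat.add (Nat.mul 3 (y 11)) (Nat.mul 0 4)) (Nat.add (Nat.add (Nat.mul 0 (y 12)) (Nat.mul 1 4)) (Nat.add (Nat.add (Nat.mul 1 (y 13)) (Nat.mul 0 4)) (Nat.add (Nat.add (Nat.mul 1 (y 14)) (Nat.mul 0 4)) (Nat.add (Nat.add (Nat.mul 0 (y 15)) (Nat.mul 1 4)) (Nat.add (Nat.add (Nat.mul 0 (y 16)) (Nat.mul 1 4)) (Nat.add (Nat.add (Nat.mul 1 (y 17)) (Nat.mul 0 4)) (Nat.add (Nat.add (Nat.mul 1 (y 18)) (Nat.mul 0 4)) (Nat.add (Nat.add (Nat.mul 1 (y 19)) (Nat.mul 0 4)) (Nat.add (Nat.add (Nat.mul 1 (y 20)) (Nat.mul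 0 4)) (Nat.add (Nat.add (Nat.mul 1 (y 21)) (Nat.mul 0 4)) (Nat.add (Nat.add (Nat.mul 0 (y 22)) (Nat.mul 1 4)) (Nat.add (Nat.add (Nat.mul 1 (y 23)) (Nat.mul 0 4)) (0))))))))))))))))))))))))) 0)) (and (Nat.beq (Nat.add (Nat.add (Nat.add (Nat.mul 0 (y 0)) (Nat.mul 1 4)) (Nat.add (Nat.add (Nat.mul 0 (y 1)) (Nat.mul 1 4)) (Nat.add (Nat.add (Nat.mul 0 (y 2)) (Nat.mul 1 4)) (Nat.add (Nat.add (Nat.mul 1 (y 3)) (Nat.mul 0 4)) (Nat.add (Nat.add (Nat.mul 0 (y 4)) (Nat.mul 1 4)) (Nat.add (Nat.add (Nat.mul 1 (y 5)) (Nat.mul 0 4)) (Nat.add (Nat.add (Nat.mul 0 (y 6)) (Nat.mul 1 4)) (Nat.add (Nat.add (Nat.mul 1 (y 7)) (Nat.mul 0 4)) (Nat.add (Nat.add (Nat.mul 3 (y 8)) (Nat.mul 0 4)) (Nat.add (Nat.add (Nat.mul 0 (y 9)) (Nat.mul 1 4)) (Nat.add (Nat.add (Nat.mul 0 (y 10)) (Nat.mul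 1 4)) (Nat.add (Nat.add (Nat.mul 1 (y 11)) (Nat.mul 0 4)) (Nat.add (Nat.add (Nat.mul 0 (y 12)) (Nat.mul 1 4)) (Nat.add (Nat.add (Nat.mul 1 (y 13)) (Nat.mul 0 4)) (Nat.add (Nat.add (Nat.mul 0 (y 14)) (Nat.mul 1 4)) (Nat.add (Nat.add (Nat.mul 0 (y 15)) (Nat.mul 1 4)) (Nat.add (Nat.add (Nat.mul 1 (y 16)) (Nat.mul 0 4)) (Nat.add (Nat.add (Nat.mul 0 (y 17)) (Nat.mul 1 4)) (Nat.add (Nat.add (Nat.mul 1 (y 18)) (Nat.mul 0 4)) (Nat.add (Nat.add (Nat.mul 0 (y 19)) (Nat.mul 1 4)) (Nat.add (Nat.add (Nat.mul 0 (y 20)) (Nat.mul 1 4)) (Nat.add (Nat.add (Nat.mul 1 (y 21)) (Nat.mul 0 4)) (Nat.add (Nat.add (Nat.mul 0 (y 22)) (Nat.mul 1 4)) (Nat.add (Nat.add (Nat.mul 0 (y 23)) (Nat.mul 1 4)) (0))))))))))))))))))))))))) 0) (Nat.add (Nat.add (Nat.add (Nat.mul 1 (y 0)) (Nat.mul 0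 4)) (Nat.add (Nat.add (Nat.mul 1 (y 1)) (Nat.mul 0 4)) (Nat.add (Nat.add (Nat.mul 1 (y 2)) (Nat.mul 0 4)) (Nat.add (Nat.add (Nat.mul 0 (y 3)) (Nat.mul 1 4)) (Nat.add (Nat.add (Nat.mul 1 (y 4)) (Nat.mul 0 4)) (Nat.add (Nat.add (Nat.mul 0 (y 5)) (Nat.mul 1 4)) (Nat.add (Nat.add (Nat.mul 1 (y 6)) (Nat.mul 0 4)) (Nat.add (Nat.add (Nat.mul 0 (y 7)) (Nat.mul 1 4)) (Nat.add (Nat.add (Nat.mul 0 (y 8)) (Nat.mul 3 4)) (Nat.add (Nat.add (Nat.mul 1 (y 9)) (Nat.mul 0 4)) (Nat.add (Nat.add (Nat.mul 1 (y 10)) (Nat.mul 0 4)) (Nat.add (Nat.add (Nat.mul 0 (y 11)) (Nat.mul 1 4)) (Nat.add (Nat.add (Nat.mul 1 (y 12)) (Nat.mul 0 4)) (Nat.add (Nat.add (Nat.mul 0 (y 13)) (Nat.mul 1 4)) (Nat.add (Nat.add (Nat.mul 1 (y 14)) (Nat.mul 0 4)) (Nat.add (Nat.add (Nat.mul 1 (y 15)) (Nat.mul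 0 4)) (Nat.add (Nat.add (Nat.mul 0 (y 16)) (Nat.mul 1 4)) (Nat.add (Nat.add (Nat.mul 1 (y 17)) (Nat.mul 0 4)) (Nat.add (Nat.add (Nat.mul 0 (y 18)) (Nat.mul 1 4)) (Nat.add (Nat.add (Nat.mul 1 (y 19)) (Nat.mul 0 4)) (Nat.add (Nat.add (Nat.mul 1 (y 20)) (Nat.mul 0 4)) (Nat.add (Nat.add (Nat.mul 0 (y 21)) (Nat.mul 1 4)) (Nat.add (Nat.add (Nat.mul 1 (y 22)) (Nat.mul 0 4)) (Nat.add (Nat.add (Nat.mul 1 (y 23)) (Nat.mul 0 4)) (0))))))))))))))))))))))))) 0)) (true))))))))))))))))))))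

theorem E5_eq (y : ℕ → ℕ) : condsB Cn5 y = E5 y := rfl

theorem Cond_len : ∀ j, j < 6 → ∀ bt ∈ Cond j, bt.1.length = 24 := by decide +kernel

end Cfsg.Agent.Lib.Sporadic.LeechJ2
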