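import Mathlib
import Cfsg.Agent.Lib.Sporadic.LeechJ2Q
import Cfsg.Agent.Lib.Sporadic.LeechJ2Q1
import Cfsg.Agent.Lib.Sporadic.LeechJ2Q2
import Cfsg.Agent.Lib.Sporadic.LeechJ2Q3
import Cfsg.Agent.Lib.Sporadic.LeechJ2Q4
import Cfsg.Agent.Lib.Sporadic.LeechJ2Q5
import Cfsg.Agent.Lib.Sporadic.LeechJ2P
import Cfsg.Agent.Lib.Sporadic.LeechJ2Base

/-!
# The order of the centraliser of an element of order five
-/

set_option autoImplicit false
set_option maxRecDepth 100000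

namespace Cfsg.Agent.Lib.Sporadic.LeechJ2

open Cfsg Subgroup Cfsg.Agent.Lib.Sporadic.GolayCore Cfsg.Agent.Lib.Sporadic.LeechBasic
  Cfsg.Agent.Lib.Sporadic.LeechNorm Cfsg.Agent.Lib.Sporadic.LeechFacts
  Cfsg.Agent.Lib.Sporadic.LeechAut Cfsg.Agent.Lib.Sporadic.LeechMat
  Cfsg.Agent.Lib.Sporadic.LeechKey Cfsg.Agent.Lib.Sporadic.LeechEnum
  Cfsg.Agent.Lib.Sporadic.LeechTree Cfsg.Agent.Lib.Sporadic.LeechA0
  Cfsg.Agent.Lib.Sporadic.LeechCenGrp Cfsg.Agent.Lib.Sporadic.LeechClasses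
  Cfsg.Agent.Lib.Sporadic.LeechAct Cfsg.Agent.Lib.Sporadic.LeechOrbits
  Cfsg.Agent.Lib.Sporadic.LeechSeven Cfsg.Agent.Lib.Sporadic.LeechCenFix
  Cfsg.Agent.Lib.Sporadic.LeechMonomial

/-! ### Fixed lists -/

/-- A list vector in the lattice fixed by an element. -/
def FixL (g : Co0) (l : List ℤ) : Prop :=
  ∃ h : vecOf l ∈ leechLattice, g • (⟨vecOf l, h⟩ : leechLattice) = ⟨vecOf l, h⟩

theorem FixL.a {g : Co0} (hg : g * aC = aC * g) {l : List ℤ} (h : FixL g l) : FixL g (matL aM 8 l) := by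
  obtain ⟨hl, e⟩ := h
  have hl' := acts_a.mem hl
  refine ⟨hl', ?_⟩
  rw [← acts_a.smul hl hl', ← mul_smul, hg, mul_smul, e]

/-- Multiples of a list. -/
def scalL (c : ℤ) (l : List ℤ) : List ℤ := rangeL fun k => c * l.getD k 0

theorem vecOf_scalL (c : ℤ) (l : List ℤ) : vecOf (scalL c l) = c • vecOf l := by
  funext p
  unfold scalL
  rw [vecOf_rangeL]
  simp [vecOf]

/-- Combinations of lists. -/
def combL : List ℤ → List (List ℤ) → List ℤ
  | c :: cs, t :: ts => Cfsg.Agent.Lib.Sporadic.LeechSeven.addL (scalL c t) (combL cs ts)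
  | _, _ => rangeL fun _ => 0

theorem FixL.add {g : Co0} {a b : List ℤ} (ha : FixL g a) (hb : FixL g b) :
    FixL g (Cfsg.Agent.Lib.Sporadic.LeechSeven.addL a b) := by
  obtain ⟨h1, e1⟩ := ha
  obtain ⟨h2, e2⟩ := hb
  have hv := Cfsg.Agent.Lib.Sporadic.LeechSeven.vecOf_addL a b
  have hm : vecOf (Cfsg.Agent.Lib.Sporadic.LeechSeven.addL a b) ∈ leechLattice := by
    rw [hv]; exact leechLattice.add_mem h1 h2
  refine ⟨hm, ?_⟩
  have e : (⟨vecOf (Cfsg.Agent.Lib.Sporadic.LeechSeven.addL a b), hm⟩ : leechLattice) = ⟨vecOf a, h1⟩ + ⟨vecOf b, h2⟩ :=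
    Subtype.ext hv
  rw [e, co0_map_add, e1, e2]

theorem FixL.scal {g : Co0} {a : List ℤ} (ha : FixL g a) (c : ℤ) : FixL g (scalL c a) := by
  obtain ⟨h1, e1⟩ := ha
  have hv := vecOf_scalL c a
  have hm : vecOf (scalL c a) ∈ leechLattice := by
    rw [hv]; exact leechLattice.zsmul_mem h1 c
  refine ⟨hm, ?_⟩
  have e : (⟨vecOf (scalL c a), hm⟩ : leechLattice) = c • ⟨vecOf a, h1⟩ := Subtype.ext hv
  rw [e, co0_map_zsmul, e1]

theorem FixL.zero (g : Co0) : FixL g (rangeL fun _ => 0) := by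
  have hv : vecOf (rangeL fun _ => 0) = 0 := by
    funext p
    rw [vecOf_rangeL]
    rfl
  have hm : vecOf (rangeL fun _ => 0) ∈ leechLattice := by
    rw [hv]; exact leechLattice.zero_mem
  refine ⟨hm, ?_⟩
  have e : (⟨vecOf (rangeL fun _ => 0), hm⟩ : leechLattice) = 0 := Subtype.ext hv
  rw [e]
  exact map_zero (co0AddHom g)

theorem FixL.comb {g : Co0} (cs : List ℤ) (ts : List (List ℤ)) (h : ∀ t ∈ ts, FixL g t) : FixL g (combL cs ts) := by
  induction cs generalizing ts with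
  | nil => exact FixL.zero g
  | cons c cs ih =>
    cases ts with
    | nil => exact FixL.zero g
    | cons t ts =>
      exact FixL.add ((h t List.mem_cons_self).scal c) (ih ts fun x hx => h x (List.mem_cons_of_mem _ hx))

theorem comb_chk : ∀ k, k < 24 → combL (cfL.getD k []) TL = unitL k := by decide +kernel

theorem eq_one_of_fix {g : Co0} (h : ∀ t ∈ TL, FixL g t) : g = 1 := by
  apply co0_ext_u8
  intro i
  have h1 : FixL g (unitL (idx i)) := by
    rw [← comb_chk _ (idx_lt i)]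
    exact FixL.comb _ _ h
  obtain ⟨hm, e⟩ := h1
  have e2 : u8 i = ⟨vecOf (unitL (idx i)), hm⟩ := Subtype.ext (u8_eq i)
  rw [e2, e, one_smul]

/-! ### The chain -/

theorem vL_ok : ∀ j, j < 6 → inLattice (vL j) = true := by decide +kernel

theorem vL_norm : ∀ j, j < 6 → normL (vL j) = 32 := by decide +kernel

theorem vL_q : ∀ j, j < 6 → (j = 0 ∨ j = 2 ∨ j = 5) → dotLL (vL j) (matL aM 8 (vL j)) = -16 := by decide +kernel

/-- The fixed vectors. -/
noncomputable def xv (j : ℕ) : leechLattice :=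
  if h : j < 6 then ⟨vecOf (vL j), inLattice_sound (vL_ok j h)⟩ else 0

theorem xv_eq {j : ℕ} (h : j < 6) : xv j = ⟨vecOf (vL j), inLattice_sound (vL_ok j h)⟩ := dif_pos h

/-- The chain of subgroups. -/
noncomputable def Kk : ℕ → Subgroup Co0
  | 0 => CA
  | j + 1 => Kk j ⊓ MulAction.stabilizer Co0 (xv j)

theorem Kk_comm {j : ℕ} {g : Co0} (hg : g ∈ Kk j) : g * aC = aC * g := by
  induction j with
  | zero => exact comm_of_mem_CA hg
  | succ j ih => exact ih hg.1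

theorem Kk_fix {j : ℕ} {g : Co0} (hg : g ∈ Kk j) {l : ℕ} (hl : l < j) : g • xv l = xv l := by
  induction j with
  | zero => omega
  | succ j ih =>
    rcases Nat.lt_succ_iff_lt_or_eq.1 hl with h | rfl
    · exact ih hg.1 h
    · exact hg.2

theorem Kk_fixL {j : ℕ} (hj : j ≤ 6) {g : Co0} (hg : g ∈ Kk j) {l : ℕ} (hl : l < j) {i : ℕ} (hi : i < 4) :
    FixL g (TL.getD (Nat.add (Nat.mul 4 l) i) []) := by
  induction i with
  | zero =>
    have hl6 : l < 6 := by omega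
    have h1 := Kk_fix hg hl
    rw [xv_eq hl6] at h1
    exact ⟨inLattice_sound (vL_ok l hl6), h1⟩
  | succ i ih =>
    have hl6 : l < 6 := by omega
    rw [← TL_orb l hl6 i (by omega)]
    exact (ih (by omega)).a (Kk_comm hg)

theorem Kk_take {j : ℕ} (hj : j ≤ 6) {g : Co0} (hg : g ∈ Kk j) {t : List ℤ} (ht : t ∈ TL.take (Nat.mul 4 j)) : FixL g t := by
  obtain ⟨i, hi, rfl⟩ := List.mem_take_iff_getElem.1 ht
  have hi1 : i < Nat.mul 4 j := lt_of_lt_of_le hi (Nat.min_le_left _ _)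
  have hi2 : i < TL.length := lt_of_lt_of_le hi (Nat.min_le_right _ _)
  have e : i = Nat.add (Nat.mul 4 (i / 4)) (i % 4) := by
    show i = 4 * (i / 4) + i % 4
    omega
  have h1 := Kk_fixL hj hg (l := i / 4) (by
    have : i < 4 * j := hi1
    omega) (i := i % 4) (by omega)
  rw [← e, List.getD_eq_getElem _ _ hi2] at h1
  exact h1

theorem conds_of_mem {j : ℕ} (hj : j < 6) {g : Co0} (hg : g ∈ Kk j) :
    condsQ (Cond j) ((g • xv j : leechLattice) : GolayPt → ℤ) := by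
  intro bt hbt
  obtain ⟨t, ht, rfl⟩ := List.mem_map.1 hbt
  obtain ⟨hm, e⟩ := Kk_take hj.le hg ht
  have h1 := co0_dotInt g ⟨vecOf t, hm⟩ (xv j)
  rw [e, xv_eq hj] at h1
  rw [xv_eq hj]
  show dotInt (vecOf t) _ = dotLL t (vL j)
  rw [← Cfsg.Agent.Lib.Sporadic.LeechTree.dotInt_vecOf]
  exact h1

theorem norm_of_xv {j : ℕ} (hj : j < 6) (g : Co0) : sqNorm ((g • xv j : leechLattice) : GolayPt → ℤ) = 32 := by
  rw [co0_sqNorm, xv_eq hj]
  show sqNorm (vecOf (vL j)) = 32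
  rw [sqNorm_vecOf, vL_norm j hj]

/-! ### The quadratic form -/

/-- The quadratic condition. -/
def Qv (w : GolayPt → ℤ) : Prop := ∑ k, ∑ i, matOf aM k i * w i * w k = -128

theorem dot_a (x : leechLattice) :
    8 * dotInt (x : GolayPt → ℤ) ((aC • x : leechLattice) : GolayPt → ℤ) =
      ∑ k, ∑ i, matOf aM k i * (x : GolayPt → ℤ) i * (x : GolayPt → ℤ) k := by
  unfold dotInt
  rw [Finset.mul_sum]
  apply Finset.sum_congr rfl
  intro k _
  have h := mul_matCo0_smul (allM_ok 4) x k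
  have h2 : (8 : ℤ) * ((aC • x : leechLattice) : GolayPt → ℤ) k = matAct aM x k := h
  calc 8 * ((x : GolayPt → ℤ) k * ((aC • x : leechLattice) : GolayPt → ℤ) k)
      = (x : GolayPt → ℤ) k * (8 * ((aC • x : leechLattice) : GolayPt → ℤ) k) := by ring
    _ = (x : GolayPt → ℤ) k * matAct aM x k := by rw [h2]
    _ = ∑ i, matOf aM k i * (x : GolayPt → ℤ) i * (x : GolayPt → ℤ) k := by
      unfold matAct
      rw [Finset.mul_sum]
      apply Finset.sum_congr rfl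
      intro i _
      ring

theorem Qv_iff (x : leechLattice) :
    Qv (x : GolayPt → ℤ) ↔ dotInt (x : GolayPt → ℤ) ((aC • x : leechLattice) : GolayPt → ℤ) = -16 := by
  unfold Qv
  rw [← dot_a]
  omega

theorem Qv_smul {g : Co0} (hg : g * aC = aC * g) (x : leechLattice)
    (h : dotInt (x : GolayPt → ℤ) ((aC • x : leechLattice) : GolayPt → ℤ) = -16) : Qv ((g • x : leechLattice) : GolayPt → ℤ) := by
  rw [Qv_iff, ← mul_smul, ← hg, mul_smul, co0_dotInt]
  exact h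

theorem xv_q {j : ℕ} (hj : j < 6) (h : j = 0 ∨ j = 2 ∨ j = 5) :
    dotInt (xv j : GolayPt → ℤ) ((aC • xv j : leechLattice) : GolayPt → ℤ) = -16 := by
  have hm := inLattice_sound (vL_ok j hj)
  rw [xv_eq hj, acts_a.smul hm (acts_a.mem hm)]
  show dotInt (vecOf (vL j)) (vecOf (matL aM 8 (vL j))) = -16
  rw [Cfsg.Agent.Lib.Sporadic.LeechTree.dotInt_vecOf]
  exact vL_q j hj h

theorem P0_Qv (y : ℕ → ℕ) : P0 y = true ↔ Qv (vecF y) := by
  rw [P0_iff]
  unfold Qv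
  have e : (∑ k : GolayPt, ∑ i : GolayPt, matOf aM k i * vecF y i * vecF y k) =
      ∑ k : GolayPt, ∑ i : GolayPt, (fun k' i' : ℕ => entM aM (k', i') * (((y i' : ℤ) - 4) * ((y k' : ℤ) - 4))) (idx k) (idx i) := by
    apply Finset.sum_congr rfl
    intro k _
    apply Finset.sum_congr rfl
    intro i _
    show entM aM (idx k, idx i) * ((y (idx i) : ℤ) - 4) * ((y (idx k) : ℤ) - 4) = _
    ring
  rw [e, sum_allPairs (fun k' i' : ℕ => entM aM (k', i') * (((y i' : ℤ) - 4) * ((y k' : ℤ) - 4)))]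
  have e2 := sum_split aM (fun p => ((y p.2 : ℤ) - 4) * ((y p.1 : ℤ) - 4)) allPairs ent_ok
  rw [Lp_eq, Ln_eq] at e2
  have e3 : ∀ L : List (ℕ × ℕ), (L.map fun p => ((y p.2 : ℤ) - 4) * ((y p.1 : ℤ) - 4)).sum = sumZ L y := by
    intro L
    unfold sumZ
    congr 1
    apply List.map_congr_left
    intro p _
    ring
  rw [e3, e3] at e2
  have e4 : (allPairs.map fun p => entM aM (p.1, p.2) * (((y p.2 : ℤ) - 4) * ((y p.1 : ℤ) - 4))).sum =
      4 * sumZ Lp y - 4 * sumZ Ln y := e2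
  rw [e4]
  omega

/-! ### Counting -/

theorem ncard_S0 : {w : GolayPt → ℤ | w ∈ leechLattice ∧ sqNorm w = 32 ∧ Qv w}.ncard = 37800 := by
  rw [ncard_of_P P0 Qv P0_Qv, countP_allMinF, cnt_P0]

theorem ncard_cond (j : ℕ) (hj : j < 6) {E : (ℕ → ℕ) → Bool} (hE : condsB (toCn (Cond j)) = E) {n : ℕ} (hn : cntP E = n) :
    {w : GolayPt → ℤ | w ∈ leechLattice ∧ sqNorm w = 32 ∧ condsQ (Cond j) w}.ncard = n := by
  rw [ncard_of_P (condsB (toCn (Cond j))) (condsQ (Cond j)) (condsB_iff _ (Cond_len j hj)), countP_allMinF, hE, hn]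

theorem ncard_S2 : {w : GolayPt → ℤ | w ∈ leechLattice ∧ sqNorm w = 32 ∧ (condsQ (Cond 2) w ∧ Qv w)}.ncard = 16 := by
  rw [ncard_of_P P2 (fun w => condsQ (Cond 2) w ∧ Qv w) ?_, countP_allMinF, cnt_2]
  intro y
  have h1 := condsB_iff (Cond 2) (Cond_len 2 (by norm_num)) y
  rw [Cn2_eq, E2_eq] at h1
  rw [← h1, ← P0_Qv]
  show (and (E2 y) (P0 y)) = true ↔ _
  simp only [Bool.and_eq_true]

theorem step_cond {j : ℕ} (hj : j < 6) {E : (ℕ → ℕ) → Bool} (hE : condsB (toCn (Cond j)) = E) {n : ℕ} (hn : cntP E = n)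
    (hn0 : 0 < n) : Nat.card (Kk j) ≤ n * Nat.card (Kk (j + 1)) := by
  refine card_step (Kk j) (xv j) _ (fun g hg => ?_) (ncard_cond j hj hE hn) hn0
  exact ⟨(g • xv j).2, norm_of_xv hj g, conds_of_mem hj hg⟩

theorem E_fun1 : condsB (toCn (Cond 1)) = E1 := by rw [Cn1_eq]; funext y; exact E1_eq y
theorem E_fun3 : condsB (toCn (Cond 3)) = E3 := by rw [Cn3_eq]; funext y; exact E3_eq y
theorem E_fun4 : condsB (toCn (Cond 4)) = E4 := by rw [Cn4_eq]; funext y; exact E4_eq y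
theorem E_fun5 : condsB (toCn (Cond 5)) = E5 := by rw [Cn5_eq]; funext y; exact E5_eq y

theorem card_Kk6 : Nat.card (Kk 6) = 1 := by
  have h : Kk 6 = ⊥ := by
    rw [eq_bot_iff]
    intro g hg
    rw [mem_bot]
    apply eq_one_of_fix
    intro t ht
    obtain ⟨i, hi, rfl⟩ := List.mem_iff_getElem.1 ht
    have hl : TL.length = 24 := by decide +kernel
    have hi' : i < 24 := by omega
    have h1 := Kk_take (le_refl 6) hg (t := TL[i]) (by
      have : TL.take (Nat.mul 4 6) = TL := by decide +kernel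
      rw [this]
      exact List.getElem_mem _)
    exact h1
  rw [h]
  simp

theorem card_CA_le : Nat.card CA ≤ 6048000 := by
  have h0 : Nat.card (Kk 0) ≤ 37800 * Nat.card (Kk 1) := by
    refine card_step (Kk 0) (xv 0) _ (fun g hg => ?_) ncard_S0 (by norm_num)
    exact ⟨(g • xv 0).2, norm_of_xv (by norm_num) g, Qv_smul (Kk_comm hg) _ (xv_q (by norm_num) (Or.inl rfl))⟩
  have h1 : Nat.card (Kk 1) ≤ 5 * Nat.card (Kk 2) := step_cond (j := 1) (by norm_num) E_fun1 cnt_1 (by norm_num)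
  have h2 : Nat.card (Kk 2) ≤ 16 * Nat.card (Kk 3) := by
    refine card_step (Kk 2) (xv 2) _ (fun g hg => ?_) ncard_S2 (by norm_num)
    exact ⟨(g • xv 2).2, norm_of_xv (by norm_num) g, conds_of_mem (by norm_num) hg,
      Qv_smul (Kk_comm hg) _ (xv_q (by norm_num) (Or.inr (Or.inl rfl)))⟩
  have h3 : Nat.card (Kk 3) ≤ 1 * Nat.card (Kk 4) := step_cond (j := 3) (by norm_num) E_fun3 cnt_3 (by norm_num)
  have h4 : Nat.card (Kk 4) ≤ 2 * Nat.card (Kk 5) := step_cond (j := 4) (by norm_num) E_fun4 cnt_4 (by norm_num)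
  have h5 : Nat.card (Kk 5) ≤ 1 * Nat.card (Kk 6) := step_cond (j := 5) (by norm_num) E_fun5 cnt_5 (by norm_num)
  have h6 := card_Kk6
  rw [h6] at h5
  have e : Kk 0 = CA := rfl
  rw [e] at h0
  omega

end Cfsg.Agent.Lib.Sporadic.LeechJ2
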