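import Mathlib
import Cfsg.Agent.Lib.Sporadic.LeechTree
import Cfsg.Agent.Lib.Sporadic.LeechCenGrp
import Cfsg.Agent.Lib.Sporadic.LeechCenFix

/-!
# Scanning the minimal vectors for sparse linear conditions and a quadratic condition
-/

set_option autoImplicit false

namespace Cfsg.Agent.Lib.Sporadic.LeechJ2

open Cfsg Subgroup Cfsg.Agent.Lib.Sporadic.GolayCore Cfsg.Agent.Lib.Sporadic.LeechBasic
  Cfsg.Agent.Lib.Sporadic.LeechNorm Cfsg.Agent.Lib.Sporadic.LeechFacts
  Cfsg.Agent.Lib.Sporadic.LeechAut Cfsg.Agent.Lib.Sporadic.LeechMat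
  Cfsg.Agent.Lib.Sporadic.LeechKey Cfsg.Agent.Lib.Sporadic.LeechEnum
  Cfsg.Agent.Lib.Sporadic.LeechTree Cfsg.Agent.Lib.Sporadic.LeechA0
  Cfsg.Agent.Lib.Sporadic.LeechCenGrp Cfsg.Agent.Lib.Sporadic.LeechClasses
  Cfsg.Agent.Lib.Sporadic.LeechAct Cfsg.Agent.Lib.Sporadic.LeechOrbits

/-! ### Sparse conditions -/

/-- A sparse vector: coordinate, positive part, negative part. -/
abbrev SP := List (ℕ × ℕ × ℕ)

/-- The positive part of an inner product. -/
def evP : SP → (ℕ → ℕ) → ℕ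
  | [], _ => 0
  | p :: S, y => Nat.add (Nat.add (Nat.mul p.2.1 (y p.1)) (Nat.mul p.2.2 4)) (evP S y)

/-- The negative part of an inner product. -/
def evN : SP → (ℕ → ℕ) → ℕ
  | [], _ => 0
  | p :: S, y => Nat.add (Nat.add (Nat.mul p.2.2 (y p.1)) (Nat.mul p.2.1 4)) (evN S y)

/-- A sparse condition. -/
def condB (c : SP × ℕ × ℕ) (y : ℕ → ℕ) : Bool :=
  Nat.beq (Nat.add (evP c.1 y) c.2.2) (Nat.add (evN c.1 y) c.2.1)

/-- The sparse form of a vector. -/
def sparseOf : ℕ → List ℤ → SP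
  | _, [] => []
  | s, a :: as => if a = 0 then sparseOf (s + 1) as else (s, a.toNat, (-a).toNat) :: sparseOf (s + 1) as

theorem dotL_sparse (t : List ℤ) (s : ℕ) (y : ℕ → ℕ) :
    dotL t s y = (evP (sparseOf s t) y : ℤ) - (evN (sparseOf s t) y : ℤ) := by
  induction t generalizing s with
  | nil => simp [dotL, sparseOf, evP, evN]
  | cons a as ih =>
    have h1 : dotL (a :: as) s y = a * ((y s : ℤ) - 4) + dotL as (s + 1) y := rfl
    rw [h1, ih (s + 1)]
    by_cases ha : a = 0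
    · subst ha
      simp [sparseOf]
    · simp only [sparseOf, if_neg ha]
      have e1 : evP ((s, a.toNat, (-a).toNat) :: sparseOf (s + 1) as) y =
          a.toNat * y s + (-a).toNat * 4 + evP (sparseOf (s + 1) as) y := rfl
      have e2 : evN ((s, a.toNat, (-a).toNat) :: sparseOf (s + 1) as) y =
          (-a).toNat * y s + a.toNat * 4 + evN (sparseOf (s + 1) as) y := rfl
      rw [e1, e2]
      push_cast
      have e3 : (a.toNat : ℤ) - ((-a).toNat : ℤ) = a := Int.toNat_sub_toNat_neg a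
      have e4 : a = (a.toNat : ℤ) - ((-a).toNat : ℤ) := e3.symm
      generalize (a.toNat : ℤ) = p at *
      generalize ((-a).toNat : ℤ) = n at *
      rw [e4]
      ring

/-- The sparse form of a condition. -/
def toCn (C : List (List ℤ × ℤ)) : List (SP × ℕ × ℕ) :=
  C.map fun bt => (sparseOf 0 bt.1, bt.2.toNat, (-bt.2).toNat)

/-- All the conditions. -/
def condsB (Cn : List (SP × ℕ × ℕ)) (y : ℕ → ℕ) : Bool := Cn.all fun c => condB c y

theorem condB_iff (t : List ℤ) (d : ℤ) (y : ℕ → ℕ) :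
    condB (sparseOf 0 t, d.toNat, (-d).toNat) y = true ↔ dotL t 0 y = d := by
  have e3 : (d.toNat : ℤ) - ((-d).toNat : ℤ) = d := Int.toNat_sub_toNat_neg d
  show Nat.beq (Nat.add (evP (sparseOf 0 t) y) (-d).toNat) (Nat.add (evN (sparseOf 0 t) y) d.toNat) = true ↔ _
  rw [Nat.beq_eq, dotL_sparse]
  show evP (sparseOf 0 t) y + (-d).toNat = evN (sparseOf 0 t) y + d.toNat ↔ _
  omega

theorem condsB_iff (C : List (List ℤ × ℤ)) (hC : ∀ bt ∈ C, bt.1.length = 24) (y : ℕ → ℕ) :
    condsB (toCn C) y = true ↔ condsQ C (vecF y) := by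
  unfold condsB toCn condsQ
  rw [List.all_map, List.all_eq_true]
  refine forall_congr' fun bt => imp_congr_right fun hbt => ?_
  show condB (sparseOf 0 bt.1, bt.2.toNat, (-bt.2).toNat) y = true ↔ _
  rw [condB_iff, dotL_eq _ (hC bt hbt)]

/-! ### A quadratic condition -/

/-- The sum of the products. -/
def prS : List (ℕ × ℕ) → (ℕ → ℕ) → ℕ
  | [], _ => 0
  | p :: L, y => Nat.add (Nat.mul (y p.1) (y p.2)) (prS L y)

/-- The sum of the coordinates. -/
def linS : List (ℕ × ℕ) → (ℕ → ℕ) → ℕ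
  | [], _ => 0
  | p :: L, y => Nat.add (Nat.add (y p.1) (y p.2)) (linS L y)

/-- The values on pairs. -/
def sumZ (L : List (ℕ × ℕ)) (y : ℕ → ℕ) : ℤ := (L.map fun p => ((y p.1 : ℤ) - 4) * ((y p.2 : ℤ) - 4)).sum

theorem sumZ_eq (L : List (ℕ × ℕ)) (y : ℕ → ℕ) :
    sumZ L y = (prS L y : ℤ) - 4 * (linS L y : ℤ) + 16 * (L.length : ℤ) := by
  induction L with
  | nil => simp [sumZ, prS, linS]
  | cons p L ih =>
    have h1 : sumZ (p :: L) y = ((y p.1 : ℤ) - 4) * ((y p.2 : ℤ) - 4) + sumZ L y := by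
      simp [sumZ]
    have h2 : prS (p :: L) y = y p.1 * y p.2 + prS L y := rfl
    have h3 : linS (p :: L) y = y p.1 + y p.2 + linS L y := rfl
    rw [h1, ih, h2, h3]
    push_cast [List.length_cons]
    ring

/-- The quadratic condition `sumZ Lp - sumZ Ln = -d`. -/
def quadB (Lp Ln : List (ℕ × ℕ)) (kp kn : ℕ) (y : ℕ → ℕ) : Bool :=
  Nat.beq (Nat.add (Nat.add (prS Lp y) (Nat.mul 4 (linS Ln y))) kp) (Nat.add (Nat.add (prS Ln y) (Nat.mul 4 (linS Lp y))) kn)

theorem quadB_iff {Lp Ln : List (ℕ × ℕ)} {kp kn d : ℕ} (h1 : kp = 16 * Lp.length + d) (h2 : kn = 16 * Ln.length)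
    (y : ℕ → ℕ) : quadB Lp Ln kp kn y = true ↔ sumZ Lp y - sumZ Ln y = - (d : ℤ) := by
  rw [sumZ_eq, sumZ_eq]
  show Nat.beq (prS Lp y + 4 * linS Ln y + kp) (prS Ln y + 4 * linS Lp y + kn) = true ↔ _
  rw [Nat.beq_eq, h1, h2]
  constructor <;> intro h <;> omega

/-- All the pairs of coordinates. -/
def allPairs : List (ℕ × ℕ) := (List.range 24).flatMap fun k => (List.range 24).map fun i => (k, i)

theorem sum_flat (A B : List ℕ) (g : ℕ → ℕ → ℤ) :
    ((A.flatMap fun k => B.map fun i => (k, i)).map fun p => g p.1 p.2).sum = (A.map fun k => (B.map (g k)).sum).sum := by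
  induction A with
  | nil => simp
  | cons a as ih =>
    simp only [List.flatMap_cons, List.map_append, List.sum_append, List.map_cons, List.sum_cons, ih, List.map_map]
    rfl

theorem sum_allPairs (g : ℕ → ℕ → ℤ) :
    (∑ k : GolayPt, ∑ i : GolayPt, g (idx k) (idx i)) = (allPairs.map fun p => g p.1 p.2).sum := by
  have h1 : ∀ k : ℕ, (∑ i : GolayPt, g k (idx i)) = ((List.range 24).map (g k)).sum := fun k => sum_golayPt _
  simp only [h1]
  rw [sum_golayPt (fun k => ((List.range 24).map (g k)).sum)]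
  unfold allPairs
  rw [sum_flat]

/-- The entries of a matrix. -/
def entM (M : List (List ℤ)) (p : ℕ × ℕ) : ℤ := (M.getD p.1 []).getD p.2 0

theorem sum_split (M : List (List ℤ)) (f : ℕ × ℕ → ℤ) (Z : List (ℕ × ℕ))
    (hZ : ∀ p ∈ Z, entM M p = 0 ∨ entM M p = 4 ∨ entM M p = -4) :
    (Z.map fun p => entM M p * f p).sum =
      4 * ((Z.filter fun p => decide (entM M p = 4)).map f).sum -
        4 * ((Z.filter fun p => decide (entM M p = -4)).map f).sum := by
  induction Z with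
  | nil => simp
  | cons p Z ih =>
    have ih' := ih (fun q hq => hZ q (List.mem_cons_of_mem _ hq))
    have hp := hZ p List.mem_cons_self
    simp only [List.map_cons, List.sum_cons, ih', List.filter_cons]
    rcases hp with h | h | h
    · simp [h]
    · simp [h]
      ring
    · simp [h]
      ring

/-! ### Steps of a chain of stabilisers -/

theorem card_step (K : Subgroup Co0) (x : leechLattice) (S : Set (GolayPt → ℤ))
    (hS : ∀ g ∈ K, ((g • x : leechLattice) : GolayPt → ℤ) ∈ S) {n : ℕ} (hn : S.ncard = n) (hn0 : 0 < n) :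
    Nat.card K ≤ n * Nat.card ↥(K ⊓ MulAction.stabilizer Co0 x) := by
  classical
  have hfin : S.Finite := Set.finite_of_ncard_pos (by omega)
  haveI : Fintype ↥S := hfin.fintype
  have hF : Finite K := by
    haveI : Finite Co0 := Nat.finite_of_card_ne_zero (by rw [card_Co0]; norm_num)
    infer_instance
  have h := card_le_of_fibers (D := ↥K) ((K ⊓ MulAction.stabilizer Co0 x).subgroupOf K) (X := ↥S)
    (fun y => ⟨(((y : Co0) • x : leechLattice) : GolayPt → ℤ), hS y y.2⟩) (by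
      intro a b hab
      have h1 : (((a : Co0) • x : leechLattice) : GolayPt → ℤ) = (((b : Co0) • x : leechLattice) : GolayPt → ℤ) :=
        congrArg (fun t : ↥S => (t : GolayPt → ℤ)) hab
      have h2 : (a : Co0) • x = (b : Co0) • x := Subtype.ext h1
      rw [mem_subgroupOf]
      refine ⟨(a⁻¹ * b).2, ?_⟩
      show ((a : Co0)⁻¹ * (b : Co0)) • x = x
      rw [mul_smul, ← h2, inv_smul_smul])
  have e1 : Fintype.card ↥S = n := by
    rw [← Nat.card_eq_fintype_card, Nat.card_coe_set_eq, hn]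
  have e2 : Nat.card ↥((K ⊓ MulAction.stabilizer Co0 x).subgroupOf K) =
      Nat.card ↥(K ⊓ MulAction.stabilizer Co0 x) :=
    Nat.card_congr (Subgroup.subgroupOfEquivOfLe inf_le_left).toEquiv
  rwa [e1, e2] at h

end Cfsg.Agent.Lib.Sporadic.LeechJ2
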