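import Mathlib
import Cfsg.Agent.Lib.Sporadic.LeechJ2Base
import Cfsg.Agent.Lib.Sporadic.J2.Group
import Cfsg.Agent.Lib.Sporadic.LeechLocal

/-!
# The action of the centraliser of an element of order five on `315` subspaces
-/

set_option autoImplicit false
set_option maxRecDepth 100000

namespace Cfsg.Agent.Lib.Sporadic.LeechJ2

open Cfsg Subgroup Cfsg.Agent.Lib.Sporadic.GolayCore Cfsg.Agent.Lib.Sporadic.LeechBasic
  Cfsg.Agent.Lib.Sporadic.LeechNorm Cfsg.Agent.Lib.Sporadic.LeechFacts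
  Cfsg.Agent.Lib.Sporadic.LeechAut Cfsg.Agent.Lib.Sporadic.LeechMat
  Cfsg.Agent.Lib.Sporadic.LeechKey Cfsg.Agent.Lib.Sporadic.LeechEnum
  Cfsg.Agent.Lib.Sporadic.LeechTree Cfsg.Agent.Lib.Sporadic.LeechA0
  Cfsg.Agent.Lib.Sporadic.LeechCenGrp Cfsg.Agent.Lib.Sporadic.LeechClasses
  Cfsg.Agent.Lib.Sporadic.LeechAct Cfsg.Agent.Lib.Sporadic.LeechOrbits
  Cfsg.Agent.Lib.Sporadic.LeechSeven Cfsg.Agent.Lib.Sporadic.LeechCenFix
  Cfsg.Agent.Lib.Sporadic.J2.Group Cfsg.Agent.Lib.Sporadic.J2.Data3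
open Cfsg.Agent.Lib.Compute.PermCert (get allB allB_iff permOf permOf_apply)
open Cfsg.Agent.Lib.Sporadic.LeechLocal (mem_center_iff)

/-! ### The classes -/

theorem bL_mem {n : ℕ} (h : n < 24) : vecOf (bL.getD n []) ∈ leechLattice := inLattice_sound (bL_ok n h)

/-- The spanning classes. -/
noncomputable def B (n : ℕ) : Q := if h : n < 24 then cl ⟨vecOf (bL.getD n []), bL_mem h⟩ else 0

theorem spanL_mem24 (k n : ℕ) (hn : n ≤ 24) : vecOf (spanL bL n k) ∈ leechLattice := by
  induction n with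
  | zero =>
    have h0 : vecOf [0,0,0,0,0,0,0,0,0,0,0,0,0,0,0,0,0,0,0,0,0,0,0,0] ∈ leechLattice := inLattice_sound (by decide +kernel)
    exact h0
  | succ n ih =>
    simp only [spanL]
    cases k.testBit n
    · exact ih (by omega)
    · show vecOf (addL _ _) ∈ leechLattice
      rw [vecOf_addL]
      exact leechLattice.add_mem (ih (by omega)) (bL_mem (by omega))

theorem cl_spanL24 (k n : ℕ) (hn : n ≤ 24) : cl ⟨vecOf (spanL bL n k), spanL_mem24 k n hn⟩ = spanR B n k := by
  induction n with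
  | zero =>
    have h0 : (⟨vecOf [0,0,0,0,0,0,0,0,0,0,0,0,0,0,0,0,0,0,0,0,0,0,0,0], spanL_mem24 k 0 hn⟩ : leechLattice) = 0 := by
      apply Subtype.ext
      funext p
      have hp := idx_lt p
      show ([0,0,0,0,0,0,0,0,0,0,0,0,0,0,0,0,0,0,0,0,0,0,0,0] : List ℤ).getD (idx p) 0 = 0
      generalize idx p = i at hp
      interval_cases i <;> rfl
    show cl ⟨vecOf [0,0,0,0,0,0,0,0,0,0,0,0,0,0,0,0,0,0,0,0,0,0,0,0], _⟩ = 0
    rw [h0]
    rfl
  | succ n ih =>
    simp only [spanR]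
    rw [← ih (by omega)]
    have hlt : n < 24 := by omega
    cases hb : k.testBit n
    · have e : (⟨vecOf (spanL bL (n + 1) k), spanL_mem24 k (n + 1) hn⟩ : leechLattice) = ⟨vecOf (spanL bL n k), spanL_mem24 k n (by omega)⟩ := by
        apply Subtype.ext
        simp [spanL, hb]
      rw [e]
      simp
    · simp only [if_true]
      rw [B, dif_pos hlt]
      have e : (⟨vecOf (spanL bL (n + 1) k), spanL_mem24 k (n + 1) hn⟩ : leechLattice) = ⟨vecOf (spanL bL n k), spanL_mem24 k n (by omega)⟩ + ⟨vecOf (bL.getD n []), bL_mem hlt⟩ := by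
        apply Subtype.ext
        show vecOf (spanL bL (n + 1) k) = vecOf (spanL bL n k) + vecOf (bL.getD n [])
        simp only [spanL, hb, cond_true]
        exact vecOf_addL _ _
      rw [e]
      rfl

theorem img_B {g : ℕ} (hg : g < 5) {j : ℕ} (hj : j < 24) : gC g • B j = spanR B 24 (imgF g j) := by
  rw [B, dif_pos hj, smul_cl, (acts_gC g).smul (bL_mem hj) ((acts_gC g).mem (bL_mem hj)),
    ← cl_spanL24 _ 24 le_rfl]
  exact cl_of_congL _ _ (img_chk g hg j hj)

/-- The basis of a subspace. -/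
noncomputable def YB (j i : ℕ) : Q := spanR B 24 (Kf j i)

/-- A subspace. -/
noncomputable def Y (j : ℕ) : Set Q := Set.range (spanR (YB j) 8)

theorem spanR_applyR (F : ℕ → Q) (m : ℕ) (img : ℕ → ℕ) (n k : ℕ) :
    spanR F m (applyR img n k) = spanR (fun i => spanR F m (img i)) n k := by
  induction n with
  | zero =>
    simp only [applyR, spanR]
    exact spanR_zero F m
  | succ n ih =>
    simp only [applyR, spanR]
    rw [spanR_xor, ih]
    congr 1
    cases k.testBit n
    · simp only [Bool.false_eq_true, if_false, cond_false]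
      exact spanR_zero F m
    · simp only [if_true, cond_true]

theorem smul_spanR' (g : Co0) (F : ℕ → Q) (n k : ℕ) : g • spanR F n k = spanR (fun i => g • F i) n k := by
  induction n with
  | zero =>
    simp only [spanR]
    exact smul_zeroQ g
  | succ n ih =>
    simp only [spanR]
    rw [smul_addQ, ih]
    congr 1
    cases k.testBit n
    · simp only [Bool.false_eq_true, if_false]
      exact smul_zeroQ g
    · simp only [if_true]

theorem spanR_congr {F F' : ℕ → Q} {n : ℕ} (h : ∀ i, i < n → F i = F' i) (k : ℕ) : spanR F n k = spanR F' n k := by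
  induction n with
  | zero => rfl
  | succ n ih =>
    simp only [spanR]
    rw [ih (fun i hi => h i (by omega)), h n (by omega)]

theorem act_gen {g : ℕ} (hg : g < 5) {j i : ℕ} (hj : j < 315) (hi : i < 8) :
    gC g • YB j i = spanR (YB (sPerm g j)) 8 (Mf g j i) := by
  have h1 := (allB_iff _ _).1 ((allB_iff _ _).1 ((allB_iff _ _).1 act_chk g hg) j hj) i hi
  rw [Nat.beq_eq] at h1
  rw [YB, smul_spanR (fun n hn => img_B hg hn) _ 24 le_rfl, h1, spanR_applyR]
  rfl

theorem Y_gen {g : ℕ} (hg : g < 5) {j : ℕ} (hj : j < 315) {x : Q} (hx : x ∈ Y j) : gC g • x ∈ Y (sPerm g j) := by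
  obtain ⟨k, rfl⟩ := hx
  rw [smul_spanR', spanR_congr (fun i hi => act_gen hg hj hi), ← spanR_applyR]
  exact ⟨_, rfl⟩

/-! ### Incidence with a permutation -/

/-- The element permutes the subspaces as the permutation does. -/
def Inc (g : Co0) (s : Equiv.Perm (Fin 315)) : Prop := ∀ j : Fin 315, ∀ x ∈ Y j, g • x ∈ Y (s j)

theorem Inc.one : Inc 1 1 := by
  intro j x hx
  rw [one_smul]
  exact hx

theorem Inc.mul {g h : Co0} {s t : Equiv.Perm (Fin 315)} (h1 : Inc g s) (h2 : Inc h t) : Inc (g * h) (s * t) := by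
  intro j x hx
  rw [mul_smul]
  exact h1 _ _ (h2 _ _ hx)

theorem Inc.pow {g : Co0} {s : Equiv.Perm (Fin 315)} (h1 : Inc g s) (n : ℕ) : Inc (g ^ n) (s ^ n) := by
  induction n with
  | zero => simpa using Inc.one
  | succ n ih =>
    rw [pow_succ, pow_succ]
    exact ih.mul h1

instance finCo0J : Finite Co0 := Nat.finite_of_card_ne_zero (by rw [card_Co0]; norm_num)

theorem Inc.inv {g : Co0} {s : Equiv.Perm (Fin 315)} (h1 : Inc g s) : Inc g⁻¹ s⁻¹ := by
  have hg : 0 < orderOf g := orderOf_pos g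
  have hs : 0 < orderOf s := orderOf_pos s
  set n := orderOf g * orderOf s with hn
  have hn0 : 0 < n := Nat.mul_pos hg hs
  have e1 : g ^ n = 1 := by rw [hn, pow_mul, pow_orderOf_eq_one, one_pow]
  have e2 : s ^ n = 1 := by rw [hn, mul_comm, pow_mul, pow_orderOf_eq_one, one_pow]
  obtain ⟨m, hm⟩ : ∃ m, n = m + 1 := ⟨n - 1, by omega⟩
  have e3 : g⁻¹ = g ^ m := by
    rw [hm, pow_succ] at e1
    exact (eq_inv_of_mul_eq_one_left e1).symm
  have e4 : s⁻¹ = s ^ m := by
    rw [hm, pow_succ] at e2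
    exact (eq_inv_of_mul_eq_one_left e2).symm
  rw [e3, e4]
  exact h1.pow m

theorem inc_a : Inc aC 1 := by
  intro j x hx
  exact Y_gen (g := 4) (by norm_num) j.2 hx

theorem neg_smul_Q (x : Q) : negCo0 • x = x := by
  induction x using QuotientAddGroup.induction_on with
  | H v =>
    show negCo0 • cl v = cl v
    rw [smul_cl]
    have e : negCo0 • v = -v := Subtype.ext (coe_negCo0_smul v)
    rw [e]
    exact cl_neg' v

theorem inc_neg : Inc negCo0 1 := by
  intro j x hx
  rw [neg_smul_Q]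
  exact hx

theorem seed_ex (d : SeedI) : ∃ g, g < 4 ∧ d.1.elt.f = sdF.getD g 0 := by
  have h1 : d.1.elt.f ∈ sdF := List.mem_map.2 ⟨d.1, d.2, rfl⟩
  obtain ⟨i, hi, e⟩ := List.mem_iff_getElem.1 h1
  have hl : sdF.length = 4 := by decide +kernel
  refine ⟨i, by omega, ?_⟩
  rw [List.getD_eq_getElem _ _ hi, e]

theorem seed_inc (d : SeedI) : ∃ g ∈ CA, Inc g (σ d) := by
  obtain ⟨g, hg, e⟩ := seed_ex d
  refine ⟨gC g, gC_mem g (by omega), ?_⟩
  intro j x hx
  have h := Y_gen (g := g) (by omega) j.2 hx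
  have e2 : sPerm g j = ((σ d j : Fin 315) : ℕ) := by
    rw [show σ d = permOf 9 511 315 d.1.elt from rfl, permOf_apply (seed_valid d), e]
    have hb : Nat.blt g 4 = true := by simpa [Nat.blt_eq] using hg
    simp only [sPerm, hb, cond_true]
  rw [e2] at h
  exact h

theorem exists_inc {s : Equiv.Perm (Fin 315)} (h : s ∈ J315) : ∃ g ∈ CA, Inc g s := by
  rw [← closure_σ] at h
  induction h using Subgroup.closure_induction with
  | mem x hx =>
    obtain ⟨d, rfl⟩ := hx
    exact seed_inc d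
  | one => exact ⟨1, one_mem _, Inc.one⟩
  | mul x y _ _ hx hy =>
    obtain ⟨a, ha, ha'⟩ := hx
    obtain ⟨b, hb, hb'⟩ := hy
    exact ⟨a * b, mul_mem ha hb, ha'.mul hb'⟩
  | inv x _ hx =>
    obtain ⟨a, ha, ha'⟩ := hx
    exact ⟨a⁻¹, inv_mem ha, ha'.inv⟩

/-! ### Separating two subspaces -/

/-- The functional. -/
noncomputable def uv : leechLattice := ⟨vecOf uL, inLattice_sound uL_ok⟩

theorem pr_span_zero {F : ℕ → Q} {n : ℕ} (h : ∀ i, i < n → pr uv (F i) = 0) (k : ℕ) : pr uv (spanR F n k) = 0 := by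
  induction n with
  | zero => simp [spanR]
  | succ n ih =>
    simp only [spanR]
    rw [map_add, ih (fun i hi => h i (by omega))]
    cases k.testBit n
    · simp
    · simp [h n (by omega)]

theorem pr_YB (j i : ℕ) : pr uv (YB j i) = ((Cfsg.Agent.Lib.Sporadic.LeechSeven.dotL (spanL bL 24 (Kf j i)) uL / 8 : ℤ) : ZMod 2) := by
  rw [YB, ← cl_spanL24 _ 24 le_rfl]
  exact pr_vec _ _

theorem pr_Y1 {x : Q} (hx : x ∈ Y 1) : pr uv x = 0 := by
  obtain ⟨k, rfl⟩ := hx
  apply pr_span_zero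
  intro i hi
  rw [pr_YB, ← cast_mod2, u_chk1 i hi]
  rfl

theorem pr_Y0 : pr uv (YB 0 1) = 1 := by
  rw [pr_YB, ← cast_mod2, u_chk0]
  rfl

theorem YB0_mem : YB 0 1 ∈ Y 0 := by
  refine ⟨2, ?_⟩
  have t0 : (2 : ℕ).testBit 0 = false := by decide
  have t1 : (2 : ℕ).testBit 1 = true := by decide
  have t2 : (2 : ℕ).testBit 2 = false := by decide
  have t3 : (2 : ℕ).testBit 3 = false := by decide
  have t4 : (2 : ℕ).testBit 4 = false := by decide
  have t5 : (2 : ℕ).testBit 5 = false := by decide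
  have t6 : (2 : ℕ).testBit 6 = false := by decide
  have t7 : (2 : ℕ).testBit 7 = false := by decide
  simp only [spanR]
  rw [t0, t1, t2, t3, t4, t5, t6, t7]
  simp

/-- The permutations that fix all the subspaces, up to inclusion. -/
def NN : Subgroup J315 where
  carrier := {r | Inc 1 r.1}
  one_mem' := Inc.one
  mul_mem' := by
    intro a b ha hb
    have := Inc.mul ha hb
    simpa using this
  inv_mem' := by
    intro a ha
    have := Inc.inv ha
    simpa using this

theorem NN_normal : NN.Normal := by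
  refine ⟨fun r hr t => ?_⟩
  obtain ⟨g, _, hg⟩ := exists_inc t.2
  have := (hg.mul hr).mul hg.inv
  have e : g * 1 * g⁻¹ = 1 := by group
  rw [e] at this
  exact this

theorem NN_bot : NN = ⊥ := by
  rcases simple_J315.eq_bot_or_eq_top_of_normal NN NN_normal with h | h
  · exact h
  · exfalso
    have hp : MulAction.IsPretransitive J315 (Fin 315) := preprim_J.toIsPretransitive
    obtain ⟨t, ht⟩ := hp.exists_smul_eq (0 : Fin 315) 1
    have hm : t ∈ NN := h ▸ mem_top t
    have h1 : (1 : Co0) • YB 0 1 ∈ Y ((t.1 (0 : Fin 315) : Fin 315) : ℕ) := hm 0 _ YB0_mem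
    have e : t.1 (0 : Fin 315) = 1 := ht
    rw [e, one_smul] at h1
    have h2 := pr_Y1 h1
    rw [pr_Y0] at h2
    exact one_ne_zero h2

theorem inc_unique {g : Co0} {s t : Equiv.Perm (Fin 315)} (hs : s ∈ J315) (ht : t ∈ J315) (h1 : Inc g s) (h2 : Inc g t) :
    s = t := by
  have h3 : Inc 1 (s⁻¹ * t) := by
    have := h1.inv.mul h2
    simpa using this
  have h4 : (⟨s⁻¹ * t, mul_mem (inv_mem hs) ht⟩ : J315) ∈ NN := h3
  rw [NN_bot, mem_bot] at h4
  have h5 : s⁻¹ * t = 1 := congrArg Subtype.val h4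
  exact (inv_mul_eq_one.1 h5)

/-! ### The homomorphism -/

/-- The domain of the homomorphism. -/
def DD : Subgroup CA where
  carrier := {x | ∃ s ∈ J315, Inc x.1 s}
  one_mem' := ⟨1, one_mem _, Inc.one⟩
  mul_mem' := by
    rintro a b ⟨s, hs, hs'⟩ ⟨t, ht, ht'⟩
    exact ⟨s * t, mul_mem hs ht, hs'.mul ht'⟩
  inv_mem' := by
    rintro a ⟨s, hs, hs'⟩
    exact ⟨s⁻¹, inv_mem hs, hs'.inv⟩

/-- The homomorphism, as a function. -/
noncomputable def phiF (x : DD) : J315 := ⟨x.2.choose, x.2.choose_spec.1⟩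

theorem phiF_spec (x : DD) : Inc x.1.1 (phiF x).1 := x.2.choose_spec.2

theorem phiF_eq {x : DD} {t : J315} (h : Inc x.1.1 t.1) : phiF x = t :=
  Subtype.ext (inc_unique (phiF x).2 t.2 (phiF_spec x) h)

/-- The homomorphism. -/
noncomputable def phi : DD →* J315 :=
  MonoidHom.mk' phiF fun x y => phiF_eq ((phiF_spec x).mul (phiF_spec y))

theorem phi_surj : Function.Surjective phi := by
  intro t
  obtain ⟨g, hg, h⟩ := exists_inc t.2
  exact ⟨⟨⟨g, hg⟩, ⟨t.1, t.2, h⟩⟩, phiF_eq h⟩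

/-- The elements acting trivially. -/
def ker0 : Subgroup Co0 where
  carrier := {g | Inc g 1}
  one_mem' := Inc.one
  mul_mem' := by
    intro a b ha hb
    have := Inc.mul ha hb
    simpa using this
  inv_mem' := by
    intro a ha
    have := Inc.inv ha
    simpa using this

theorem sup_le_ker0 : A5 ⊔ center Co0 ≤ ker0 := by
  refine sup_le ?_ ?_
  · rw [A5, zpowers_le]
    exact inc_a
  · intro z hz
    rcases (mem_center_iff z).1 hz with rfl | rfl
    · exact Inc.one
    · exact inc_neg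

theorem phi_mem (x : CA) (hx : (x : Co0) ∈ A5 ⊔ center Co0) : x ∈ DD :=
  ⟨1, one_mem _, sup_le_ker0 hx⟩

theorem phi_ker (x : DD) (hx : ((x : CA) : Co0) ∈ A5 ⊔ center Co0) : phi x = 1 :=
  phiF_eq (t := 1) (sup_le_ker0 hx)

theorem card_center : Nat.card (center Co0) = 2 := by
  rw [Nat.card_eq_two_iff]
  refine ⟨⟨1, one_mem _⟩, ⟨negCo0, negCo0_mem_center⟩, ?_, ?_⟩
  · intro h
    exact negCo0_ne_one (congrArg Subtype.val h).symm
  · ext ⟨z, hz⟩
    simp only [Set.mem_insert_iff, Set.mem_singleton_iff, Set.mem_univ, iff_true, Subtype.mk.injEq]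
    exact (mem_center_iff z).1 hz

end Cfsg.Agent.Lib.Sporadic.LeechJ2
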