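import Mathlib
import Cfsg.Agent.Lib.Sporadic.LeechAct

/-!
# The stabiliser of the standard cross is a maximal subgroup
-/

set_option autoImplicit false

namespace Cfsg.Agent.Lib.Sporadic.LeechMax

open Cfsg Cfsg.Agent.Lib.Sporadic.GolayCore Cfsg.Agent.Lib.Sporadic.LeechBasic
  Cfsg.Agent.Lib.Sporadic.LeechNorm Cfsg.Agent.Lib.Sporadic.LeechFacts
  Cfsg.Agent.Lib.Sporadic.LeechAut Cfsg.Agent.Lib.Sporadic.LeechMat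
  Cfsg.Agent.Lib.Sporadic.LeechOrb Cfsg.Agent.Lib.Sporadic.M24Chain
  Cfsg.Agent.Lib.Sporadic.M24Tbl Cfsg.Agent.Lib.Sporadic.M24Basic
  Cfsg.Agent.Lib.Sporadic.LeechShape
  Cfsg.Agent.Lib.Sporadic.LeechOrbits Cfsg.Agent.Lib.Sporadic.LeechMonomial
  Cfsg.Agent.Lib.Sporadic.LeechMin Cfsg.Agent.Lib.Sporadic.LeechAct
  Cfsg.Agent.Lib.Sporadic.LeechClasses

/-! ### The monomial group lies in the stabiliser of the cross -/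

theorem signCo0_pres (c : Finset GolayPt) (hc : c ∈ supports (golayCode : Set (GolayPt → ZMod 2))) :
    PresCross (signCo0 c hc) := by
  rintro v ⟨i, s, hs, e⟩
  show signChange c (v : GolayPt → ℤ) ∈ stdCross
  rw [e]
  by_cases hi : i ∈ c
  · refine ⟨i, -s, ?_, ?_⟩
    · rcases hs with rfl | rfl <;> simp
    · funext k
      simp only [signChange]
      by_cases hk : k = i
      · subst hk
        simp [hi]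
      · simp [Pi.single_eq_of_ne hk]
  · refine ⟨i, s, hs, ?_⟩
    funext k
    simp only [signChange]
    by_cases hk : k = i
    · subst hk
      simp [hi]
    · simp [Pi.single_eq_of_ne hk]

theorem permCo0_pres (σ : Equiv.Perm GolayPt) (hσ : σ ∈ M24) : PresCross (permCo0 σ hσ) := by
  rintro v ⟨i, s, hs, e⟩
  show permV σ (v : GolayPt → ℤ) ∈ stdCross
  rw [e]
  refine ⟨σ i, s, hs, ?_⟩
  funext k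
  simp only [permV]
  by_cases hk : k = σ i
  · subst hk
    simp
  · rw [Pi.single_eq_of_ne hk, Pi.single_eq_of_ne]
    intro h
    apply hk
    rw [← h]
    simp

theorem Mono_le_N : Mono ≤ N := by
  unfold Mono
  rw [Subgroup.closure_le]
  rintro g (⟨c, hc, rfl⟩ | ⟨σ, hσ, rfl⟩)
  · exact mem_N_iff_pres.2 (signCo0_pres c hc)
  · exact mem_N_iff_pres.2 (permCo0_pres σ hσ)

theorem v8_eq : (v8 : GolayPt → ℤ) = vecOf r8L := by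
  funext p
  revert p
  decide +kernel

theorem r8_ok : inLattice r8L = true := by decide +kernel

/-- An element moving `v8` inside the orbit of `K` is in `K`. -/
theorem mem_of_orbit {K : Subgroup Co0} (hNK : N ≤ K) (g : Co0) {y : GolayPt → ℤ}
    (h : SameIn K (vecOf r8L) y) (hy : ((g • v8 : leechLattice) : GolayPt → ℤ) = y) : g ∈ K := by
  obtain ⟨hx, hy', k, hk, e⟩ := h
  have e1 : k • v8 = g • v8 := by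
    apply Subtype.ext
    rw [hy]
    have e2 : v8 = ⟨vecOf r8L, hx⟩ := Subtype.ext v8_eq
    rw [e2, e]
  have h1 : g⁻¹ * k ∈ N := by
    rw [mem_N_iff_v8, mul_smul, e1, inv_smul_smul]
  have h2 := K.mul_mem hk (K.inv_mem (hNK h1))
  have h3 : k * (g⁻¹ * k)⁻¹ = g := by group
  rwa [h3] at h2

/-- A checked matrix mapping `v8` to a vector in the `K`-orbit is in `K`. -/
theorem mat_mem {K : Subgroup Co0} (hNK : N ≤ K) {M : List (List ℤ)} {D : ℤ} (hM : matCheck M D = true)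
    {l : List ℤ} (he : vecOf (rangeL fun i => (matVec M r8L).getD i 0 / D) = vecOf l)
    (h : SameIn K (vecOf r8L) (vecOf l)) : matCo0 hM ∈ K := by
  apply mem_of_orbit hNK _ h
  have e2 : v8 = ⟨vecOf r8L, inLattice_sound r8_ok⟩ := Subtype.ext v8_eq
  rw [e2, matCo0_smul_vecOf, ← he]
  funext k
  rw [vecOf_rangeL]
  simp only [vecOf, matVec, rangeL]

/-- Sign change on an explicit vector. -/
theorem signChange_ofMask_vecOf {m : ℕ} {l l' : List ℤ}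
    (h : (List.range 24).all (fun i => l'.getD i 0 == if m.testBit i then -l.getD i 0 else l.getD i 0) = true) :
    signChange (ofMask m) (vecOf l) = vecOf l' := by
  funext p
  have h1 := List.all_eq_true.1 h _ (List.mem_range.2 (idx_lt p))
  rw [beq_iff_eq] at h1
  simp only [signChange, vecOf, mem_ofMask]
  rw [h1]

/-- An explicit signed permutation of an explicit vector. -/
theorem sameM_tbl {T : List ℕ} (hT : goodT T = true) {m : ℕ} (hm : inCode m = true) {l l1 l2 : List ℤ}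
    (hl : inLattice l = true)
    (h1 : (List.range 24).all (fun i => l1.getD (T.getD i 0) 0 == l.getD i 0) = true)
    (h2 : (List.range 24).all (fun i => l2.getD i 0 == if m.testBit i then -l1.getD i 0 else l1.getD i 0) = true) :
    SameM (vecOf l) (vecOf l2) := by
  have hm' : m ∈ codeList := mem_codeList_of_inCode hm
  have h3 := sameM_perm (gPerm_mem hT) (inLattice_sound hl)
  rw [permV_gPerm_vecOf hT h1] at h3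
  have h4 := sameM_sign ((ofMask_mem_supports_iff (codeList_lt hm')).mpr hm') h3.right_mem
  rw [signChange_ofMask_vecOf h2] at h4
  exact h3.trans h4

def Mr4 : List (List ℤ) := [[1,0,0,0,0,1,0,-1,0,0,0,0,0,0,0,0,0,0,0,0,0,0,0,1],
  [1,0,0,0,0,-1,0,1,0,0,0,0,0,0,0,0,0,0,0,0,0,0,0,1],
  [-1,0,0,0,0,1,0,1,0,0,0,0,0,0,0,0,0,0,0,0,0,0,0,1],
  [0,0,0,0,0,0,0,0,0,0,0,1,0,0,1,0,0,0,1,-1,0,0,0,0],
  [0,0,0,0,0,0,1,0,0,0,0,0,0,-1,0,0,-1,-1,0,0,0,0,0,0],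
  [0,0,0,0,0,0,0,0,0,0,0,1,0,0,-1,0,0,0,1,1,0,0,0,0],
  [0,0,0,-1,0,0,0,0,0,0,1,0,0,0,0,0,0,0,0,0,1,1,0,0],
  [0,0,0,-1,0,0,0,0,0,0,-1,0,0,0,0,0,0,0,0,0,1,-1,0,0],
  [0,0,-1,0,0,0,0,0,0,1,0,0,1,0,0,0,0,0,0,0,0,0,1,0],
  [0,1,0,0,-1,0,0,0,-1,0,0,0,0,0,0,-1,0,0,0,0,0,0,0,0],
  [0,-1,0,0,1,0,0,0,-1,0,0,0,0,0,0,-1,0,0,0,0,0,0,0,0],
  [0,0,1,0,0,0,0,0,0,1,0,0,1,0,0,0,0,0,0,0,0,0,-1,0],
  [0,0,1,0,0,0,0,0,0,1,0,0,-1,0,0,0,0,0,0,0,0,0,1,0],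
  [0,0,0,0,0,0,-1,0,0,0,0,0,0,-1,0,0,1,-1,0,0,0,0,0,0],
  [0,0,0,0,0,0,0,0,0,0,0,-1,0,0,-1,0,0,0,1,-1,0,0,0,0],
  [0,1,0,0,1,0,0,0,1,0,0,0,0,0,0,-1,0,0,0,0,0,0,0,0],
  [0,0,0,0,0,0,-1,0,0,0,0,0,0,-1,0,0,-1,1,0,0,0,0,0,0],
  [0,0,0,0,0,0,0,0,0,0,0,-1,0,0,1,0,0,0,1,1,0,0,0,0],
  [0,0,-1,0,0,0,0,0,0,1,0,0,-1,0,0,0,0,0,0,0,0,0,-1,0],
  [0,0,0,1,0,0,0,0,0,0,-1,0,0,0,0,0,0,0,0,0,1,1,0,0],
  [0,-1,0,0,-1,0,0,0,1,0,0,0,0,0,0,-1,0,0,0,0,0,0,0,0],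
  [0,0,0,1,0,0,0,0,0,0,1,0,0,0,0,0,0,0,0,0,1,-1,0,0],
  [0,0,0,0,0,0,1,0,0,0,0,0,0,-1,0,0,1,1,0,0,0,0,0,0],
  [-1,0,0,0,0,-1,0,-1,0,0,0,0,0,0,0,0,0,0,0,0,0,0,0,1]]

theorem Mr4_ok : matCheck Mr4 2 = true := by decide +kernel

theorem Mr4_v8 : vecOf (rangeL fun i => (matVec Mr4 r8L).getD i 0 / 2) = vecOf r4L := by
  funext p
  revert p
  decide +kernel

def Mr244 : List (List ℤ) := [[1,-1,-1,0,1,-1,-1,1,1,-1,0,0,1,1,0,1,1,1,0,0,0,0,-1,1],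
  [1,-1,1,0,1,-1,1,1,1,1,0,0,-1,-1,0,1,-1,-1,0,0,0,0,1,1],
  [-1,1,1,0,1,1,1,1,1,-1,0,0,-1,-1,0,-1,1,1,0,0,0,0,-1,1],
  [-1,-1,-1,0,-1,1,1,1,-1,1,0,0,1,-1,0,1,1,1,0,0,0,0,1,1],
  [0,0,0,-1,0,0,0,-2,0,0,1,1,0,0,-1,0,0,0,-1,-1,1,1,0,2],
  [-1,-1,1,0,-1,1,-1,1,-1,-1,0,0,-1,1,0,1,-1,-1,0,0,0,0,-1,1],
  [0,0,0,1,0,0,0,-2,0,0,-1,-1,0,0,1,0,0,0,1,1,-1,-1,0,2],
  [0,0,2,-1,0,0,0,0,0,0,-1,-1,2,0,-1,0,0,0,-1,1,-1,1,0,0],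
  [0,0,0,-1,2,0,0,0,-2,0,1,1,0,0,1,0,0,0,-1,1,-1,-1,0,0],
  [2,0,0,1,0,2,0,0,0,0,-1,1,0,0,-1,0,0,0,-1,-1,-1,-1,0,0],
  [0,0,0,1,0,0,0,0,0,2,1,-1,0,0,-1,0,0,0,-1,1,1,-1,-2,0],
  [0,0,0,-1,0,0,0,0,0,2,-1,1,0,0,1,0,0,0,1,-1,-1,1,-2,0],
  [2,0,0,-1,0,2,0,0,0,0,1,-1,0,0,1,0,0,0,1,1,1,1,0,0],
  [0,0,0,1,0,0,0,0,0,0,1,-1,0,0,1,0,-2,2,-1,-1,-1,1,0,0],
  [-1,1,-1,0,1,1,-1,1,1,1,0,0,1,1,0,-1,-1,-1,0,0,0,0,1,1],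
  [0,0,0,1,0,0,2,0,0,0,1,1,0,2,-1,0,0,0,1,1,-1,1,0,0],
  [0,2,0,1,0,0,0,0,0,0,-1,1,0,0,1,2,0,0,-1,1,1,1,0,0],
  [1,1,1,0,-1,-1,-1,1,-1,1,0,0,-1,1,0,-1,1,1,0,0,0,0,1,1],
  [0,0,0,-1,0,0,2,0,0,0,-1,-1,0,2,1,0,0,0,-1,-1,1,-1,0,0],
  [0,0,0,-1,0,0,0,0,0,0,-1,1,0,0,-1,0,-2,2,1,1,1,-1,0,0],
  [0,0,0,1,2,0,0,0,-2,0,-1,-1,0,0,-1,0,0,0,1,-1,1,1,0,0],
  [0,2,0,-1,0,0,0,0,0,0,1,-1,0,0,-1,2,0,0,1,-1,-1,-1,0,0],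
  [0,0,2,1,0,0,0,0,0,0,1,1,2,0,1,0,0,0,1,-1,1,-1,0,0],
  [1,1,-1,0,-1,-1,1,1,-1,-1,0,0,1,-1,0,-1,-1,-1,0,0,0,0,-1,1]]

theorem Mr244_ok : matCheck Mr244 4 = true := by decide +kernel

theorem Mr244_v8 : vecOf (rangeL fun i => (matVec Mr244 r8L).getD i 0 / 4) = vecOf r244L := by
  funext p
  revert p
  decide +kernel

def MR35 : List (List ℤ) := [[3,-3,1,-1,-1,-3,-1,-3,-1,-1,1,-1,-1,1,-1,-1,-1,-1,1,-1,-1,-1,-1,-3],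
  [-1,1,1,-1,-1,1,3,1,-1,3,-3,-1,-1,1,3,-1,-1,-1,1,-1,-1,-1,-1,-3],
  [-1,1,1,-1,-1,1,-1,1,-1,-1,1,-1,3,1,-1,-1,-1,3,-3,-1,-1,3,-1,-3],
  [-1,1,-3,-1,-1,1,-1,1,-1,-1,1,3,-1,1,-1,-1,3,-1,1,-1,3,-1,-1,-3],
  [-1,1,1,-1,-1,1,-1,-3,-1,-1,-3,-1,3,1,-1,-1,3,-1,1,3,-1,-1,-1,1],
  [-1,1,1,-1,3,1,-1,1,-5,-1,1,-1,-1,1,-1,3,-1,-1,1,-1,-1,-1,-1,1],
  [-1,1,-3,3,-1,1,-1,-3,-1,-1,1,-1,-1,1,3,-1,-1,3,1,-1,-1,-1,-1,1],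
  [-1,1,-3,-1,-1,-3,3,1,-1,-1,1,-1,-1,1,-1,-1,-1,-1,1,3,-1,3,-1,1],
  [-1,1,1,-1,-1,-3,-1,1,-1,-1,-3,3,-1,1,-1,-1,-1,3,1,-1,-1,-1,3,1],
  [-1,-3,1,3,-1,1,-1,1,-1,-1,-3,-1,-1,1,-1,-1,-1,-1,1,-1,3,3,-1,1],
  [3,1,1,-1,-1,1,-1,1,-1,3,1,-1,-1,1,-1,-1,-1,3,1,3,3,-1,-1,1],
  [3,1,1,3,-1,1,3,1,-1,-1,1,3,3,1,-1,-1,-1,-1,1,-1,-1,-1,-1,1],
  [-1,-3,1,-1,-1,1,-1,1,-1,-1,1,3,-1,1,3,-1,-1,-1,-3,3,-1,-1,-1,1],
  [-1,-3,1,-1,-1,1,3,1,-1,-1,1,-1,-1,-3,-1,-1,3,3,1,-1,-1,-1,-1,1],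
  [-1,1,1,-1,-5,1,-1,1,3,-1,1,-1,-1,1,-1,3,-1,-1,1,-1,-1,-1,-1,1],
  [-1,1,1,-1,-1,1,3,-3,-1,-1,1,-1,-1,1,-1,-1,-1,-1,-3,-1,3,-1,3,1],
  [3,1,1,-1,-1,1,-1,1,-1,-1,1,-1,-1,1,3,-1,3,-1,1,-1,-1,3,3,1],
  [-1,1,1,-1,3,1,-1,1,3,-1,1,-1,-1,1,-1,-5,-1,-1,1,-1,-1,-1,-1,1],
  [-1,1,1,-1,-1,1,-1,-3,-1,3,1,3,-1,-3,-1,-1,-1,-1,1,-1,-1,3,-1,1],
  [-1,-3,-3,-1,-1,1,-1,1,-1,3,1,-1,3,1,-1,-1,-1,-1,1,-1,-1,-1,3,1],
  [-1,1,1,-1,-1,-3,-1,1,-1,-1,1,-1,3,-3,3,-1,-1,-1,1,-1,3,-1,-1,1],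
  [3,1,-3,-1,-1,1,-1,1,-1,-1,-3,-1,-1,-3,-1,-1,-1,-1,-3,-1,-1,-1,-1,1],
  [-1,1,1,3,-1,-3,-1,1,-1,3,1,-1,-1,1,-1,-1,3,-1,-3,-1,-1,-1,-1,1],
  [-1,1,1,3,-1,1,-1,1,-1,-1,1,-1,-1,-3,-1,-1,-1,-1,1,3,-1,-1,3,-3]]

theorem MR35_ok : matCheck MR35 8 = true := by decide +kernel

theorem MR35_v8 : vecOf (rangeL fun i => (matVec MR35 r8L).getD i 0 / 8) = vecOf R35L := by
  funext p
  revert p
  decide +kernel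

def MR53 : List (List ℤ) := [[5,-1,-1,-1,-1,3,-1,1,-1,1,1,1,1,1,-1,1,-1,-1,-1,-1,1,1,1,-3],
  [-3,-1,-1,-1,-1,-5,-1,1,-1,1,1,1,1,1,-1,1,-1,-1,-1,-1,1,1,1,-3],
  [1,-1,3,-1,-1,-1,-1,1,3,1,1,1,1,-3,-1,1,-1,-1,-1,3,-3,1,1,1],
  [1,-1,-1,-1,-1,-1,-1,1,-1,1,-3,1,1,-3,3,-3,-1,-1,-1,-1,1,1,-3,1],
  [1,-1,-1,3,-1,-1,-1,-3,-1,1,-3,1,1,1,-1,1,-1,-1,-1,-1,-3,-3,1,1],
  [1,-1,-1,-1,-1,-1,3,-3,-1,1,1,1,1,-3,-1,1,3,3,-1,-1,1,1,1,1],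
  [1,-1,-1,-1,-1,-1,3,1,3,1,1,1,-3,1,3,1,-1,-1,-1,-1,1,-3,1,1],
  [1,3,-1,-1,3,-1,-1,-3,3,1,1,1,1,1,-1,-3,-1,-1,-1,-1,1,1,1,1],
  [1,-1,-1,-1,-1,-1,-1,-3,-1,1,1,-3,1,1,3,1,-1,-1,3,3,1,1,1,1],
  [1,-1,3,-1,-1,-1,-1,1,-1,1,1,1,1,1,-1,-3,3,-1,3,-1,1,-3,1,1],
  [1,3,3,3,-1,-1,-1,1,-1,1,1,1,1,1,3,1,-1,3,-1,-1,1,1,1,1],
  [1,3,-1,-1,-1,-1,-1,1,-1,1,-3,1,-3,1,-1,1,3,-1,-1,3,1,1,1,1],
  [1,-1,-1,-1,3,-1,-1,1,-1,1,1,1,1,1,-1,1,-1,3,-1,3,1,-3,-3,1],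
  [1,-1,-1,-1,3,-1,-1,1,-1,-3,1,1,1,1,3,1,3,-1,-1,-1,-3,1,1,1],
  [1,-1,-1,3,3,-1,-1,1,-1,1,1,1,-3,-3,-1,1,-1,-1,3,-1,1,1,1,1],
  [1,-1,3,-1,-1,-1,-1,-3,-1,-3,1,1,-3,1,-1,1,-1,-1,-1,-1,1,1,-3,1],
  [1,-1,-1,-1,-1,-1,-1,1,-1,1,1,-3,-3,1,-1,-3,-1,3,-1,-1,-3,1,1,1],
  [1,3,-1,-1,-1,-1,-1,1,-1,-3,1,-3,1,-3,-1,1,-1,-1,-1,-1,1,-3,1,1],
  [1,-1,-1,3,-1,-1,3,1,-1,-3,1,1,1,1,-1,-3,-1,-1,-1,3,1,1,1,1],
  [1,-1,-1,-1,-1,-1,-1,1,3,-3,-3,1,1,1,-1,1,-1,3,3,-1,1,1,1,1],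
  [1,-1,3,-1,3,-1,3,1,-1,1,-3,-3,1,1,-1,1,-1,-1,-1,-1,1,1,1,1],
  [1,-1,-1,3,-1,-1,-1,1,3,1,1,-3,1,1,-1,1,3,-1,-1,-1,1,1,-3,1],
  [1,3,-1,-1,-1,-1,3,1,-1,1,1,1,1,1,-1,1,-1,-1,3,-1,-3,1,-3,1],
  [-3,-1,-1,-1,-1,3,-1,1,-1,1,1,1,1,1,-1,1,-1,-1,-1,-1,1,1,1,5]]

theorem MR53_ok : matCheck MR53 8 = true := by decide +kernel

theorem MR53_v8 : vecOf (rangeL fun i => (matVec MR53 r8L).getD i 0 / 8) = vecOf R53L := by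
  funext p
  revert p
  decide +kernel

def Mr6 : List (List ℤ) := [[2,-2,0,0,-2,-2,0,2,-2,0,0,0,0,0,0,2,0,0,0,0,0,0,0,-6],
  [2,-2,0,0,-2,-2,0,2,-2,0,0,0,0,0,0,-6,0,0,0,0,0,0,0,2],
  [2,6,0,0,-2,-2,0,2,-2,0,0,0,0,0,0,2,0,0,0,0,0,0,0,2],
  [-6,-2,0,0,-2,-2,0,2,-2,0,0,0,0,0,0,2,0,0,0,0,0,0,0,2],
  [0,0,-2,2,0,0,-2,0,0,-2,2,2,-2,-2,2,0,2,-2,2,-2,-2,2,2,0],
  [2,-2,0,0,-2,-2,0,2,6,0,0,0,0,0,0,2,0,0,0,0,0,0,0,2],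
  [0,0,-2,-2,0,0,-2,0,0,-2,-2,-2,-2,-2,-2,0,2,-2,-2,2,2,-2,2,0],
  [0,0,-2,2,0,0,2,0,0,-2,2,-2,-2,2,-2,0,-2,2,-2,2,-2,2,2,0],
  [0,0,2,-2,0,0,-2,0,0,-2,-2,2,2,-2,-2,0,-2,2,2,2,-2,2,2,0],
  [0,0,2,-2,0,0,-2,0,0,2,2,-2,-2,2,-2,0,2,2,2,-2,-2,-2,2,0],
  [0,0,2,2,0,0,2,0,0,2,-2,-2,-2,-2,-2,0,-2,-2,2,-2,2,2,2,0],
  [0,0,2,-2,0,0,2,0,0,2,2,2,-2,-2,2,0,-2,-2,-2,2,-2,-2,2,0],
  [0,0,2,2,0,0,-2,0,0,2,-2,2,-2,2,2,0,2,2,-2,2,2,2,2,0],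
  [0,0,-2,2,0,0,2,0,0,2,-2,2,2,-2,-2,0,2,2,-2,-2,-2,-2,2,0],
  [2,-2,0,0,-2,-2,0,-6,-2,0,0,0,0,0,0,2,0,0,0,0,0,0,0,2],
  [0,0,2,-2,0,0,2,0,0,-2,-2,-2,2,2,2,0,2,-2,-2,-2,-2,2,2,0],
  [0,0,-2,-2,0,0,-2,0,0,2,2,2,2,2,-2,0,-2,-2,-2,-2,2,2,2,0],
  [2,-2,0,0,6,-2,0,2,-2,0,0,0,0,0,0,2,0,0,0,0,0,0,0,2],
  [0,0,2,2,0,0,2,0,0,-2,2,2,2,2,-2,0,2,-2,2,2,2,-2,2,0],
  [0,0,-2,-2,0,0,2,0,0,2,2,-2,2,-2,2,0,2,2,2,2,2,2,2,0],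
  [0,0,2,2,0,0,-2,0,0,-2,2,-2,2,-2,2,0,-2,2,-2,-2,2,-2,2,0],
  [0,0,-2,2,0,0,-2,0,0,2,-2,-2,2,2,2,0,-2,-2,2,2,-2,-2,2,0],
  [0,0,-2,-2,0,0,2,0,0,-2,-2,2,-2,2,2,0,-2,2,2,-2,2,-2,2,0],
  [2,-2,0,0,-2,6,0,2,-2,0,0,0,0,0,0,2,0,0,0,0,0,0,0,2]]

theorem Mr6_ok : matCheck Mr6 8 = true := by decide +kernel

theorem Mr6_v8 : vecOf (rangeL fun i => (matVec Mr6 r8L).getD i 0 / 8) = vecOf r6L := by
  funext p
  revert p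
  decide +kernel

def Mr124 : List (List ℤ) := [[-4,0,0,2,2,0,2,-2,-2,0,-2,0,0,-2,-2,0,-2,-2,0,-2,0,0,0,-2],
  [0,0,0,-2,2,0,2,2,2,0,-2,0,-4,-2,-2,0,-2,2,0,2,0,0,0,2],
  [0,0,0,2,-2,0,-2,-2,2,0,-2,0,0,-2,-2,0,2,-2,4,2,0,0,0,2],
  [0,0,0,2,-2,0,2,2,-2,-4,2,0,0,2,-2,0,-2,-2,0,2,0,0,0,2],
  [-2,-2,-2,0,0,2,0,0,0,2,0,2,2,0,0,-2,0,0,-2,0,2,2,2,4],
  [2,-2,-2,0,0,-2,0,0,0,2,0,-2,-2,0,0,2,0,-4,-2,0,-2,2,2,0],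
  [0,4,0,-2,2,0,-2,-2,2,0,2,0,0,2,-2,0,-2,-2,0,-2,0,0,0,2],
  [0,0,0,2,2,0,-2,-2,-2,0,2,0,0,-2,2,0,-2,2,0,2,-4,0,0,2],
  [0,0,0,2,-2,0,2,-2,2,0,-2,-4,0,2,2,0,-2,2,0,-2,0,0,0,2],
  [0,0,0,-2,-2,0,-2,2,-2,0,-2,0,0,-2,2,0,-2,-2,0,-2,0,0,-4,2],
  [2,-2,-2,0,0,2,0,0,0,-2,0,2,-2,0,0,-2,0,0,2,-4,-2,-2,2,0],
  [2,2,-2,0,0,-2,0,0,0,-2,0,-2,2,-4,0,-2,0,0,-2,0,2,-2,2,0],
  [0,0,0,-2,2,0,2,-2,-2,0,-2,0,0,2,2,0,2,-2,0,2,0,-4,0,2],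
  [2,-2,2,0,0,-2,0,-4,0,-2,0,2,-2,0,0,-2,0,0,-2,0,2,2,-2,0],
  [0,0,4,2,2,0,2,2,2,0,2,0,0,-2,2,0,2,-2,0,-2,0,0,0,2],
  [0,0,0,2,2,-4,-2,2,-2,0,-2,0,0,2,-2,0,2,2,0,-2,0,0,0,2],
  [2,2,-2,0,0,-2,4,0,0,2,0,2,2,0,0,-2,0,0,2,0,-2,2,-2,0],
  [2,2,-2,4,0,2,0,0,0,2,0,2,-2,0,0,2,0,0,-2,0,2,-2,-2,0],
  [2,-2,2,0,0,2,0,0,0,2,0,-2,2,0,-4,-2,0,0,-2,0,-2,-2,-2,0],
  [2,-2,2,0,0,-2,0,0,0,2,0,2,2,0,0,2,-4,0,2,0,2,-2,2,0],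
  [2,2,2,0,0,2,0,0,-4,2,0,-2,-2,0,0,-2,0,0,2,0,2,2,2,0],
  [2,-2,-2,0,4,2,0,0,0,-2,0,-2,2,0,0,2,0,0,2,0,2,2,-2,0],
  [2,2,2,0,0,2,0,0,0,-2,-4,2,2,0,0,2,0,0,-2,0,-2,2,2,0],
  [0,0,0,-2,-2,0,2,-2,-2,0,2,0,0,-2,-2,4,2,2,0,-2,0,0,0,2]]

theorem Mr124_ok : matCheck Mr124 8 = true := by decide +kernel

theorem Mr124_v8 : vecOf (rangeL fun i => (matVec Mr124 r8L).getD i 0 / 8) = vecOf r124L := by
  funext p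
  revert p
  decide +kernel

def Mrm : List (List ℤ) := [[2,0,-2,2,2,2,0,0,-2,0,-2,-2,-2,0,-2,0,-2,2,-2,-2,-2,2,0,0],
  [2,0,-2,-2,-2,2,0,0,2,0,-2,2,-2,0,-2,0,2,-2,-2,2,-2,-2,0,0],
  [-2,0,2,-2,2,-2,0,0,-2,0,-2,2,2,0,-2,0,-2,2,-2,2,-2,-2,0,0],
  [2,0,2,-2,2,2,0,0,-2,0,2,-2,2,0,2,0,2,-2,-2,2,-2,2,0,0],
  [0,-2,0,0,0,0,2,2,0,-2,0,0,0,2,0,-2,0,0,-4,0,4,0,2,-2],
  [2,0,2,2,-2,2,0,0,2,0,2,2,2,0,2,0,-2,2,-2,-2,-2,-2,0,0],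
  [0,-2,0,0,0,0,2,2,0,-2,0,0,0,2,0,-2,0,0,4,0,-4,0,2,-2],
  [0,2,0,0,0,0,2,-2,0,-2,0,-4,0,2,0,2,0,0,0,0,0,-4,2,2],
  [0,-2,0,0,0,0,2,-2,0,2,-4,0,0,2,4,-2,0,0,0,0,0,0,-2,2],
  [0,-2,-4,0,0,0,2,2,0,-2,0,0,4,-2,0,2,0,0,0,0,0,0,-2,2],
  [0,-2,0,0,0,0,-2,2,0,2,0,0,0,2,0,2,-4,-4,0,0,0,0,2,2],
  [0,-2,0,0,0,0,-2,2,0,2,0,0,0,2,0,2,4,4,0,0,0,0,2,2],
  [0,-2,4,0,0,0,2,2,0,-2,0,0,-4,-2,0,2,0,0,0,0,0,0,-2,2],
  [0,2,0,0,-4,0,2,2,-4,2,0,0,0,-2,0,-2,0,0,0,0,0,0,2,2],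
  [-2,0,2,2,-2,-2,0,0,2,0,-2,-2,2,0,-2,0,2,-2,-2,-2,-2,2,0,0],
  [0,-2,0,4,0,0,-2,-2,0,-2,0,0,0,-2,0,-2,0,0,0,4,0,0,2,2],
  [-4,2,0,0,0,4,-2,2,0,-2,0,0,0,2,0,-2,0,0,0,0,0,0,-2,2],
  [-2,0,-2,2,2,-2,0,0,-2,0,2,2,-2,0,2,0,2,-2,-2,-2,-2,-2,0,0],
  [0,-2,0,-4,0,0,-2,-2,0,-2,0,0,0,-2,0,-2,0,0,0,-4,0,0,2,2],
  [0,2,0,0,4,0,2,2,4,2,0,0,0,-2,0,-2,0,0,0,0,0,0,2,2],
  [0,-2,0,0,0,0,2,-2,0,2,4,0,0,2,-4,-2,0,0,0,0,0,0,-2,2],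
  [4,2,0,0,0,-4,-2,2,0,-2,0,0,0,2,0,-2,0,0,0,0,0,0,-2,2],
  [0,2,0,0,0,0,2,-2,0,-2,0,4,0,2,0,2,0,0,0,0,0,4,2,2],
  [-2,0,-2,-2,-2,-2,0,0,2,0,2,-2,-2,0,2,0,-2,2,-2,2,-2,2,0,0]]

theorem Mrm_ok : matCheck Mrm 8 = true := by decide +kernel

theorem Mrm_v8 : vecOf (rangeL fun i => (matVec Mrm r8L).getD i 0 / 8) = vecOf rmL := by
  funext p
  revert p
  decide +kernel

def Mrp : List (List ℤ) := [[0,0,0,-4,-4,4,0,0,-4,-4,0,0,0,0,0,-4,-4,0,-12,0,0,0,0,0],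
  [0,0,0,-4,-4,4,0,0,-4,-4,0,0,0,0,0,-4,12,0,4,0,0,0,0,0],
  [0,0,0,-4,-4,-12,0,0,-4,-4,0,0,0,0,0,-4,-4,0,4,0,0,0,0,0],
  [0,0,0,-4,-4,4,0,0,-4,12,0,0,0,0,0,-4,-4,0,4,0,0,0,0,0],
  [-4,-4,-4,0,0,0,-4,-4,0,0,4,4,4,-4,-4,0,0,-4,0,-4,-4,4,4,4],
  [0,0,0,-4,-4,4,0,0,-4,-4,0,0,0,0,0,12,-4,0,4,0,0,0,0,0],
  [4,4,4,0,0,0,-4,-4,0,0,-4,-4,4,4,4,0,0,-4,0,4,-4,4,4,4],
  [-4,4,4,0,0,0,-4,4,0,0,-4,4,4,-4,4,0,0,4,0,-4,4,-4,4,4],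
  [4,4,-4,0,0,0,4,-4,0,0,4,4,4,4,4,0,0,4,0,-4,-4,-4,-4,4],
  [-4,4,-4,0,0,0,4,4,0,0,-4,4,-4,4,-4,0,0,4,0,4,-4,4,4,4],
  [4,4,-4,0,0,0,4,-4,0,0,-4,-4,-4,-4,-4,0,0,-4,0,-4,4,-4,4,4],
  [-4,-4,4,0,0,0,4,-4,0,0,4,4,-4,4,4,0,0,-4,0,4,4,-4,4,4],
  [4,-4,4,0,0,0,4,4,0,0,4,-4,-4,-4,4,0,0,4,0,-4,-4,4,4,4],
  [4,4,4,0,0,0,-4,-4,0,0,4,4,-4,-4,-4,0,0,4,0,4,4,4,-4,4],
  [0,0,0,-4,-4,4,0,0,12,-4,0,0,0,0,0,-4,-4,0,4,0,0,0,0,0],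
  [4,-4,4,0,0,0,4,4,0,0,-4,4,4,4,-4,0,0,-4,0,-4,4,4,-4,4],
  [-4,4,4,0,0,0,-4,4,0,0,4,-4,-4,4,-4,0,0,-4,0,-4,-4,-4,-4,4],
  [0,0,0,-4,12,4,0,0,-4,-4,0,0,0,0,0,-4,-4,0,4,0,0,0,0,0],
  [-4,4,-4,0,0,0,4,4,0,0,4,-4,4,-4,4,0,0,-4,0,4,4,4,-4,4],
  [-4,-4,-4,0,0,0,-4,-4,0,0,-4,-4,-4,4,4,0,0,4,0,-4,4,4,-4,4],
  [-4,-4,4,0,0,0,4,-4,0,0,-4,-4,4,-4,-4,0,0,4,0,4,-4,-4,-4,4],
  [4,-4,-4,0,0,0,-4,4,0,0,-4,4,-4,-4,4,0,0,-4,0,4,-4,-4,-4,4],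
  [4,-4,-4,0,0,0,-4,4,0,0,4,-4,4,4,-4,0,0,4,0,4,4,-4,4,4],
  [0,0,0,12,-4,4,0,0,-4,-4,0,0,0,0,0,-4,-4,0,4,0,0,0,0,0]]

theorem Mrp_ok : matCheck Mrp 16 = true := by decide +kernel

theorem Mrp_v8 : vecOf (rangeL fun i => (matVec Mrp r8L).getD i 0 / 16) = vecOf rpL := by
  funext p
  revert p
  decide +kernel

def str244T : List ℕ := [22,17,8,9,10,16,18,20,2,13,1,15,6,21,7,5,3,4,0,19,12,11,14,23]
def str244c : ℕ := 11864663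
def str2441 : List ℤ := [0,0,0,0,2,0,0,2,2,2,4,0,0,0,0,0,2,2,4,0,0,0,2,2]
def str244z : List ℤ := [0,0,0,0,-2,0,0,2,2,-2,4,0,0,0,0,0,-2,2,-4,0,0,0,2,-2]
def str244y : List ℤ := rangeL fun i => (matVec Mr244 str244z).getD i 0 / 4
theorem str244T_ok : goodT str244T = true := by decide +kernel
theorem str244c_ok : inCode str244c = true := by decide +kernel
theorem str244z_ok : inLattice str244z = true := by decide +kernel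
theorem str244y_f : Sh (vecOf str244y) 0 4 0 0 := by decide +kernel
theorem str244_rep_ok : inLattice r244L = true := by decide +kernel
theorem str244_same : SameM (vecOf r244L) (vecOf str244z) := sameM_tbl str244T_ok str244c_ok str244_rep_ok (l1 := str2441) (by decide +kernel) (by decide +kernel)
theorem str244_step {K : Subgroup Co0} (hNK : N ≤ K) (h : SameIn K (vecOf r8L) (vecOf r244L)) :
    SameIn K (vecOf r8L) (vecOf r4L) := by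
  have h1 := Mono_le_N.trans hNK
  have h2 := mat_mem hNK Mr244_ok Mr244_v8 h
  have h3 : SameIn K (vecOf str244z) (vecOf str244y) := sameIn_mat_vec Mr244_ok h2 str244z_ok
  have h4 := (s_4 h3.right_mem str244y_f).mono h1
  exact h.trans (((str244_same).mono h1).trans (h3.trans h4))

def stR35T : List ℕ := [2,8,5,23,12,21,19,10,14,13,3,0,15,6,7,4,22,17,9,18,1,16,20,11]
def stR35c : ℕ := 16719941
def stR351 : List ℤ := [1,1,-3,1,1,-3,1,1,-3,1,1,-3,1,1,1,1,1,1,1,1,1,1,1,-3]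
def stR35z : List ℤ := [-1,1,3,1,1,-3,-1,1,-3,1,1,-3,1,-1,1,1,-1,-1,-1,-1,-1,-1,-1,3]
def stR35y : List ℤ := rangeL fun i => (matVec MR35 stR35z).getD i 0 / 8
theorem stR35T_ok : goodT stR35T = true := by decide +kernel
theorem stR35c_ok : inCode stR35c = true := by decide +kernel
theorem stR35z_ok : inLattice stR35z = true := by decide +kernel
theorem stR35y_f : Sh (vecOf stR35y) 0 4 0 0 := by decide +kernel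
theorem stR35_rep_ok : inLattice R35L = true := by decide +kernel
theorem stR35_same : SameM (vecOf R35L) (vecOf stR35z) := sameM_tbl stR35T_ok stR35c_ok stR35_rep_ok (l1 := stR351) (by decide +kernel) (by decide +kernel)
theorem stR35_step {K : Subgroup Co0} (hNK : N ≤ K) (h : SameIn K (vecOf r8L) (vecOf R35L)) :
    SameIn K (vecOf r8L) (vecOf r4L) := by
  have h1 := Mono_le_N.trans hNK
  have h2 := mat_mem hNK MR35_ok MR35_v8 h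
  have h3 : SameIn K (vecOf stR35z) (vecOf stR35y) := sameIn_mat_vec MR35_ok h2 stR35z_ok
  have h4 := (s_4 h3.right_mem stR35y_f).mono h1
  exact h.trans (((stR35_same).mono h1).trans (h3.trans h4))

def stR53T : List ℕ := [22,13,18,7,11,1,12,19,4,14,15,6,10,0,16,9,2,20,23,3,8,21,5,17]
def stR53c : ℕ := 6008691
def stR531 : List ℤ := [1,1,1,1,1,1,1,1,1,1,1,1,1,-3,1,1,1,5,1,1,1,1,-3,1]
def stR53z : List ℤ := [-1,-1,1,1,-1,-1,-1,1,-1,-1,-1,-1,1,3,1,-1,-1,-5,1,-1,-1,1,3,1]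
def stR53y : List ℤ := rangeL fun i => (matVec MR53 stR53z).getD i 0 / 8
theorem stR53T_ok : goodT stR53T = true := by decide +kernel
theorem stR53c_ok : inCode stR53c = true := by decide +kernel
theorem stR53z_ok : inLattice stR53z = true := by decide +kernel
theorem stR53y_f : Sh (vecOf stR53y) 8 2 0 0 := by decide +kernel
theorem stR53_rep_ok : inLattice R53L = true := by decide +kernel
theorem stR53_same : SameM (vecOf R53L) (vecOf stR53z) := sameM_tbl stR53T_ok stR53c_ok stR53_rep_ok (l1 := stR531) (by decide +kernel) (by decide +kernel)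
theorem stR53_step {K : Subgroup Co0} (hNK : N ≤ K) (h : SameIn K (vecOf r8L) (vecOf R53L)) :
    SameIn K (vecOf r8L) (vecOf r244L) := by
  have h1 := Mono_le_N.trans hNK
  have h2 := mat_mem hNK MR53_ok MR53_v8 h
  have h3 : SameIn K (vecOf stR53z) (vecOf stR53y) := sameIn_mat_vec MR53_ok h2 stR53z_ok
  have h4 := (s_244 h3.right_mem stR53y_f).mono h1
  exact h.trans (((stR53_same).mono h1).trans (h3.trans h4))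

def str6T : List ℕ := [5,7,15,0,3,4,17,14,18,10,12,19,16,21,23,20,9,8,6,13,22,11,2,1]
def str6c : ℕ := 15782236
def str61 : List ℤ := [2,2,0,0,2,-6,0,2,2,0,0,0,0,0,0,2,0,0,0,0,0,0,0,2]
def str6z : List ℤ := [2,2,0,0,-2,-6,0,2,-2,0,0,0,0,0,0,-2,0,0,0,0,0,0,0,-2]
def str6y : List ℤ := rangeL fun i => (matVec Mr6 str6z).getD i 0 / 8
theorem str6T_ok : goodT str6T = true := by decide +kernel
theorem str6c_ok : inCode str6c = true := by decide +kernel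
theorem str6z_ok : inLattice str6z = true := by decide +kernel
theorem str6y_f : Sh (vecOf str6y) 0 4 0 0 := by decide +kernel
theorem str6_rep_ok : inLattice r6L = true := by decide +kernel
theorem str6_same : SameM (vecOf r6L) (vecOf str6z) := sameM_tbl str6T_ok str6c_ok str6_rep_ok (l1 := str61) (by decide +kernel) (by decide +kernel)
theorem str6_step {K : Subgroup Co0} (hNK : N ≤ K) (h : SameIn K (vecOf r8L) (vecOf r6L)) :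
    SameIn K (vecOf r8L) (vecOf r4L) := by
  have h1 := Mono_le_N.trans hNK
  have h2 := mat_mem hNK Mr6_ok Mr6_v8 h
  have h3 : SameIn K (vecOf str6z) (vecOf str6y) := sameIn_mat_vec Mr6_ok h2 str6z_ok
  have h4 := (s_4 h3.right_mem str6y_f).mono h1
  exact h.trans (((str6_same).mono h1).trans (h3.trans h4))

def str124T : List ℕ := [6,10,4,9,22,8,17,11,18,16,12,19,7,21,23,0,20,15,2,3,13,1,5,14]
def str124c : ℕ := 1372381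
def str1241 : List ℤ := [2,0,0,0,2,0,-2,2,0,2,2,2,0,0,2,0,2,2,2,0,0,0,4,2]
def str124z : List ℤ := [-2,0,0,0,-2,0,2,-2,0,2,2,2,0,0,-2,0,2,2,-2,0,0,0,4,2]
def str124y : List ℤ := rangeL fun i => (matVec Mr124 str124z).getD i 0 / 8
theorem str124T_ok : goodT str124T = true := by decide +kernel
theorem str124c_ok : inCode str124c = true := by decide +kernel
theorem str124z_ok : inLattice str124z = true := by decide +kernel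
theorem str124y_f : Sh (vecOf str124y) 0 4 0 0 := by decide +kernel
theorem str124_rep_ok : inLattice r124L = true := by decide +kernel
theorem str124_same : SameM (vecOf r124L) (vecOf str124z) := sameM_tbl str124T_ok str124c_ok str124_rep_ok (l1 := str1241) (by decide +kernel) (by decide +kernel)
theorem str124_step {K : Subgroup Co0} (hNK : N ≤ K) (h : SameIn K (vecOf r8L) (vecOf r124L)) :
    SameIn K (vecOf r8L) (vecOf r4L) := by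
  have h1 := Mono_le_N.trans hNK
  have h2 := mat_mem hNK Mr124_ok Mr124_v8 h
  have h3 : SameIn K (vecOf str124z) (vecOf str124y) := sameIn_mat_vec Mr124_ok h2 str124z_ok
  have h4 := (s_4 h3.right_mem str124y_f).mono h1
  exact h.trans (((str124_same).mono h1).trans (h3.trans h4))

def strmT : List ℕ := [1,6,16,17,19,21,4,22,12,8,23,15,3,0,11,5,20,7,10,14,2,18,13,9]
def strmc : ℕ := 3531833
def strm1 : List ℤ := [2,0,2,2,-2,2,0,0,2,0,2,0,2,2,2,2,0,0,2,-2,2,0,2,2]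
def strmz : List ℤ := [-2,0,2,-2,2,-2,0,0,2,0,-2,0,2,-2,-2,-2,0,0,-2,-2,-2,0,2,2]
def strmy : List ℤ := rangeL fun i => (matVec Mrm strmz).getD i 0 / 8
theorem strmT_ok : goodT strmT = true := by decide +kernel
theorem strmc_ok : inCode strmc = true := by decide +kernel
theorem strmz_ok : inLattice strmz = true := by decide +kernel
theorem strmy_f : Sh (vecOf strmy) 0 4 0 0 := by decide +kernel
theorem strm_rep_ok : inLattice rmL = true := by decide +kernel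
theorem strm_same : SameM (vecOf rmL) (vecOf strmz) := sameM_tbl strmT_ok strmc_ok strm_rep_ok (l1 := strm1) (by decide +kernel) (by decide +kernel)
theorem strm_step {K : Subgroup Co0} (hNK : N ≤ K) (h : SameIn K (vecOf r8L) (vecOf rmL)) :
    SameIn K (vecOf r8L) (vecOf r4L) := by
  have h1 := Mono_le_N.trans hNK
  have h2 := mat_mem hNK Mrm_ok Mrm_v8 h
  have h3 : SameIn K (vecOf strmz) (vecOf strmy) := sameIn_mat_vec Mrm_ok h2 strmz_ok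
  have h4 := (s_4 h3.right_mem strmy_f).mono h1
  exact h.trans (((strm_same).mono h1).trans (h3.trans h4))

def strpT : List ℕ := [3,5,8,9,19,16,11,2,7,6,17,21,22,0,15,23,14,18,12,13,20,1,10,4]
def strpc : ℕ := 14207345
def strp1 : List ℤ := [2,2,2,0,0,0,2,2,0,0,2,2,2,2,2,0,0,2,0,2,2,2,2,2]
def strpz : List ℤ := [-2,2,2,0,0,0,-2,2,0,0,2,-2,2,2,-2,0,0,2,0,-2,-2,2,-2,-2]
def strpy : List ℤ := rangeL fun i => (matVec Mrp strpz).getD i 0 / 16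
theorem strpT_ok : goodT strpT = true := by decide +kernel
theorem strpc_ok : inCode strpc = true := by decide +kernel
theorem strpz_ok : inLattice strpz = true := by decide +kernel
theorem strpy_f : Sh (vecOf strpy) 0 4 0 0 := by decide +kernel
theorem strp_rep_ok : inLattice rpL = true := by decide +kernel
theorem strp_same : SameM (vecOf rpL) (vecOf strpz) := sameM_tbl strpT_ok strpc_ok strp_rep_ok (l1 := strp1) (by decide +kernel) (by decide +kernel)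
theorem strp_step {K : Subgroup Co0} (hNK : N ≤ K) (h : SameIn K (vecOf r8L) (vecOf rpL)) :
    SameIn K (vecOf r8L) (vecOf r4L) := by
  have h1 := Mono_le_N.trans hNK
  have h2 := mat_mem hNK Mrp_ok Mrp_v8 h
  have h3 : SameIn K (vecOf strpz) (vecOf strpy) := sameIn_mat_vec Mrp_ok h2 strpz_ok
  have h4 := (s_4 h3.right_mem strpy_f).mono h1
  exact h.trans (((strp_same).mono h1).trans (h3.trans h4))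


def xiv8L : List ℤ := [-4,-4,-4,0,0,0,0,0,0,0,0,0,0,0,0,0,0,0,0,0,0,0,0,4]

/-- If `r4` lies in the orbit of `K`, then `K` contains `ξ`. -/
theorem xi_mem {K : Subgroup Co0} (hNK : N ≤ K) (h : SameIn K (vecOf r8L) (vecOf r4L)) :
    matCo0 xiMat_ok ∈ K := by
  have h1 := Mono_le_N.trans hNK
  have h2 : SameIn K (vecOf r8L) (vecOf er4A) :=
    h.trans ((s_4 (inLattice_sound er4A_ok) er4A_f).mono h1).symm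
  have h3 : SameIn Mono (vecOf r8L) (vecOf er4B) :=
    (s_8 (sameOrb_mat_vec xiMat_ok er4A_ok).right_mem er4B_f).symm
  obtain ⟨hx, hy, n, hn, e⟩ := h3
  -- `ξ⁻¹ n` maps `v8` to `er4A`
  have h4 : (matCo0 xiMat_ok)⁻¹ * n ∈ K := by
    apply mem_of_orbit hNK _ h2
    have e2 : v8 = ⟨vecOf r8L, hx⟩ := Subtype.ext v8_eq
    rw [e2, mul_smul, e]
    have h5 : matCo0 xiMat_ok • (⟨vecOf er4A, inLattice_sound er4A_ok⟩ : leechLattice) =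
        ⟨vecOf er4B, hy⟩ := by
      apply Subtype.ext
      rw [matCo0_smul_vecOf]
      funext k
      show _ = vecOf (rangeL fun i => (matVec xiMat er4A).getD i 0 / 2) k
      rw [vecOf_rangeL]
      simp only [vecOf, matVec, rangeL]
    rw [← h5, inv_smul_smul]
  have h9 : (matCo0 xiMat_ok)⁻¹ ∈ K := by
    have h10 := K.mul_mem h4 (K.inv_mem (h1 hn))
    have h11 : (matCo0 xiMat_ok)⁻¹ * n * n⁻¹ = (matCo0 xiMat_ok)⁻¹ := by group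
    rwa [h11] at h10
  simpa using K.inv_mem h9

/-- If `r4` lies in the orbit of `K`, then `K` is everything. -/
theorem eq_top_of_r4 {K : Subgroup Co0} (hNK : N ≤ K) (h : SameIn K (vecOf r8L) (vecOf r4L)) : K = ⊤ := by
  have hξ := xi_mem hNK h
  have h1 := Mono_le_N.trans hNK
  rw [eq_top_iff]
  intro g _
  have h2 : sqNorm ((g • v8 : leechLattice) : GolayPt → ℤ) = 64 := by
    rw [co0_sqNorm]
    exact norm_u8 none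
  exact mem_of_orbit hNK g (orbit64_in h1 hξ (g • v8).2 h2).symm rfl

/-- `N` is a maximal subgroup of `Co0`. -/
theorem N_coatom : IsCoatom N := by
  constructor
  · intro htop
    have h1 : matCo0 xiMat_ok ∈ N := by rw [htop]; trivial
    rw [mem_N_iff_pres] at h1
    have h2 := h1 v8 (u8_mem_stdCross none)
    obtain ⟨i, s, hs, e⟩ := h2
    have e2 : v8 = ⟨vecOf r8L, inLattice_sound r8_ok⟩ := Subtype.ext v8_eq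
    rw [e2, matCo0_smul_vecOf] at e
    have h3 : (fun k => vecOf (matVec xiMat r8L) k / 2) = vecOf xiv8L := by
      funext p
      revert p
      decide +kernel
    rw [h3] at e
    have h4 : ∀ k, vecOf xiv8L k ≠ 8 ∧ vecOf xiv8L k ≠ -8 := by decide +kernel
    have h5 := congrFun e i
    rw [Pi.single_eq_same] at h5
    rcases hs with rfl | rfl
    · exact (h4 i).1 h5
    · exact (h4 i).2 h5
  · intro K hK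
    have hNK := hK.le
    obtain ⟨g, hgK, hgN⟩ := SetLike.exists_of_lt hK
    have h1 := Mono_le_N.trans hNK
    have h2 : sqNorm ((g • v8 : leechLattice) : GolayPt → ℤ) = 64 := by
      rw [co0_sqNorm]
      exact norm_u8 none
    have e2 : v8 = ⟨vecOf r8L, inLattice_sound r8_ok⟩ := Subtype.ext v8_eq
    have hS : SameIn K (vecOf r8L) ((g • v8 : leechLattice) : GolayPt → ℤ) := by
      refine ⟨inLattice_sound r8_ok, (g • v8).2, g, hgK, ?_⟩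
      rw [← e2]
    have hr244 : SameIn K (vecOf r8L) (vecOf r244L) → K = ⊤ := fun h =>
      eq_top_of_r4 hNK (str244_step hNK h)
    rcases classify64 (g • v8).2 h2 with h | h | h | h | h | h | h | h | h
    · -- then `g` lies in `N`
      exfalso
      apply hgN
      exact mem_of_orbit (K := N) le_rfl g ((h.symm).mono Mono_le_N) rfl
    · exact eq_top_of_r4 hNK (hS.trans (h.mono h1))
    · exact hr244 (hS.trans (h.mono h1))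
    · exact eq_top_of_r4 hNK (str6_step hNK (hS.trans (h.mono h1)))
    · exact eq_top_of_r4 hNK (str124_step hNK (hS.trans (h.mono h1)))
    · exact eq_top_of_r4 hNK (strp_step hNK (hS.trans (h.mono h1)))
    · exact eq_top_of_r4 hNK (strm_step hNK (hS.trans (h.mono h1)))
    · exact eq_top_of_r4 hNK (stR35_step hNK (hS.trans (h.mono h1)))
    · exact hr244 (stR53_step hNK (hS.trans (h.mono h1)))

end Cfsg.Agent.Lib.Sporadic.LeechMax
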