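import Mathlib
import Cfsg.Agent.Lib.Sporadic.LeechLocal
import Cfsg.Agent.Lib.Sporadic.LeechKey
import Cfsg.Agent.Lib.Sporadic.M24N7

/-!
# Data for an element of order seven in the automorphism group of the lattice
-/

set_option autoImplicit false

namespace Cfsg.Agent.Lib.Sporadic.LeechSeven

open Cfsg Cfsg.Agent.Lib.Sporadic.LeechMat Cfsg.Agent.Lib.Sporadic.LeechKey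


def s7Li : List ℕ := [0,1,23,10,7,9,6,22,21,3,11,8,17,12,2,4,14,15,16,18,19,5,13,20]

def T2L : List (List ℤ) := [[-3,1,1,-1,1,-1,-1,1,-1,-1,-1,-1,1,1,1,1,1,1,1,1,1,-1,1,1],
  [-1,3,-1,-1,-1,-1,-1,-1,-1,-1,-1,-1,-1,-1,-1,-1,-1,-1,-1,-1,-1,-1,-1,-1],
  [1,3,-1,1,1,1,1,1,1,1,1,1,1,1,-1,1,-1,1,-1,-1,-1,1,1,-1],
  [1,1,1,1,1,1,-3,1,1,1,1,1,1,1,1,1,1,1,1,1,1,1,1,1],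
  [0,4,0,0,0,0,-4,0,0,0,0,0,0,0,0,0,0,0,0,0,0,0,0,0],
  [-4,0,0,0,0,0,4,0,0,0,0,0,0,0,0,0,0,0,0,0,0,0,0,0],
  [2,0,0,0,2,0,0,2,0,0,0,0,2,2,0,2,0,2,0,0,0,0,2,0],
  [1,3,-1,-1,1,-1,-1,1,-1,-1,-1,-1,1,1,-1,1,-1,1,-1,-1,-1,-1,1,-1],
  [-1,1,1,1,-1,1,-3,-1,1,1,1,1,-1,-1,1,-1,1,-1,1,1,1,1,-1,1],
  [-3,1,1,1,1,1,1,1,1,1,1,1,1,1,1,1,1,1,1,1,1,1,1,1],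
  [-1,3,-1,1,-1,1,1,-1,1,1,1,1,-1,-1,-1,-1,-1,-1,-1,-1,-1,1,-1,-1],
  [0,0,0,-2,0,-2,-2,0,-2,-2,-2,-2,0,0,0,0,0,0,0,0,0,-2,0,0],
  [4,-4,0,0,0,0,0,0,0,0,0,0,0,0,0,0,0,0,0,0,0,0,0,0],
  [3,1,1,1,-1,1,1,-1,1,1,1,1,-1,-1,1,-1,1,-1,1,1,1,1,-1,1],
  [0,-2,-2,0,0,0,0,0,0,0,0,0,0,0,-2,0,-2,0,-2,-2,-2,0,0,-2],
  [0,-4,0,0,0,0,-4,0,0,0,0,0,0,0,0,0,0,0,0,0,0,0,0,0],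
  [1,-1,-1,1,1,1,-3,1,1,1,1,1,1,1,-1,1,-1,1,-1,-1,-1,1,1,-1],
  [-4,-4,0,0,0,0,0,0,0,0,0,0,0,0,0,0,0,0,0,0,0,0,0,0],
  [4,0,0,0,0,0,4,0,0,0,0,0,0,0,0,0,0,0,0,0,0,0,0,0],
  [-3,-1,-1,1,1,1,1,1,1,1,1,1,1,1,-1,1,-1,1,-1,-1,-1,1,1,-1],
  [-1,-1,-1,1,-1,1,-3,-1,1,1,1,1,-1,-1,-1,-1,-1,-1,-1,-1,-1,1,-1,-1]]

def T3L : List (List ℤ) := [[-2,0,0,0,2,0,4,2,0,0,0,0,2,2,0,2,0,2,0,0,0,0,2,0],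
  [0,2,-2,0,0,0,4,0,0,0,0,0,0,0,-2,0,-2,0,-2,-2,-2,0,0,-2],
  [-1,1,1,-1,-1,-1,-5,-1,-1,-1,-1,-1,-1,-1,1,-1,1,-1,1,1,1,-1,-1,1],
  [-3,3,-1,-1,1,-1,3,1,-1,-1,-1,-1,1,1,-1,1,-1,1,-1,-1,-1,-1,1,-1],
  [3,3,-1,1,-1,1,-3,-1,1,1,1,1,-1,-1,-1,-1,-1,-1,-1,-1,-1,1,-1,-1],
  [-5,1,1,1,-1,1,1,-1,1,1,1,1,-1,-1,1,-1,1,-1,1,1,1,1,-1,1],
  [-2,4,0,0,2,0,0,2,0,0,0,0,2,2,0,2,0,2,0,0,0,0,2,0],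
  [-4,0,0,-2,0,-2,2,0,-2,-2,-2,-2,0,0,0,0,0,0,0,0,0,-2,0,0],
  [0,4,0,2,0,2,-2,0,2,2,2,2,0,0,0,0,0,0,0,0,0,2,0,0],
  [-4,-2,2,0,0,0,0,0,0,0,0,0,0,0,2,0,2,0,2,2,2,0,0,2],
  [-5,1,1,-1,-1,-1,-1,-1,-1,-1,-1,-1,-1,-1,1,-1,1,-1,1,1,1,-1,-1,1],
  [1,1,1,-1,1,-1,-5,1,-1,-1,-1,-1,1,1,1,1,1,1,1,1,1,-1,1,1],
  [1,1,1,1,1,1,5,1,1,1,1,1,1,1,1,1,1,1,1,1,1,1,1,1],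
  [1,-5,-1,1,1,1,1,1,1,1,1,1,1,1,-1,1,-1,1,-1,-1,-1,1,1,-1],
  [-4,0,0,2,0,2,-2,0,2,2,2,2,0,0,0,0,0,0,0,0,0,2,0,0],
  [2,4,0,0,-2,0,0,-2,0,0,0,0,-2,-2,0,-2,0,-2,0,0,0,0,-2,0],
  [0,-2,2,0,0,0,4,0,0,0,0,0,0,0,2,0,2,0,2,2,2,0,0,2],
  [2,0,0,0,-2,0,4,-2,0,0,0,0,-2,-2,0,-2,0,-2,0,0,0,0,-2,0],
  [1,5,1,1,1,1,1,1,1,1,1,1,1,1,1,1,1,1,1,1,1,1,1,1],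
  [-5,-1,-1,1,-1,1,1,-1,1,1,1,1,-1,-1,-1,-1,-1,-1,-1,-1,-1,1,-1,-1],
  [-3,3,-1,1,1,1,-3,1,1,1,1,1,1,1,-1,1,-1,1,-1,-1,-1,1,1,-1],
  [-1,-5,-1,1,-1,1,1,-1,1,1,1,1,-1,-1,-1,-1,-1,-1,-1,-1,-1,1,-1,-1],
  [-1,1,1,1,-1,1,5,-1,1,1,1,1,-1,-1,1,-1,1,-1,1,1,1,1,-1,1],
  [5,1,1,1,1,1,1,1,1,1,1,1,1,1,1,1,1,1,1,1,1,1,1,1],
  [0,4,0,-2,0,-2,2,0,-2,-2,-2,-2,0,0,0,0,0,0,0,0,0,-2,0,0],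
  [4,-2,2,0,0,0,0,0,0,0,0,0,0,0,2,0,2,0,2,2,2,0,0,2],
  [-1,5,1,1,-1,1,1,-1,1,1,1,1,-1,-1,1,-1,1,-1,1,1,1,1,-1,1],
  [-3,-3,1,1,1,1,-3,1,1,1,1,1,1,1,1,1,1,1,1,1,1,1,1,1]]

def O1L : List (List ℤ) := [[0,0,0,0,0,0,0,0,0,0,0,0,0,0,0,0,0,0,0,0,0,0,0,8],
  [-2,0,0,0,2,0,0,-2,-4,0,0,0,-2,2,0,2,-4,2,0,0,0,0,-2,0],
  [0,0,0,2,0,2,-2,0,-2,-2,2,2,0,0,0,-4,0,0,-4,0,0,-2,0,0],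
  [-2,0,0,0,-2,0,0,-2,0,0,0,4,2,-2,0,2,0,2,-4,0,0,0,2,0],
  [4,-2,-2,0,0,0,4,0,0,0,0,0,0,0,-2,0,-2,0,-2,-2,-2,0,0,-2],
  [-2,-2,2,0,2,0,0,2,0,0,0,0,2,2,2,2,2,2,2,2,2,0,2,2],
  [0,-2,-2,0,0,0,0,0,0,0,4,0,0,0,2,0,-2,-4,-2,2,2,0,0,2]]

def O2L : List (List ℤ) := [[-1,-1,-1,3,-1,-1,-1,-1,3,-1,3,-1,-1,3,-1,-1,-1,-1,-1,-1,-1,-1,-1,3],
  [-2,2,2,0,-2,0,0,-2,0,0,0,0,-2,-2,2,-2,2,-2,2,2,2,0,-2,2],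
  [0,-2,-2,2,0,2,2,0,2,2,2,2,0,0,-2,0,-2,0,-2,-2,-2,2,0,-2],
  [1,-1,-1,-3,1,1,1,1,-3,1,-3,1,1,-3,-1,1,-1,1,-1,-1,-1,1,1,3],
  [-1,-1,-1,1,-1,-3,1,-1,1,1,1,1,-1,-1,-1,-1,-1,-1,3,-1,3,1,3,3],
  [0,2,2,0,0,0,0,0,0,0,0,0,0,0,2,0,2,0,-6,2,2,0,0,2],
  [-1,1,1,-3,-1,1,1,-1,-3,1,-3,1,-1,3,1,-1,1,-1,1,1,1,1,-1,-3]]

def gF : List (List ℤ) := [[2,0,0,-2,2,0,0,0,0,0,-2,2,0,2,0,0,0,0,0,0,0,-2,-2,0],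
  [2,2,0,0,0,2,0,0,0,0,-2,0,2,0,0,0,-2,0,0,2,0,0,0,2],
  [1,3,1,1,-1,1,1,-1,-1,1,-1,1,1,-1,-1,1,1,1,1,1,1,1,-1,1],
  [-1,1,-1,1,1,-1,-1,-1,-1,1,1,1,-1,-1,1,1,1,3,1,-1,1,-1,-1,1],
  [-2,2,0,0,0,0,0,0,0,0,0,2,0,0,0,0,2,0,2,-2,0,2,2,0],
  [0,0,0,0,2,2,0,0,0,-2,-2,-2,0,2,-2,0,0,0,2,0,0,0,0,0],
  [1,-1,-1,-1,1,-1,-1,1,-1,1,3,1,1,-1,1,-1,-1,1,-1,1,1,-1,1,1],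
  [-2,0,0,0,-2,0,2,0,2,0,0,0,0,0,0,0,-2,0,2,2,0,0,0,-2],
  [0,0,0,0,0,0,0,0,0,0,-2,-2,-2,2,2,0,0,-2,0,0,2,0,2,0],
  [1,1,1,1,-1,-1,1,1,1,1,1,1,-1,-3,-1,1,-1,1,-1,-1,1,-1,1,1],
  [0,0,0,0,2,0,0,2,0,-2,0,2,0,0,0,0,-2,0,2,2,2,0,0,0],
  [1,-1,-1,-1,1,1,1,1,3,1,-1,-1,1,-1,1,-1,1,1,-1,-1,-1,1,1,-1],
  [0,0,-2,2,0,0,2,0,-2,0,0,2,0,0,2,0,0,0,0,2,0,0,0,2],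
  [0,0,-2,0,0,2,0,-2,0,0,0,0,0,0,0,0,0,0,2,-2,2,2,-2,0],
  [0,0,0,2,0,0,0,0,-2,0,0,0,2,0,0,2,-2,-2,0,0,2,0,-2,0],
  [1,-1,-1,-3,1,1,1,1,1,-1,-1,-1,-1,-1,-1,1,1,1,-1,1,-1,-1,1,-1],
  [-1,1,3,1,-1,1,1,-1,-1,-1,-1,-1,-1,1,1,-1,1,-1,1,1,1,1,1,-1],
  [0,0,2,0,0,0,0,0,2,0,0,0,2,0,0,0,2,0,0,2,0,-2,2,-2]]

def tF : List (List ℤ) := [[1,3,1,-1,5,5,3,3,5,-3,-7,3,7,3,-1,1,-3,-1,7,5,3,-1,1,-3],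
  [4,6,-2,2,4,4,2,0,-4,0,-2,10,8,0,2,2,-2,0,6,6,8,0,-2,4],
  [3,3,-1,-1,7,7,1,-1,-3,-5,-9,-1,-1,5,1,3,-3,-1,7,3,9,-1,-3,1],
  [-2,4,2,0,0,2,4,2,-2,-2,0,4,2,-2,0,2,-2,0,6,6,6,2,2,-2],
  [0,8,-4,4,-2,2,4,-2,-2,4,2,8,2,-6,2,2,-2,6,6,2,6,2,0,6],
  [3,3,-3,-1,1,3,7,1,1,-1,-5,5,-3,-1,1,3,-3,1,5,5,7,-1,-1,1],
  [1,9,1,3,3,7,7,-1,-1,-3,-7,7,3,-1,-1,5,-1,3,11,7,9,-1,-1,1],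
  [-1,3,1,1,3,7,5,-1,3,-3,-5,-1,3,-1,-1,3,1,3,9,5,7,1,-1,-5],
  [6,2,-6,-2,6,6,4,2,0,0,-4,4,4,-2,0,2,-2,2,2,0,4,0,0,4],
  [3,1,-3,1,7,1,1,1,-1,-1,1,7,1,-1,1,1,-1,5,5,3,7,-5,-1,3],
  [-2,0,-4,2,0,0,4,0,-2,0,0,2,0,-2,2,4,-2,2,2,4,2,-2,-2,0],
  [-1,1,-1,-1,3,5,5,1,3,-3,-5,1,-1,1,5,-1,5,-1,5,3,5,3,7,-3],
  [1,3,3,3,-1,1,3,-1,-3,1,1,3,3,-1,3,-1,3,1,1,7,3,-1,3,1],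
  [4,4,4,-2,4,0,2,2,0,0,-2,4,-2,-2,2,2,2,4,2,6,8,-6,4,0],
  [-2,6,2,4,-4,4,6,-2,2,2,-4,0,0,-2,2,2,0,-2,6,-2,8,6,2,-2],
  [7,3,-3,-1,7,5,3,3,-5,-3,-7,3,3,3,1,3,-5,-1,3,9,7,-3,-1,5],
  [4,4,0,-4,6,6,2,4,4,-2,-6,0,4,0,0,0,2,2,4,6,4,0,8,0],
  [3,3,-3,-1,7,3,3,1,-1,1,-3,5,5,-1,1,3,5,5,3,3,3,-3,1,1]]

def mA1 : List (List ℤ) := [[0,-2,2,-2,0,-2,2,0,-2,-2,-2,-2,0,0,2,0,2,0,2,2,2,-2,0,2],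
  [2,-4,0,0,2,0,-4,2,0,0,0,0,2,2,0,2,0,2,0,0,0,0,2,0],
  [-2,0,0,0,-2,0,0,2,0,-4,0,0,-2,2,0,2,0,-2,0,0,0,0,2,-4],
  [-2,0,0,0,-2,0,0,2,0,0,4,0,2,2,0,-2,0,2,0,4,0,0,-2,0],
  [0,-2,-2,-2,0,2,2,0,-2,2,2,-2,0,0,-2,0,2,0,2,-2,2,2,0,-2],
  [-2,0,0,0,-2,0,0,2,0,4,0,0,-2,2,0,2,0,-2,0,0,0,0,2,4],
  [2,4,0,0,2,0,4,2,0,0,0,0,2,2,0,2,0,2,0,0,0,0,2,0],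
  [0,-2,-2,2,0,2,2,0,-2,2,-2,2,0,0,2,0,2,0,-2,2,-2,-2,0,-2],
  [-2,0,0,0,2,0,0,2,0,0,0,0,2,-2,4,2,0,-2,0,0,0,4,-2,0],
  [-2,0,0,4,2,0,0,-2,0,0,0,0,2,2,0,-2,0,-2,0,0,4,0,2,0],
  [-2,0,0,0,-2,0,0,-2,0,0,0,4,2,-2,0,2,0,2,4,0,0,0,2,0],
  [-2,0,0,0,2,0,0,-2,4,0,0,0,-2,2,0,2,4,2,0,0,0,0,-2,0],
  [0,-2,-2,-2,0,2,2,0,2,-2,2,2,0,0,2,0,-2,0,-2,-2,2,-2,0,2],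
  [0,-2,2,2,0,-2,2,0,-2,-2,2,2,0,0,-2,0,2,0,-2,-2,-2,2,0,2],
  [-2,0,-4,0,2,-4,0,2,0,0,0,0,-2,-2,0,-2,0,2,0,0,0,0,2,0],
  [0,-2,-2,2,0,2,2,0,2,-2,-2,-2,0,0,-2,0,-2,0,2,2,-2,2,0,2],
  [-2,0,0,0,2,0,0,2,0,0,0,0,2,-2,-4,2,0,-2,0,0,0,-4,-2,0],
  [0,-2,2,-2,0,-2,2,0,2,2,-2,2,0,0,-2,0,-2,0,-2,2,2,2,0,-2],
  [-2,0,0,0,2,0,0,-2,-4,0,0,0,-2,2,0,2,-4,2,0,0,0,0,-2,0],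
  [-2,0,0,0,-2,0,0,-2,0,0,0,-4,2,-2,0,2,0,2,-4,0,0,0,2,0],
  [-2,0,0,0,-2,0,0,2,0,0,-4,0,2,2,0,-2,0,2,0,-4,0,0,-2,0],
  [-2,0,4,0,2,4,0,2,0,0,0,0,-2,-2,0,-2,0,2,0,0,0,0,2,0],
  [0,-2,2,2,0,-2,2,0,2,2,2,-2,0,0,2,0,-2,0,2,-2,-2,-2,0,-2],
  [-2,0,0,-4,2,0,0,-2,0,0,0,0,2,2,0,-2,0,-2,0,0,-4,0,2,0]]

def mA2 : List (List ℤ) := [[2,-2,2,0,-2,0,0,-2,0,0,0,0,-2,-2,2,-2,2,-2,2,2,2,0,-2,2],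
  [4,4,0,-2,0,-2,-2,0,-2,-2,-2,-2,0,0,0,0,0,0,0,0,0,-2,0,0],
  [0,0,4,2,0,-2,2,0,-2,2,-2,2,0,0,0,0,0,0,0,0,0,-2,4,0],
  [0,0,0,2,0,2,-2,0,2,2,-2,-2,4,0,0,0,0,0,0,0,4,-2,0,0],
  [2,-2,-2,0,2,0,0,2,0,0,0,0,2,-2,-2,-2,-2,-2,2,2,-2,0,2,2],
  [0,0,4,-2,0,2,-2,0,2,-2,2,-2,0,0,0,0,0,0,0,0,0,2,4,0],
  [4,4,0,2,0,2,2,0,2,2,2,2,0,0,0,0,0,0,0,0,0,2,0,0],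
  [2,-2,-2,0,-2,0,0,2,0,0,0,0,-2,2,-2,-2,2,2,2,-2,2,0,2,-2],
  [0,0,0,-2,4,-2,-2,0,2,2,2,2,0,0,0,0,4,0,0,0,0,-2,0,0],
  [0,0,0,-2,0,2,-2,0,-2,2,-2,2,0,4,0,0,0,0,0,0,0,2,0,4],
  [0,0,0,2,0,-2,-2,0,-2,2,2,-2,0,0,0,0,0,4,0,4,0,2,0,0],
  [0,0,0,2,0,2,-2,0,-2,-2,2,2,0,0,0,4,0,0,4,0,0,-2,0,0],
  [2,-2,2,0,-2,0,0,2,0,0,0,0,2,-2,-2,2,2,2,-2,-2,-2,0,-2,2],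
  [2,-2,2,0,2,0,0,-2,0,0,0,0,2,2,2,-2,-2,2,2,-2,-2,0,-2,-2],
  [0,0,0,-2,0,2,2,4,-2,2,2,-2,0,0,4,0,0,0,0,0,0,-2,0,0],
  [2,-2,2,0,2,0,0,2,0,0,0,0,-2,2,-2,2,-2,-2,-2,2,2,0,-2,-2],
  [0,0,0,2,4,2,2,0,-2,-2,-2,-2,0,0,0,0,4,0,0,0,0,2,0,0],
  [2,-2,-2,0,2,0,0,-2,0,0,0,0,-2,-2,2,2,-2,2,-2,-2,2,0,2,2],
  [0,0,0,-2,0,-2,2,0,2,2,-2,-2,0,0,0,4,0,0,4,0,0,2,0,0],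
  [0,0,0,-2,0,2,2,0,2,-2,-2,2,0,0,0,0,0,4,0,4,0,-2,0,0],
  [0,0,0,-2,0,-2,2,0,-2,-2,2,2,4,0,0,0,0,0,0,0,4,2,0,0],
  [0,0,0,2,0,-2,-2,4,2,-2,-2,2,0,0,4,0,0,0,0,0,0,2,0,0],
  [2,-2,-2,0,-2,0,0,-2,0,0,0,0,2,2,2,2,2,-2,-2,2,-2,0,2,-2],
  [0,0,0,2,0,-2,2,0,2,-2,2,-2,0,4,0,0,0,0,0,0,0,-2,0,4]]

def mA3 : List (List ℤ) := [[0,-2,2,2,0,2,-2,0,2,2,2,2,0,0,2,0,2,0,2,2,2,2,0,2],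
  [-2,4,0,0,-2,0,-4,-2,0,0,0,0,-2,-2,0,-2,0,-2,0,0,0,0,-2,0],
  [2,0,0,0,2,0,0,-2,0,-4,0,0,2,-2,0,-2,0,2,0,0,0,0,-2,4],
  [2,0,0,0,2,0,0,-2,0,0,4,0,-2,-2,0,2,0,-2,0,-4,0,0,2,0],
  [0,-2,-2,2,0,-2,-2,0,2,-2,-2,2,0,0,-2,0,2,0,2,-2,2,-2,0,-2],
  [2,0,0,0,2,0,0,-2,0,4,0,0,2,-2,0,-2,0,2,0,0,0,0,-2,-4],
  [-2,-4,0,0,-2,0,4,-2,0,0,0,0,-2,-2,0,-2,0,-2,0,0,0,0,-2,0],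
  [0,-2,-2,-2,0,-2,-2,0,2,-2,2,-2,0,0,2,0,2,0,-2,2,-2,2,0,-2],
  [2,0,0,0,-2,0,0,-2,0,0,0,0,-2,2,-4,-2,0,2,0,0,0,4,2,0],
  [2,0,0,4,-2,0,0,2,0,0,0,0,-2,-2,0,2,0,2,0,0,-4,0,-2,0],
  [2,0,0,0,2,0,0,2,0,0,0,4,-2,2,0,-2,0,-2,-4,0,0,0,-2,0],
  [2,0,0,0,-2,0,0,2,4,0,0,0,2,-2,0,-2,-4,-2,0,0,0,0,2,0],
  [0,-2,-2,2,0,-2,-2,0,-2,2,-2,-2,0,0,2,0,-2,0,-2,-2,2,2,0,2],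
  [0,-2,2,-2,0,2,-2,0,2,2,-2,-2,0,0,-2,0,2,0,-2,-2,-2,-2,0,2],
  [2,0,4,0,-2,-4,0,-2,0,0,0,0,2,2,0,2,0,-2,0,0,0,0,-2,0],
  [0,-2,-2,-2,0,-2,-2,0,-2,2,2,2,0,0,-2,0,-2,0,2,2,-2,-2,0,2],
  [2,0,0,0,-2,0,0,-2,0,0,0,0,-2,2,4,-2,0,2,0,0,0,-4,2,0],
  [0,-2,2,2,0,2,-2,0,-2,-2,2,-2,0,0,-2,0,-2,0,-2,2,2,-2,0,-2],
  [2,0,0,0,-2,0,0,2,-4,0,0,0,2,-2,0,-2,4,-2,0,0,0,0,2,0],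
  [2,0,0,0,2,0,0,2,0,0,0,-4,-2,2,0,-2,0,-2,4,0,0,0,-2,0],
  [2,0,0,0,2,0,0,-2,0,0,-4,0,-2,-2,0,2,0,-2,0,4,0,0,2,0],
  [2,0,-4,0,-2,4,0,-2,0,0,0,0,2,2,0,2,0,-2,0,0,0,0,-2,0],
  [0,-2,2,-2,0,2,-2,0,-2,-2,-2,2,0,0,2,0,-2,0,2,-2,-2,2,0,-2],
  [2,0,0,-4,-2,0,0,2,0,0,0,0,-2,-2,0,2,0,2,0,0,4,0,-2,0]]

def mA4 : List (List ℤ) := [[4,2,2,0,0,0,4,0,0,0,0,0,0,0,2,0,2,0,2,2,2,0,0,2],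
  [-2,0,0,-2,2,-2,2,2,-2,-2,-2,-2,2,2,0,2,0,2,0,0,0,-2,2,0],
  [-2,0,0,-2,-2,-2,2,-2,2,2,-2,2,2,-2,0,-2,0,2,0,0,0,2,2,0],
  [0,-2,-2,0,0,0,0,-4,0,0,0,0,0,0,2,0,2,0,2,-2,2,-4,0,-2],
  [0,-2,2,4,0,0,0,0,0,0,0,0,4,0,-2,0,2,0,-2,-2,2,0,0,2],
  [0,-2,2,0,0,0,0,0,0,0,0,-4,0,0,-2,-4,-2,0,2,2,2,0,0,-2],
  [-4,2,2,0,0,0,-4,0,0,0,0,0,0,0,2,0,2,0,2,2,2,0,0,2],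
  [0,-2,-2,0,0,0,0,0,0,0,4,0,0,0,2,0,-2,4,-2,2,2,0,0,2],
  [0,-2,2,-4,0,0,0,0,0,0,0,0,-4,0,-2,0,2,0,-2,-2,2,0,0,2],
  [0,-2,-2,0,-4,0,0,0,-4,0,0,0,0,0,-2,0,2,0,2,2,-2,0,0,2],
  [0,-2,2,0,0,-4,0,0,0,0,0,0,0,0,2,0,2,0,-2,2,-2,0,-4,-2],
  [0,-2,2,0,0,0,0,0,0,-4,0,0,0,-4,2,0,-2,0,2,-2,-2,0,0,2],
  [0,-2,-2,0,0,0,0,4,0,0,0,0,0,0,2,0,2,0,2,-2,2,4,0,-2],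
  [0,-2,-2,0,4,0,0,0,4,0,0,0,0,0,-2,0,2,0,2,2,-2,0,0,2],
  [-2,0,0,-2,-2,2,2,2,2,-2,2,2,2,2,0,-2,0,-2,0,0,0,-2,-2,0],
  [0,-2,2,0,0,0,0,0,0,4,0,0,0,4,2,0,-2,0,2,-2,-2,0,0,2],
  [-2,0,0,2,2,-2,2,-2,-2,-2,2,2,-2,2,0,-2,0,-2,0,0,0,2,2,0],
  [0,-2,2,0,0,4,0,0,0,0,0,0,0,0,2,0,2,0,-2,2,-2,0,4,-2],
  [-2,0,0,2,-2,-2,2,2,2,2,2,-2,-2,-2,0,2,0,-2,0,0,0,-2,2,0],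
  [-2,0,0,2,2,2,2,2,-2,2,-2,2,-2,-2,0,-2,0,2,0,0,0,-2,-2,0],
  [-2,0,0,-2,2,2,2,-2,-2,2,2,-2,2,-2,0,2,0,-2,0,0,0,2,-2,0],
  [0,-2,-2,0,0,0,0,0,0,0,-4,0,0,0,2,0,-2,-4,-2,2,2,0,0,2],
  [0,-2,2,0,0,0,0,0,0,0,0,4,0,0,-2,4,-2,0,2,2,2,0,0,-2],
  [-2,0,0,2,-2,2,2,-2,2,-2,-2,-2,-2,2,0,2,0,2,0,0,0,2,-2,0]]

def mA5 : List (List ℤ) := [[4,-4,0,-2,0,-2,-2,0,-2,-2,-2,-2,0,0,0,0,0,0,0,0,0,-2,0,0],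
  [-4,4,0,-2,0,-2,-2,0,-2,-2,-2,-2,0,0,0,0,0,0,0,0,0,-2,0,0],
  [0,0,0,2,0,-2,2,0,2,-2,2,-2,0,-4,0,0,0,0,0,0,0,-2,0,4],
  [-2,-2,-2,0,-2,0,0,2,0,0,0,0,2,2,2,-2,-2,-2,-2,-2,2,0,-2,2],
  [0,0,0,-2,0,2,2,4,-2,2,2,-2,0,0,-4,0,0,0,0,0,0,-2,0,0],
  [-2,-2,2,0,-2,0,0,2,0,0,0,0,-2,-2,2,2,-2,-2,2,-2,-2,0,2,-2],
  [-2,-2,2,0,2,0,0,2,0,0,0,0,2,2,2,2,2,2,2,2,2,0,2,2],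
  [0,0,-4,2,0,-2,2,0,-2,2,-2,2,0,0,0,0,0,0,0,0,0,-2,4,0],
  [-2,-2,-2,0,2,0,0,-2,0,0,0,0,2,-2,-2,2,2,-2,2,-2,2,0,-2,-2],
  [-2,-2,2,0,2,0,0,-2,0,0,0,0,-2,2,-2,-2,2,-2,-2,-2,-2,0,2,2],
  [-2,-2,2,0,-2,0,0,-2,0,0,0,0,2,-2,-2,-2,-2,2,-2,2,2,0,2,-2],
  [-2,-2,-2,0,-2,0,0,-2,0,0,0,0,-2,2,-2,2,-2,2,2,2,-2,0,-2,2],
  [0,0,0,-2,0,2,2,0,2,-2,-2,2,0,0,0,0,0,4,0,-4,0,-2,0,0],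
  [0,0,0,-2,0,-2,2,0,-2,-2,2,2,4,0,0,0,0,0,0,0,-4,2,0,0],
  [0,0,4,2,0,-2,2,0,-2,2,-2,2,0,0,0,0,0,0,0,0,0,-2,-4,0],
  [0,0,0,2,4,2,2,0,-2,-2,-2,-2,0,0,0,0,-4,0,0,0,0,2,0,0],
  [0,0,0,-2,0,2,2,-4,-2,2,2,-2,0,0,4,0,0,0,0,0,0,-2,0,0],
  [0,0,0,-2,0,-2,2,0,2,2,-2,-2,0,0,0,4,0,0,-4,0,0,2,0,0],
  [0,0,0,2,-4,2,2,0,-2,-2,-2,-2,0,0,0,0,4,0,0,0,0,2,0,0],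
  [0,0,0,-2,0,-2,2,0,2,2,-2,-2,0,0,0,-4,0,0,4,0,0,2,0,0],
  [0,0,0,-2,0,2,2,0,2,-2,-2,2,0,0,0,0,0,-4,0,4,0,-2,0,0],
  [-2,-2,-2,0,2,0,0,2,0,0,0,0,-2,-2,2,-2,2,2,-2,2,-2,0,-2,-2],
  [0,0,0,2,0,-2,2,0,2,-2,2,-2,0,4,0,0,0,0,0,0,0,-2,0,-4],
  [0,0,0,-2,0,-2,2,0,-2,-2,2,2,-4,0,0,0,0,0,0,0,4,2,0,0]]

def mA6 : List (List ℤ) := [[4,-2,-2,0,0,0,-4,0,0,0,0,0,0,0,-2,0,-2,0,-2,-2,-2,0,0,-2],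
  [-4,-2,-2,0,0,0,4,0,0,0,0,0,0,0,-2,0,-2,0,-2,-2,-2,0,0,-2],
  [0,2,2,0,0,0,0,-4,0,0,0,0,0,0,-2,0,-2,0,-2,2,-2,4,0,2],
  [2,0,0,2,2,-2,2,-2,2,2,2,-2,2,2,0,-2,0,2,0,0,0,-2,-2,0],
  [0,2,-2,0,0,0,0,0,0,0,0,-4,0,0,2,4,2,0,-2,-2,-2,0,0,2],
  [2,0,0,-2,-2,2,2,2,-2,2,2,-2,-2,2,0,-2,0,2,0,0,0,2,2,0],
  [2,0,0,-2,-2,-2,2,-2,-2,-2,-2,-2,-2,-2,0,-2,0,-2,0,0,0,-2,-2,0],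
  [0,2,2,0,4,0,0,0,-4,0,0,0,0,0,2,0,-2,0,-2,-2,2,0,0,-2],
  [2,0,0,-2,2,-2,2,2,2,2,-2,2,-2,2,0,2,0,-2,0,0,0,2,-2,0],
  [2,0,0,2,-2,2,2,-2,-2,2,-2,2,2,2,0,2,0,-2,0,0,0,-2,2,0],
  [2,0,0,2,-2,-2,2,2,-2,-2,2,2,2,-2,0,2,0,2,0,0,0,2,-2,0],
  [2,0,0,-2,2,2,2,-2,2,-2,2,2,-2,-2,0,2,0,2,0,0,0,-2,2,0],
  [0,2,-2,0,0,0,0,0,0,-4,0,0,0,4,-2,0,2,0,-2,2,2,0,0,-2],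
  [0,2,-2,0,0,-4,0,0,0,0,0,0,0,0,-2,0,-2,0,2,-2,2,0,4,2],
  [0,2,2,0,-4,0,0,0,4,0,0,0,0,0,2,0,-2,0,-2,-2,2,0,0,-2],
  [0,2,2,0,0,0,0,0,0,0,-4,0,0,0,-2,0,2,4,2,-2,-2,0,0,-2],
  [0,2,-2,0,0,0,0,0,0,0,0,4,0,0,2,-4,2,0,-2,-2,-2,0,0,2],
  [0,2,-2,-4,0,0,0,0,0,0,0,0,4,0,2,0,-2,0,2,2,-2,0,0,-2],
  [0,2,2,0,0,0,0,0,0,0,4,0,0,0,-2,0,2,-4,2,-2,-2,0,0,-2],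
  [0,2,-2,4,0,0,0,0,0,0,0,0,-4,0,2,0,-2,0,2,2,-2,0,0,-2],
  [0,2,-2,0,0,0,0,0,0,4,0,0,0,-4,-2,0,2,0,-2,2,2,0,0,-2],
  [2,0,0,2,2,2,2,2,2,-2,-2,-2,2,-2,0,-2,0,-2,0,0,0,2,2,0],
  [0,2,2,0,0,0,0,4,0,0,0,0,0,0,-2,0,-2,0,-2,2,-2,-4,0,2],
  [0,2,-2,0,0,4,0,0,0,0,0,0,0,0,-2,0,-2,0,2,-2,2,0,-4,2]]

def mB0 : List (List ℤ) := [[-5,3,-1,-1,-1,-1,3,-1,-1,-1,-1,-1,-1,-1,-1,-1,-1,-1,-1,-1,-1,-1,-1,-1],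
  [3,3,-1,-1,-1,-1,-5,-1,-1,-1,-1,-1,-1,-1,-1,-1,-1,-1,-1,-1,-1,-1,-1,-1],
  [-1,-1,3,3,-1,-1,-1,-1,-1,3,-1,3,-1,-1,-1,-1,-1,-1,-1,-1,-1,-1,3,-1],
  [-1,-1,3,-1,3,-1,-1,-1,3,-1,-1,-1,-1,-1,3,-1,-1,-1,-1,-1,3,-1,-1,-1],
  [-1,-1,-1,3,-1,-1,-1,3,-1,-1,-1,-1,-1,-1,-1,3,-1,3,-1,-1,3,-1,-1,-1],
  [-1,-1,-1,-1,-1,3,-1,-1,-1,-1,-1,-1,-1,-1,-1,-1,-1,-1,3,-1,3,-1,3,3],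
  [3,-5,-1,-1,-1,-1,3,-1,-1,-1,-1,-1,-1,-1,-1,-1,-1,-1,-1,-1,-1,-1,-1,-1],
  [-1,-1,-1,-1,3,-1,-1,-1,-1,3,-1,-1,3,-1,-1,-1,-1,3,-1,-1,-1,-1,-1,3],
  [-1,-1,-1,3,-1,-1,-1,-1,-1,-1,-1,-1,3,-1,3,-1,-1,-1,3,3,-1,-1,-1,-1],
  [-1,-1,3,-1,-1,-1,-1,3,-1,-1,-1,-1,-1,-1,-1,-1,-1,-1,-1,3,-1,3,-1,3],
  [-1,-1,-1,-1,-1,-1,-1,-1,-1,-1,-1,3,-1,-1,3,3,3,-1,-1,-1,-1,-1,-1,3],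
  [-1,-1,3,-1,-1,-1,-1,-1,-1,-1,3,-1,-1,-1,-1,-1,3,3,3,-1,-1,-1,-1,-1],
  [-1,-1,-1,-1,-1,-1,-1,3,3,-1,-1,-1,3,-1,-1,-1,3,-1,-1,-1,-1,-1,3,-1],
  [-1,-1,-1,-1,-1,-1,-1,-1,-1,-1,-1,-1,-1,3,3,-1,-1,3,-1,-1,-1,3,3,-1],
  [-1,-1,-1,3,-1,-1,-1,-1,3,-1,3,-1,-1,3,-1,-1,-1,-1,-1,-1,-1,-1,-1,3],
  [-1,-1,-1,-1,3,-1,-1,-1,-1,-1,3,-1,-1,-1,-1,3,-1,-1,-1,3,-1,-1,3,-1],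
  [-1,-1,-1,-1,-1,-1,-1,-1,-1,-1,3,3,3,-1,-1,-1,-1,-1,-1,-1,3,3,-1,-1],
  [-1,-1,-1,-1,3,-1,-1,3,-1,-1,-1,3,-1,3,-1,-1,-1,-1,3,-1,-1,-1,-1,-1],
  [-1,-1,-1,-1,-1,3,-1,-1,3,-1,-1,3,-1,-1,-1,-1,-1,3,-1,3,-1,-1,-1,-1],
  [-1,-1,-1,-1,-1,-1,-1,-1,3,3,-1,-1,-1,-1,-1,3,-1,-1,3,-1,-1,3,-1,-1],
  [-1,-1,-1,3,3,3,-1,-1,-1,-1,-1,-1,-1,-1,-1,-1,3,-1,-1,-1,-1,3,-1,-1],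
  [-1,-1,-1,-1,-1,-1,-1,-1,-1,3,-1,-1,-1,3,-1,-1,3,-1,-1,3,3,-1,-1,-1],
  [-1,-1,3,-1,-1,3,-1,-1,-1,-1,-1,-1,3,3,-1,3,-1,-1,-1,-1,-1,-1,-1,-1],
  [-1,-1,-1,-1,-1,3,-1,3,-1,3,3,-1,-1,-1,3,-1,-1,-1,-1,-1,-1,-1,-1,-1]]

def mB1 : List (List ℤ) := [[0,0,0,2,0,2,-6,0,2,2,2,2,0,0,0,0,0,0,0,0,0,2,0,0],
  [-2,-2,-2,0,-2,0,0,-2,0,0,0,0,-2,-2,-2,-2,-2,-2,-2,-2,-2,0,-2,-2],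
  [-2,-2,2,0,-2,0,0,-2,0,0,0,0,2,2,-2,2,-2,-2,2,-2,2,0,2,2],
  [2,-2,2,0,-2,0,0,-2,0,0,0,0,-2,2,2,2,2,2,-2,-2,2,0,-2,-2],
  [0,0,0,-6,0,2,2,0,2,2,2,2,0,0,0,0,0,0,0,0,0,2,0,0],
  [2,-2,2,0,2,0,0,2,0,0,0,0,-2,-2,-2,-2,-2,2,2,-2,2,0,-2,2],
  [2,-2,-2,0,2,0,0,2,0,0,0,0,2,2,-2,2,-2,2,-2,-2,-2,0,2,-2],
  [0,0,0,2,0,2,2,0,2,-6,2,2,0,0,0,0,0,0,0,0,0,2,0,0],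
  [2,-2,-2,0,2,0,0,-2,0,0,0,0,-2,2,2,-2,-2,-2,2,2,2,0,2,-2],
  [2,-2,2,0,2,0,0,-2,0,0,0,0,2,-2,2,2,-2,-2,-2,2,-2,0,-2,2],
  [2,-2,-2,0,-2,0,0,-2,0,0,0,0,2,-2,2,-2,2,2,2,-2,-2,0,2,2],
  [2,-2,2,0,-2,0,0,2,0,0,0,0,2,2,-2,-2,2,-2,2,2,-2,0,-2,-2],
  [0,0,0,2,0,2,2,0,-6,2,2,2,0,0,0,0,0,0,0,0,0,2,0,0],
  [0,0,0,2,0,2,2,0,2,2,2,2,0,0,0,0,0,0,0,0,0,-6,0,0],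
  [-2,-2,-2,0,2,0,0,-2,0,0,0,0,2,2,-2,-2,2,2,-2,2,2,0,-2,2],
  [0,0,0,2,0,2,2,0,2,2,-6,2,0,0,0,0,0,0,0,0,0,2,0,0],
  [-2,-2,-2,0,-2,0,0,2,0,0,0,0,2,-2,2,2,-2,2,2,2,2,0,-2,-2],
  [0,0,0,2,0,2,2,0,2,2,2,-6,0,0,0,0,0,0,0,0,0,2,0,0],
  [-2,-2,2,0,2,0,0,-2,0,0,0,0,-2,-2,-2,2,2,2,2,2,-2,0,2,-2],
  [-2,-2,-2,0,2,0,0,2,0,0,0,0,-2,2,2,2,2,-2,2,-2,-2,0,-2,2],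
  [-2,-2,2,0,2,0,0,2,0,0,0,0,2,-2,2,-2,2,-2,-2,-2,2,0,2,-2],
  [2,-2,-2,0,-2,0,0,2,0,0,0,0,-2,-2,-2,2,2,-2,-2,2,2,0,2,2],
  [0,0,0,2,0,-6,2,0,2,2,2,2,0,0,0,0,0,0,0,0,0,2,0,0],
  [-2,-2,2,0,-2,0,0,2,0,0,0,0,-2,2,2,-2,-2,2,-2,2,-2,0,2,2]]

def mB2 : List (List ℤ) := [[-6,0,0,0,2,0,0,2,0,0,0,0,2,2,0,2,0,2,0,0,0,0,2,0],
  [0,-2,-2,-2,0,-2,-2,0,-2,-2,-2,-2,0,0,-2,0,-2,0,-2,-2,-2,-2,0,-2],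
  [0,-2,-2,2,0,-2,-2,0,-2,-2,2,2,0,0,2,0,-2,0,2,2,2,2,0,-2],
  [0,2,-2,2,0,2,-2,0,-2,2,-2,2,0,0,2,0,2,0,-2,2,-2,-2,0,-2],
  [2,0,0,0,2,0,0,2,0,0,0,0,2,2,0,-6,0,2,0,0,0,0,2,0],
  [0,2,2,2,0,-2,-2,0,-2,-2,2,2,0,0,-2,0,2,0,-2,-2,-2,2,0,2],
  [0,2,2,-2,0,-2,-2,0,-2,-2,-2,-2,0,0,2,0,2,0,2,2,2,-2,0,2],
  [2,0,0,0,2,0,0,2,0,0,0,0,2,2,0,2,0,-6,0,0,0,0,2,0],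
  [0,2,2,-2,0,-2,-2,0,2,2,-2,2,0,0,-2,0,-2,0,-2,2,2,2,0,-2],
  [0,2,2,2,0,-2,-2,0,2,2,2,-2,0,0,2,0,-2,0,2,-2,-2,-2,0,-2],
  [0,2,-2,-2,0,2,-2,0,-2,2,2,-2,0,0,-2,0,2,0,2,-2,2,2,0,-2],
  [0,2,-2,2,0,2,-2,0,2,-2,-2,-2,0,0,-2,0,-2,0,2,2,-2,2,0,2],
  [2,0,0,0,2,0,0,2,0,0,0,0,2,2,0,2,0,2,0,0,0,0,-6,0],
  [2,0,0,0,2,0,0,2,0,0,0,0,2,-6,0,2,0,2,0,0,0,0,2,0],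
  [0,-2,2,-2,0,2,-2,0,2,-2,2,2,0,0,-2,0,2,0,2,2,-2,-2,0,-2],
  [2,0,0,0,-6,0,0,2,0,0,0,0,2,2,0,2,0,2,0,0,0,0,2,0],
  [0,-2,-2,-2,0,-2,-2,0,2,2,-2,2,0,0,2,0,2,0,2,-2,-2,2,0,2],
  [2,0,0,0,2,0,0,-6,0,0,0,0,2,2,0,2,0,2,0,0,0,0,2,0],
  [0,-2,2,2,0,2,-2,0,2,-2,-2,-2,0,0,2,0,2,0,-2,-2,2,2,0,-2],
  [0,-2,2,-2,0,2,-2,0,-2,2,2,-2,0,0,2,0,-2,0,-2,2,-2,2,0,2],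
  [0,-2,2,2,0,2,-2,0,-2,2,-2,2,0,0,-2,0,-2,0,2,-2,2,-2,0,2],
  [0,2,-2,-2,0,2,-2,0,2,-2,2,2,0,0,2,0,-2,0,-2,-2,2,-2,0,2],
  [2,0,0,0,2,0,0,2,0,0,0,0,-6,2,0,2,0,2,0,0,0,0,2,0],
  [0,-2,-2,2,0,-2,-2,0,2,2,2,-2,0,0,-2,0,2,0,-2,2,2,-2,0,2]]

def mB3 : List (List ℤ) := [[-3,3,-1,1,1,1,5,1,1,1,1,1,1,1,-1,1,-1,1,-1,-1,-1,1,1,-1],
  [-5,-3,1,-1,-1,-1,3,-1,-1,-1,-1,-1,-1,-1,1,-1,1,-1,1,1,1,-1,-1,1],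
  [-1,1,1,-1,3,-1,-1,-1,-1,3,-1,-1,3,-1,1,-1,1,3,1,1,1,-1,-1,-3],
  [-1,1,-3,-1,-1,-1,-1,3,-1,-1,-1,-1,-1,-1,1,-1,1,-1,1,-3,1,3,-1,-3],
  [1,-1,-1,1,1,-3,1,1,-3,1,1,-3,1,1,-1,1,-1,-3,-1,3,-1,1,1,-1],
  [-1,1,1,-1,-1,-1,-1,-1,-1,3,-1,-1,-1,3,1,-1,-3,-1,1,-3,-3,-1,-1,1],
  [3,5,1,-1,-1,-1,3,-1,-1,-1,-1,-1,-1,-1,1,-1,1,-1,1,1,1,-1,-1,1],
  [1,-1,-1,1,1,1,1,1,1,1,-3,-3,-3,1,-1,1,-1,1,-1,-1,3,-3,1,-1],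
  [-1,1,-3,-1,-1,-1,-1,-1,-1,-1,3,-1,-1,-1,1,-1,-3,3,-3,1,1,-1,-1,1],
  [-1,1,1,-1,-1,3,-1,-1,-1,-1,-1,-1,-1,-1,1,-1,1,-1,-3,1,-3,-1,3,-3],
  [-1,1,-3,-1,3,-1,-1,-1,3,-1,-1,-1,-1,-1,-3,-1,1,-1,1,1,-3,-1,-1,1],
  [-1,1,1,-1,-1,-1,-1,-1,-1,-1,-1,3,-1,-1,-3,3,-3,-1,1,1,1,-1,-1,-3],
  [1,-1,-1,1,1,-3,1,-3,1,-3,-3,1,1,1,3,1,-1,1,-1,-1,-1,1,1,-1],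
  [1,-1,3,-3,1,1,1,1,1,-3,1,-3,1,1,-1,1,-1,1,-1,-1,-1,1,-3,-1],
  [-1,1,1,3,-1,-1,-1,3,-1,-1,-1,-1,-1,-1,1,3,1,3,1,1,-3,-1,-1,1],
  [1,-1,-1,1,1,1,1,1,-3,-3,1,1,1,1,-1,-3,-1,1,3,-1,-1,-3,1,-1],
  [-1,1,1,-1,3,-1,-1,-1,-1,-1,3,-1,-1,-1,1,3,1,-1,1,-3,1,-1,3,1],
  [1,-1,-1,-3,-3,-3,1,1,1,1,1,1,1,1,-1,1,3,1,-1,-1,-1,-3,1,-1],
  [-1,1,1,-1,3,-1,-1,3,-1,-1,-1,3,-1,3,1,-1,1,-1,-3,1,1,-1,-1,1],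
  [-1,1,1,-1,-1,-1,-1,3,3,-1,-1,-1,3,-1,1,-1,-3,-1,1,1,1,-1,3,1],
  [-1,1,1,-1,-1,-1,-1,-1,-1,-1,-1,-1,-1,3,-3,-1,1,3,1,1,1,3,3,1],
  [-1,1,1,3,-1,-1,-1,-1,-1,-1,-1,-1,3,-1,-3,-1,1,-1,-3,-3,1,-1,-1,1],
  [1,-1,-1,-3,1,1,1,1,-3,1,-3,1,1,-3,-1,1,-1,1,-1,-1,-1,1,1,3],
  [-1,1,-3,-1,-1,3,-1,-1,-1,-1,-1,-1,3,3,1,3,1,-1,1,1,1,-1,-1,1]]

def mB4 : List (List ℤ) := [[3,-5,-1,1,-1,1,-3,-1,1,1,1,1,-1,-1,-1,-1,-1,-1,-1,-1,-1,1,-1,-1],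
  [3,3,-1,1,-1,1,5,-1,1,1,1,1,-1,-1,-1,-1,-1,-1,-1,-1,-1,1,-1,-1],
  [-1,-1,-1,1,-1,1,1,-1,1,1,-3,-3,3,-1,-1,-1,-1,-1,-1,-1,3,-3,-1,-1],
  [1,1,-3,-1,1,3,-1,1,-1,-1,-1,-1,-3,-3,1,-3,1,1,1,1,1,-1,1,1],
  [-1,-1,-1,1,-1,1,1,-1,1,1,1,-3,-1,-1,3,3,3,-1,-1,-1,-1,1,-1,3],
  [1,1,1,3,1,-1,-1,-3,-1,-1,-1,-1,1,1,1,-3,1,-3,1,1,-3,-1,1,1],
  [5,-3,1,-1,1,-1,3,1,-1,-1,-1,-1,1,1,1,1,1,1,1,1,1,-1,1,1],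
  [-1,-1,3,1,-1,1,1,-1,1,1,-3,1,-1,-1,-1,-1,3,3,3,-1,-1,1,-1,-1],
  [1,1,1,-1,-3,-1,-1,-3,-1,-1,-1,3,1,-3,1,1,1,1,-3,1,1,-1,1,1],
  [1,1,1,-1,-3,-1,-1,1,-1,3,-1,-1,-3,1,1,1,1,-3,1,1,1,-1,1,-3],
  [1,1,1,-1,1,-1,-1,1,-1,-1,-1,-1,1,-3,-3,1,1,-3,1,1,1,3,-3,1],
  [1,1,1,-1,1,-1,-1,-3,3,-1,-1,-1,-3,1,1,1,-3,1,1,1,1,-1,-3,1],
  [-1,-1,-1,1,-1,-3,1,-1,1,1,1,1,-1,-1,-1,-1,-1,-1,3,-1,3,1,3,3],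
  [-1,-1,-1,1,-1,1,1,-1,1,-3,1,1,-1,3,-1,-1,3,-1,-1,3,3,1,-1,-1],
  [-1,-1,-1,1,-1,-3,1,-1,-3,1,1,-3,-1,-1,-1,-1,-1,3,-1,3,-1,1,-1,-1],
  [-1,-1,3,1,3,1,1,-1,-3,1,1,1,-1,-1,3,-1,-1,-1,-1,-1,3,1,-1,-1],
  [-1,-1,-1,1,-1,1,1,-1,-3,-3,1,1,-1,-1,-1,3,-1,-1,3,-1,-1,-3,-1,-1],
  [-1,-1,3,1,-1,1,1,3,1,1,1,1,-1,-1,-1,-1,-1,-1,-1,3,-1,-3,-1,3],
  [-1,-1,-1,-3,3,-3,1,-1,1,1,1,1,-1,-1,-1,-1,3,-1,-1,-1,-1,-3,-1,-1],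
  [-1,-1,-1,1,-1,-3,1,3,1,-3,-3,1,-1,-1,3,-1,-1,-1,-1,-1,-1,1,-1,-1],
  [-1,-1,3,-3,-1,1,1,-1,1,-3,1,-3,-1,-1,-1,-1,-1,-1,-1,-1,-1,1,3,-1],
  [1,1,1,-1,-3,-1,-1,1,-1,-1,3,-1,1,1,1,-3,1,1,1,-3,1,-1,-3,1],
  [-1,-1,-1,-3,-1,1,1,-1,1,1,1,1,3,-1,3,-1,-1,-1,3,3,-1,1,-1,-1],
  [-1,-1,-1,-3,-1,1,1,-1,-3,1,-3,1,-1,3,-1,-1,-1,-1,-1,-1,-1,1,-1,3]]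

def mB5 : List (List ℤ) := [[2,0,0,2,2,2,2,2,2,2,2,2,2,2,0,2,0,2,0,0,0,2,2,0],
  [0,-6,2,0,0,0,0,0,0,0,0,0,0,0,2,0,2,0,2,2,2,0,0,2],
  [0,2,2,0,0,0,0,0,0,0,0,0,0,0,2,0,-6,0,2,2,2,0,0,2],
  [-2,0,0,2,2,-2,2,-2,-2,2,-2,-2,-2,-2,0,2,0,2,0,0,0,2,2,0],
  [2,0,0,-2,2,-2,2,2,2,-2,2,-2,-2,-2,0,-2,0,2,0,0,0,2,-2,0],
  [-2,0,0,-2,2,-2,2,2,-2,2,2,2,2,-2,0,-2,0,-2,0,0,0,-2,2,0],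
  [-2,0,0,2,-2,2,2,-2,2,2,2,2,-2,-2,0,-2,0,-2,0,0,0,2,-2,0],
  [2,0,0,2,2,-2,2,-2,2,-2,-2,2,2,-2,0,2,0,-2,0,0,0,-2,-2,0],
  [-2,0,0,-2,-2,-2,2,-2,2,-2,2,-2,2,2,0,2,0,-2,0,0,0,2,2,0],
  [-2,0,0,2,2,2,2,2,-2,-2,2,-2,-2,2,0,2,0,-2,0,0,0,-2,-2,0],
  [-2,0,0,-2,-2,2,2,2,2,2,-2,-2,2,-2,0,2,0,2,0,0,0,-2,-2,0],
  [-2,0,0,-2,2,2,2,-2,-2,-2,-2,2,2,2,0,-2,0,2,0,0,0,2,-2,0],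
  [2,0,0,2,-2,-2,2,2,-2,2,-2,-2,2,2,0,-2,0,-2,0,0,0,2,-2,0],
  [2,0,0,2,-2,2,2,-2,-2,-2,2,-2,2,-2,0,-2,0,2,0,0,0,-2,2,0],
  [0,2,2,0,0,0,0,0,0,0,0,0,0,0,-6,0,2,0,2,2,2,0,0,2],
  [2,0,0,-2,-2,2,2,2,-2,-2,-2,2,-2,-2,0,2,0,-2,0,0,0,2,2,0],
  [0,2,-6,0,0,0,0,0,0,0,0,0,0,0,2,0,2,0,2,2,2,0,0,2],
  [2,0,0,-2,2,2,2,-2,2,2,-2,-2,-2,2,0,-2,0,-2,0,0,0,-2,2,0],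
  [0,2,2,0,0,0,0,0,0,0,0,0,0,0,2,0,2,0,2,2,2,0,0,-6],
  [0,2,2,0,0,0,0,0,0,0,0,0,0,0,2,0,2,0,2,2,-6,0,0,2],
  [0,2,2,0,0,0,0,0,0,0,0,0,0,0,2,0,2,0,2,-6,2,0,0,2],
  [-2,0,0,2,-2,-2,2,2,2,-2,-2,2,-2,2,0,-2,0,2,0,0,0,-2,2,0],
  [2,0,0,-2,-2,-2,2,-2,-2,2,2,2,-2,2,0,2,0,2,0,0,0,-2,-2,0],
  [0,2,2,0,0,0,0,0,0,0,0,0,0,0,2,0,2,0,-6,2,2,0,0,2]]

def mB6 : List (List ℤ) := [[-5,-3,1,1,-1,1,-3,-1,1,1,1,1,-1,-1,1,-1,1,-1,1,1,1,1,-1,1],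
  [3,5,1,1,-1,1,-3,-1,1,1,1,1,-1,-1,1,-1,1,-1,1,1,1,1,-1,1],
  [-1,1,-3,1,-1,1,1,-1,1,1,-3,1,-1,-1,1,-1,-3,3,-3,1,1,1,-1,1],
  [-1,1,1,-3,-1,1,1,-1,-3,1,-3,1,-1,3,1,-1,1,-1,1,1,1,1,-1,-3],
  [-1,1,1,1,-1,1,1,3,-3,1,1,1,3,-1,1,-1,-3,-1,1,1,1,1,3,1],
  [-1,1,1,1,-1,-3,1,-1,-3,1,1,-3,-1,-1,1,-1,1,3,1,-3,1,1,-1,1],
  [3,-3,1,1,-1,1,5,-1,1,1,1,1,-1,-1,1,-1,1,-1,1,1,1,1,-1,1],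
  [-1,1,1,1,3,1,1,3,1,1,1,-3,-1,3,1,-1,1,-1,-3,1,1,1,-1,1],
  [-1,1,1,-3,3,-3,1,-1,1,1,1,1,-1,-1,1,-1,-3,-1,1,1,1,-3,-1,1],
  [-1,1,1,1,-1,1,1,-1,1,1,-3,-3,3,-1,1,-1,1,-1,1,1,-3,-3,-1,1],
  [-1,1,-3,-3,-1,1,1,-1,1,-3,1,-3,-1,-1,1,-1,1,-1,1,1,1,1,3,1],
  [-1,1,1,1,-1,-3,1,3,1,-3,-3,1,-1,-1,-3,-1,1,-1,1,1,1,1,-1,1],
  [-1,1,1,1,3,1,1,-1,1,-3,1,1,3,-1,1,-1,1,3,1,1,1,1,-1,-3],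
  [-1,1,1,-3,-1,1,1,3,1,1,1,1,-1,-1,1,3,1,3,1,1,-3,1,-1,1],
  [-1,1,1,1,-1,1,1,-1,1,1,1,-3,-1,-1,-3,3,-3,-1,1,1,1,1,-1,-3],
  [-1,1,1,1,-1,1,1,-1,1,1,1,1,-1,3,-3,-1,1,3,1,1,1,-3,3,1],
  [-1,1,-3,1,3,1,1,-1,-3,1,1,1,-1,-1,-3,-1,1,-1,1,1,-3,1,-1,1],
  [-1,1,-3,1,-1,-3,1,-1,1,1,1,1,3,3,1,3,1,-1,1,1,1,1,-1,1],
  [-1,1,-3,1,-1,1,1,3,1,1,1,1,-1,-1,1,-1,1,-1,1,-3,1,-3,-1,-3],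
  [-1,1,1,1,-1,-3,1,-1,1,1,1,1,-1,-1,1,-1,1,-1,-3,1,-3,1,3,-3],
  [-1,1,1,1,-1,1,1,-1,1,-3,1,1,-1,3,1,-1,-3,-1,1,-3,-3,1,-1,1],
  [-1,1,1,1,-1,1,1,-1,-3,-3,1,1,-1,-1,1,3,1,-1,-3,1,1,-3,-1,1],
  [-1,1,1,1,3,1,1,-1,1,1,-3,1,-1,-1,1,3,1,-1,1,-3,1,1,3,1],
  [-1,1,1,-3,-1,1,1,-1,1,1,1,1,3,-1,-3,-1,1,-1,-3,-3,1,1,-1,1]]


/-- Inner product of list vectors. -/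
def dotL (a b : List ℤ) : ℤ := ((List.range 24).map fun i => a.getD i 0 * b.getD i 0).sum

/-- Congruence modulo twice the lattice of list vectors. -/
def congL (a b : List ℤ) : Bool :=
  (List.range 24).all (fun i => decide ((a.getD i 0 - b.getD i 0) % 2 = 0)) &&
    inLattice (rangeL fun i => (a.getD i 0 - b.getD i 0) / 2)

/-- All the representatives of the fixed classes. -/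
def RL : List (List ℤ) := [List.replicate 24 0] ++ T2L ++ T3L ++ O1L ++ O2L

theorem RL_length : RL.length = 64 := by decide +kernel

theorem RL_ok : ∀ i : Fin 64, inLattice (RL.getD i []) = true := by decide +kernel

theorem RL_fix : ∀ i : Fin 64, congL (permL s7Li (RL.getD i [])) (RL.getD i []) = true := by decide +kernel

theorem RL_low : ∀ i : Fin 64, i.val < 50 → normL (RL.getD i []) ≤ 48 := by decide +kernel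

theorem RL_high : ∀ i : Fin 64, 50 ≤ i.val → normL (RL.getD i []) = 64 := by decide +kernel

theorem RL_split : ∀ i : Fin 14, RL.getD (50 + i.val) [] = (O1L ++ O2L).getD i.val [] := by decide +kernel

theorem O1L_ok : ∀ i : Fin 7, inLattice (O1L.getD i []) = true := by decide +kernel

theorem O2L_ok : ∀ i : Fin 7, inLattice (O2L.getD i []) = true := by decide +kernel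

theorem gF_ok : ∀ i : Fin 18, inLattice (gF.getD i []) = true := by decide +kernel

theorem tF_ok : ∀ i : Fin 18, inLattice (tF.getD i []) = true := by decide +kernel

/-- The value of the `i`-th functional on a vector. -/
def fVal (i : ℕ) (a : List ℤ) : ℤ :=
  (dotL a (gF.getD i []) / 8 - dotL a (permL s7Li (gF.getD i [])) / 8) % 2

theorem tF_dual : ∀ i j : Fin 18, fVal i (tF.getD j []) = if i = j then 1 else 0 := by decide +kernel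

theorem RL_ker : ∀ (i : Fin 18) (j : Fin 64), fVal i (RL.getD j []) = 0 := by decide +kernel

/-- The key of a vector. -/
def keyL (a : List ℤ) : List ℤ := (O1L.take 3 ++ O2L.take 3).map fun s => (dotL a s / 8) % 2

theorem RL_keys : (RL.map keyL).Nodup := by decide +kernel

theorem mA1_ok : matCheck mA1 8 = true := by decide +kernel

theorem mA2_ok : matCheck mA2 8 = true := by decide +kernel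

theorem mA3_ok : matCheck mA3 8 = true := by decide +kernel

theorem mA4_ok : matCheck mA4 8 = true := by decide +kernel

theorem mA5_ok : matCheck mA5 8 = true := by decide +kernel

theorem mA6_ok : matCheck mA6 8 = true := by decide +kernel

theorem mB0_ok : matCheck mB0 8 = true := by decide +kernel

theorem mB1_ok : matCheck mB1 8 = true := by decide +kernel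

theorem mB2_ok : matCheck mB2 8 = true := by decide +kernel

theorem mB3_ok : matCheck mB3 8 = true := by decide +kernel

theorem mB4_ok : matCheck mB4 8 = true := by decide +kernel

theorem mB5_ok : matCheck mB5 8 = true := by decide +kernel

theorem mB6_ok : matCheck mB6 8 = true := by decide +kernel


/-- A coordinate vector. -/
def unitL (i : ℕ) : List ℤ := rangeL fun k => if k = i then 8 else 0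

/-- Commutation with the permutation. -/
def commChk (M : List (List ℤ)) : Bool :=
  (List.range 24).all fun i => matL M 8 (permL s7Li (unitL i)) == permL s7Li (matL M 8 (unitL i))

/-- Inversion of the permutation. -/
def invChk (M : List (List ℤ)) : Bool :=
  (List.range 24).all fun i => permL s7Li (matL M 8 (permL s7Li (unitL i))) == matL M 8 (unitL i)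


theorem mA1_comm : commChk mA1 = true := by decide +kernel

theorem mA1_cl : congL (matL mA1 8 (O1L.getD 1 [])) (O1L.getD 0 []) = true := by decide +kernel

theorem mA2_comm : commChk mA2 = true := by decide +kernel

theorem mA2_cl : congL (matL mA2 8 (O1L.getD 2 [])) (O1L.getD 0 []) = true := by decide +kernel

theorem mA3_comm : commChk mA3 = true := by decide +kernel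

theorem mA3_cl : congL (matL mA3 8 (O1L.getD 3 [])) (O1L.getD 0 []) = true := by decide +kernel

theorem mA4_comm : commChk mA4 = true := by decide +kernel

theorem mA4_cl : congL (matL mA4 8 (O1L.getD 4 [])) (O1L.getD 0 []) = true := by decide +kernel

theorem mA5_comm : commChk mA5 = true := by decide +kernel

theorem mA5_cl : congL (matL mA5 8 (O1L.getD 5 [])) (O1L.getD 0 []) = true := by decide +kernel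

theorem mA6_comm : commChk mA6 = true := by decide +kernel

theorem mA6_cl : congL (matL mA6 8 (O1L.getD 6 [])) (O1L.getD 0 []) = true := by decide +kernel

theorem mB0_inv : invChk mB0 = true := by decide +kernel

theorem mB0_cl : congL (matL mB0 8 (O2L.getD 0 [])) (O1L.getD 0 []) = true := by decide +kernel

theorem mB1_inv : invChk mB1 = true := by decide +kernel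

theorem mB1_cl : congL (matL mB1 8 (O2L.getD 1 [])) (O1L.getD 0 []) = true := by decide +kernel

theorem mB2_inv : invChk mB2 = true := by decide +kernel

theorem mB2_cl : congL (matL mB2 8 (O2L.getD 2 [])) (O1L.getD 0 []) = true := by decide +kernel

theorem mB3_inv : invChk mB3 = true := by decide +kernel

theorem mB3_cl : congL (matL mB3 8 (O2L.getD 3 [])) (O1L.getD 0 []) = true := by decide +kernel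

theorem mB4_inv : invChk mB4 = true := by decide +kernel

theorem mB4_cl : congL (matL mB4 8 (O2L.getD 4 [])) (O1L.getD 0 []) = true := by decide +kernel

theorem mB5_inv : invChk mB5 = true := by decide +kernel

theorem mB5_cl : congL (matL mB5 8 (O2L.getD 5 [])) (O1L.getD 0 []) = true := by decide +kernel

theorem mB6_inv : invChk mB6 = true := by decide +kernel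

theorem mB6_cl : congL (matL mB6 8 (O2L.getD 6 [])) (O1L.getD 0 []) = true := by decide +kernel


end Cfsg.Agent.Lib.Sporadic.LeechSeven
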