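import Mathlib
import Cfsg.Agent.Lib.Sporadic.LeechThreeData3

set_option autoImplicit false
set_option maxRecDepth 100000
set_option maxHeartbeats 0

namespace Cfsg.Agent.Lib.Sporadic.LeechThree

open Cfsg Cfsg.Agent.Lib.Sporadic.LeechMat Cfsg.Agent.Lib.Sporadic.LeechKey
  Cfsg.Agent.Lib.Sporadic.LeechSeven Cfsg.Agent.Lib.Sporadic.LeechCentFw
  Cfsg.Agent.Lib.Sporadic.LeechLocal Cfsg.Agent.Lib.Sporadic.LeechAct Cfsg.Agent.Lib.Sporadic.GolayCore
open Cfsg.Agent.Lib.Compute.M24 Cfsg.Agent.Lib.Compute.M24Enum

def baseL : List ℕ := [1,2,6,7]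

theorem kc0 : accC0.all (fun T => W3.all fun m => !(baseChk sepL RL 121 OB T4K baseL T m) || goodTmG sL 3 T m) = true := by decide +kernel

theorem kc1 : accC1.all (fun T => W3.all fun m => !(baseChk sepL RL 121 OB T4K baseL T m) || goodTmG sL 3 T m) = true := by decide +kernel

theorem kc2 : accC2.all (fun T => W3.all fun m => !(baseChk sepL RL 121 OB T4K baseL T m) || goodTmG sL 3 T m) = true := by decide +kernel

theorem kc3 : accC3.all (fun T => W3.all fun m => !(baseChk sepL RL 121 OB T4K baseL T m) || goodTmG sL 3 T m) = true := by decide +kernel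

theorem kc4 : accC4.all (fun T => W3.all fun m => !(baseChk sepL RL 121 OB T4K baseL T m) || goodTmG sL 3 T m) = true := by decide +kernel

theorem kc5 : accC5.all (fun T => W3.all fun m => !(baseChk sepL RL 121 OB T4K baseL T m) || goodTmG sL 3 T m) = true := by decide +kernel

theorem kc6 : accC6.all (fun T => W3.all fun m => !(baseChk sepL RL 121 OB T4K baseL T m) || goodTmG sL 3 T m) = true := by decide +kernel

theorem kc7 : accC7.all (fun T => W3.all fun m => !(baseChk sepL RL 121 OB T4K baseL T m) || goodTmG sL 3 T m) = true := by decide +kernel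

theorem kc8 : accC8.all (fun T => W3.all fun m => !(baseChk sepL RL 121 OB T4K baseL T m) || goodTmG sL 3 T m) = true := by decide +kernel

theorem kc9 : accC9.all (fun T => W3.all fun m => !(baseChk sepL RL 121 OB T4K baseL T m) || goodTmG sL 3 T m) = true := by decide +kernel

theorem kc10 : accC10.all (fun T => W3.all fun m => !(baseChk sepL RL 121 OB T4K baseL T m) || goodTmG sL 3 T m) = true := by decide +kernel

theorem kc11 : accC11.all (fun T => W3.all fun m => !(baseChk sepL RL 121 OB T4K baseL T m) || goodTmG sL 3 T m) = true := by decide +kernel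

theorem kc12 : accC12.all (fun T => W3.all fun m => !(baseChk sepL RL 121 OB T4K baseL T m) || goodTmG sL 3 T m) = true := by decide +kernel

theorem kc13 : accC13.all (fun T => W3.all fun m => !(baseChk sepL RL 121 OB T4K baseL T m) || goodTmG sL 3 T m) = true := by decide +kernel

theorem ker_chk0 : accL.all (fun T => W3.all fun m => !(baseChk sepL RL 121 OB T4K baseL T m) || goodTmG sL 3 T m) = true := by
  rw [accL]
  simp only [List.all_append, kc0, kc1, kc2, kc3, kc4, kc5, kc6, kc7, kc8, kc9, kc10, kc11, kc12, kc13, Bool.and_self]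

theorem ker_chk : accL.all (fun T => W3.all fun m => !(trivChk sepL RL 121 (256 - 121) OB T4K 9 T m) || goodTmG sL 3 T m) = true :=
  chk_of_base baseL (by decide +kernel) (by decide +kernel) ker_chk0

end Cfsg.Agent.Lib.Sporadic.LeechThree
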