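import Mathlib
import Cfsg.Agent.Lib.Sporadic.LeechThreeData4

/-!
# An element of order three in the automorphism group of the lattice: the centraliser
-/

set_option autoImplicit false
set_option maxRecDepth 100000

namespace Cfsg.Agent.Lib.Sporadic.LeechThree

open Subgroup Cfsg Cfsg.Agent.Lib.Sporadic.GolayCore
  Cfsg.Agent.Lib.Sporadic.LeechNorm Cfsg.Agent.Lib.Sporadic.LeechFacts
  Cfsg.Agent.Lib.Sporadic.LeechAut Cfsg.Agent.Lib.Sporadic.LeechClasses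
  Cfsg.Agent.Lib.Sporadic.LeechAct Cfsg.Agent.Lib.Sporadic.LeechMod2
  Cfsg.Agent.Lib.Sporadic.LeechLocal Cfsg.Agent.Lib.Sporadic.LeechOrbits
  Cfsg.Agent.Lib.Sporadic.LeechMat Cfsg.Agent.Lib.Sporadic.LeechKey
  Cfsg.Agent.Lib.Sporadic.LeechMonomial
  Cfsg.Agent.Lib.Sporadic.LeechSeven
  Cfsg.Agent.Lib.Sporadic.LeechCentFw

open Cfsg.Agent.Lib.Compute.M24Enum (eq_of_toL toL_mul toL_ofL codes_ofL)
open Cfsg.Agent.Lib.Compute.M24 (mem_M24_of_inM24)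

local notation "toLL" => Cfsg.Agent.Lib.Compute.M24.toL

/-- The alternating group. -/
abbrev LW : Subgroup (Equiv.Perm Om) := alternatingGroup (Fin 9)

theorem no_normal_two : ∀ W : Subgroup ↥LW, W.Normal → IsPGroup 2 W → W = ⊥ := by
  intro W hW h2
  haveI : IsSimpleGroup ↥(alternatingGroup (Fin 9)) := alternatingGroup.isSimpleGroup (by simp)
  rcases hW.eq_bot_or_eq_top with h | h
  · exact h
  · exfalso
    let g : ↥(alternatingGroup (Fin 9)) := ⟨Equiv.swap 0 1 * Equiv.swap 1 2, Equiv.Perm.mem_alternatingGroup.2 (by decide +kernel)⟩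
    have hg : g ∈ W := by rw [h]; trivial
    obtain ⟨k, hk⟩ := h2 ⟨g, hg⟩
    have h1 : g ^ (2 ^ k) = 1 := congrArg Subtype.val hk
    have h3 : g ^ 3 = 1 := by
      apply Subtype.ext
      show (Equiv.swap (0 : Fin 9) 1 * Equiv.swap 1 2) ^ 3 = 1
      decide +kernel
    have h4 : g ^ 1 = 1 := by
      have : Nat.gcd (2 ^ k) 3 = 1 := Nat.Coprime.pow_left k (by norm_num)
      rw [← this]
      exact pow_gcd_eq_one.2 ⟨h1, h3⟩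
    have h5 : g = 1 := by simpa using h4
    have h6 := congrArg (fun x : ↥(alternatingGroup (Fin 9)) => (x : Equiv.Perm (Fin 9)) 0) h5
    revert h6
    decide +kernel

/-- The stabiliser of the family. -/
def stabS : Submonoid (Equiv.Perm Om) where
  carrier := {σ | inStab σ}
  one_mem' := by
    intro S hS
    have : S.image ((1 : Equiv.Perm Om) : Om → Om) = S := by simp
    rw [this]
    exact hS
  mul_mem' := by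
    intro a b ha hb S hS
    have : S.image ((a * b : Equiv.Perm Om) : Om → Om) = (S.image b).image a := by
      rw [Finset.image_image]
      rfl
    rw [this]
    exact ha _ (hb S hS)

/-- Permutations in the alternating group stabilising the family. -/
def S0 : Submonoid (Equiv.Perm Om) := LW.toSubmonoid ⊓ stabS

/-- The structure. -/
noncomputable def AB : BlockD c3 Om (256 - 121) := tab.toBlock (FixTab.incT OB T4K code3) inc_inj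

/-- The first class. -/
def T0 : Fin (256 - 121) := ⟨0, by norm_num⟩

theorem hT0 : cl (AB.T T0) = cl v8 := by
  congr 1
  apply Subtype.ext
  funext p
  show vecOf (RL.getD (121 + 0) []) p = (Pi.single none 8 : GolayPt → ℤ) p
  revert p
  decide +kernel

/-! ### The generators -/

theorem comm_mat {M : List (List ℤ)} (hM : matCheck M 8 = true)
    (h : (List.range 24).all (fun i => matL M 8 (permL sLi (unitL i)) == permL sLi (matL M 8 (unitL i))) = true) :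
    matCo0 hM * c3 = c3 * matCo0 hM := by
  apply ext_of_acts ((acts_mat hM).comp acts_c3) (acts_c3.comp (acts_mat hM))
  intro i hi
  exact beq_iff_eq.1 (List.all_eq_true.1 h i hi)

/-- The generators. -/
noncomputable def gEE : Fin 2 → Co0 := ![matCo0 m0_ok, matCo0 m1_ok]

/-- The action on lists. -/
def gFF : Fin 2 → List ℤ → List ℤ := ![matL m0 8, matL m1 8]

/-- The induced permutations. -/
def gRR : Fin 2 → Equiv.Perm Om := ![rho0, rho1]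

theorem gFF_acts (i : Fin 2) : Acts (gEE i) (gFF i) := by
  fin_cases i
  · exact acts_mat m0_ok
  · exact acts_mat m1_ok

theorem gEE_comm (i : Fin 2) : gEE i * c3 = c3 * gEE i := by
  fin_cases i
  · exact comm_mat m0_ok m0_comm
  · exact comm_mat m1_ok m1_comm

theorem gEE_good (i : Fin 2) : AB.Good (gEE i) (gRR i) := by
  fin_cases i
  · exact tab.good_of_K hK inc_inj (acts_mat m0_ok) K0_1 K0_2
  · exact tab.good_of_K hK inc_inj (acts_mat m1_ok) K1_1 K1_2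

theorem gRR_mem (i : Fin 2) : gRR i ∈ LW := by
  fin_cases i
  · exact rho0_alt
  · exact rho1_alt

/-- The paths. -/
def path3 : List (List (Fin 2)) := [[],
  [1,1,0,1,0,0,0],
  [0],
  [1,1,0,1,0,0],
  [1,1,0,1,1,0],
  [1,1,1,0],
  [0,0,0,0,1],
  [0,1,1,1,0],
  [0,0,1,0,1,1],
  [0,1,0,1,1],
  [1,1,1,0,0,0],
  [1,1,1,0,0,0,1],
  [1,1,0,1,0,0,1],
  [1,0,0,1,1,0],
  [0,1,1,1,0,0,1],
  [1,0,0,1,1],
  [0,0,0,1,1,1],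
  [0,1,1,0,1,1,0],
  [0,1],
  [0,1,1,1,1,1,0],
  [1,0,0,1,0,0,0],
  [1,1,1,0,0,1,1],
  [0,0,0,1,0,1,1,0],
  [0,1,1,0,0,1],
  [0,1,1,0,0],
  [0,0,1,0,0,0,1],
  [0,0,1,1,0,1,0,0],
  [1,0,1,1,1,1,1],
  [1,0,1,1],
  [0,1,1,1,1,1],
  [1,1,1,1,1,0,0],
  [1,0,1,0],
  [0,0,1,1],
  [0,0,0,1,0,0],
  [1,1,0,0,0],
  [1,1,1,0,1,0,0],
  [0,1,1,1,0,0],
  [1,1,1,1,0],
  [0,1,1,0,0,0,1],
  [0,1,1,1,0,0,0,1],
  [1,1,1,1,1,1,1],
  [1,1,1,0,0,1,1,0],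
  [1,1,0,0,1,1,0],
  [1,0,0,1,0],
  [0,1,0,0,0,1,0,1,1,0],
  [1,0,1,1,0],
  [1],
  [1,0,1,0,0],
  [1,0,1,1,0,0,1],
  [0,0,0,0],
  [0,1,1,0,0,0],
  [1,0,1,1,0,0,0],
  [0,0,1,1,1,1,1,0],
  [1,1,1],
  [1,0,0,1,0,1,1],
  [1,1,1,1],
  [0,0,1,1,0],
  [1,0,1,0,1,1,1],
  [1,0,1,1,1],
  [1,0,0,0,1,0,1,1,0],
  [0,0,0],
  [0,1,0,0],
  [1,1,1,1,1,0],
  [1,1,1,0,0,1],
  [0,0,1,0,1,0],
  [0,0,1,1,1],
  [0,0,0,1],
  [0,1,1,0,1,1],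
  [1,0,1,0,0,1,0],
  [1,0,0,1,0,0],
  [0,1,0,0,0],
  [0,1,0,1,1,1],
  [0,0,1,1,0,1,1,0],
  [1,1,1,1,1,1,0],
  [0,1,0,1,0],
  [0,0,1],
  [1,1,1,1,1,1,1,0],
  [1,1,0],
  [0,1,1,1,1],
  [0,1,0,0,1,1],
  [1,0,0],
  [0,0,1,1,1,0,0],
  [1,1,0,0,1,1],
  [0,1,0,0,1,1,0],
  [0,0,0,1,1],
  [0,1,0,0,1,0],
  [0,0,1,1,1,0,0,1],
  [1,0,0,0],
  [0,1,1,1,1,1,1,0],
  [0,1,0],
  [0,0,1,0,0,0,0],
  [0,1,1,0],
  [0,1,0,0,1],
  [0,0,1,0],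
  [1,0,0,0,0,1],
  [1,0,0,0,0],
  [1,1,0,0,1],
  [0,1,0,0,0,1],
  [1,0,1,0,0,1],
  [0,1,1,0,1,1,1],
  [1,1,0,0,1,0,0,0],
  [0,1,1],
  [0,0,1,1,1,1],
  [1,1,1,1,1],
  [0,1,0,1,1,0,0,1],
  [0,1,1,0,1,0,0],
  [1,1,1,0,0],
  [1,0,0,1,1,1,1],
  [0,0,1,0,0,0],
  [0,1,0,1,1,0],
  [0,0,1,0,0],
  [1,1,1,1,1,1],
  [0,0,0,0,0],
  [0,0,0,1,0,1,0],
  [1,0],
  [0,1,1,1],
  [0,0],
  [1,0,0,1],
  [1,1],
  [1,0,1,0,0,0,0],
  [1,0,1,0,0,0],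
  [1,1,0,1,1],
  [1,0,0,0,1],
  [1,0,1,1,0,1,1],
  [0,0,1,0,1,1,0],
  [0,1,1,0,0,1,1],
  [1,1,0,0],
  [1,1,0,0,0,1],
  [1,0,1,1,1,1],
  [1,1,1,1,0,0],
  [0,1,0,0,0,0],
  [0,0,0,0,0,0],
  [1,0,1,0,0,0,1],
  [1,1,0,1,0],
  [1,1,0,1,1,1]]

theorem path_chk : ∀ a : Fin (256 - 121), congL (BlockD.pathF gFF (path3.getD a.val []) (RL.getD (121 + a.val) [])) (RL.getD 121 []) = true := by
  decide +kernel

theorem same_chk : ∀ a : Fin (256 - 121), (∀ ω : Om, FixTab.incT OB T4K code3 ω a = FixTab.incT OB T4K code3 ω T0) → a ≠ T0 →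
    ¬ inStab (BlockD.pathR gRR (path3.getD a.val [])) := by
  decide +kernel

theorem path_cl (a : Fin (256 - 121)) : cl (BlockD.pathE gEE (path3.getD a.val []) • AB.T a) = cl (AB.T T0) := by
  have hm := inLattice_sound (tab.RL_ok ⟨121 + a.val, by omega⟩)
  have hA := BlockD.pathE_acts gFF_acts (path3.getD a.val [])
  have e : AB.T a = ⟨vecOf (RL.getD (121 + a.val) []), hm⟩ := rfl
  rw [e, hA.smul hm (hA.mem hm)]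
  exact cl_of_congL _ (inLattice_sound (tab.RL_ok ⟨121 + (T0 : Fin (256 - 121)).val, by omega⟩)) (path_chk a)

/-! ### The monomial part -/

theorem hW3 : ∀ m ∈ codeList, invarT (toLL S) m = true → m ∈ W3 := by
  intro m hm h
  rw [toL_S] at h
  have := List.all_eq_true.1 W3_all m hm
  rw [h] at this
  simpa using this

theorem inM24_tg0 : Cfsg.Agent.Lib.Compute.M24.inM24 tg0 = true := by decide +kernel
theorem inM24_tg1 : Cfsg.Agent.Lib.Compute.M24.inM24 tg1 = true := by decide +kernel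

theorem comm_tg {t : List ℕ} (hv : Cfsg.Agent.Lib.Compute.M24.validL t = true) (h : Cfsg.Agent.Lib.Compute.M24.mulL t sL = Cfsg.Agent.Lib.Compute.M24.mulL sL t) :
    Cfsg.Agent.Lib.Compute.M24Enum.ofL t * S = S * Cfsg.Agent.Lib.Compute.M24Enum.ofL t := by
  apply eq_of_toL
  rw [toL_mul, toL_mul, toL_ofL hv, toL_S, h]

theorem hgens : ∀ i, i < tgL.length → ∃ (g : Equiv.Perm GolayPt) (hgm : g ∈ Cfsg.M24), toLL g = tgL.getD i [] ∧ g * S = S * g ∧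
    ∃ ρ ∈ S0, AB.Good (permCo0 g hgm) ρ := by
  intro i hi
  have hl : tgL.length = 2 := rfl
  rw [hl] at hi
  interval_cases i
  · have hm := mem_M24_of_inM24 (codes_ofL tg0_valid) inM24_tg0
    refine ⟨_, hm, toL_ofL tg0_valid, comm_tg tg0_valid tg0_comm, rhoT0, ⟨rhoT0_alt, rhoT0_stab⟩, ?_⟩
    exact tab.good_of_K hK inc_inj (acts_of_toL hm (by rw [toL_ofL tg0_valid]; exact tg0_inv)) KT0_1 KT0_2
  · have hm := mem_M24_of_inM24 (codes_ofL tg1_valid) inM24_tg1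
    refine ⟨_, hm, toL_ofL tg1_valid, comm_tg tg1_valid tg1_comm, rhoT1, ⟨rhoT1_alt, rhoT1_stab⟩, ?_⟩
    exact tab.good_of_K hK inc_inj (acts_of_toL hm (by rw [toL_ofL tg1_valid]; exact tg1_inv)) KT1_1 KT1_2

theorem hN3 : ∀ n ∈ N, n * c3 = c3 * n → ∃ ρ ∈ S0, AB.Good n ρ := by
  refine BlockD.N_part S_mem rfl S0 (acc := accL) (W := W3) (fun σ hσ h => acc_mem σ hσ h) hW3 ?_ ?_
  · intro σ hσ h
    rw [← ws3_acc] at h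
    exact BlockD.perm_of_words S_mem rfl S0 hgens ws3_ok σ hσ h
  · intro m hm hcc
    rw [← W3_eq] at hm
    obtain ⟨x, hx, rfl⟩ := List.mem_map.1 hm
    refine ⟨x.2.2, ⟨Equiv.Perm.mem_alternatingGroup.2 (WD_alt x hx), WD_stab x hx⟩, ?_⟩
    exact tab.good_of_K hK inc_inj (acts_sign hcc) (WD_1 x hx) (WD_2 x hx)

theorem hcover : ∀ d : Co0, d * c3 = c3 * d → ∃ σ ∈ LW, AB.Good d σ :=
  BlockD.cover_of hT0
    (fun a => ⟨_, _, BlockD.pathE_comm gEE_comm _, BlockD.pathR_mem gRR_mem _, BlockD.path_good gEE_comm gEE_good _, path_cl a⟩)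
    (fun n hn hc => by
      obtain ⟨ρ, hρ, hg⟩ := hN3 n hn hc
      exact ⟨ρ, hρ.1, hg⟩)

theorem hker : ∀ d : Co0, d * c3 = c3 * d → AB.Good d 1 → mkC d ∈ zpowers (mkC c3) := by
  refine BlockD.ker_of hT0 (Stab := {σ | inStab σ}) ?_ ?_ ?_
  · intro a hs h0
    exact ⟨_, _, BlockD.pathE_comm gEE_comm _, same_chk a hs h0, BlockD.path_good gEE_comm gEE_good _, path_cl a⟩
  · intro n hn hc
    obtain ⟨ρ, hρ, hg⟩ := hN3 n hn hc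
    exact ⟨ρ, hρ.2, hg⟩
  · exact kerN_part tab S_mem rfl hK inc_inj (fun σ hσ h => acc_mem σ hσ h) hW3 accL_inv hcode 3 (by
      rw [toL_S]
      exact ker_chk)

/-! ### Surjectivity -/

/-- The words. -/
def wsS : List (List (Fin 2)) := [[],[],[1,0,1,1,1,1,1,0,0,0,0,0,1,0,1,1,0,1],[1,0,0,0,0,0,0,1,0,1,0,1,0,1,0],[1,1,1,1,0,0,0,0,0],[1,0,0,0,0,1,0,1,0,1,1,1,0,1,1],[0,1,1,0,1,1,1,1,1,1,0,1,1,1,1,0],[0,1,0,1,1,0,0,0,0,1,0,1,1,0,0,0],[1,0,0,0,0,0,1,0,0,1,1,1,1,0,0],[],[],[1,1,0,0,0,0,0,0,0,1,1,0,0,0,0,0,0,0],[0,0,0,0,0,1,1,1,1],[0,1,0,1,0,1,0,1,0,0,0,0,0,0,1],[1,0,0,1,0,0,0,0,0,1,0,0,1,1,1],[1,0,1,1,0,1,0,0,0,0,0,1,1,1,1,1,0,1],[0,0,0,1,0,0,1,1,1,1,0,0,1,0,0],[0,0,1,0,1,0,1,1,1,0,1,1,1,0,0],[1,0,1,1,1,1,1,0,0,0,0,0,1,0,1,1,0,1],[1,1,0,0,0,0,0,0,0,1,1,0,0,0,0,0,0,0],[],[0,1,1,0,1,1,0,0,0,0,0,0,0,0,1,1,0,0],[0,0,1,1,1,1,0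,0,1,1,1,0,1,0,0,1],[1,0,1,1,0,0,1,1,0,1,0,1,1,1,0,0,0],[0,1,1,1,1,1,1,0,0,1,0,1,0,0,1],[0,0,0,1,1,1,0,0,0,1,0,0,0,1,1,0,1,1],[0,0,0,0,0,0,0,1,0,0,1,1,1,1,0,0,0,1],[1,0,0,0,0,0,0,1,0,1,0,1,0,1,0],[0,0,0,0,0,1,1,1,1],[0,1,1,0,1,1,0,0,0,0,0,0,0,0,1,1,0,0],[],[1,1,1,1,0,0,0,0,0,1,1,1,1],[0,0,0,0,1,0,1,1,1,0,0,0,1,0],[0,0,0,0,0,1,1,1,1,0,0,1,1,1,1,0,0,0],[1,0,1,1,0,1,1,0,0,0,1,0,0,1,0,0,0,0],[0,1,0,1,1,1,1,1,0,0,1,1,1],[1,1,1,1,0,0,0,0,0],[0,1,0,1,0,1,0,1,0,0,0,0,0,0,1],[0,0,1,1,1,1,0,0,1,1,1,0,1,0,0,1],[1,1,1,1,0,0,0,0,0,1,1,1,1],[],[0,1,1,0,0,0,0,0,1,0,1,1,1,0,0,0,1],[0,1,0,0,0,1,0,0,1,0,1,1,1],[0,1,1,0,1,1,1,0,1,1,1,1,1,0,1,0],[1,1,1,1,0,1,1,1,0,0,0,0,1,1,1,0,1,0,0],[1,0,0,0,0,1,0,1,0,1,1,1,0,1,1],[1,0,0,1,0,0,0,0,0,1,0,0,1,1,1],[1,0,1,1,0,0,1,1,0,1,0,1,1,1,0,0,0],[0,0,0,0,1,0,1,1,1,0,0,0,1,0],[0,1,1,0,0,0,0,0,1,0,1,1,1,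0,0,0,1],[],[0,0,0,0,1,1,0,1,1,1,0,1,0,0,1,0,0,0],[0,1,1,1,0,0,1,1,0,1,0,1,0,1,1,0],[0,0,1,1,1,1,1,1,0,0,0,1,1,1,1],[0,1,1,0,1,1,1,1,1,1,0,1,1,1,1,0],[1,0,1,1,0,1,0,0,0,0,0,1,1,1,1,1,0,1],[0,1,1,1,1,1,1,0,0,1,0,1,0,0,1],[0,0,0,0,0,1,1,1,1,0,0,1,1,1,1,0,0,0],[0,1,0,0,0,1,0,0,1,0,1,1,1],[0,0,0,0,1,1,0,1,1,1,0,1,0,0,1,0,0,0],[],[1,1,1,0,1,0,0,1,1,0,1,1,1,0,1,1],[0,0,1,1,0,0,0,1,0,0,1,1,0,0,1,0],[0,1,0,1,1,0,0,0,0,1,0,1,1,0,0,0],[0,0,0,1,0,0,1,1,1,1,0,0,1,0,0],[0,0,0,1,1,1,0,0,0,1,0,0,0,1,1,0,1,1],[1,0,1,1,0,1,1,0,0,0,1,0,0,1,0,0,0,0],[0,1,1,0,1,1,1,0,1,1,1,1,1,0,1,0],[0,1,1,1,0,0,1,1,0,1,0,1,0,1,1,0],[1,1,1,0,1,0,0,1,1,0,1,1,1,0,1,1],[],[1,0,1,0,1,1,1,1,1,0,1,0,1,0,1,1,1,1,1,0],[1,0,0,0,0,0,1,0,0,1,1,1,1,0,0],[0,0,1,0,1,0,1,1,1,0,1,1,1,0,0],[0,0,0,0,0,0,0,1,0,0,1,1,1,1,0,0,0,1],[0,1,0,1,1,1,1,1,0,0,1,1,1],[1,1,1,1,0,1,1,1,0,0,0,0,1,1,1,0,1,0,0],[0,0,1,1,1,1,1,1,0,0,0,1,1,1,1],[0,0,1,1,0,0,0,1,0,0,1,1,0,0,1,0],[1,0,1,0,1,1,1,1,1,0,1,0,1,0,1,1,1,1,1,0],[]]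

theorem wsS_chk : ∀ x y : Fin 9, x ≠ y → BlockD.pathR gRR (wsS.getD (9 * x.val + y.val) []) =
    Equiv.swap x y * Equiv.swap 0 1 := by
  decide +kernel

theorem path_mem (p : List (Fin 2)) : BlockD.pathR gRR p ∈ AB.goodRange :=
  ⟨_, BlockD.pathE_comm gEE_comm _, BlockD.path_good gEE_comm gEE_good _⟩

theorem LW_le : LW ≤ AB.goodRange := by
  apply alternating_le (a₀ := 0) (b₀ := 1) AB.goodRange (by decide)
  intro x y hxy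
  rw [← wsS_chk x y hxy]
  exact path_mem _

theorem c3_pow : c3 ^ 3 = 1 := by
  have e : ∀ (σ : Equiv.Perm GolayPt) (h : σ ∈ Cfsg.M24), σ = 1 → permCo0 σ h = 1 := by
    rintro σ h rfl
    exact perm_one h
  rw [c3, perm_pow]
  exact e _ _ S_pow

/-- The data. -/
noncomputable def hnData : MonsterModel.FxD c3 ↥LW 256 :=
  BlockD.toFxD (A := AB) (L := LW) hcover (p := 3) (by decide) c3_pow (fun σ hσ => LW_le hσ) hker tab.T_fix tab.rv tab.rv_fix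
    (fun _ _ h => tab.rv_inj h) tab.cov (fun a => ⟨⟨121 + a.val, by omega⟩, rfl⟩)

theorem c3_mem : c3 ∈ N := monom_mem_N (monom_perm ⟨S, S_mem⟩)

theorem mkC_c3_ne : mkC c3 ≠ 1 := by
  intro h
  have e : S = 1 := by
    rcases (mkC_eq_one_iff _).1 h with h1 | h1
    · have h2 := (monom_perm ⟨S, S_mem⟩)
      have h3 : Monom c3 S := h2
      rw [h1] at h3
      exact h3.unique Monom.one
    · have h2 : Monom c3 S := monom_perm ⟨S, S_mem⟩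
      rw [h1] at h2
      exact h2.unique (show Monom negCo0 1 from neg_mem_signSub)
  have h4 := toL_S
  rw [e, Cfsg.Agent.Lib.Compute.M24.toL_one] at h4
  revert h4
  decide +kernel

end Cfsg.Agent.Lib.Sporadic.LeechThree
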