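import Mathlib
import Cfsg.Agent.Lib.Sporadic.LeechCentFw3

/-!
# Data for an element of order three in the automorphism group of the lattice
-/

set_option autoImplicit false
set_option maxRecDepth 100000
set_option maxHeartbeats 0

namespace Cfsg.Agent.Lib.Sporadic.LeechThree

open Cfsg Cfsg.Agent.Lib.Sporadic.LeechMat Cfsg.Agent.Lib.Sporadic.LeechKey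
  Cfsg.Agent.Lib.Sporadic.LeechSeven Cfsg.Agent.Lib.Sporadic.LeechCentFw
  Cfsg.Agent.Lib.Sporadic.LeechLocal Cfsg.Agent.Lib.Sporadic.LeechAct Cfsg.Agent.Lib.Sporadic.GolayCore
open Cfsg.Agent.Lib.Compute.M24 Cfsg.Agent.Lib.Compute.M24Enum

/-- The permutation. -/
def sL : List ℕ := [15,9,4,6,17,0,10,22,1,8,3,23,21,12,7,5,11,2,19,20,18,13,14,16]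

/-- The inverse permutation. -/
def sLi : List ℕ := [5,8,17,10,2,15,3,14,9,1,6,16,13,21,22,0,23,4,20,18,19,12,7,11]

theorem validL_sL : validL sL = true := by decide +kernel

/-- The permutation. -/
noncomputable def S : P := ofL sL

theorem toL_S : toL S = sL := toL_ofL validL_sL

theorem S_mem : S ∈ Cfsg.M24 := mem_M24_of_inM24 (codes_ofL validL_sL) (by decide +kernel)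

/-- The element of `Co0`. -/
noncomputable def c3 : Co0 := Cfsg.Agent.Lib.Sporadic.LeechAut.permCo0 S S_mem

theorem acts_c3 : Acts c3 (permL sLi) := acts_of_toL S_mem (by rw [toL_S]; decide +kernel)

theorem S_pow : S ^ 3 = 1 := by
  apply eq_of_toL
  rw [toL_pow, toL_S, toL_one]
  decide +kernel

set_option maxHeartbeats 4000000 in
def gF : List (List ℤ) := [[2,0,0,-2,2,0,0,0,0,0,-2,2,0,2,0,0,0,0,0,0,0,-2,-2,0],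
  [2,2,0,0,0,2,0,0,0,0,-2,0,2,0,0,0,-2,0,0,2,0,0,0,2],
  [1,3,1,1,-1,1,1,-1,-1,1,-1,1,1,-1,-1,1,1,1,1,1,1,1,-1,1],
  [-1,1,-1,1,1,-1,-1,-1,-1,1,1,1,-1,-1,1,1,1,3,1,-1,1,-1,-1,1],
  [-2,2,0,0,0,0,0,0,0,0,0,2,0,0,0,0,2,0,2,-2,0,2,2,0],
  [0,0,0,0,2,2,0,0,0,-2,-2,-2,0,2,-2,0,0,0,2,0,0,0,0,0],
  [1,-1,-1,-1,1,-1,-1,1,-1,1,3,1,1,-1,1,-1,-1,1,-1,1,1,-1,1,1],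
  [-2,0,0,0,-2,0,2,0,2,0,0,0,0,0,0,0,-2,0,2,2,0,0,0,-2],
  [0,0,0,0,0,0,0,0,0,0,-2,-2,-2,2,2,0,0,-2,0,0,2,0,2,0],
  [1,1,1,1,-1,-1,1,1,1,1,1,1,-1,-3,-1,1,-1,1,-1,-1,1,-1,1,1],
  [0,0,0,0,2,0,0,2,0,-2,0,2,0,0,0,0,-2,0,2,2,2,0,0,0],
  [1,-1,-1,-1,1,1,1,1,3,1,-1,-1,1,-1,1,-1,1,1,-1,-1,-1,1,1,-1],
  [0,0,-2,2,0,0,2,0,-2,0,0,2,0,0,2,0,0,0,0,2,0,0,0,2],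
  [0,0,-2,0,0,2,0,-2,0,0,0,0,0,0,0,0,0,0,2,-2,2,2,-2,0],
  [0,0,0,2,0,0,0,0,-2,0,0,0,2,0,0,2,-2,-2,0,0,2,0,-2,0],
  [-1,1,3,1,-1,1,1,-1,-1,-1,-1,-1,-1,1,1,-1,1,-1,1,1,1,1,1,-1]]

set_option maxHeartbeats 4000000 in
def tF : List (List ℤ) := [[-2,2,0,0,4,4,6,2,2,-4,-8,2,-2,6,4,-2,0,-2,8,4,4,2,4,-2],
  [-1,-1,-7,3,3,3,3,-1,-1,1,-1,-1,1,1,5,1,-3,1,5,1,7,1,-1,1],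
  [-1,3,-1,1,5,-1,1,1,-5,-1,-1,7,-3,3,7,-1,1,1,5,3,7,-1,3,3],
  [2,6,0,2,6,4,4,2,0,-2,-8,4,-2,2,4,0,0,2,6,2,6,0,4,4],
  [4,6,0,-2,2,4,4,2,4,2,-4,4,4,-2,-2,0,-2,4,4,2,2,0,2,2],
  [2,6,-2,0,4,4,4,2,-2,-2,-6,6,2,4,2,0,-4,0,8,8,6,0,2,4],
  [-2,2,-4,-2,4,2,0,-2,0,0,0,4,0,2,0,0,0,4,8,-2,4,0,-2,0],
  [-1,7,1,5,3,3,3,1,-3,-3,-5,3,-3,1,3,1,-1,1,7,3,7,1,5,5],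
  [3,3,1,3,-1,3,1,-1,-3,1,1,1,3,-3,1,1,-5,-1,1,1,7,1,-1,3],
  [3,3,-1,-3,5,7,1,-1,1,-1,-7,-1,1,5,3,-3,1,-1,5,-1,5,3,3,1],
  [-1,5,5,5,-1,3,5,1,-1,-3,-3,1,1,-1,-3,3,-5,-1,7,5,7,1,-1,-1],
  [2,4,-2,2,4,8,4,-2,-2,-2,-8,2,4,4,2,0,0,-2,6,0,4,4,-2,2],
  [-1,9,1,3,3,7,3,-3,-3,-3,-7,5,3,3,-1,3,-3,1,13,3,9,3,-5,1],
  [4,6,-2,2,6,8,4,-2,-2,-2,-8,4,2,2,2,0,0,4,8,4,6,2,-4,4],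
  [2,4,-4,2,2,8,6,0,2,-2,-8,0,2,2,2,0,-4,0,8,6,6,4,0,2],
  [2,2,-2,2,-2,2,4,0,2,4,0,0,2,-4,2,2,-4,0,2,0,8,2,0,0]]

def sepL : List (List ℤ) := [[2,0,0,2,4,2,2,-2,0,0,-2,0,0,0,2,2,0,0,2,-2,2,0,2,0],
  [0,-2,-2,0,-2,0,0,0,-2,-2,0,-2,2,-2,0,0,2,2,0,0,4,-2,0,-2],
  [-1,5,-1,1,-1,-1,1,1,-3,-3,1,1,-1,-1,1,-1,1,-1,-1,-1,-1,-1,1,1],
  [-1,-1,3,-1,-1,-1,-1,-3,-1,-1,3,1,1,1,1,-1,1,3,1,-3,1,1,1,1],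
  [0,2,0,2,0,0,2,-2,-2,2,2,-2,0,0,-2,0,2,4,0,0,0,0,2,-2],
  [4,0,0,0,4,0,0,0,0,0,-4,0,0,0,0,0,0,0,0,0,0,0,0,-4],
  [0,2,-2,0,2,0,0,0,2,2,0,-2,2,-2,0,0,-2,-2,0,-4,0,2,0,2],
  [0,-2,-2,0,-2,0,0,2,2,-2,0,0,0,0,2,0,-4,2,2,2,2,0,-2,0]]

def RLc0 : List (List ℤ) := [[0,0,0,0,0,0,0,0,0,0,0,0,0,0,0,0,0,0,0,0,0,0,0,0],
  [-1,-1,1,1,1,-1,1,-3,-1,-1,1,-1,1,1,-3,-1,-1,1,-1,-1,-1,1,-3,-1],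
  [1,-1,-1,1,-1,1,1,-1,-1,-1,1,1,-3,-3,-1,1,1,-1,-1,-1,-1,-3,-1,1],
  [1,1,1,1,1,1,1,1,1,1,1,-3,1,1,1,1,-3,1,1,1,1,1,1,-3],
  [-1,-1,3,-1,3,-1,-1,-1,-1,-1,-1,-1,-1,-1,-1,-1,-1,3,-1,-1,-1,-1,-1,-1],
  [-2,0,0,-2,0,-2,-2,0,0,0,-2,2,2,2,0,-2,2,0,0,0,0,2,0,2],
  [0,0,2,-2,2,0,-2,2,0,0,-2,0,-2,-2,2,0,0,2,0,0,0,-2,2,0],
  [1,-1,-3,-1,-3,1,-1,-1,-1,-1,-1,-1,1,1,-1,1,-1,-3,1,1,1,1,-1,-1],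
  [-1,-1,-1,-1,-1,-1,-1,1,-1,-1,-1,1,1,1,1,-1,1,-1,-3,-3,-3,1,1,1],
  [1,-1,-1,-3,-1,1,-3,1,-1,-1,-3,-1,-1,-1,1,1,-1,-1,1,1,1,-1,1,-1],
  [-1,1,1,-1,1,-1,-1,-1,1,1,-1,1,1,1,-1,-1,1,1,3,3,3,1,-1,1],
  [0,-2,0,-2,0,0,-2,-2,-2,-2,-2,-2,0,0,-2,0,-2,0,0,0,0,0,-2,-2],
  [0,0,0,0,0,0,0,-2,0,0,0,2,-2,-2,-2,0,2,0,2,2,2,-2,-2,2],
  [1,3,-1,1,-1,1,1,-1,3,3,1,1,1,1,-1,1,1,-1,-1,-1,-1,1,-1,1],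
  [3,-1,1,1,1,3,1,1,-1,-1,1,-1,1,1,1,3,-1,1,-1,-1,-1,1,1,-1],
  [1,3,1,-1,1,1,-1,1,3,3,-1,1,-1,-1,1,1,1,1,-1,-1,-1,-1,1,1],
  [-1,1,-1,1,-1,-1,1,-1,1,1,1,-1,-3,-3,-1,-1,-1,-1,1,1,1,-3,-1,-1],
  [0,2,2,0,2,0,0,-2,2,2,0,0,0,0,-2,0,0,2,-2,-2,-2,0,-2,0],
  [-2,2,0,0,0,-2,0,0,2,2,0,-2,0,0,0,-2,-2,0,2,2,2,0,0,-2],
  [-1,-1,-1,3,-1,-1,3,1,-1,-1,3,1,1,1,1,-1,1,-1,1,1,1,1,1,1],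
  [1,-1,1,-1,1,1,-1,-1,-1,-1,-1,3,1,1,-1,1,3,1,1,1,1,1,-1,3],
  [-3,1,-1,-1,-1,-3,-1,1,1,1,-1,-1,1,1,1,-3,-1,-1,-1,-1,-1,1,1,-1],
  [-1,-1,1,1,1,-1,1,3,-1,-1,1,1,-1,-1,3,-1,1,1,1,1,1,-1,3,1],
  [-2,0,-2,0,-2,-2,0,0,0,0,0,0,-2,-2,0,-2,0,-2,-2,-2,-2,-2,0,0],
  [-2,-2,2,2,2,-2,2,0,-2,-2,2,0,0,0,0,-2,0,2,0,0,0,0,0,0],
  [2,-2,-2,2,-2,2,2,0,-2,-2,2,0,0,0,0,2,0,-2,0,0,0,0,0,0],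
  [0,-2,0,-2,0,0,-2,2,-2,-2,-2,2,0,0,2,0,2,0,0,0,0,0,2,2],
  [-1,1,1,-1,1,-1,-1,-1,1,1,-1,1,-3,-3,-1,-1,1,1,-1,-1,-1,-3,-1,1],
  [1,3,-1,1,-1,1,1,1,3,3,1,-1,-1,-1,1,1,-1,-1,1,1,1,-1,1,-1],
  [1,-3,1,1,1,1,1,-1,-3,-3,1,-1,-1,-1,-1,1,-1,1,-1,-1,-1,-1,-1,-1],
  [-1,1,-1,1,-1,-1,1,-3,1,1,1,1,-1,-1,-3,-1,1,-1,-1,-1,-1,-1,-3,1],
  [0,2,2,0,2,0,0,0,2,2,0,-2,-2,-2,0,0,-2,2,0,0,0,-2,0,-2]]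

def RLc1 : List (List ℤ) := [[0,0,-2,-2,-2,0,-2,0,0,0,-2,-2,0,0,0,0,-2,-2,-2,-2,-2,0,0,-2],
  [-2,2,0,0,0,-2,0,-2,2,2,0,0,2,2,-2,-2,0,0,0,0,0,2,-2,0],
  [0,-2,2,0,2,0,0,0,-2,-2,0,-2,2,2,0,0,-2,2,0,0,0,2,0,-2],
  [0,-2,2,0,2,0,0,-2,-2,-2,0,0,0,0,-2,0,0,2,2,2,2,0,-2,0],
  [0,0,2,2,2,0,2,2,0,0,2,0,2,2,2,0,0,2,0,0,0,2,2,0],
  [1,-1,1,-1,1,1,-1,1,-1,-1,-1,1,-1,-1,1,1,1,1,3,3,3,-1,1,1],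
  [-1,1,-1,-3,-1,-1,-3,-1,1,1,-3,-1,1,1,-1,-1,-1,-1,1,1,1,1,-1,-1],
  [-1,-1,1,1,1,-1,1,1,-1,-1,1,3,1,1,1,-1,3,1,-1,-1,-1,1,1,3],
  [1,-1,-1,1,-1,1,1,-1,-1,-1,1,1,1,1,-1,1,1,-1,3,3,3,1,-1,1],
  [0,0,0,0,0,0,0,-2,0,0,0,2,2,2,-2,0,2,0,-2,-2,-2,2,-2,2],
  [2,0,2,0,2,2,0,0,0,0,0,0,-2,-2,0,2,0,2,-2,-2,-2,-2,0,0],
  [-1,-1,1,1,1,-1,1,-1,-1,-1,1,-3,-1,-1,-1,-1,-3,1,1,1,1,-1,-1,-3],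
  [1,1,3,-1,3,1,-1,1,1,1,-1,-1,1,1,1,1,-1,3,-1,-1,-1,1,1,-1],
  [3,1,-1,1,-1,3,1,1,1,1,1,1,-1,-1,1,3,1,-1,-1,-1,-1,-1,1,1],
  [1,1,1,1,1,1,1,-1,1,1,1,-1,3,3,-1,1,-1,1,-1,-1,-1,3,-1,-1],
  [-2,0,0,-2,0,-2,-2,2,0,0,-2,0,0,0,2,-2,0,0,2,2,2,0,2,0],
  [2,2,0,0,0,2,0,2,2,2,0,0,2,2,2,2,0,0,0,0,0,2,2,0],
  [0,0,-2,2,-2,0,2,0,0,0,2,-2,0,0,0,0,-2,-2,2,2,2,0,0,-2],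
  [2,0,0,-2,0,2,-2,-2,0,0,-2,0,0,0,-2,2,0,0,2,2,2,0,-2,0],
  [2,0,0,-2,0,2,-2,0,0,0,-2,-2,2,2,0,2,-2,0,0,0,0,2,0,-2],
  [-2,-2,0,0,0,-2,0,0,-2,-2,0,-2,0,0,0,-2,-2,0,-2,-2,-2,0,0,-2],
  [-3,1,1,1,1,-3,1,1,1,1,1,1,1,1,1,-3,1,1,1,1,1,1,1,1],
  [-1,-1,-1,-1,-1,-1,-1,3,-1,-1,-1,-1,-1,-1,3,-1,-1,-1,-1,-1,-1,-1,3,-1],
  [1,-1,-1,-3,-1,1,-3,-1,-1,-1,-3,1,1,1,-1,1,1,-1,-1,-1,-1,1,-1,1],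
  [-1,-1,-3,1,-3,-1,1,1,-1,-1,1,-1,1,1,1,-1,-1,-3,-1,-1,-1,1,1,-1],
  [0,-2,-2,0,-2,0,0,0,-2,-2,0,-2,-2,-2,0,0,-2,-2,0,0,0,-2,0,-2],
  [-2,0,0,2,0,-2,2,-2,0,0,2,0,0,0,-2,-2,0,0,2,2,2,0,-2,0],
  [-1,-1,-1,-1,-1,-1,-1,1,-1,-1,-1,-3,1,1,1,-1,-3,-1,1,1,1,1,1,-3],
  [-1,1,-1,1,-1,-1,1,1,1,1,1,1,-1,-1,1,-1,1,-1,3,3,3,-1,1,1],
  [2,0,-2,0,-2,2,0,0,0,0,0,0,2,2,0,2,0,-2,-2,-2,-2,2,0,0],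
  [2,2,2,2,2,2,2,0,2,2,2,0,0,0,0,2,0,2,0,0,0,0,0,0],
  [2,0,2,0,2,2,0,-2,0,0,0,-2,0,0,-2,2,-2,2,0,0,0,0,-2,-2]]

def RLc2 : List (List ℤ) := [[-2,0,2,0,2,-2,0,2,0,0,0,-2,0,0,2,-2,-2,2,0,0,0,0,2,-2],
  [3,1,1,-1,1,3,-1,1,1,1,-1,-1,-1,-1,1,3,-1,1,1,1,1,-1,1,-1],
  [-1,-1,1,1,1,-1,1,1,-1,-1,1,-1,-3,-3,1,-1,-1,1,-1,-1,-1,-3,1,-1],
  [1,-1,1,-1,1,1,-1,-3,-1,-1,-1,1,-1,-1,-3,1,1,1,-1,-1,-1,-1,-3,1],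
  [-1,-1,-1,3,-1,-1,3,-1,-1,-1,3,-1,-1,-1,-1,-1,-1,-1,-1,-1,-1,-1,-1,-1],
  [1,1,1,1,1,1,1,1,1,1,1,1,1,1,1,1,1,1,-3,-3,-3,1,1,1],
  [3,1,-1,1,-1,3,1,-1,1,1,1,-1,1,1,-1,3,-1,-1,1,1,1,1,-1,-1],
  [-2,0,0,2,0,-2,2,0,0,0,2,-2,2,2,0,-2,-2,0,0,0,0,2,0,-2],
  [0,0,-2,2,-2,0,2,2,0,0,2,0,-2,-2,2,0,0,-2,0,0,0,-2,2,0],
  [2,0,0,2,0,2,2,2,0,0,2,0,0,0,2,2,0,0,2,2,2,0,2,0],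
  [0,2,-2,0,-2,0,0,0,2,2,0,-2,2,2,0,0,-2,-2,0,0,0,2,0,-2],
  [-1,1,-1,-3,-1,-1,-3,1,1,1,-3,1,-1,-1,1,-1,1,-1,-1,-1,-1,-1,1,1],
  [-1,-1,3,-1,3,-1,-1,1,-1,-1,-1,1,1,1,1,-1,1,3,1,1,1,1,1,1],
  [1,-1,-1,1,-1,1,1,1,-1,-1,1,3,-1,-1,1,1,3,-1,1,1,1,-1,1,3],
  [-1,-1,1,1,1,-1,1,-1,-1,-1,1,1,3,3,-1,-1,1,1,1,1,1,3,-1,1],
  [1,-3,-1,-1,-1,1,-1,1,-3,-3,-1,-1,1,1,1,1,-1,-1,-1,-1,-1,1,1,-1],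
  [-1,1,-3,-1,-3,-1,-1,-1,1,1,-1,1,1,1,-1,-1,1,-3,-1,-1,-1,1,-1,1],
  [0,2,0,-2,0,0,-2,2,2,2,-2,-2,0,0,2,0,-2,0,0,0,0,0,2,-2],
  [0,0,0,0,0,0,0,2,0,0,0,2,2,2,2,0,2,0,2,2,2,2,2,2],
  [0,-2,0,-2,0,0,-2,0,-2,-2,-2,0,2,2,0,0,0,0,2,2,2,2,0,0],
  [0,2,0,-2,0,0,-2,0,2,2,-2,0,-2,-2,0,0,0,0,2,2,2,-2,0,0],
  [-1,3,1,1,1,-1,1,1,3,3,1,-1,1,1,1,-1,-1,1,-1,-1,-1,1,1,-1],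
  [-1,1,1,-1,1,-1,-1,-3,1,1,-1,-1,-1,-1,-3,-1,-1,1,1,1,1,-1,-3,-1],
  [0,2,-2,0,-2,0,0,-2,2,2,0,0,0,0,-2,0,0,-2,2,2,2,0,-2,0],
  [2,-2,0,0,0,2,0,0,-2,-2,0,-2,0,0,0,2,-2,0,2,2,2,0,0,-2],
  [2,2,0,0,0,2,0,0,2,2,0,-2,0,0,0,2,-2,0,-2,-2,-2,0,0,-2],
  [-2,0,0,-2,0,-2,-2,0,0,0,-2,-2,-2,-2,0,-2,-2,0,0,0,0,-2,0,-2],
  [-1,-1,1,1,1,-1,1,1,-1,-1,1,-1,1,1,1,-1,-1,1,3,3,3,1,1,-1],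
  [-1,1,-3,-1,-3,-1,-1,1,1,1,-1,-1,-1,-1,1,-1,-1,-3,1,1,1,-1,1,-1],
  [0,-2,0,2,0,0,2,0,-2,-2,2,0,-2,-2,0,0,0,0,2,2,2,-2,0,0],
  [2,0,2,0,2,2,0,2,0,0,0,2,0,0,2,2,2,2,0,0,0,0,2,2],
  [0,2,0,-2,0,0,-2,-2,2,2,-2,2,0,0,-2,0,2,0,0,0,0,0,-2,2]]

def RLc3 : List (List ℤ) := [[2,-2,2,-2,2,2,-2,0,-2,-2,-2,0,0,0,0,2,0,2,0,0,0,0,0,0],
  [-3,1,1,1,1,-3,1,-1,1,1,1,-1,-1,-1,-1,-3,-1,1,-1,-1,-1,-1,-1,-1],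
  [1,3,1,-1,1,1,-1,-1,3,3,-1,-1,1,1,-1,1,-1,1,1,1,1,1,-1,-1],
  [-2,2,0,0,0,-2,0,2,2,2,0,0,-2,-2,2,-2,0,0,0,0,0,-2,2,0],
  [2,2,0,0,0,2,0,-2,2,2,0,0,-2,-2,-2,2,0,0,0,0,0,-2,-2,0],
  [0,0,-2,-2,-2,0,-2,2,0,0,-2,0,2,2,2,0,0,-2,0,0,0,2,2,0],
  [0,-2,-2,0,-2,0,0,-2,-2,-2,0,0,0,0,-2,0,0,-2,-2,-2,-2,0,-2,0],
  [-1,-1,-1,-1,-1,-1,-1,-1,-1,-1,-1,-1,3,3,-1,-1,-1,-1,-1,-1,-1,3,-1,-1],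
  [1,-1,-3,-1,-3,1,-1,1,-1,-1,-1,1,-1,-1,1,1,1,-3,-1,-1,-1,-1,1,1],
  [-1,1,-1,1,-1,-1,1,-1,1,1,1,3,1,1,-1,-1,3,-1,1,1,1,1,-1,3],
  [1,-3,1,1,1,1,1,1,-3,-3,1,1,1,1,1,1,1,1,1,1,1,1,1,1],
  [-1,1,1,-1,1,-1,-1,1,1,1,-1,3,-1,-1,1,-1,3,1,1,1,1,-1,1,3],
  [-1,-1,1,-3,1,-1,-3,1,-1,-1,-3,-1,1,1,1,-1,-1,1,-1,-1,-1,1,1,-1],
  [-2,0,2,0,2,-2,0,-2,0,0,0,2,0,0,-2,-2,2,2,0,0,0,0,-2,2],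
  [0,-2,0,-2,0,0,-2,0,-2,-2,-2,0,-2,-2,0,0,0,0,-2,-2,-2,-2,0,0],
  [2,0,-2,0,-2,2,0,0,0,0,0,0,-2,-2,0,2,0,-2,2,2,2,-2,0,0],
  [0,0,0,0,0,0,0,2,0,0,0,2,-2,-2,2,0,2,0,-2,-2,-2,-2,2,2],
  [1,1,-1,3,-1,1,3,1,1,1,3,-1,1,1,1,1,-1,-1,-1,-1,-1,1,1,-1],
  [3,1,1,-1,1,3,-1,-1,1,1,-1,1,1,1,-1,3,1,1,-1,-1,-1,1,-1,1],
  [1,-1,-1,1,-1,1,1,-3,-1,-1,1,-1,-1,-1,-3,1,-1,-1,1,1,1,-1,-3,-1],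
  [-1,-1,1,1,1,-1,1,-1,-1,-1,1,1,-1,-1,-1,-1,1,1,-3,-3,-3,-1,-1,1],
  [1,-1,1,-1,1,1,-1,-1,-1,-1,-1,-1,-3,-3,-1,1,-1,1,1,1,1,-3,-1,-1],
  [1,1,1,1,1,1,1,3,1,1,1,-1,-1,-1,3,1,-1,1,-1,-1,-1,-1,3,-1],
  [0,0,2,-2,2,0,-2,0,0,0,-2,-2,0,0,0,0,-2,2,2,2,2,0,0,-2],
  [0,0,-2,-2,-2,0,-2,0,0,0,-2,2,0,0,0,0,2,-2,2,2,2,0,0,2],
  [0,0,0,0,0,0,0,0,0,0,0,0,0,0,0,0,0,0,0,0,0,0,0,8],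
  [2,0,2,0,-2,-2,0,2,0,0,0,2,0,-4,-2,-2,2,2,0,0,0,0,-2,2],
  [0,-2,0,2,0,0,-2,0,2,2,2,-4,2,2,0,0,0,0,-2,2,2,2,0,0],
  [4,0,0,0,4,0,0,0,0,4,0,0,0,0,0,0,0,0,0,4,0,0,0,0],
  [3,1,-3,-1,1,-1,-1,-3,1,1,-1,-1,-1,3,1,-1,-1,-3,1,1,1,-1,1,-1],
  [1,-3,-1,3,-1,1,-1,-1,1,1,3,-3,-1,-1,-1,1,1,-1,-3,1,1,-1,-1,1],
  [-1,1,-1,1,-1,-1,1,-1,1,1,1,-1,-3,1,-1,-1,3,3,-3,-3,1,1,-1,-1]]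

def RLc4 : List (List ℤ) := [[1,-1,1,-1,1,1,-1,-3,3,-1,-1,1,-1,-1,-3,1,-3,-3,-1,-1,-1,-1,1,1],
  [0,0,2,2,-2,0,2,-2,0,0,-2,0,2,2,2,0,0,2,0,4,0,2,2,0],
  [0,-2,2,-4,2,0,0,-2,-2,-2,0,0,0,0,-2,0,0,-2,2,2,-2,0,2,0],
  [2,-2,0,0,0,2,0,2,2,-2,0,0,2,-2,2,-2,4,0,0,0,0,-2,2,0],
  [0,2,2,0,-2,0,0,0,2,2,0,-2,-2,2,0,0,-2,2,0,4,0,-2,0,2],
  [2,0,0,2,0,-2,2,-2,0,4,-2,0,0,0,2,-2,0,0,-2,-2,-2,0,2,0],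
  [0,0,2,-2,2,0,2,0,0,0,2,2,0,0,0,0,2,-2,2,2,-2,0,4,2],
  [1,1,1,1,1,1,1,-1,1,-3,1,-1,-1,3,3,1,-1,1,-1,3,-1,-1,3,-1],
  [-1,-3,-1,1,3,3,1,1,1,1,1,1,-1,-1,1,-1,1,3,3,-1,-1,-1,1,1],
  [-1,-1,-3,1,1,-1,1,3,-1,-1,-3,1,-1,-1,-1,-1,1,-3,1,-3,1,-1,-1,1],
  [-3,1,-1,-1,-1,-3,-1,1,-3,1,-1,-1,1,1,1,1,-1,3,-1,-1,3,1,1,-1],
  [2,-2,-2,2,2,2,-2,0,2,2,2,0,0,0,0,2,0,2,0,0,0,-4,0,0],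
  [-2,0,-2,0,-2,2,0,0,0,0,4,0,2,-2,0,2,0,-2,-2,2,-2,2,0,0],
  [0,2,0,-2,0,0,2,0,-2,2,2,0,2,-2,0,0,0,4,-2,-2,-2,-2,0,0],
  [-2,0,-2,0,2,2,-4,-2,0,0,0,-2,0,0,-2,-2,2,2,0,0,0,0,-2,2],
  [4,0,0,0,-4,0,0,0,0,-4,0,0,0,0,0,0,0,0,0,-4,0,0,0,0],
  [1,1,-1,-1,-1,1,-1,3,1,1,-1,1,-1,-1,3,1,1,-1,1,1,1,-1,-5,1],
  [-1,-3,1,-1,1,-1,3,1,1,1,-1,-1,-1,-1,1,-1,3,1,-3,1,1,-1,1,3],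
  [3,-1,-1,-1,-1,-1,-1,-1,-1,-1,3,-1,-1,3,-1,-1,-1,-1,3,-1,3,-1,-1,-1],
  [1,1,1,1,1,-3,1,1,1,1,1,-3,1,1,-3,1,1,1,1,-3,-3,1,1,1],
  [2,-2,0,0,0,2,-4,0,2,2,0,2,0,0,0,2,-2,0,2,-2,-2,0,0,-2],
  [2,0,0,2,0,-2,2,0,0,0,-2,-2,2,-2,0,-2,-2,0,0,-4,0,2,0,-2],
  [0,0,-2,-2,-2,0,-2,0,0,0,-2,-2,4,0,0,0,2,2,-2,-2,2,0,0,-2],
  [-2,0,0,-2,0,2,-2,2,0,0,2,0,0,4,2,2,0,0,-2,2,-2,0,2,0],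
  [0,2,-2,0,2,0,0,0,2,2,0,2,-2,2,0,0,2,-2,0,-4,0,-2,0,-2],
  [-2,-2,0,0,0,-2,0,-2,2,-2,0,0,2,-2,-2,2,-4,0,0,0,0,-2,-2,0],
  [3,1,-1,1,-1,-1,1,1,1,-3,-3,1,-1,-1,-3,-1,1,-1,-1,-1,-1,-1,-3,1],
  [-3,-3,1,1,1,1,1,3,-3,1,-3,-1,-1,-1,-1,1,-1,1,-1,-1,-1,-1,-1,-1],
  [-1,1,1,-1,1,-1,-1,-1,1,1,-1,1,1,-3,-1,-1,-3,-3,-1,-1,3,-3,-1,1],
  [-3,3,-1,1,-1,1,1,-3,3,-1,-3,-1,-1,-1,1,1,-1,-1,1,1,1,-1,1,-1],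
  [0,0,0,0,0,0,0,-2,0,0,0,2,-2,2,-2,0,-2,-4,-2,-2,2,2,-2,2],
  [0,-2,0,2,0,0,2,-2,2,-2,2,2,0,0,-2,0,-2,-4,0,0,0,0,2,2]]

def RLc5 : List (List ℤ) := [[0,2,0,-2,4,0,-2,2,2,-2,-2,2,0,0,-2,0,2,0,0,0,0,0,-2,-2],
  [0,0,0,0,0,0,0,2,0,0,0,-2,-2,2,2,0,2,4,-2,-2,2,2,2,-2],
  [1,1,-1,-1,3,1,-1,1,1,1,3,-1,1,1,-3,1,-1,-1,-1,3,-1,1,-3,-1],
  [-1,-1,1,1,1,-1,-3,-1,-1,-1,1,1,-1,-1,3,-1,-3,1,1,1,1,3,-1,-3],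
  [1,3,1,-1,1,1,-1,-1,-1,-1,-1,-1,1,1,3,1,-1,1,1,-3,-3,-3,-1,-1],
  [-1,3,-1,-1,-1,-1,3,1,-1,-1,-1,1,1,1,1,-1,-3,-1,-3,1,1,1,1,-3],
  [0,0,2,-2,-2,0,-2,-2,0,0,2,0,-2,-2,2,0,0,2,0,-4,0,-2,2,0],
  [0,-2,-2,0,-2,0,0,-2,2,-2,0,0,0,0,-2,0,-4,2,-2,-2,-2,0,2,0],
  [-1,-1,-1,-1,-1,-1,3,3,-1,-1,-1,3,-1,-1,-1,-1,-1,-1,-1,-1,-1,3,3,-1],
  [1,1,1,1,1,1,1,1,-3,1,1,-3,-3,1,1,-3,1,1,1,1,1,1,1,-3],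
  [3,-3,1,-1,1,-1,-1,1,-3,1,-1,-1,-1,3,1,-1,-1,1,1,1,1,-1,1,3],
  [1,1,-1,-1,-1,-3,-1,-1,1,1,-1,-3,-1,-1,3,1,1,-1,1,-3,-3,-1,-1,1],
  [-2,0,2,0,-2,2,0,2,0,0,0,-2,0,-4,-2,2,-2,2,0,0,0,0,-2,-2],
  [4,0,0,0,0,0,0,-4,0,-4,-4,0,0,0,0,0,0,0,0,0,0,0,0,0],
  [4,0,0,0,0,0,0,0,0,-4,0,0,0,4,0,0,0,0,0,0,0,0,0,4],
  [0,2,0,-2,0,0,-2,0,2,-2,2,0,-2,-2,0,0,0,0,2,-2,2,-2,0,4],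
  [2,0,2,0,2,-2,0,0,0,0,-4,0,2,-2,0,-2,0,2,-2,2,-2,2,0,0],
  [-2,2,2,-2,2,-2,-2,0,-2,2,-2,0,0,0,0,2,0,-2,0,0,-4,0,0,0],
  [1,-1,3,1,-1,1,-3,1,-1,-1,1,-1,-1,-1,-3,1,-1,-1,1,-3,-3,-1,1,-1],
  [3,1,-3,-1,1,-1,-1,3,1,1,-1,1,1,-3,-1,-1,1,-3,-1,-1,-1,1,-1,1],
  [-1,-1,3,-1,-1,3,3,1,-1,-1,-1,1,1,1,1,-1,-3,-1,1,1,1,1,1,-3],
  [1,-1,1,-1,-3,-3,-1,-1,-1,3,-1,-1,1,1,-1,-3,-1,1,1,-3,1,1,-1,-1],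
  [2,-2,0,0,0,2,0,0,2,-2,0,2,-4,0,0,-2,-2,0,-2,-2,-2,0,0,2],
  [2,0,0,-2,0,-2,-2,0,0,0,2,-2,-2,2,0,-2,-2,0,0,-4,0,-2,0,-2],
  [-1,1,3,1,-1,3,1,3,1,1,1,-1,1,1,-1,-1,-1,-1,1,1,1,-3,3,-1],
  [-3,-1,-3,-1,1,1,-1,1,-1,-1,-1,1,-1,-1,-3,-3,1,1,-1,-1,-1,3,1,1],
  [1,1,3,-1,3,1,-1,-1,-3,1,-1,1,-1,-1,-1,-3,1,-1,1,1,-3,-1,-1,1],
  [-1,1,-3,-1,1,3,-1,-3,1,1,-1,-1,-1,-1,1,-1,-1,1,1,1,1,3,-3,-1],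
  [4,-2,0,-2,0,0,-2,0,-2,-2,2,0,-2,2,0,0,0,0,-2,2,-2,-2,0,0],
  [-4,0,0,0,0,0,0,-4,0,-4,-4,0,0,0,0,0,0,0,0,0,0,0,0,0],
  [0,0,0,0,-4,0,0,-4,0,0,-4,0,0,0,0,0,0,0,0,-4,0,0,0,0],
  [-2,0,2,0,-2,2,-4,2,0,0,0,-2,0,0,2,-2,2,-2,0,0,0,0,2,2]]

def RLc6 : List (List ℤ) := [[0,0,2,-2,2,0,2,0,0,0,2,-2,0,0,0,0,-2,-2,-2,-2,2,0,4,-2],
  [-2,2,4,0,0,2,0,-2,2,2,0,0,2,2,2,-2,0,0,0,0,0,-2,-2,0],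
  [-3,3,1,-1,1,1,-1,-1,3,-1,-1,-1,1,-3,-1,1,-1,1,1,1,1,1,-1,3],
  [1,1,1,1,1,1,-3,-1,1,1,1,-1,-1,-1,3,1,3,1,-1,-1,-1,3,-1,3],
  [-1,1,-3,-1,1,3,-1,-1,1,1,-1,1,-3,-3,3,-1,1,1,-1,-1,-1,1,-1,1],
  [1,-3,-1,-1,-1,1,3,1,1,1,-1,-1,1,1,1,1,3,-1,3,-1,-1,1,1,3],
  [-1,-1,1,1,1,-1,1,-1,-1,-1,1,1,3,-1,-1,-1,-3,-3,-3,-3,1,-1,-1,1],
  [1,-1,-1,-3,-1,1,1,1,-1,-1,1,3,3,-1,1,1,-1,-1,1,1,1,-1,-3,3],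
  [-2,2,2,-2,-2,2,-2,0,-2,-2,-2,0,0,0,0,-2,0,-2,4,0,0,0,0,0],
  [-4,-2,0,2,0,0,2,-2,-2,2,-2,-2,0,0,2,0,-2,0,0,0,0,0,2,-2],
  [4,0,0,0,0,0,0,4,0,0,0,0,0,0,0,0,0,0,0,4,0,0,0,4],
  [-4,0,0,0,0,0,0,0,0,0,-4,0,0,-4,0,0,0,0,0,-4,0,0,0,0],
  [1,1,3,-1,-1,-3,3,-1,1,1,-1,1,-1,-1,-1,1,-3,-1,1,1,1,-1,-1,-3],
  [-3,-1,-1,1,-1,1,1,-1,-1,-1,-3,1,-3,1,-1,1,1,-1,-1,3,-1,-3,-1,1],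
  [0,0,2,2,2,0,2,2,0,0,2,0,-2,2,2,4,0,-2,0,0,0,2,-2,0],
  [2,0,-4,-2,0,-2,2,0,0,0,-2,2,2,2,0,2,-2,0,0,0,0,2,0,-2],
  [2,-2,0,0,0,2,0,-2,-2,2,0,0,-2,2,2,2,0,0,0,-4,0,-2,2,0],
  [0,0,-2,-2,-2,0,-2,0,0,0,-2,2,-4,0,0,0,-2,2,2,2,-2,0,0,2],
  [-3,1,1,1,-3,1,1,3,1,1,1,-1,3,-1,-1,1,-1,1,-1,-1,-1,3,-1,-1],
  [1,-1,1,3,1,1,-1,-1,-1,-1,3,3,1,1,3,1,-1,1,1,1,1,-3,-1,-1],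
  [0,4,0,0,0,0,0,-2,0,0,0,2,2,2,2,0,2,0,2,-2,-2,-2,-2,2],
  [-2,0,2,0,-2,2,0,-4,0,0,0,0,-2,2,0,2,0,2,-2,-2,-2,-2,0,0],
  [0,0,0,0,-4,0,0,0,0,4,-4,0,0,-4,0,0,0,0,0,0,0,0,0,0],
  [4,0,0,0,0,0,0,0,0,0,-4,0,0,-4,0,0,0,0,0,-4,0,0,0,0],
  [1,-1,-1,1,3,1,1,-1,-1,3,-3,1,-3,1,-1,1,1,-1,-1,-1,-1,-3,-1,1],
  [1,1,3,-1,-1,-3,-1,-1,-3,-3,-1,1,-1,-1,-1,1,1,-1,-3,1,1,-1,-1,1],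
  [-1,1,-1,1,-1,-1,1,-1,-3,1,1,3,-3,1,-1,3,-1,-1,1,1,1,1,-1,3],
  [1,1,1,1,1,1,1,1,1,1,1,1,1,-3,1,1,-3,-3,1,1,-3,-3,1,1],
  [-1,-1,3,-1,-1,3,-1,3,-1,-1,-1,-1,-1,-1,-1,-1,-1,-1,-1,-1,-1,3,3,-1],
  [1,-1,1,-1,-3,1,-1,1,-1,3,3,1,3,-1,1,1,1,1,-1,-1,-1,3,1,1],
  [-2,2,0,0,0,-2,-4,0,-2,-2,0,2,0,0,0,-2,-2,0,2,-2,-2,0,0,-2],
  [0,-2,-2,0,-2,0,0,2,2,-2,0,0,0,0,2,0,-4,2,2,2,2,0,-2,0]]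

def RLc7 : List (List ℤ) := [[-2,0,4,-2,0,2,2,0,0,0,-2,-2,2,2,0,-2,2,0,0,0,0,2,0,2],
  [4,0,-2,2,2,0,2,2,0,0,2,0,2,-2,-2,0,0,-2,0,0,0,2,-2,0],
  [1,1,-3,1,1,-3,1,1,-3,-3,1,1,1,1,1,1,1,1,-3,1,1,1,1,1],
  [-1,1,-1,1,-1,-1,-3,-1,-3,-3,1,3,1,1,-1,-1,-1,-1,-3,1,1,1,-1,-1],
  [1,-1,1,-1,1,1,-1,1,-1,-1,-1,-3,-1,-1,1,1,5,1,-1,-1,-1,-1,1,-3],
  [-1,-1,-1,-1,3,-1,-1,-1,-1,-1,-1,-1,-1,3,-1,-1,-1,-1,3,-1,3,-1,-1,3],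
  [1,3,-1,1,-1,1,1,-1,-1,3,1,1,-3,1,-1,1,1,-1,-1,-1,3,1,3,1],
  [1,1,-1,-1,-1,1,-1,-1,1,1,-1,-3,-1,-1,-1,-3,1,-1,1,1,-3,-1,3,-3],
  [-4,0,0,0,4,0,0,-4,0,0,0,0,0,-4,0,0,0,0,0,0,0,0,0,0],
  [0,-4,0,0,0,0,0,0,0,0,0,0,0,0,-4,0,0,0,4,0,0,-4,0,0],
  [0,0,0,0,0,0,0,2,0,0,0,-2,-2,-2,2,-4,2,0,2,2,-2,-2,-2,-2],
  [2,-4,2,0,-2,-2,0,0,0,0,0,0,-2,-2,0,2,0,-2,-2,2,2,-2,0,0],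
  [-1,-1,-3,1,-3,-1,1,-1,3,-1,1,1,-1,-1,-1,-1,-3,1,1,1,1,-1,3,1],
  [1,-1,-1,1,-1,1,-3,-3,-1,-1,1,3,-1,-1,1,1,-1,-1,1,1,1,3,-3,-1],
  [-1,1,1,-1,1,-1,-1,-5,1,1,-1,1,1,1,3,-1,1,1,-1,-1,-1,1,3,1],
  [-3,1,3,-1,-1,1,3,1,1,1,-1,3,1,1,1,-3,-1,-1,-1,-1,-1,1,1,-1],
  [3,1,-1,1,-1,3,1,1,1,1,1,1,-1,-1,1,-1,-3,-1,-1,-1,3,-1,-3,1],
  [-1,-1,-1,-1,-1,-1,-1,-3,-1,-1,-1,1,1,1,-3,-1,1,-1,1,1,1,1,5,1],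
  [-2,0,0,2,-4,-2,2,2,0,0,-2,0,0,0,-2,-2,0,0,2,-2,2,0,-2,0],
  [0,2,-2,0,2,0,0,0,2,2,0,-2,2,-2,0,0,-2,-2,0,-4,0,2,0,2],
  [0,-2,2,0,-2,0,0,-2,-2,-2,-4,0,0,0,2,0,0,2,-2,2,-2,0,2,0],
  [2,-2,0,0,0,2,0,0,2,-2,0,-2,4,0,0,-2,2,0,2,2,2,0,0,-2],
  [-3,1,3,-1,-1,1,3,-1,1,1,-1,-3,-1,-1,-1,-3,1,-1,1,1,1,-1,-1,1],
  [1,-1,-1,-3,-1,1,1,-1,-1,-1,1,-3,-3,1,-1,1,1,-1,-1,-1,-1,1,3,-3],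
  [0,0,4,0,0,-4,0,0,0,0,0,0,0,0,-4,0,0,0,0,0,0,4,0,0],
  [4,0,0,0,4,0,0,0,0,0,-4,0,0,0,0,0,0,0,0,0,0,0,0,-4],
  [2,2,-2,2,-2,2,-2,0,2,2,-2,0,0,0,0,-2,4,2,0,0,0,0,0,0],
  [0,2,0,2,0,0,2,-2,-2,2,2,-2,0,0,-2,0,2,4,0,0,0,0,2,-2],
  [-1,-1,3,-1,-1,-1,-1,-3,-1,-1,3,1,1,1,1,-1,1,3,1,-3,1,1,1,1],
  [-1,5,-1,1,-1,-1,1,1,-3,-3,1,1,-1,-1,1,-1,1,-1,-1,-1,-1,-1,1,1],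
  [0,-2,-2,0,-2,0,0,0,-2,-2,0,-2,2,-2,0,0,2,2,0,0,4,-2,0,-2],
  [2,0,0,2,4,2,2,-2,0,0,-2,0,0,0,2,2,0,0,2,-2,2,0,2,0]]

def RL : List (List ℤ) := RLc0 ++ RLc1 ++ RLc2 ++ RLc3 ++ RLc4 ++ RLc5 ++ RLc6 ++ RLc7

def KL : List ℕ := [0,133,234,72,212,162,81,5,106,84,200,209,34,122,21,43,183,174,93,250,149,55,171,221,46,237,30,7,155,57,86,79,32,188,211,241,2,116,232,74,37,225,18,100,248,198,169,67,44,176,223,253,14,23,139,181,218,87,203,189,78,154,245,36,184,161,82,108,3,159,240,233,134,91,199,222,45,19,124,224,143,150,249,40,180,194,49,229,138,213,186,157,110,119,235,85,58,238,29,107,247,217,182,92,51,175,192,254,13,123,231,89,54,47,64,220,179,141,126,103,251,12,111,243,156,118,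25,39,187,205,62,115,28,128,239,246,153,59,167,190,77,99,255,144,137,230,68,216,193,50,127,16,140,227,9,102,88,196,178,65,130,113,104,244,202,165,158,109,27,135,185,214,60,83,207,160,142,125,11,151,53,90,146,97,120,228,70,41,48,95,195,172,56,164,210,33,31,112,236,131,105,6,75,215,206,61,26,117,52,168,177,66,101,10,71,219,173,94,96,15,147,252,22,121,38,73,80,63,163,204,242,1,24,132,166,201,35,76,208,191,129,114,4,152,42,69,145,98,20,136,170,197,226,17,8,148]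

def T4K : List ℕ := [12,111,243,156,118,25,39,187,205,62,115,28,128,239,246,153,59,167,190,77,99,255,144,137,230,68,216,193,50,127,16,140,227,9,102,88,196,178,65,130,113,104,244,202,165,158,109,27,135,185,214,60,83,207,160,142,125,11,151,53,90,146,97,120,228,70,41,48,95,195,172,56,164,210,33,31,112,236,131,105,6,75,215,206,61,26,117,52,168,177,66,101,10,71,219,173,94,96,15,147,252,22,121,38,73,80,63,163,204,242,1,24,132,166,201,35,76,208,191,129,114,4,152,42,69,145,98,20,136,170,197,226,17,8,148]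

def OB : List ℕ := [0,8,0,0,32,0,2,0,256,2,64,128,1,0,0,2,2,4,0,0,1,0,2,0,1,2,8,8,16,0,0,2,0,128,0,4,0,0,8,8,0,16,128,0,0,0,0,0,256,0,4,0,64,16,0,0,256,0,0,32,8,8,64,32,0,4,128,0,16,256,64,1,0,128,0,1,64,256,0,0,4,0,0,1,0,0,0,0,16,0,32,0,0,0,32,1,2,32,4,128,0,32,2,0,128,2,0,0,0,16,0,2,2,16,64,4,0,256,2,0,64,2,0,0,0,256,0,2,4,256,8,8,1,0,0,128,1,256,0,0,128,0,16,0,1,4,16,32,64,0,0,32,8,8,0,0,1,0,64,0,64,0,0,4,8,8,128,16,32,0,64,0,32,128,0,0,0,256,4,0,0,0,0,0,0,256,0,16,0,0,8,8,0,4,0,1,256,128,0,0,0,32,16,0,256,32,128,1,4,0,64,0,0,0,16,1,64,0,0,1,0,0,0,0,0,0,4,16,128,0,64,0,0,0,0,0,64,0,0,128,0,0,32,4,256,0,32,0,0,0,0,0,256,0,0,16]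

theorem RL_keys : (RL.map fun a => numOf (keyG sepL a)) = KL := by decide +kernel

theorem KL_nodup : KL.Nodup := by decide +kernel

/-- The table of the fixed classes. -/
theorem tab : FixTab c3 (permL sLi) gF tF RL sepL 16 256 121 where
  hact := acts_c3
  len := by decide +kernel
  card := by norm_num
  gF_ok := by decide +kernel
  tF_ok := by decide +kernel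
  RL_ok := by decide +kernel
  dual := by decide +kernel
  ker := by decide +kernel
  sep_ok := by decide +kernel
  keys := List.Nodup.of_map numOf (by rw [List.map_map]; show (RL.map (fun a => numOf (keyG sepL a))).Nodup; rw [RL_keys]; exact KL_nodup)
  fix := by decide +kernel
  low := by decide +kernel
  high := by decide +kernel
  le := by norm_num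

theorem hK : ∀ a : Fin (256 - 121), numOf (keyG sepL (RL.getD (121 + a.val) [])) = T4K.getD a.val 0 := by decide +kernel

/-! ### The set of nine points -/

/-- The nine points. -/
abbrev Om := Fin 9

/-- The code of a point. -/
def code3 : Om → ℕ := Fin.val

theorem hcode : ∀ j, j < 9 → ∃ ω, code3 ω = j := fun j hj => ⟨⟨j, hj⟩, rfl⟩

theorem inc_inj : ∀ ω ω' : Om, (∀ a : Fin (256 - 121), FixTab.incT OB T4K code3 ω a = FixTab.incT OB T4K code3 ω' a) → ω = ω' := by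
  decide +kernel

/-- A permutation from tables. -/
def ofV (f g : Fin 9 → Fin 9) (h1 : ∀ x, f (g x) = x) (h2 : ∀ x, g (f x) = x) : Equiv.Perm (Fin 9) := ⟨f, g, h2, h1⟩

/-- A family of subsets of the nine points. -/
def famF : List (Finset Om) := [
{1, 5, 6, 7},
  {1, 3, 7, 8},
  {1, 2, 6, 8},
  {1, 4, 5, 8},
  {1, 2, 3, 5},
  {1, 2, 4, 7},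
  {4, 6, 7, 8},
  {3, 5, 6, 8},
  {2, 4, 5, 6},
  {2, 3, 6, 7},
  {2, 5, 7, 8},
  {1, 3, 4, 6},
  {3, 4, 5, 7},
  {2, 3, 4, 8}]

/-- Preservation of the family. -/
def inStab (σ : Equiv.Perm Om) : Prop := ∀ S ∈ famF, S.image σ ∈ famF

instance (σ : Equiv.Perm Om) : Decidable (inStab σ) := by
  unfold inStab
  infer_instance


end Cfsg.Agent.Lib.Sporadic.LeechThree
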