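import Mathlib
import Cfsg.Agent.Lib.Sporadic.LeechThreeData

set_option autoImplicit false
set_option maxRecDepth 100000
set_option maxHeartbeats 0

namespace Cfsg.Agent.Lib.Sporadic.LeechThree

open Cfsg Cfsg.Agent.Lib.Sporadic.LeechMat Cfsg.Agent.Lib.Sporadic.LeechKey
  Cfsg.Agent.Lib.Sporadic.LeechSeven Cfsg.Agent.Lib.Sporadic.LeechCentFw
  Cfsg.Agent.Lib.Sporadic.LeechLocal Cfsg.Agent.Lib.Sporadic.LeechAct Cfsg.Agent.Lib.Sporadic.GolayCore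
open Cfsg.Agent.Lib.Compute.M24 Cfsg.Agent.Lib.Compute.M24Enum

theorem RL_len : RL.length = 121 + (256 - 121) := by decide +kernel

set_option maxHeartbeats 4000000 in
def m0 : List (List ℤ) := [[0,-2,0,-2,0,0,-2,0,-2,2,2,0,-2,-2,0,0,0,0,-2,2,-2,-2,0,4],
  [2,0,2,0,-2,-2,-4,2,0,0,0,2,0,0,2,2,-2,-2,0,0,0,0,2,-2],
  [-2,4,2,0,-2,-2,0,2,0,0,0,-2,0,0,-2,-2,2,-2,0,0,0,0,2,2],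
  [0,2,0,-2,0,0,-2,0,-2,2,-2,0,-2,2,0,0,0,0,-2,-2,2,2,-4,0],
  [-2,0,-2,0,2,-2,0,-2,0,4,0,2,0,0,2,-2,2,-2,0,0,0,0,2,-2],
  [0,2,0,-2,0,0,2,0,-2,-2,-2,4,-2,-2,0,0,0,0,2,-2,-2,-2,0,0],
  [0,-2,0,-2,0,0,-2,0,2,2,-2,0,2,2,-4,0,0,0,2,-2,-2,-2,0,0],
  [-2,0,2,0,-2,2,0,-2,0,0,0,2,0,4,2,2,2,2,0,0,0,0,2,2],
  [2,0,-2,-4,-2,2,0,2,0,0,0,-2,0,0,2,-2,2,2,0,0,0,0,2,-2],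
  [-2,0,-2,0,2,2,0,2,0,0,-4,-2,0,0,2,2,-2,-2,0,0,0,0,2,2],
  [0,2,0,-2,0,0,-2,-4,2,-2,-2,0,2,-2,0,0,0,0,-2,2,-2,2,0,0],
  [0,-2,4,-2,0,0,2,0,2,2,-2,0,-2,-2,0,0,0,0,2,2,2,2,0,0],
  [0,-2,0,2,0,0,-2,0,-2,-2,-2,0,-2,2,0,-4,0,0,2,2,-2,2,0,0],
  [-4,-2,0,-2,0,0,-2,0,-2,-2,2,0,2,-2,0,0,0,0,2,-2,2,2,0,0],
  [2,0,-2,0,2,-2,0,2,0,0,0,2,0,0,-2,2,2,2,0,0,0,4,2,2],
  [0,-2,0,2,0,0,-2,0,2,-2,-2,0,-2,-2,0,0,4,0,-2,-2,2,-2,0,0],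
  [0,2,0,2,0,0,-2,0,-2,2,-2,0,2,-2,0,0,0,4,2,2,2,-2,0,0],
  [-2,0,-2,0,-2,-2,0,2,4,0,0,2,0,0,2,-2,-2,2,0,0,0,0,-2,2],
  [-2,0,2,0,2,2,0,2,0,0,0,2,0,0,-2,-2,-2,2,-4,0,0,0,2,-2],
  [2,0,2,0,2,-2,0,-2,0,0,0,-2,0,0,2,-2,-2,2,0,-4,0,0,2,2],
  [-2,0,2,0,2,-2,0,2,0,0,0,-2,0,0,2,2,2,2,0,0,-4,0,-2,-2],
  [0,-2,0,-2,0,-4,2,0,-2,-2,-2,0,2,2,0,0,0,0,-2,2,2,-2,0,0],
  [2,0,2,0,2,2,0,2,0,0,0,2,4,0,2,-2,2,-2,0,0,0,0,-2,2],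
  [0,2,0,-2,4,0,-2,0,2,-2,2,0,-2,2,0,0,0,0,2,2,2,-2,0,0]]

theorem m0_ok : matCheck m0 8 = true := by decide +kernel

theorem m0_comm : (List.range 24).all (fun i => matL m0 8 (permL sLi (unitL i)) == permL sLi (matL m0 8 (unitL i))) = true := by decide +kernel

def K0 : List ℕ := [117,60,12,48,39,27,41,25,62,50,83,111,95,99,120,68,70,118,109,97,73,121,69,94,98,96,80,75,71,38,26,42,22,1,61,15,63,24,20,28,16,11,59,9,53,115,127,88,104,90,102,113,77,125,65,105,101,66,114,112,76,6,10,17,33,35,31,4,56,8,52,151,167,128,140,190,130,178,142,153,165,196,244,239,227,202,246,226,210,201,197,236,208,177,129,166,170,152,164,148,168,191,131,187,135,156,160,144,172,158,146,137,185,228,216,207,243,195,255,205,193,230,214,206,242,215,219,252,204,145,173,132,136,147,163]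

theorem K0_1 : ∀ a : Fin (256 - 121), numOf (keyG sepL (matL m0 8 (RL.getD (121 + a.val) []))) = K0.getD a.val 0 :=
  K_of_map (f := matL m0 8) RL_len (by decide +kernel)

def rho0 : Equiv.Perm Om := ofV ![8,3,0,4,1,6,2,7,5] ![2,4,6,1,3,8,5,7,0] (by decide +kernel) (by decide +kernel)

theorem rho0_alt : rho0 ∈ alternatingGroup (Fin 9) := Equiv.Perm.mem_alternatingGroup.2 (by decide +kernel)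

theorem K0_2 : ∀ (a : Fin (256 - 121)) (ω : Om), (OB.getD (K0.getD a.val 0) 0).testBit (code3 (rho0 ω)) = (OB.getD (T4K.getD a.val 0) 0).testBit (code3 ω) := by decide +kernel

set_option maxHeartbeats 4000000 in
def m1 : List (List ℤ) := [[0,2,-2,0,-2,0,0,2,-2,2,0,0,0,0,2,-4,0,2,-2,-2,2,0,2,0],
  [0,2,2,0,-2,0,0,-2,2,-2,0,0,0,0,2,0,0,2,2,2,2,0,2,4],
  [0,-2,2,0,2,0,0,-2,-2,2,0,0,0,-4,2,0,0,2,-2,2,-2,0,2,0],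
  [0,-2,2,0,-2,0,4,2,-2,-2,0,0,0,0,-2,0,0,-2,-2,2,2,0,2,0],
  [0,-2,2,0,2,0,0,2,2,-2,0,0,-4,0,2,0,0,2,-2,-2,2,0,-2,0],
  [-4,2,-2,0,2,0,0,2,2,-2,0,0,0,0,2,0,0,-2,-2,2,-2,0,2,0],
  [0,-2,-2,0,2,0,0,-2,-2,-2,4,0,0,0,2,0,0,-2,2,-2,2,0,2,0],
  [-2,0,0,-2,0,-2,2,0,0,0,2,-2,2,2,0,2,2,4,0,0,0,2,0,-2],
  [0,-2,-2,0,2,0,0,2,2,2,0,4,0,0,-2,0,0,2,2,2,2,0,2,0],
  [0,2,2,0,2,0,0,2,-2,2,0,0,0,0,2,0,4,-2,2,2,2,0,-2,0],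
  [0,-2,-2,4,-2,0,0,2,-2,-2,0,0,0,0,2,0,0,2,2,2,-2,0,-2,0],
  [2,0,0,-2,0,-2,-2,0,0,0,2,-2,-2,2,0,-2,-2,0,0,4,0,-2,0,-2],
  [-2,0,0,2,0,-2,-2,0,0,0,2,-2,-2,-2,-4,-2,2,0,0,0,0,2,0,2],
  [-2,0,0,-2,0,-2,2,0,0,0,2,2,2,-2,0,-2,-2,0,0,0,0,-2,-4,2],
  [2,0,0,2,4,-2,2,0,0,0,-2,-2,2,2,0,-2,-2,0,0,0,0,2,0,2],
  [0,-2,2,0,-2,-4,0,2,2,2,0,0,0,0,2,0,0,-2,2,-2,-2,0,2,0],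
  [-2,0,0,-2,0,2,2,0,0,0,-2,-2,-2,-2,0,-2,-2,0,4,0,0,2,0,-2],
  [0,2,2,0,2,0,0,2,-2,-2,0,0,0,0,-2,0,0,2,2,-2,-2,-4,2,0],
  [2,0,0,-2,0,-2,-2,0,0,-4,-2,2,2,-2,0,-2,2,0,0,0,0,2,0,-2],
  [-2,0,0,-2,0,-2,-2,0,-4,0,-2,2,-2,2,0,2,-2,0,0,0,0,2,0,2],
  [-2,-4,0,-2,0,2,-2,0,0,0,-2,-2,2,2,0,-2,2,0,0,0,0,-2,0,2],
  [-2,0,0,2,0,-2,2,-4,0,0,-2,2,-2,2,0,-2,2,0,0,0,0,-2,0,-2],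
  [-2,0,4,2,0,2,-2,0,0,0,2,2,2,2,0,-2,-2,0,0,0,0,2,0,-2],
  [-2,0,0,2,0,-2,-2,0,0,0,-2,-2,2,-2,0,2,-2,0,0,0,4,-2,0,-2]]

theorem m1_ok : matCheck m1 8 = true := by decide +kernel

theorem m1_comm : (List.range 24).all (fun i => matL m1 8 (permL sLi (unitL i)) == permL sLi (matL m1 8 (unitL i))) = true := by decide +kernel

def K1 : List ℕ := [190,114,105,27,158,236,68,95,193,168,102,20,15,125,145,227,80,75,167,206,204,215,165,73,59,136,147,127,22,216,170,177,195,70,52,156,135,25,112,113,24,244,239,71,53,101,12,146,137,33,83,214,164,191,205,207,166,56,35,144,226,219,178,94,69,246,132,104,26,1,115,228,255,97,8,160,210,201,187,62,76,130,153,117,28,88,42,90,65,173,196,128,242,60,39,185,208,120,10,17,99,230,148,142,252,16,98,121,11,163,202,38,61,129,243,118,4,31,109,197,172,50,41,48,66,111,6,152,131,63,77,9,96,140,151]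

theorem K1_1 : ∀ a : Fin (256 - 121), numOf (keyG sepL (matL m1 8 (RL.getD (121 + a.val) []))) = K1.getD a.val 0 :=
  K_of_map (f := matL m1 8) RL_len (by decide +kernel)

def rho1 : Equiv.Perm Om := ofV ![3,6,1,4,0,2,5,8,7] ![4,2,5,0,3,6,1,8,7] (by decide +kernel) (by decide +kernel)

theorem rho1_alt : rho1 ∈ alternatingGroup (Fin 9) := Equiv.Perm.mem_alternatingGroup.2 (by decide +kernel)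

theorem K1_2 : ∀ (a : Fin (256 - 121)) (ω : Om), (OB.getD (K1.getD a.val 0) 0).testBit (code3 (rho1 ω)) = (OB.getD (T4K.getD a.val 0) 0).testBit (code3 ω) := by decide +kernel

def tg0 : List ℕ := [9,2,5,3,0,1,6,13,17,4,10,14,16,23,21,8,22,15,18,19,20,11,12,7]

theorem tg0_valid : validL tg0 = true := by decide +kernel

theorem tg0_comm : mulL tg0 sL = mulL sL tg0 := by decide +kernel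

theorem tg0_inv : (List.range 24).all (fun i => (invT tg0).getD (tg0.getD i 0) 0 == i) = true := by decide +kernel

def KT0 : List ℕ := [12,127,227,156,9,118,244,104,97,130,28,99,255,128,246,137,151,11,125,158,115,239,144,230,153,135,27,109,142,16,111,243,140,25,102,228,120,113,146,69,166,208,76,206,177,38,197,204,80,210,173,56,71,219,164,73,170,163,63,33,94,42,201,191,35,61,66,52,75,215,168,148,8,1,226,96,31,131,252,105,22,136,20,98,129,117,10,152,4,114,145,101,26,132,24,17,242,112,15,147,236,121,6,77,50,68,59,167,216,90,185,207,83,178,205,88,39,187,196,70,165,172,48,65,62,41,202,195,95,190,193,53,214,160,60]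

theorem KT0_1 : ∀ a : Fin (256 - 121), numOf (keyG sepL (permL (invT tg0) (RL.getD (121 + a.val) []))) = KT0.getD a.val 0 :=
  K_of_map (f := permL (invT tg0)) RL_len (by decide +kernel)

def rhoT0 : Equiv.Perm Om := ofV ![0,1,4,8,7,5,3,2,6] ![0,1,7,6,2,5,8,4,3] (by decide +kernel) (by decide +kernel)

theorem rhoT0_alt : rhoT0 ∈ alternatingGroup (Fin 9) := Equiv.Perm.mem_alternatingGroup.2 (by decide +kernel)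

theorem KT0_2 : ∀ (a : Fin (256 - 121)) (ω : Om), (OB.getD (KT0.getD a.val 0) 0).testBit (code3 (rhoT0 ω)) = (OB.getD (T4K.getD a.val 0) 0).testBit (code3 ω) := by decide +kernel

theorem rhoT0_stab : inStab (rhoT0) := by decide +kernel

def tg1 : List ℕ := [22,9,4,18,17,7,19,12,1,8,20,10,5,15,13,14,6,2,23,16,11,0,21,3]

theorem tg1_valid : validL tg1 = true := by decide +kernel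

theorem tg1_comm : mulL tg1 sL = mulL sL tg1 := by decide +kernel

theorem tg1_inv : (List.range 24).all (fun i => (invT tg1).getD (tg1.getD i 0) 0 == i) = true := by decide +kernel

def KT1 : List ℕ := [12,205,26,215,151,90,206,25,142,148,164,105,190,115,41,228,167,112,42,48,193,22,219,129,76,15,216,130,152,168,101,178,127,63,242,102,177,38,60,99,121,35,244,96,173,10,16,135,80,196,9,73,132,83,158,111,117,226,53,118,187,6,28,70,145,210,31,69,136,95,146,56,239,120,98,246,59,236,33,97,172,156,75,17,11,197,8,52,227,185,163,109,160,144,71,208,202,94,147,68,137,201,4,140,65,27,214,1,204,88,66,24,207,50,255,191,114,165,104,252,230,113,166,128,77,153,131,20,195,62,243,61,39,125,170]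

theorem KT1_1 : ∀ a : Fin (256 - 121), numOf (keyG sepL (permL (invT tg1) (RL.getD (121 + a.val) []))) = KT1.getD a.val 0 :=
  K_of_map (f := permL (invT tg1)) RL_len (by decide +kernel)

def rhoT1 : Equiv.Perm Om := ofV ![0,5,3,7,1,4,6,2,8] ![0,4,7,2,5,1,6,3,8] (by decide +kernel) (by decide +kernel)

theorem rhoT1_alt : rhoT1 ∈ alternatingGroup (Fin 9) := Equiv.Perm.mem_alternatingGroup.2 (by decide +kernel)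

theorem KT1_2 : ∀ (a : Fin (256 - 121)) (ω : Om), (OB.getD (KT1.getD a.val 0) 0).testBit (code3 (rhoT1 ω)) = (OB.getD (T4K.getD a.val 0) 0).testBit (code3 ω) := by decide +kernel

theorem rhoT1_stab : inStab (rhoT1) := by decide +kernel

def tgL : List (List ℕ) := [tg0,tg1]

def ws3 : List (List ℕ) := [[],[0,1,1,0,0,1,1,0,0,1,1],[1,0,1,0,1,0,0],[0,1,0,0,1,0,1],[1,0,1,1,0,1,0,1,0,1,0],[1,0,1,0,0,1,0],[0,0,1,0,0,1,0,1,0],[1,0,1,1,0,1,1,0,1],[1,0,0,1,0,1,1,0,1,1],[0,0,1,0,1,0,1],[1,1,0,0,1,0,0,1,0,0,1,1],[0,1,1,0,1,0],[0,1,1,0,1,0,0,1,0,1,1,0],[0,0,1,0,0,1,1,0,0],[1,1,0,1,1,0,1,0,0,1],[0,1,0,1,0,0,1,0,0],[0,0,1,1,0,0,1,0,0],[1,0,1,0,1,1,0,1,1,0],[0,1,0,1,1,0,1,0,1,0,1,0,0],[1,1,0,0,1,1,0,0,1,1,0],[0,1,0,1,1,0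],[1,0,1,1,0,0,1,1],[0,0,1,0,0,1,0,1,1,0,1],[1,0,0,1,0,0],[1,1,0,1,0,1,0,0,1,0],[1,0,0,1,1,0,1,1,0],[0,1,0,1,0,1,0,0,1,0,1],[0,1,0,1,1,0,1,0,1,0,0],[0,1,0,1],[1,0,1,0,1,1,0,1],[0,1,1,0,0,1,1,0,0,1,0],[1,0,1,0,1,0,1,1,0,0],[0,0,1,0,1,0],[1,1,0],[1,0,1,0,1,0,1,1,0,1,0,1,0,1],[1,1,0,1,0,1,0,1,0,0],[0,1,0,1,0,0,1,0,1,0,1],[1,1,0,0,1,0,1,1,0],[0,1,0,1,0,1,1,0,1,0],[0,0,1,1,0,0],[1,0,0,1,1,0,0,1,0,1],[1,0,1,0,1,0,0,1,1,0],[0,1,0,0,1,0,0],[1,0,1,1,0,1,0,1],[1,0,0,1,0,1,1,0,1],[1,0,1,1,0,0,1,1,0,0],[0,0,1,0,1],[0,1,0,1,0,1,1,0,1],[1,1,0,0],[1,1,0,0,1,0,1,0,1,0,0],[1,0,0,1,1,0,0,1,1],[1,0,1,0,1,0,1,1,0,1,0,1,0,1,0],[0,1,1,0,1,0,1,0,1,0,0],[0,1,1,0],[1,0,0,1,0,1,0,1,1,0,0],[1,1,0,1,0,0,1,0,1,0],[1,0,1,1,0,0,1,0,1,0],[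0,0,1,0,1,0,1,1,0,1,0],[1,0,1,0,0,1,0,1,1,0],[1,1,0,1,0,0,1,1,0,0],[0,0,1,1,0,0,1,1,0,0,1,0],[1,1,0,1,0,1,0,1],[1,0,1,0],[1,0,1,0,0,1,1],[1,0,1,1,0,1,0,0],[0,1,0,0,1,0,1,0,1,0],[1,0,0,1,0,1,0,1,0],[0,0,1,0,1,0,0,1,1],[1,0,1,1,0,0,1,0],[1,0,1,1,0,0,1,1,0,0,1,1,0,0],[1,0,0,1,0,0,1,1,0],[1,1,0,1,1,0,1,1,0,1,0,0],[0,1,0,1,0,0,1,1],[1,0,0,1,1,0,1],[0,0,1,0,0,1,0,1,0,1,0],[1,1,0,0,1,1,0,0,1,1,0,1],[0,1,1,0,1,1,0,1,1,0,1,0,0],[0,1,0,0,1,0,0,1,1,0],[0,0,1,0,0,1,0,1,1,0,0],[0,1,0,0,1,0,1,1,0,0],[1,0,0,1,0,1,1,0,0],[0,1,1,0,0,1,1,0,0,1,1,0,1],[0,0,1,0,0,1,0,0,1,1,0],[1,0,1,1,0,1,1,0,1,1,0],[1,0,0,1,0,1],[1,0,1,0,1,0,1,1,0,1],[0,0,1,0,1,0,0,1,0],[0,0],[0,0,1,0,1,0,1,0,0],[1,1,0,0,1,1,0,0,1,1],[0,1,0,0,1,0,1,0],[1,1,0,0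,1,0,1,0,1,1,0,0],[1,1,0,1,1,0,0,1,0,1,0],[1,1,0,1,0,0,1,0,1,1,0],[1,0,0,1,0,1,0,1,1,0,1,0],[0,1,0,0,1,1,0,0],[0,0,1,1,0,0,1,1,0,0,1,1,0],[1,0,1,1,0,1,0,1,0,1,0,0],[1,0,1,1,0],[1,0,1,0,0,1,0,0],[0,1,1,0,0,1,0,0],[1,1,0,1,1,0,1,0,1],[0,1,0,1,0,1],[1,1,0,1,0],[0,1,0,1,0,1,1,0,1,0,1,0,0],[0,1,0,1,1,0,1,0,1],[0,0,1,0,0,1,0,0],[0,1,0,0,1,0,1,1,0,1],[1,0,1,0,1,0,1,1,0],[1,0,1,0,1,0,1,1,0,1,0,1,0,1,0,0],[0,0,1,1,0],[1,1,0,0,1,1,0,0,1,0],[0,1,0,1,0],[0,1,1,0,1,0,1,0,1],[0,1,0,0,1,1,0,0,1,1],[0,1,1,0,0],[0,1,1,0,0,1,0,1,0,1,0,0],[1,0,1,1,0,1,0,1,0,0],[0,0,1,0,1,0,1,1,0,1],[1,0,1],[1,0,1,0,1,1,0,1,0],[1,1,0,0,1,0,0,1,1],[1,0,1,0,0,1,0,1,0,1],[1,0,0,1,0,1,0,1,0,0,1],[1,0,1,1,0,1,0,0,1,0],[1,0,1,0,1,0,0,1,0,1],[1,1,0,1,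0,1,0,0,1],[0,1,0,1,1,0,1,0,1,0],[0,1,1,0,0,1,1,0,0,1],[0,0,1,0,1,1,0,1,1,0,0],[0,1,0,0,1],[1,0,0,1,0,0,1,0,0,1,1,0,0],[1,1,0,0,1,1,0,0,1],[1,0,1,1,0,1,0,1,0],[0,1,0,0,1,0,1,0,1,1,0],[0,0,1,0,0,1],[1,1,0,0,1,0,0,1,0,0,1],[1,0,1,1,0,1,1,0,0],[1,0,1,1,0,0,1,1,0],[1,0,0,1,0,1,0,1,1,0],[0,0,1,1,0,0,1,1,0,0,1],[0,0,1,1,0,1,1,0,0,1],[0,1,1,0,1,1,0,0,1],[1,1,0,1,1,0,0,1],[1,0,0,1],[0,1,0,1,1,0,1,1,0,0],[0,1,1,0,0,1,0,0,1,0,0,1],[0,0,1,1,0,0,1,1,0,0,1,1,0,0],[1,1,0,1,0,1,0,1,1,0],[1,0,0,1,1,0],[1,0,0,1,0,1,0,1,1,0,1],[1,1,0,1,1,0,1,0,1,0,0],[1,1,0,1],[1,0,1,0,1,0],[1,0,1,1,0,1,0,1,0,1],[0,0,1,1,0,0,1,0],[1,0,1,1,0,0],[1,0,1,0,0,1,1,0,0,1,1],[1,0,1,1,0,0,1,0,1,0,1,0,0],[0,0,1,1,0,1,0,0],[0,0,1,0,0,1,1],[1,1,0,1,0,0,1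,0,1,0,1],[1,0,1,0,1,1,0,1,0,1],[1,0,0,1,0,0,1,0,0],[1,0,1,0,0,1,0,1,1,0,1],[1,1,0,1,1,0,1,0,0,1,0],[1,1,0,1,0,1,0,0,1,0,1],[0,1,0,1,1,0,1,1,0,0,1,0],[0,1,0,1,0,0,1,1,0],[1,1,0,0,1,1,0,0],[0,0,1,1,0,0,1,0,1],[1,0,1,0,1,0,1,0,0],[1,0],[0,1,0,1,0,1,1,0,1,0,1,0,1],[1,0,1,0,1,1,0,1,0,1,0,1,0],[0,0,1,1,0,1,1,0],[1,0,1,0,1,0,0,1,0],[0,0,1,0,1,0,0,1,1,0,0],[1,0,1,1,0,0,1,1,0,0,1,1,0],[1,0,0,1,0,1,1,0],[1,1,0,1,0,1],[0,1,0,1,1,0,1],[0,0,1,1,0,1,0,0,1,0,0],[1,1,0,0,1,0,1,0],[0,1,0,1,0,1,1,0,0],[0,0,1,0,1,0,0,1,0,1,0],[0,0,1,0,0],[0,1,1,0,0,1,1],[0,0,1,0,0,1,0,1,0,1,0,0],[0],[0,0,1,1,0,0,1,1,0,0,1,1],[0,1,0,1,0,1,0,0],[0,0,1,0,0,1,0,1],[0,1,0,1,0,0,1,0],[0,1,0,1,1,0,1,0,1,0,1,0],[1,0,0,1,0,1,0],[0,1,0,1,1,0,1,1,0,1],[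0,1,0,0,1,0,1,1,0,1,1],[1,0,1,0,1,0,1,1,0,1,0],[0,1,1,0,0,1,1,0,0,1,1,0],[0,0,1,0,1,1,0],[1,0,1,0,1],[0,0,1,1,0,1,0],[1,0,1,0,1,1,0,1,0,1,0,0],[1,1,0,1,1,0,0,1,1],[0,1,0,1,0,1,1,0,1,1,0],[1,1,0,0,1,0,0],[1,1,0,0,1,1,0,0,1,0,1],[1,1,0,1,0,1,0,0,1,1,0],[1,0,0,1,1,0,0],[1,1,0,0,1,1,0,1,1],[0,0,1,0,1,1],[0,0,1,1,0,1,0,0,1,0,1,1],[1,0,0,1,0,1,0,0],[1,1,0,1,0,0,1,0,1,1],[1,0,1,1],[0,1,0,0,1,0,1,0,0],[0,1,1,0,1,0,0,1,0,1,1],[0,1,0,1,1],[1,0,1,1,0,1,1,0,1,0],[1,0,1,1,0,0,1,0,1,0,1],[0,1,1,0,1,1,0,1,1],[1,1,0,1,0,1,0,1,1],[1,0,0,1,0,0,1,0],[1,0,1,1,0,1,0,0,1,0,1],[0,1,0,0,1,0,1,1,0,1,1,0],[1,1,0,0,1,0,1,0,1,1],[1,0,0,1,0,1,1,0,1,1,0],[0,1,1,0,1,0,1,0,1,1],[1,0,0,1,1,0,1,1,0,1],[1,1,0,1,1,0,1,1],[0,1,0,1,0,0,1,1,0,0,1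],[0,0,1,0,1,1,0,1,1,0],[1,0,0,1,0,1,0,1,1],[1,0,0,1,1,0,1,1],[1,1,0,0,1,0,1,1],[1,0,0,1,1,0,0,1,0,1,0,0],[0,1,0,0,1,1,0,0,1,1,0],[1,1,0,1,0,0,1,0,1,0,0],[1,1,0,1,0,1,1],[0,0,1,0,0,1,0],[1,0,1,0,1,0,1,1],[0,1,1,0,1,0,0,1,0,1],[0,0,1,0,1,0,0],[0,1,1],[1,0,1,0,0,1,0,1,1],[1,1,0,1,1,0,1,1,0,1,1],[0,1,1,0,1,1,0,1,0],[0,1,1,0,0,1,0,1,0,1],[1,0,1,1,0,1,1],[1,0,1,1,0,0,1,0,1,0,0],[0,0,1,1,0,1,1,0,1],[0,1,1,0,1,0,0,1,0],[0,1,0,1,0,0,1,0,1],[0,0,1,0,1,0,1,0,0,1],[0,1],[1,1,0,0,1,0,1,0,1,1,0,1],[0,1,1,0,1,0,1,0,0],[0,1,0,1,0,1,0,0,1,0,0],[1,1,0,1,0,1,0],[1,0,0,1,1,0,0,1,0],[1,1,0,0,1,1,0],[0,1,0,1,0,1,1,0,1,0,1,0,1,0,0],[0,1,0,1,0,1,1,0],[0,1,0,0,1,0,1,0,1],[1,0,0,1,0,0,1,1],[0,1,0,1,1,0,1,0],[1,1,0,1,1,0,0],[0,0,1,1,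0,0,1,0,0,1],[0,1,1,0,1,1,0,1,1,0,1],[0,0,1,1,0,1,0,0,1],[0,1,0,0,1,0,0,1,1,0,0],[1,1,0,0,1,0,0,1,0,0],[0,1,0,1,0,1,0],[0,1,0,1,1,0,1,0,1,0,1],[1,1,0,0,1,0],[1,1,0,0,1,1,0,0,1,1,0,0],[1,1,0,1,1,0,0,1,0,1],[0,1,0,0,1,1,0],[0,1,1,0,1],[1,1,0,1,1,0,1,0,0,1,0,0],[1,0,1,0,1,1,0,1,1],[1,1,0,0,1,1,0,0,1,0,1,0],[0,1,0,1,1,0,0],[1,1,0,1,0,1,0,0,1,0,1,0],[1,1,0,1,0,1,0,0,1,1,0,0],[1,0,0,1,1,0,1,1,0,1,0],[0,0,1,0,1,1,0,1,1,0,0,1,0],[1,0,0,1,1],[1,1,0,1,0,0],[1,0,1,0,1,0,0,1,0,1,1],[0,1,0,1,0,1,1,0,1,0,1],[1,1,0,1,1,0,1,1,0],[1,0,1,0,0,1,0,1,0,1,1],[0,1,0,0,1,0,1,0,1,1],[1,0,1,1,0,1,1,0],[0,0,1,0,1,0,0,1,1,0,0,1],[1,0,0,1,0],[0,0,1,1,0,1,0,0,1,0,1],[1,1,0,1,0,1,0,1,0],[0,1,0,1,1,0,1,1],[1,0,1,1,0,1,0,0,1,0,0],[1,1,0,1,1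,0,1],[0,0,1,1],[1,0,1,0,0],[0,1,0,1,0,0,1,0,1,1],[1,0,0,1,1,0,0,1,0,1,0],[0,1,1,0,1,0,1,1],[1,0,1,0,1,0,0,1,0,1,0],[1,0,0,1,1,0,0,1,1,0,0],[1,0,1,1,0,0,1,0,1],[1,1,0,1,0,0,1,1,0],[0,1,1,0,1,1,0,1,1,0,1,1],[1,0,1,0,1,0,0,1,1,0,0],[0,0,1,1,0,1,1,0,1,0],[0,0,1,1,0,0,1,1,0,0],[1,0,1,0,0,1,1,0],[0,1,1,0,0,1,0,1],[1,0,1,1,0,1],[0,1,1,0,1,0,0,1,0,0],[0,0,1,1,0,1,0,1],[1,0,1,0,1,0,1,0],[1,0,1,0,1,1,0,1,0,1,0,1],[0,0,1,0],[0,1,0,1,0,0,1,1,0,0],[0,0,1,0,0,1,0,1,1,0],[1,0,0,1,0,1,1,0,1,1,0,0,1,0],[0,1,0,0],[1,1,0,0,1,1],[0,1,0,0,1,0,1,0,1,0,0],[1,0,1,0,1,1,0,0],[0,0,1,1,0,0,1,0,1,0],[0,1,0,1,0,0,1,0,1,0],[1,0,1,0,1,0,1,1,0,1,0,1],[0,0,1,0,1,0,1,0,0,1,0],[0,1,1,0,1,1,0],[0,0,1,1,0,1,0,1,0,0],[0,0,1],[1,0,0,1,0,1,1,0,1,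1,0,0,1],[1,0,1,0,1,0,1,1,0,1,0,1,0],[0,1,1,0,0,1,1,0],[0,0,1,0,1,0,1,1,0],[1,1,0,1,0,0,1],[0,0,1,0,0,1,0,0,1,1,0,0],[0,1,1,0,0,1,0,0,1,0,0],[1,0,1,0,1,0,0,1],[0,0,1,1,0,1,0,0,1,0],[0,0,1,0,1,0,0,1,0,1],[1,0,1,1,0,0,1],[0,0,1,0,0,1,0,1,0,1],[0,1,0,0,1,0,0,1,1],[0,0,1,0,1,0,1,0,0,1,0,0],[0,1,1,0,1,0,1,0],[1,0,0,1,1,0,0,1],[0,1,1,0,1,1,0,0],[1,0,0,1,0,0,1,0,0,1],[1,1,0,0,1,0,0,1],[1,0,1,0,1,0,1],[0,1,0],[1,0,1,0,1,0,1,1,0,1,0,1,0,0],[0,0,1,1,0,0,1,1],[1,0,0],[1,0,0,1,0,1,0,1,0,0],[0,0,1,0,1,0,0,1,1,0],[1,1,0,0,1,0,1],[0,1,1,0,0,1,1,0,0],[1,0,1,0,0,1,1,0,0],[1,1,0,0,1,0,1,0,1,1,0,1,0],[0,1,0,0,1,0,1,1,0],[0,1,0,1,0,1,0,0,1,0],[0,1,0,1,0,1,1,0,1,0,1,0,1,0],[1,1,0,1,1,0],[0,1,1,0,0,1,0,1,0],[1,0,1,0,0,1,0,1,0],[0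,0,1,0,1,0,1,1,0,0],[1,1,0,1,0,0,1,0,0],[0,0,1,0,1,1,0,1],[0,1,1,0,1,0,1],[1,0,0,1,0,0,1,0,0,1,1,0],[1,1,0,1,1,0,1,1,0,1,1,0],[0,1,1,0,1,1,0,1,1,0,1,1,0],[0,0,1,1,0,1,1,0,0,1,0],[1,1,0,0,1,1,0,1],[1,0,1,0,1,0,0,1,1],[0,1,0,1,0,0,1,0,1,0,1,0],[0,1,1,0,1,0,0,1,1],[0,1,1,0,1,1,0,1,0,0],[0,1,1,0,1,1,0,0,1,0],[0,1,1,0,0,1,0,1,0,1,0],[0,0,1,1,0,0,1,1,0,1],[1,1,0,0,1,0,1,1,0,0],[1,0,1,0,0,1,0,1,1,0,0],[0,0,1,1,0,1,1,0,1,0,0],[1,1,0,1,1,0,0,1,0],[0,1,1,0,0,1,1,0,1],[1,1,0,0,1,0,1,0,1,0],[1,1,0,1,1,0,1,0,0],[1,0,1,0,0,1,0,1,0,1,0],[1,1,0,1,0,0,1,1],[0,1,0,1,0,0,1],[1,0,1,1,0,0,1,1,0,0,1],[1,0,1,0,1,1,0,1,0,1,0],[0,0,1,0,1,0,0,1],[1,1,0,0,1,0,1,0,1,1,0],[0,1,0,1,0,1,1,0,1,0,1,0],[1,0,1,0,0,1],[1,0,0,1,0,1,1,0,1,1,0,0]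,[0,0,1,0,1,0,1,1,0,1,0,1,0],[0,0,1,0,0,1,0,0,1],[1,0,0,1,0,0,1],[0,1,0,0,1,0,0,1],[1,0,0,1,1,0,1,1,0,0,1],[0,1,1,0,0,1],[1,0,1,1,0,1,1,0,0,1],[1,1,0,1,1,0,1,0,1,0],[0,0,1,1,0,0,1],[0,1,0,1,1,0,1,1,0,0,1],[1,1,0,0,1],[1,0,1,0,1,1,0,1,1,0,0],[0,0,1,0,1,1,0,1,1,0,0,1],[0,1,1,0,0,1,0,1,0,0],[0,0,1,0,0,1,0,1,1],[0,1,1,0,1,1],[1,1,0,0,1,0,1,0,0],[0,1,0,0,1,0,1,1],[1,1,0,1,1],[1,0,1,0,1,1],[1,0,1,0,0,1,0,1,0,0],[0,0,1,1,0,0,1,0,0,1,0],[0,0,1,1,0,0,1,0,1,0,0],[0,0,1,1,0,1,1],[1,0,0,1,0,1,1],[1,1,0,1,1,0,1,1,0,1,0],[0,1,1,0,1,1,0,1,1,0,1,0],[1,0,1,1,0,1,1,0,1,1],[0,1,0,1,0,0,1,0,1,0,0],[0,1,0,1,0,1,1],[1,1,0,0,1,0,0,1,0],[0,0,1,0,1,0,1,1],[0,1,1,0,0,1,0,0,1,0],[0,0,1,0,1,0,0,1,0,1,0,0],[1,1,0,1,0,1,0,0,1,0,0],[1,0,1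,0,0,1,1,0,0,1],[0,1,0,1,1,0,1,1,0],[0,1,0,1,0,0],[1,1],[0,0,1,0,1,0,0,1,0,1,1],[0,1,0,0,1,1,0,0,1,1,0,0],[0,1,1,0,1,0,0,1,1,0],[1,0,1,1,0,1,0,0,1],[0,0,1,0,1,1,0,1,1],[1,0,0,1,1,0,1,1,0,0],[0,1,1,0,1,1,0,1],[0,1,0,0,1,0],[0,1,1,0,1,0,1,0,1,0],[1,1,0,1,0,0,1,0,1],[1,0,0,1,0,0,1,0,0,1,1],[1,1,0,0,1,0,1,0,1],[1,1,0,1,1,0,1,0],[0,1,0,1,0,1,0,0,1,0,1,0],[1,1,0,1,0,1,1,0],[1,0,0,1,1,0,0,1,1,0],[0,0,1,1,0,0,1,1,0],[1,0,1,0,1,1,0,1,0,1,0,1,0,0],[1,0,1,0,1,1,0],[0,1,0,1,0,1,0,0,1],[1,0,1,0,0,1,0,1],[1,1,0,1,0,0,1,0],[1],[1,0,1,1,0,0,1,1,0,0,1,1],[1,1,0,1,0,1,0,0],[1,0,1,1,0,1,0],[1,0,0,1,0,1,0,1],[0,0,1,0,0,1,0,0,1,1],[0,1,1,0,1,0,0,1],[1,0,0,1,0,0,1,1,0,0],[0,0,1,1,0,0,1,0,0,1,0,0],[0,0,1,1,0,1,1,0,0],[1,1,0,1,1,0,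1,1,0,1],[0,1,1,0,0,1,0,0,1],[0,0,1,1,0,1,0,1,0],[1,0,1,0,1,0,0,1,0,0],[0,1,0,0,1,1,0,0,1],[0,0,1,1,0,1],[0,1,0,1,0,1,1,0,1,1],[1,1,0,1,0,1,0,0,1,1],[1,0,1,1,0,0,1,1,0,1],[0,0,1,0,1,0,1,0],[0,1,1,0,0,1,0],[0,1,1,0,0,1,1,0,0,1,1,0,0],[1,0,1,1,0,1,1,0,1,0,0],[0,0,1,0,0,1,1,0],[0,0,1,0,1,1,0,0],[1,1,0,1,0,0,1,0,1,1,0,0],[1,0,0,1,1,0,1,1,0,1,0,0],[1,0,0,1,1,0,0,1,1,0,1],[1,0,1,1,0,0,1,0,1,0,1,0],[1,0,1,1,0,1,1,0,0,1,0],[0,0,1,0,1,0,1,1,0,1,0,1],[0,1,1,0,1,1,0,1,1,0],[0,1,0,1,0,0,1,0,1,0,1,1],[0,1,0,0,1,1],[0,1,1,0,1,0,0],[1,1,0,1,0,0,1,0,1,0,1,0]]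


end Cfsg.Agent.Lib.Sporadic.LeechThree
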