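import Cfsg.Agent.Lib.Sporadic.M24Act

/-!
# Counting subsets of the code by balanced kernel computations
-/

namespace Cfsg.Agent.Lib.Sporadic.M24Count

open Cfsg Cfsg.Agent.Lib.Sporadic.GolayCore Cfsg.Agent.Lib.Sporadic.M24Tbl
open Cfsg.Agent.Lib.Sporadic.M24Chain Cfsg.Agent.Lib.Sporadic.M24Basic
open Cfsg.Agent.Lib.Sporadic.M24Act
open scoped Pointwise

/-- Systematic form: the bit `p + i` is set in the `i`-th word and in no later word. -/
def sysOK : ℕ → List ℕ → Bool
  | _, [] => true
  | p, b :: bs => b.testBit p && bs.all (fun c => !c.testBit p) && sysOK (p + 1) bs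

theorem testBit_false_of_mem_spanList {p : ℕ} {bs : List ℕ}
    (h : ∀ c ∈ bs, c.testBit p = false) {r : ℕ} (hr : r ∈ spanList bs) : r.testBit p = false := by
  induction bs generalizing r with
  | nil =>
    simp only [spanList, List.mem_singleton] at hr
    simp [hr]
  | cons b bs ih =>
    rcases mem_spanList_cons.1 hr with hr | ⟨s, hs, rfl⟩
    · exact ih (fun c hc => h c (List.mem_cons_of_mem _ hc)) hr
    · rw [Nat.testBit_xor, ih (fun c hc => h c (List.mem_cons_of_mem _ hc)) hs,
        h b List.mem_cons_self]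
      rfl

theorem spanList_nodup {p : ℕ} {bs : List ℕ} (h : sysOK p bs = true) : (spanList bs).Nodup := by
  induction bs generalizing p with
  | nil => simp [spanList]
  | cons b bs ih =>
    simp only [sysOK, Bool.and_eq_true, List.all_eq_true, Bool.not_eq_true'] at h
    obtain ⟨⟨hb, hbs⟩, hrest⟩ := h
    have hnd := ih hrest
    simp only [spanList]
    rw [List.nodup_append]
    refine ⟨hnd, ?_, ?_⟩
    · refine hnd.map_on ?_
      intro x _ y _ hxy
      have : x ^^^ b ^^^ b = y ^^^ b ^^^ b := by rw [hxy]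
      simpa [Nat.xor_assoc] using this
    · intro x hx y hy hxy
      subst hxy
      obtain ⟨s, hs, rfl⟩ := List.mem_map.1 hy
      have h1 := testBit_false_of_mem_spanList hbs hx
      have h2 := testBit_false_of_mem_spanList hbs hs
      rw [Nat.testBit_xor, h2, hb] at h1
      simp at h1

theorem codeList_nodup : codeList.Nodup :=
  spanList_nodup (p := 12) (by decide +kernel)

/-- Balanced count of the xor-combinations satisfying a predicate. -/
def spanCount (P : ℕ → Bool) : List ℕ → ℕ → ℕ
  | [], acc => if P acc then 1 else 0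
  | b :: bs, acc => spanCount P bs acc + spanCount P bs (acc ^^^ b)

theorem spanCount_eq (P : ℕ → Bool) (bs : List ℕ) (acc : ℕ) :
    spanCount P bs acc = (spanList bs).countP fun m => P (acc ^^^ m) := by
  induction bs generalizing acc with
  | nil =>
    simp only [spanCount, spanList, List.countP_cons, List.countP_nil, Nat.xor_zero]
    simp
  | cons b bs ih =>
    simp only [spanCount, spanList, List.countP_append, ih, List.countP_map]
    congr 1
    apply List.countP_congr
    intro x _
    simp only [Function.comp, decide_eq_true_eq]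
    rw [Nat.xor_comm x b, Nat.xor_assoc]

/-- Balanced count on the code. -/
def codeCount (P : ℕ → Bool) : ℕ := spanCount P basisList 0

theorem codeCount_eq (P : ℕ → Bool) : codeCount P = codeList.countP P := by
  simp [codeCount, spanCount_eq, codeList]

/-- The number of code supports satisfying a predicate, by a kernel count. -/
theorem ncard_supports_filter (Q : Finset GolayPt → Prop) (P : ℕ → Bool)
    (h : ∀ s ∈ supports (golayCode : Set (GolayPt → ZMod 2)), Q s ↔ P (toMask s) = true) :
    {s | s ∈ supports (golayCode : Set (GolayPt → ZMod 2)) ∧ Q s}.ncard = codeCount P := by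
  have h1 : {s | s ∈ supports (golayCode : Set (GolayPt → ZMod 2)) ∧ Q s} =
      ofMask '' {m | m ∈ codeList.filter P} := by
    ext s
    simp only [Set.mem_ofPred_eq, Set.mem_image, List.mem_filter]
    constructor
    · rintro ⟨hs, hq⟩
      exact ⟨toMask s, ⟨(mem_supports_iff s).1 hs, (h s hs).1 hq⟩, ofMask_toMask s⟩
    · rintro ⟨m, ⟨hm, hp⟩, rfl⟩
      have hm' := codeList_lt hm
      have hs := (ofMask_mem_supports_iff hm').2 hm
      refine ⟨hs, (h _ hs).2 ?_⟩
      rwa [toMask_ofMask hm']
  rw [h1, Set.InjOn.ncard_image]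
  · have h2 : {m | m ∈ codeList.filter P} = ↑(codeList.filter P).toFinset := by
      ext m; simp
    rw [h2, Set.ncard_coe_finset, List.toFinset_card_of_nodup (codeList_nodup.filter P),
      codeCount_eq, List.countP_eq_length_filter]
  · intro a ha b hb hab
    have ha' := codeList_lt (List.mem_filter.1 ha).1
    have hb' := codeList_lt (List.mem_filter.1 hb).1
    exact (ofMask_inj ha' hb').1 hab

/-- Octads satisfying a predicate, by a kernel count. -/
theorem ncard_octads_filter (Q : Finset GolayPt → Prop) (P : ℕ → Bool)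
    (h : ∀ o ∈ octads, Q o ↔ P (toMask o) = true)
    (hP : ∀ m, P m = true → popc m = 8) :
    {o | o ∈ octads ∧ Q o}.ncard = codeCount P := by
  have : {o | o ∈ octads ∧ Q o} =
      {s | s ∈ supports (golayCode : Set (GolayPt → ZMod 2)) ∧ (s.card = 8 ∧ Q s)} := by
    ext s
    simp only [Set.mem_ofPred_eq]
    constructor
    · rintro ⟨h1, h2⟩
      exact ⟨h1.1, h1.2, h2⟩
    · rintro ⟨h1, h2, h3⟩
      exact ⟨⟨h1, h2⟩, h3⟩
  rw [this]
  apply ncard_supports_filter
  intro s hs
  constructor
  · rintro ⟨h1, h2⟩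
    exact (h s ⟨hs, h1⟩).1 h2
  · intro h1
    have h2 : s.card = 8 := by
      rw [card_eq_popc]; exact hP _ h1
    exact ⟨h2, (h s ⟨hs, h2⟩).2 h1⟩

/-- Dodecads satisfying a predicate, by a kernel count. -/
theorem ncard_dodecads_filter (Q : Finset GolayPt → Prop) (P : ℕ → Bool)
    (h : ∀ o ∈ dodecads, Q o ↔ P (toMask o) = true)
    (hP : ∀ m, P m = true → popc m = 12) :
    {o | o ∈ dodecads ∧ Q o}.ncard = codeCount P := by
  have : {o | o ∈ dodecads ∧ Q o} =
      {s | s ∈ supports (golayCode : Set (GolayPt → ZMod 2)) ∧ (s.card = 12 ∧ Q s)} := by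
    ext s
    simp only [Set.mem_ofPred_eq]
    constructor
    · rintro ⟨h1, h2⟩
      exact ⟨h1.1, h1.2, h2⟩
    · rintro ⟨h1, h2, h3⟩
      exact ⟨⟨h1, h2⟩, h3⟩
  rw [this]
  apply ncard_supports_filter
  intro s hs
  constructor
  · rintro ⟨h1, h2⟩
    exact (h s ⟨hs, h1⟩).1 h2
  · intro h1
    have h2 : s.card = 12 := by
      rw [card_eq_popc]; exact hP _ h1
    exact ⟨h2, (h s ⟨hs, h2⟩).2 h1⟩

/-- A set of subsets is moved by `g ∈ M24` bijectively; `ncard` is invariant. -/
theorem ncard_smul_eq {A B : Set (Finset GolayPt)} (g : Equiv.Perm GolayPt)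
    (h : ∀ s, s ∈ A ↔ g • s ∈ B) : A.ncard = B.ncard := by
  have : (fun s => g • s) '' A = B := by
    ext t
    constructor
    · rintro ⟨s, hs, rfl⟩
      exact (h s).1 hs
    · intro ht
      refine ⟨g⁻¹ • t, (h _).2 (by rwa [smul_inv_smul]), by simp⟩
  rw [← this, Set.ncard_image_of_injective _ (MulAction.injective g)]

theorem inter_smul (g : Equiv.Perm GolayPt) (s t : Finset GolayPt) :
    (g • s) ∩ (g • t) = g • (s ∩ t) := Finset.smul_finset_inter.symm

theorem card_smul_inter (g : Equiv.Perm GolayPt) (s t : Finset GolayPt) :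
    ((g • s) ∩ (g • t)).card = (s ∩ t).card := by
  rw [inter_smul, Finset.card_smul_finset]

theorem smul_mem_octads_iff {g : Equiv.Perm GolayPt} (hg : g ∈ M24) {o : Finset GolayPt} :
    g • o ∈ octads ↔ o ∈ octads := by
  refine ⟨fun h => ?_, smul_mem_octads hg⟩
  have := smul_mem_octads (M24.inv_mem hg) h
  rwa [inv_smul_smul] at this

theorem smul_mem_dodecads_iff {g : Equiv.Perm GolayPt} (hg : g ∈ M24) {o : Finset GolayPt} :
    g • o ∈ dodecads ↔ o ∈ dodecads := by
  refine ⟨fun h => ?_, smul_mem_dodecads hg⟩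
  have := smul_mem_dodecads (M24.inv_mem hg) h
  rwa [inv_smul_smul] at this

end Cfsg.Agent.Lib.Sporadic.M24Count
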