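import Cfsg.Agent.Lib.Sporadic.M24Flag
import Cfsg.Agent.Lib.Sporadic.M24Dodecad

/-!
# The dodecad stabiliser: orbits on dodecads
-/

namespace Cfsg.Agent.Lib.Sporadic.M24DodCert

open Cfsg Cfsg.Agent.Lib.Sporadic.GolayCore Cfsg.Agent.Lib.Sporadic.M24Tbl
open Cfsg.Agent.Lib.Sporadic.M24Chain Cfsg.Agent.Lib.Sporadic.M24Basic
open Cfsg.Agent.Lib.Sporadic.M24Act Cfsg.Agent.Lib.Sporadic.M24Lists
open Cfsg.Agent.Lib.Sporadic.M24Orbit Cfsg.Agent.Lib.Sporadic.M24Count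
open Cfsg.Agent.Lib.Sporadic.M24Flag Cfsg.Agent.Lib.Sporadic.M24Dodecad
open scoped Pointwise

/-- Generators of the stabiliser of `dod0`. -/
def gensD : List (List ℕ) := [
  [15,6,1,7,21,11,0,12,9,3,4,17,14,16,8,23,22,10,19,13,18,5,20,2],
  [7,14,0,9,10,20,23,6,8,15,5,21,1,13,2,12,18,19,11,4,16,22,17,3],
  [8,0,6,7,18,11,15,2,1,14,5,13,3,4,9,12,16,20,10,22,21,17,19,23],
  [23,14,1,3,5,21,15,0,12,7,17,10,2,13,9,8,4,20,22,16,18,11,19,6],
  [23,15,9,6,5,4,12,0,1,2,19,11,3,20,14,7,22,10,17,13,18,16,21,8],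
  [8,3,2,6,5,13,12,7,23,1,18,21,0,22,15,14,19,20,4,11,10,16,17,9],
  [6,1,3,23,13,11,2,8,14,15,10,18,0,22,7,9,20,5,19,21,16,17,4,12],
  [8,2,15,1,10,19,23,6,12,14,11,21,7,18,3,9,4,16,20,22,5,17,13,0]]

theorem gensD_ok : gensD.all (genOK [dod0]) = true := by decide +kernel

set_option maxRecDepth 100000 in
/-- Words for all dodecads. -/
def treeD : CT :=
  (.node (.node (.node (.node (.node (.node (.node (.node (.node (.node (.node (.node .nil 28637 []
  .nil) 57274 [4,2,1] .nil) 89455 [1,4,6,0] (.node (.node .nil 109547 [6,4,2] .nil) 114548 [] .nil))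
  129431 [5,6,7,1] (.node (.node (.node .nil 160251 [2,5,4] .nil) 165759 [3,0,3] .nil) 178910
  [0,5,4,1] (.node .nil 195645 [7,2,2,0] .nil))) 219094 [7,0] (.node (.node (.node (.node .nil 223863
  [5,7,0,5] .nil) 229096 [0,3,3,2] .nil) 236787 [0,5,4] (.node .nil 243149 [2,6,4] .nil)) 249487
  [0,1,6] (.node (.node (.node .nil 255921 [7,5,3,1] .nil) 258862 [1,5,6,0] .nil) 293551 [6,2,1]
  (.node .nil 319063 [2,2] .nil)))) 320502 [2] (.node (.node (.node (.node (.node .nil 325481 [2,2,2]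
  .nil) 331518 [5,7,2] .nil) 340831 [5,3,3,0] (.node .nil 357820 [2,2,2] .nil)) 366503 [0,3,3] (.node
  (.node (.node .nil 376473 [2,2] .nil) 378331 [1,4,1] .nil) 388325 [7,1,5,2] (.node .nil 391290 [2]
  .nil))) 401355 [6,1,2,2] (.node (.node (.node (.node .nil 407285 [0,6,3,4] .nil) 413111 [0,3,2,1]
  .nil) 438188 [1,5,1] (.node .nil 441139 [1,0,2,0] .nil)) 447726 [0,7,7] (.node (.node (.node .nil
  452943 [0,4] .nil) 458192 [2,4,4] .nil) 470393 [] (.node .nil 473574 [3,6,6,6] .nil))))) 480827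
  [7,4,5] (.node (.node (.node (.node (.node (.node .nil 486298 [1,3,7,5] .nil) 491269 [4,4,6] .nil)
  498974 [7,7,0] (.node .nil 499903 [3,0,3,6] .nil)) 511842 [0,3,3] (.node (.node (.node .nil 517724
  [3,5,5,0] .nil) 520899 [5,0,0] .nil) 540283 [3,7,6,1] (.node .nil 570301 [4,2,6] .nil))) 575743
  [1,6,7] (.node (.node (.node (.node .nil 587102 [0,6,7] .nil) 599543 [4,6,1,0] .nil) 614069
  [3,4,4,0] (.node .nil 620427 [3,6,2] .nil)) 638126 [4,3,4,0] (.node (.node (.node .nil 641004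
  [7,4,2] .nil) 643955 [5,5,7] .nil) 650962 [3,3,5] (.node .nil 653901 [2,6,6,0] .nil)))) 663036
  [6,2,7,2] (.node (.node (.node (.node (.node .nil 678687 [6,5] .nil) 681662 [6,5,6] .nil) 699803
  [2,1,6,3,0] (.node .nil 710361 [2,0,4,1] .nil)) 715640 [1,3,6] (.node (.node (.node .nil 725743
  [3,6,6] .nil) 733006 [3,4,6,1] .nil) 736209 [1,7,5] (.node .nil 747949 [4,7] .nil))) 752946
  [7,0,7,0] (.node (.node (.node (.node .nil 756662 [0,2,0,0,0] .nil) 761641 [5,1,2,0,0] .nil) 767511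
  [6,7,1,2,0] (.node .nil 773461 [0,6,2,1] .nil)) 776650 [4,7] (.node (.node (.node .nil 779371
  [1,1,5,2] .nil) 782580 [6,4,5,3] .nil) 802710 [5,7,6,0] (.node .nil 814570 [5,4,3] .nil))))))
  817525 [4,3,0] (.node (.node (.node (.node (.node (.node (.node .nil 823281 [3,7,7,3] .nil) 826222
  [4,6,4,0] .nil) 829135 [6,2,2] (.node (.node .nil 843149 [0,1,4,0] .nil) 849075 [5,1,4,3] .nil))
  858555 [5,4,0,0] (.node (.node (.node .nil 871367 [7,3] .nil) 876376 [1,4,1] .nil) 877305 [7,6,4,5]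
  (.node .nil 882278 [5,1,3,0] .nil))) 889981 [2,4,5,0] (.node (.node (.node (.node .nil 895452
  [1,2,0] .nil) 900419 [6,0,0,0] .nil) 905886 [5,3,4] (.node .nil 916384 [7,0,0,2] .nil)) 931119
  [0,4,6] (.node (.node (.node .nil 937581 [4,6,4,0] .nil) 940786 [2,3,2] .nil) 943955 [1,3,0,2,0]
  (.node .nil 947148 [5,4,0] .nil)))) 954839 [1,3,1,0] (.node (.node (.node (.node (.node .nil 961654
  [7,3,0,1] .nil) 964841 [2,1,7] .nil) 967595 [6,0,3,0] (.node .nil 972596 [0,0,4,2] .nil)) 977557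
  [5,1,1,4] (.node (.node (.node .nil 982538 [0,7,1] .nil) 984989 [5,2,4,1] .nil) 994979 [7,3] (.node
  .nil 997948 [0,1] .nil))) 999806 [0,1,2] (.node (.node (.node (.node .nil 1005025 [0,0,4] .nil)
  1018459 [2,5,4,4] .nil) 1023684 [7,3] (.node .nil 1024869 [4,7,2] .nil)) 1035448 [0,5,4] (.node
  (.node (.node .nil 1038375 [2,0,7,0] .nil) 1041798 [3,3,3,1] .nil) 1044761 [1,2,0,2] (.node .nil
  1080566 [2,1,5,1] .nil))))) 1089261 [7,4,6,0] (.node (.node (.node (.node (.node (.node .nil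
  1095635 [2,0,4] .nil) 1107375 [6,7,0] .nil) 1137371 [1,5,7,0] (.node .nil 1140602 [4,0,7] .nil))
  1143781 [1,6,7,0] (.node (.node (.node .nil 1151486 [7,2,0] .nil) 1158239 [6,7,4,1] .nil) 1169181
  [3,4,7] (.node .nil 1174204 [4,5,0,1] .nil))) 1179171 [2,0,3,3] (.node (.node (.node (.node .nil
  1199086 [4,4,4] .nil) 1204081 [2,6,3,4,0] .nil) 1209935 [1,5,2] (.node .nil 1223157 [2,5,4] .nil))
  1228138 [0,2,1,2,1] (.node (.node (.node .nil 1233591 [4,2] .nil) 1240854 [6,0,7,0] .nil) 1244041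
  [1,4,4,1] (.node .nil 1262845 [5,6,3,5] .nil)))) 1273283 [3,7,1,7] (.node (.node (.node (.node
  (.node .nil 1276252 [2,1,6] .nil) 1282008 [0,6,3] .nil) 1284935 [4,2,3,0] (.node .nil 1287910
  [6,1,4] .nil)) 1290873 [4,7,1,1] (.node (.node (.node .nil 1296699 [6,7,3,0,0] .nil) 1301924
  [2,3,3,0] .nil) 1307802 [6,2,2,0] (.node .nil 1322855 [0,4,5,1] .nil))) 1326072 [3,4,5] (.node
  (.node (.node (.node .nil 1342747 [7,5,1] .nil) 1346463 [5,6,7] .nil) 1357374 [2,2,4,4] (.node .nil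
  1363324 [6,3,7] .nil)) 1366499 [2,3,0,3] (.node (.node (.node .nil 1372381 [7,5,1] .nil) 1383893
  [0,6,7,0] .nil) 1389803 [2,7,7,0] (.node .nil 1396649 [2,7,4,5] .nil))))))) 1399606 [1,5,1,4]
  (.node (.node (.node (.node (.node (.node (.node (.node .nil 1402519 [4,1,6,3] .nil) 1420722 [2]
  .nil) 1423661 [7,4,2,0] (.node (.node .nil 1426031 [2,7,0] .nil) 1431280 [1,4,3] .nil)) 1436497
  [0,1,3] (.node (.node (.node .nil 1448063 [2,3] .nil) 1451486 [2,0,3,0] .nil) 1466012 [6,4,0]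
  (.node .nil 1467197 [6,5,2,4] .nil))) 1472418 [1,0,4,1,0] (.node (.node (.node (.node .nil 1480121
  [4,6,0] .nil) 1490055 [6,0,3] .nil) 1492933 [0,1,5] (.node .nil 1495898 [5,4,2,0] .nil)) 1505892
  [2,0,2,1] (.node (.node (.node .nil 1508339 [2,7,0] .nil) 1513324 [4,0,5,2,0] .nil) 1518285 [1,5,3]
  (.node .nil 1523282 [4,3,3] .nil)))) 1528207 [2,0] (.node (.node (.node (.node (.node .nil 1535022
  [4,4,6] .nil) 1538225 [5,1,0] .nil) 1543733 [3,1,4,2] (.node .nil 1546922 [6,6,5,0] .nil)) 1550091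
  [7,1,3,5] (.node (.node (.node .nil 1553300 [1,2,6,1] .nil) 1558742 [5,1,0] .nil) 1563721 [4,0,4]
  (.node .nil 1565160 [3,2,3,1] .nil))) 1587663 [4,5,5,0] (.node (.node (.node (.node .nil 1600435
  [2,6,3] .nil) 1605420 [6,6,7,7] .nil) 1613111 [2,4,4,1] (.node .nil 1625931 [3,0,0,1] .nil))
  1629140 [2,0,0,2] (.node (.node (.node .nil 1631861 [2,3,1,2] .nil) 1635050 [1,3] .nil) 1641341
  [3,0,2,2] (.node .nil 1646562 [1,4,6,0] .nil))))) 1652444 [0,3,6] (.node (.node (.node (.node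
  (.node (.node .nil 1658270 [0,2,7] .nil) 1667135 [4,2,6] .nil) 1672891 [4,3] (.node .nil 1683333
  [2,3,7,2] .nil)) 1686298 [0,1,7,0] (.node (.node (.node .nil 1692871 [1,4,2] .nil) 1698150 [0,5]
  .nil) 1707735 [1,6,3,1] (.node .nil 1714153 [1,3,2,2] .nil))) 1717110 [2,6,2,6] (.node (.node
  (.node (.node .nil 1727659 [3,5,6,2] .nil) 1734037 [0,7,2,6] .nil) 1742734 [3,6,1] (.node .nil
  1747503 [1,2,7] .nil)) 1752752 [3,7,0] (.node (.node (.node .nil 1754610 [1,5,3,2,0] .nil) 1757549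
  [6,7,3,1] .nil) 1764556 [4,0,7,1] (.node .nil 1767507 [4,5,4,3] .nil)))) 1774939 [6,2,4,1] (.node
  (.node (.node (.node (.node .nil 1779962 [4,4,4] .nil) 1784933 [6,3,3,0] .nil) 1787687 [0,3,1]
  (.node .nil 1790904 [7,2,1,4] .nil)) 1797657 [0,0,5,0] (.node (.node (.node .nil 1800838 [0,7,1,3]
  .nil) 1808541 [4,5,3,0] .nil) 1811772 [2,3,1] (.node .nil 1814947 [0,2,4] .nil))) 1821409 [5,0,2,2]
  (.node (.node (.node (.node .nil 1832768 [5,7,4,6] .nil) 1846461 [6,3,7] .nil) 1862238 [2,4,0,1]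
  (.node .nil 1867457 [5,3,2,5] .nil)) 1875162 [7,2,2,2] (.node (.node (.node .nil 1876347 [7,5,3]
  .nil) 1881572 [4,2,3,1] .nil) 1887910 [0,1,4,0] (.node .nil 1890873 [1,5,2,2,0] .nil)))))) 1894296
  [3,7,1,0] (.node (.node (.node (.node (.node (.node (.node .nil 1897223 [5,0,3,1] .nil) 1908239
  [5,1,4,2] .nil) 1909678 [6,5,1,0] (.node .nil 1914673 [5,3,3,0] .nil)) 1920115 [1,4,6,0] (.node
  (.node (.node .nil 1923308 [2,1,7,0,1] .nil) 1926477 [1,1,1,3] .nil) 1929682 [2,5,5] (.node .nil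
  1935190 [0,4,2,0] .nil))) 1938377 [0,5,3] (.node (.node (.node (.node .nil 1945192 [5,1,4] .nil)
  1950133 [6,0,1,1] .nil) 1955114 [5,1,4] (.node .nil 1960075 [7,2,7] .nil)) 1965076 [5,3,4] (.node
  (.node (.node .nil 1969978 [2,3,2] .nil) 1973157 [7,1] .nil) 1979035 [1,4,4,0,0] (.node .nil
  1984985 [5,6,1,2] .nil)))) 1989958 [7,5,0,0,0] (.node (.node (.node (.node (.node .nil 1990887
  [3,1,5,2] .nil) 1995896 [3,1,5] .nil) 1999612 [2,7,4,4,0] (.node .nil 2004579 [2,5,6] .nil))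
  2010050 [6,5,7] (.node (.node (.node .nil 2016287 [1,7,5,0] .nil) 2026785 [0,7,1] .nil) 2036918
  [4,6,0] (.node .nil 2042135 [4,1] .nil))) 2047368 [7,3,2] (.node (.node (.node (.node .nil 2049738
  [5,0,5,5] .nil) 2052693 [2,5,2,3,0] .nil) 2070896 [6,0,1,1] (.node .nil 2073809 [3,7,1,0] .nil))
  2076750 [0,6,2] (.node (.node (.node .nil 2083596 [4,1,2] .nil) 2089522 [2,7,0] .nil) 2104311
  [2,6,7,0] (.node .nil 2146063 [5,4] .nil))))) 2157939 [7,4,1,6] (.node (.node (.node (.node (.node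
  (.node .nil 2161132 [6,0,7] .nil) 2178522 [3,3,5,2] .nil) 2191270 [0,0,7] (.node .nil 2194233
  [0,2,6] .nil)) 2198973 [6,2,1,0] (.node (.node (.node .nil 2214750 [4,1,7] .nil) 2219969 [7,6,0,0]
  .nil) 2239727 [5,4] (.node .nil 2250669 [4,5,6] .nil))) 2260627 [2,7,6] (.node (.node (.node (.node
  .nil 2274742 [3] .nil) 2281204 [0,2,1] .nil) 2284139 [3,3,0,1] (.node .nil 2287562 [0,6,5] .nil))
  2290517 [1,6,2] (.node (.node (.node .nil 2301533 [5,3,1,4,0] .nil) 2302972 [7,2,5,0] .nil) 2307939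
  [4,1,0,2] (.node .nil 2316478 [7,4,3,1] .nil)))) 2319647 [7,0] (.node (.node (.node (.node (.node
  .nil 2331547 [0] .nil) 2338362 [2,1,2] .nil) 2341541 [1,6] (.node .nil 2343399 [3,2,6] .nil))
  2348408 [1,5,2,0] (.node (.node (.node .nil 2353369 [1,6,2] .nil) 2358342 [7,5,6,2] .nil) 2369467
  [5,0,0,0] (.node .nil 2383097 [4,4,2] .nil))) 2389447 [7,6,5,2] (.node (.node (.node (.node .nil
  2398172 [4,1,0,0] .nil) 2402941 [4,4] .nil) 2408162 [5,3,0] (.node .nil 2412863 [5,2,2] .nil))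
  2419870 [6,7,4,3] (.node (.node (.node .nil 2440247 [2,2] .nil) 2443125 [5,2,6,0] .nil) 2446314
  [1,4,3,1] (.node .nil 2453067 [7,6,3,2] .nil)))))))) 2456276 [0,0,1,0] (.node (.node (.node (.node
  (.node (.node (.node (.node (.node .nil 2463951 [6,4] .nil) 2467182 [7,1,5] .nil) 2470385 [5,4,4,2]
  (.node (.node .nil 2476723 [5,7] .nil) 2481708 [1,4,3,3] .nil)) 2483085 [3,1,3] (.node (.node
  (.node .nil 2488082 [3,0,5] .nil) 2505117 [0,3,0] .nil) 2507487 [6,3,5] (.node .nil 2517985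
  [7,1,4,4] .nil))) 2525690 [3,1,3,0] (.node (.node (.node (.node .nil 2530661 [2,6,6,1] .nil)
  2536539 [7,7,6,1] .nil) 2543385 [3,1,0,0,0] (.node .nil 2546566 [0,3,0] .nil)) 2549287 [6,3,4,0]
  (.node (.node (.node .nil 2552504 [5,6,6,3] .nil) 2558767 [6,2,0,0] .nil) 2564016 [3,4,2,1] (.node
  .nil 2569870 [2,3,5,0] .nil)))) 2575820 [0,3,7,0] (.node (.node (.node (.node (.node .nil 2578771
  [3,7,2,3] .nil) 2581746 [7,7,6,1] .nil) 2584685 [5,1,7] (.node .nil 2590441 [3,3,0] .nil)) 2593398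
  [0,5,7,1] (.node (.node (.node .nil 2603848 [5,7,3,0] .nil) 2610325 [5,1,5,7] .nil) 2615604 [1,6,2]
  (.node .nil 2645710 [4,6,1] .nil))) 2646895 [5,0,1] (.node (.node (.node (.node .nil 2652144 [2,6]
  .nil) 2659819 [7,3,0] .nil) 2669781 [0,4,4,6,0] (.node .nil 2672535 [6,1,0] .nil)) 2682537
  [1,4,7,1] (.node (.node (.node .nil 2685494 [5,0,1] .nil) 2692926 [3,4,0,3] .nil) 2697887 [2,1,1]
  (.node .nil 2707933 [4,0,0] .nil))))) 2714748 [0,7,1,1] (.node (.node (.node (.node (.node (.node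
  .nil 2717923 [0,7,1,1] .nil) 2723431 [1,6,4,0] .nil) 2726648 [4,1,7] (.node .nil 2729817 [2,7,3,6]
  .nil)) 2732998 [0,0,7,2] (.node (.node (.node .nil 2743323 [7,6,0,0] .nil) 2744762 [5,5,7] .nil)
  2749733 [7,0,4,0] (.node .nil 2764597 [6,1,0] .nil))) 2767786 [3,3,2] (.node (.node (.node (.node
  .nil 2774135 [7,0,3,2] .nil) 2779606 [6,5,2,2] .nil) 2784585 [0,2,3,2] (.node .nil 2788301 [3,0,0]
  .nil)) 2793298 [3,4,0] (.node (.node (.node .nil 2794227 [2,2,7,1] .nil) 2799212 [1,6,3,2] .nil)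
  2805038 [3,1,7] (.node .nil 2808241 [3,0,7,0] .nil)))) 2814095 [4,1,0] (.node (.node (.node (.node
  (.node .nil 2825607 [7,2,1] .nil) 2831545 [4,1,0] .nil) 2841444 [3,6,3,6] (.node .nil 2844357
  [4,1,0] .nil)) 2847322 [2,4,3,5] (.node (.node (.node .nil 2852062 [0,4,7,1] .nil) 2862560 [4,2,5]
  .nil) 2867773 [7,6,5,0] (.node .nil 2872994 [4,5,6] .nil))) 2878211 [3,7,4] (.node (.node (.node
  (.node .nil 2887007 [6,7,0,1,0] .nil) 2896126 [7,1,1] .nil) 2902972 [2,5,6,0] (.node .nil 2907939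
  [1,7,7,0] .nil)) 2913821 [3,1,1] (.node (.node (.node .nil 2927015 [4,5,2,0] .nil) 2932024 [4,4]
  .nil) 2934394 [5,4,3,3] (.node .nil 2937573 [6,7,1] .nil)))))) 2944836 [2,1,3,4] (.node (.node
  (.node (.node (.node (.node (.node .nil 2954963 [4,0,0] .nil) 2960242 [6,4,2] .nil) 2966703 [3,4]
  (.node .nil 2977169 [1,4,1] .nil)) 2980110 [7,6,3] (.node (.node (.node .nil 2985866 [2,7,2,0]
  .nil) 2988821 [3,6,2,0] .nil) 2991796 [5,0,3] (.node .nil 2994731 [5,0,3] .nil))) 3000681 [6,7,1]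
  (.node (.node (.node (.node .nil 3006551 [4,1,2,1] .nil) 3011784 [7,4,0,1] .nil) 3016678 [6,0,2,3]
  (.node .nil 3019641 [0,7,2,2] .nil)) 3026648 [4,2,1,0] (.node (.node (.node .nil 3029575 [6,1,7,3]
  .nil) 3036570 [0,6,4,0] .nil) 3041339 [0,7,2] (.node .nil 3046564 [0,2,3] .nil)))) 3056414
  [7,1,1,2] (.node (.node (.node (.node (.node .nil 3061633 [6,7] .nil) 3067075 [0,2,3] .nil) 3070044
  [0,0,0,0] (.node .nil 3076450 [5,1,7,2] .nil)) 3082485 [6,7,1] (.node (.node (.node .nil 3087466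
  [5,2,2,0] .nil) 3088843 [6,5,7,3] .nil) 3093844 [3,1,6,0] (.node .nil 3100182 [3,4,7,0] .nil)))
  3103369 [3,1,2,1] (.node (.node (.node (.node .nil 3106600 [1,1,5] .nil) 3114291 [0,0,4] .nil)
  3117484 [7,3,3] (.node .nil 3124237 [7,2,1] .nil)) 3127442 [2,1,1] (.node (.node (.node .nil
  3130320 [7,1,6] .nil) 3159421 [5,2,3] .nil) 3165759 [4,4,0,1] (.node .nil 3175326 [0,6,6] .nil)))))
  3193019 [6,7,5,0] (.node (.node (.node (.node (.node (.node .nil 3195897 [4,5,2] .nil) 3200870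
  [3,2,1] .nil) 3205831 [4,6,2] (.node .nil 3210840 [3,7,7,7] .nil)) 3213263 [2,2,0] (.node (.node
  (.node .nil 3223281 [5,2,3] .nil) 3226222 [3,0,7] .nil) 3233203 [5,7,6,3,0] (.node .nil 3243149
  [5,2,0,0] .nil))) 3251862 [5,4,6] (.node (.node (.node (.node .nil 3253047 [0,2,6,2] .nil) 3258280
  [6,3,6,1] .nil) 3263722 [1,0,0,0] (.node .nil 3266677 [6,1,0,0] .nil)) 3270100 [3,7,0,0] (.node
  (.node (.node .nil 3273035 [6,4,1] .nil) 3282682 [3,6,0,0] .nil) 3287899 [2,3,3] (.node .nil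
  3293124 [2,7,1,2] .nil)))) 3304888 [5,4,2] (.node (.node (.node (.node (.node .nil 3307815 [3,3]
  .nil) 3313571 [7,2,6,0] .nil) 3316540 [2,5,4,2] (.node .nil 3319453 [2,0,4] .nil)) 3334270
  [7,6,0,5] (.node (.node (.node .nil 3339489 [5,4,2] .nil) 3345782 [0,2,1] .nil) 3348969 [5,6,5]
  (.node .nil 3354839 [6,1,2,0,0] .nil))) 3361685 [6,6,2,0] (.node (.node (.node (.node .nil 3366666
  [4,3,1] .nil) 3367595 [2,4,3,1] .nil) 3372596 [4,0,7] (.node .nil 3380271 [6,1,4,2] .nil)) 3385742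
  [6,4,3,2] (.node (.node (.node .nil 3390737 [5,7,1] .nil) 3393107 [1,4] .nil) 3396300 [7,0,3,0]
  (.node .nil 3415470 [2,4,6,0] .nil))))))) 3428306 [7,2,2] (.node (.node (.node (.node (.node (.node
  (.node (.node .nil 3431245 [2,4,2] .nil) 3434220 [2,6,4,0] .nil) 3437171 [3,1,1,3] (.node (.node
  .nil 3441911 [6,6,1] .nil) 3452361 [2,2,3] .nil)) 3455318 [2,2,5,4] (.node (.node (.node .nil
  3462795 [1,0,1] .nil) 3468074 [7,6] .nil) 3478205 [1,3,6,5] (.node .nil 3485468 [2,5,1,0] .nil)))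
  3488643 [7,5,1,3] (.node (.node (.node (.node .nil 3495006 [0,1,5,2] .nil) 3505504 [1,2] .nil)
  3509220 [7,6,0,3] (.node .nil 3515098 [7,5,7,4] .nil)) 3520069 [2,5,1,0] (.node (.node (.node .nil
  3525895 [3,2,0,0] .nil) 3529112 [3,5,0] .nil) 3531833 [5,2,6,0] (.node .nil 3535014 [5,0,2,1]
  .nil)))) 3544855 [7,6,4] (.node (.node (.node (.node (.node .nil 3549878 [0,5,4,1] .nil) 3554857
  [5,4] .nil) 3556715 [6,7,2,1] (.node .nil 3559924 [6,0,2] .nil)) 3566677 [0,4] (.node (.node (.node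
  .nil 3569866 [0,4] .nil) 3575374 [0,0,4,0] .nil) 3578577 [7,6,3,0] (.node .nil 3581808 [6,0]
  .nil))) 3590317 [7,1,2] (.node (.node (.node (.node .nil 3595314 [2,6,0] .nil) 3596691 [6,4,4,0]
  .nil) 3601676 [5,7,7,2] (.node .nil 3607707 [2,4,5] .nil)) 3614117 [5,7,7] (.node (.node (.node
  .nil 3617082 [4,5] .nil) 3623544 [3,1,4] .nil) 3629894 [1,1,1] (.node .nil 3637597 [3,3,2,5]
  .nil))))) 3642818 [0,1,5] (.node (.node (.node (.node (.node (.node .nil 3647587 [0,5,0,1] .nil)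
  3658529 [2,1,4] .nil) 3665536 [7,5,6] (.node .nil 3678105 [6,1,1,4] .nil)) 3684007 [3,4,0,1] (.node
  (.node (.node .nil 3689957 [7,0,0,0] .nil) 3692922 [2,0,0,2] .nil) 3695835 [6,0,5,0,0] (.node .nil
  3707487 [1,2,0,0] .nil))) 3717985 [1,1,5,1] (.node (.node (.node (.node .nil 3724476 [5,5,1,0]
  .nil) 3729693 [2,4,1,2,0] .nil) 3734914 [0,6,3,1] (.node .nil 3747115 [0,0,7] .nil)) 3750324
  [0,5,2] (.node (.node (.node .nil 3752694 [4,3,2] .nil) 3757673 [7,3,1,4] .nil) 3763144 [1,2,2,1]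
  (.node .nil 3770835 [1,7,1] .nil)))) 3775820 [6,7,6,0] (.node (.node (.node (.node (.node .nil
  3776749 [3,3,5,1] .nil) 3781746 [3,2,4,0] .nil) 3788592 [4,2,1] (.node .nil 3794446 [5,6,5,0]
  .nil)) 3797649 [4,7,4] (.node (.node (.node .nil 3801535 [1,1,5,6] .nil) 3816478 [7,1,7] .nil)
  3819356 [4,2,7] (.node .nil 3822531 [4,6] .nil))) 3829346 [3,2,1] (.node (.node (.node (.node .nil
  3837049 [7,0,3] .nil) 3840230 [2,0,0] .nil) 3843399 [4,3,6] (.node .nil 3846616 [5,3,7,2] .nil))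
  3852954 [5,6,7,6] (.node (.node (.node .nil 3857925 [4,3,1,2] .nil) 3859364 [1,6,3] .nil) 3870380
  [6,3,4] (.node .nil 3873331 [5,0,2] .nil)))))) 3876754 [3,6,6,0] (.node (.node (.node (.node (.node
  (.node (.node .nil 3879693 [2,2,5,0] .nil) 3885135 [4,1,6,4] .nil) 3890384 [1,4,2] (.node .nil
  3891569 [4,5,2] .nil)) 3900266 [5,0] (.node (.node (.node .nil 3910228 [0,4,3,0] .nil) 3917193
  [1,0,4,0] .nil) 3920150 [1,3,5,6] (.node .nil 3930152 [1,4,4,1] .nil))) 3934955 [2,2,6,7] (.node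
  (.node (.node (.node .nil 3939956 [7,2] .nil) 3941333 [2,1,5] .nil) 3946314 [5,4,0,3,0] (.node .nil
  3954839 [5,7,3] .nil)) 3958070 [3,0,4,0] (.node (.node (.node .nil 3961257 [4,6,5,1] .nil) 3966765
  [3,4,2] .nil) 3969970 [2,0,6,1] (.node .nil 3976723 [1,0,1] .nil)))) 3979916 [6,0,1] (.node (.node
  (.node (.node (.node .nil 3981774 [6,7,3] .nil) 3986769 [4,6,7,0] .nil) 3991792 [1,7,3] (.node .nil
  3999224 [4,3] .nil)) 4002151 [7,2,2,1] (.node (.node (.node .nil 4009158 [1,5,1,0] .nil) 4012121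
  [2,0,4,0] .nil) 4014875 [7,2,0,3] (.node .nil 4020100 [4,2,4,6] .nil))) 4024869 [0,5] (.node (.node
  (.node (.node .nil 4032574 [3,7,5,0] .nil) 4037793 [0,1,4,0] .nil) 4053570 [7,1,5,1] (.node .nil
  4068557 [6,0,6,0] .nil)) 4073836 [3,3] (.node (.node (.node .nil 4081329 [6,6,1] .nil) 4084270
  [7,7,6] .nil) 4094736 [4,6] (.node .nil 4099476 [7,2,2] .nil))))) 4102411 [3,0,0] (.node (.node
  (.node (.node (.node (.node .nil 4105386 [1,6,3] .nil) 4108341 [6,0,2] .nil) 4121161 [7,2,3,0]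
  (.node .nil 4132673 [5,4,3,1] .nil)) 4141792 [7,3,6,0] (.node (.node (.node .nil 4147618 [5,0]
  .nil) 4153500 [3,1,3] .nil) 4158467 [6,7] (.node .nil 4162183 [3,2,1,0] .nil))) 4167192 [6,3,7,1]
  (.node (.node (.node (.node .nil 4179044 [3,4] .nil) 4208622 [3,4,4] .nil) 4239031 [1,3,1,1] (.node
  .nil 4249077 [7,4,1] .nil)) 4259019 [5,1,3] (.node (.node (.node .nil 4274429 [5,7,1,1] .nil)
  4277183 [1,1,2,1] .nil) 4292126 [1,4,1,3] (.node .nil 4306235 [0,4,1,0] .nil)))) 4312697 [1,7,2]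
  (.node (.node (.node (.node (.node .nil 4315878 [6,6,0] .nil) 4319047 [2,7,3] .nil) 4322264
  [7,3,1,0] (.node .nil 4341079 [3,6,3,0] .nil)) 4353835 [6,3] (.node (.node (.node .nil 4357044
  [4,0,1] .nil) 4364719 [2,7,3,0] .nil) 4377555 [6,3,2] (.node .nil 4382540 [6,1] .nil))) 4383469
  [0,0,2] (.node (.node (.node (.node .nil 4388466 [0,7,2,1] .nil) 4394981 [3,7] .nil) 4397946
  [5,3,5,3] (.node .nil 4400859 [7,0,2,2] .nil)) 4414873 [2,5,0,3] (.node (.node (.node .nil 4420775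
  [4,7,1,6] .nil) 4429500 [1,7,0,1] .nil) 4434717 [5,5] (.node .nil 4439938 [0,4,7] .nil)))))))))
  4444255 [5,0,4,1] (.node (.node (.node (.node (.node (.node (.node (.node (.node (.node .nil
  4454753 [5,5,2] .nil) 4464445 [3,3,5,0] .nil) 4479454 [5,6,2,2] (.node (.node .nil 4482175
  [0,1,4,2] .nil) 4494075 [0,2,2,0] .nil)) 4501338 [2,4,3,0] (.node (.node (.node .nil 4504517
  [0,5,0] .nil) 4516281 [6,4,0,1] .nil) 4521254 [1,3,0,5] (.node .nil 4533647 [3,6,0,1] .nil)))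
  4544205 [6,1,2] (.node (.node (.node (.node .nil 4549484 [0,6,4,1] .nil) 4557175 [5,3,1,1] .nil)
  4562408 [2,2,4,5,0] (.node .nil 4568278 [4,5,0] .nil)) 4575124 [4,6,5,0] (.node (.node (.node .nil
  4578059 [4,6,5,0] .nil) 4581034 [2,1,4,1] .nil) 4583989 [7,2,0,2] (.node .nil 4603066 [6,2,1]
  .nil)))) 4605944 [2,3,1,1] (.node (.node (.node (.node (.node .nil 4608871 [6,3,1] .nil) 4615878
  [3,1,2] .nil) 4618841 [2,5,0,1] (.node .nil 4623581 [2,7,1,1] .nil)) 4629987 [4,4,1] (.node (.node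
  (.node .nil 4632956 [6,6,5,2] .nil) 4639294 [2,2,6] .nil) 4644513 [4,5,1,0] (.node .nil 4659863
  [5,0,4,1] .nil))) 4663094 [2,1,4,1] (.node (.node (.node (.node .nil 4666281 [1,5,3,3] .nil)
  4671723 [3,7,2] .nil) 4676724 [3,7] (.node .nil 4678101 [0,5,5,0] .nil)) 4683082 [6,5,7,1] (.node
  (.node (.node .nil 4686798 [3,7,2] .nil) 4691793 [1,0,5,1] .nil) 4696816 [5,5,2] (.node .nil
  4703533 [2,4,0,0] .nil))))) 4706738 [0,5,2,0,0] (.node (.node (.node (.node (.node (.node .nil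
  4713491 [4,5,0] .nil) 4716684 [5,7,4] .nil) 4738934 [7,4,3] (.node .nil 4742121 [4,0,3] .nil))
  4747991 [3,5,1] (.node (.node (.node .nil 4762989 [3,0,4,3] .nil) 4766194 [0,3,4] .nil) 4773423
  [2,1,0] (.node .nil 4778894 [6,2] .nil))) 4783889 [0,0,0,4] (.node (.node (.node (.node .nil
  4796344 [6,6,7,0] .nil) 4799271 [6,6,0] .nil) 4805882 [2,0,2,0] (.node .nil 4811099 [2,6,6,0]
  .nil)) 4816324 [7,5,3,2,0] (.node (.node (.node .nil 4825726 [1,3,6,3] .nil) 4830945 [5,4,5,2]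
  .nil) 4836771 [1,7,6,4] (.node .nil 4839740 [4,0,3] .nil)))) 4842653 [7,7,5,0] (.node (.node (.node
  (.node (.node .nil 4855731 [5,3,2,0] .nil) 4865677 [4,7,3] .nil) 4867535 [1,7,0,2] (.node .nil
  4877553 [3,5,1] .nil)) 4880494 [7,1,2,1] (.node (.node (.node .nil 4886250 [4,7,7,0] .nil) 4889205
  [1,1,0] .nil) 4892628 [5,5,3] (.node .nil 4895563 [3,6] .nil))) 4906134 [4,0,3,3] (.node (.node
  (.node (.node .nil 4907319 [3,4,5,0] .nil) 4912552 [3,2,4,3,0] .nil) 4918335 [7,1,4] (.node .nil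
  4927902 [3,0,2,0] .nil)) 4934364 [6,3,6,0] (.node (.node (.node .nil 4939331 [6,1] .nil) 4940770
  [0,7,6,3] .nil) 4948473 [3,6,6] (.node .nil 4953446 [6,4,7,5] .nil)))))) 4958407 [3,0,4,1] (.node
  (.node (.node (.node (.node (.node (.node .nil 4963416 [0,7,3] .nil) 4966170 [0,4,4,6] .nil)
  4969349 [3,1,0] (.node .nil 4976164 [6,6,0] .nil)) 4988135 [7,0,1,0] (.node (.node (.node .nil
  4994521 [4,3,2,5] .nil) 5000859 [3,6,0,5] .nil) 5007269 [1,7,0] (.node .nil 5010234 [7,2,6,1]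
  .nil))) 5014974 [6,3,1,2] (.node (.node (.node (.node .nil 5027871 [1,5,4,0] .nil) 5030749
  [6,0,5,0] .nil) 5035970 [1,0] (.node .nil 5040739 [2,7,4,3] .nil)) 5048171 [0,1,1,1] (.node (.node
  (.node .nil 5051380 [4,1,3,0] .nil) 5058133 [1,3,1,3] .nil) 5061322 [1,7,3,1] (.node .nil 5068055
  [0,5,0,0] .nil)))) 5073078 [7,1,3] (.node (.node (.node (.node (.node .nil 5078057 [7,0,6,1] .nil)
  5081773 [0,5,2,1] .nil) 5086770 [3,1,5,0] (.node .nil 5088147 [4,7,2,3] .nil)) 5093132 [0,2,0]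
  (.node (.node (.node .nil 5098574 [4,4,3,1] .nil) 5101777 [4,1,0,0,0] .nil) 5105008 [4,1,4] (.node
  .nil 5117534 [1,0,2,2] .nil))) 5128032 [0,5,0] (.node (.node (.node (.node .nil 5132477 [6,3,1]
  .nil) 5139740 [0,7,6,0] .nil) 5142915 [2,2,1,3] (.node .nil 5148423 [6,5,3,0] .nil)) 5151640
  [2,5,2] (.node (.node (.node .nil 5154361 [6,5,6] .nil) 5157542 [4,0,4,2,0] .nil) 5163492 [4,4,3,3]
  (.node .nil 5169370 [4,5,1,4] .nil))))) 5174341 [5,2,7,3] (.node (.node (.node (.node (.node (.node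
  .nil 5180882 [7,4,1,0] .nil) 5183821 [0,2,6,0,0] .nil) 5186796 [6,0,4] (.node .nil 5189747 [4,4,3]
  .nil)) 5196593 [0,1,2] (.node (.node (.node .nil 5202447 [2,4,4,0] .nil) 5207696 [3,6,2] .nil)
  5215371 [6,1,2] (.node .nil 5220650 [4,7] .nil))) 5231208 [6,4,6,2] (.node (.node (.node (.node
  .nil 5246459 [2,0,4,6] .nil) 5267335 [5,7,5] .nil) 5273273 [5,6,0] (.node .nil 5291420 [4,7,0,0]
  .nil)) 5293790 [2,5,4,0] (.node (.node (.node .nil 5304288 [1,5,0,0,0] .nil) 5314167 [7,4,1] .nil)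
  5319638 [2,4,7] (.node .nil 5324617 [2,2,0,7,0] .nil)))) 5336373 [2,7,3] (.node (.node (.node
  (.node (.node .nil 5339562 [1,1] .nil) 5345070 [2,0,0,4] .nil) 5348273 [1,3,4,2] (.node .nil
  5354127 [2,4,7] .nil)) 5360077 [7,6,7] (.node (.node (.node .nil 5365074 [2,4,7,2] .nil) 5366003
  [4,5,5,7] .nil) 5370988 [2,7,3] (.node .nil 5379037 [1,7,4] .nil))) 5385852 [4,0,1] (.node (.node
  (.node (.node .nil 5389027 [4,1,2,0] .nil) 5395774 [2,6,7] .nil) 5400735 [1,5] (.node .nil 5414427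
  [0,3,7] .nil)) 5415866 [7,0,3,2,0] (.node (.node (.node .nil 5420837 [0,0,2] .nil) 5426279 [7,7,2]
  .nil) 5429496 [4,2] (.node .nil 5432665 [0,6,1] .nil))))))) 5435846 [1,3,2] (.node (.node (.node
  (.node (.node (.node (.node (.node .nil 5446862 [2,7,3,3] .nil) 5448047 [0,3,5] .nil) 5453296
  [5,1,4,0] (.node (.node .nil 5459634 [0,4,0,2] .nil) 5462573 [1,1,0,3] .nil)) 5465996 [4,5,4,0]
  (.node (.node (.node .nil 5468947 [2,3,7,4] .nil) 5473687 [3,7,3] .nil) 5483689 [4,2,1,1] (.node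
  .nil 5486646 [0,4,0] .nil))) 5489524 [2,4,1,0] (.node (.node (.node (.node .nil 5499466 [7,1,0]
  .nil) 5517751 [7,3,7,5] .nil) 5524213 [1,3,4] (.node .nil 5529194 [5,2,3,1] .nil)) 5530571 [5,3]
  (.node (.node (.node .nil 5535572 [1,5,5,7] .nil) 5543247 [4,1,1,1] .nil) 5548270 [5,6,5,6] (.node
  .nil 5553265 [6,6,3] .nil)))) 5556019 [3,5,1,0] (.node (.node (.node (.node (.node .nil 5559212
  [0,5,3,1] .nil) 5565965 [6] .nil) 5569170 [4,0,5] (.node .nil 5576602 [3,4,1,2] .nil)) 5581371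
  [6,0,4,0] (.node (.node (.node .nil 5586596 [3,4,6] .nil) 5588454 [4,4,5] .nil) 5591417 [7,2,0]
  (.node .nil 5598424 [2,0,1] .nil))) 5601351 [7,3,6] (.node (.node (.node (.node .nil 5607107
  [3,4,6] .nil) 5610076 [4,3,0,7] .nil) 5616482 [7,7,5] (.node .nil 5628190 [1,6,4,1] .nil)) 5633409
  [5,5,4,2] (.node (.node (.node .nil 5637807 [3,6,4,0] .nil) 5648273 [5,7,5] .nil) 5651214
  [2,3,0,7,0] (.node .nil 5657811 [6,4,0,2] .nil))))) 5663090 [2,6,1,0] (.node (.node (.node (.node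
  (.node (.node .nil 5671785 [6,1,6] .nil) 5677655 [5,2,7] .nil) 5682888 [0,3,1,0] (.node .nil
  5688714 [7,3,1,1] .nil)) 5691669 [3,0,1,5] (.node (.node (.node .nil 5694644 [6,7,0] .nil) 5697579
  [2,3,4,0] .nil) 5704124 [7,6,7] (.node .nil 5709091 [4,7,3,1] .nil))) 5714973 [0,7,1,0] (.node
  (.node (.node (.node .nil 5725120 [0,1,1] .nil) 5727841 [5,3] .nil) 5735546 [4,4,5] (.node .nil
  5738725 [6,4,2,4] .nil)) 5745988 [5,1,2,1] (.node (.node (.node .nil 5751449 [7,5,4,0] .nil)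
  5756422 [4,1,1,1] .nil) 5774014 [4] (.node .nil 5777183 [1,0,7] .nil)))) 5790813 [7,2,5,1] (.node
  (.node (.node (.node (.node .nil 5792252 [2,4,7,3] .nil) 5797219 [1,3] .nil) 5800935 [5,5,5] (.node
  .nil 5805944 [1,6,1,0] .nil)) 5810905 [7,1,1,4] (.node (.node (.node .nil 5815878 [3,3,1] .nil)
  5820827 [6,5,1] .nil) 5827642 [2,0,5,0] (.node .nil 5830821 [4,3,3,5] .nil))) 5838253 [6,5,0,0]
  (.node (.node (.node (.node .nil 5848211 [2,4,7] .nil) 5851089 [5,7,3,1] .nil) 5854030 [0,5,1]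
  (.node .nil 5864048 [2,6,6,0] .nil)) 5868788 [3,0,2] (.node (.node (.node .nil 5871723 [3,1,0,2]
  .nil) 5875146 [7,6,3,1] .nil) 5878101 [6,3,2,0] (.node .nil 5884439 [5,5,4,0] .nil)))))) 5889672
  [7,0,0,4,2] (.node (.node (.node (.node (.node (.node (.node .nil 5890857 [2,6,1] .nil) 5909926
  [1,3,2] .nil) 5912889 [1,1,7,0] (.node .nil 5915259 [4,2,2,2] .nil)) 5920484 [2,1,0] (.node (.node
  (.node .nil 5925701 [5,4,4,0,0] .nil) 5933406 [7,3,4] .nil) 5938625 [0,3,7,2] (.node .nil 5954338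
  [3,5,6] .nil))) 5957251 [3,3,1,2] (.node (.node (.node (.node .nil 5960220 [5,5,3,2] .nil) 5966731
  [3,1,0] .nil) 5971732 [3,6,1] (.node .nil 5972661 [7,5,7,0] .nil)) 5977642 [1,3] (.node (.node
  (.node .nil 5983592 [3,2,5] .nil) 5989462 [2,5,4,0] .nil) 5992649 [3,3,6] (.node .nil 5998157
  [7,1,6,1] .nil)))) 6001362 [7,7,3,3] (.node (.node (.node (.node (.node .nil 6013102 [6,1,1,1]
  .nil) 6018097 [0,3,1] .nil) 6023568 [3,3,6] (.node .nil 6033356 [2,6,3,1] .nil)) 6036307 [1,7,3,3]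
  (.node (.node (.node .nil 6039282 [1,4,1,0] .nil) 6042221 [7,2,2,5] .nil) 6048047 [7,3,1,5] (.node
  .nil 6053296 [1,0,0,4] .nil))) 6059150 [2,2,5,2] (.node (.node (.node (.node .nil 6067861 [5,5,0,0]
  .nil) 6073140 [5,2,5,1] .nil) 6079721 [3,5,3,6] (.node .nil 6082678 [0,2,4,1] .nil)) 6093128
  [2,1,1,0] (.node (.node (.node .nil 6095071 [6,7,3,6] .nil) 6105569 [7,7,5] .nil) 6112828 [1,1,4]
  (.node .nil 6116003 [0,5,5,4] .nil))))) 6123266 [6,2] (.node (.node (.node (.node (.node (.node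
  .nil 6130969 [0,5,3] .nil) 6134150 [0,5,3] .nil) 6136871 [6,4,3,3] (.node .nil 6140088 [7,2,0]
  .nil)) 6152900 [6,0,1,3] (.node (.node (.node .nil 6161781 [6,3,1] .nil) 6164970 [0,6,0,5] .nil)
  6171723 [6,2,2] (.node .nil 6174932 [3,1,1,1] .nil))) 6177686 [7,5,0,3] (.node (.node (.node (.node
  .nil 6182665 [4,5,0,0] .nil) 6187688 [1,2,7] .nil) 6195379 [4,2] (.node .nil 6200364 [2,1,0] .nil))
  6201741 [7,5] (.node (.node (.node .nil 6206738 [6,5,1] .nil) 6213200 [2,0,7] .nil) 6228582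
  [0,2,3,0] (.node .nil 6234968 [0,6,2] .nil)))) 6245509 [6,1,2] (.node (.node (.node (.node (.node
  .nil 6248474 [4,1,2] .nil) 6254884 [2,0] .nil) 6260640 [1,0,7,0] (.node .nil 6273537 [7,1,7,0]
  .nil)) 6275395 [0,7,3,6] (.node (.node (.node .nil 6313819 [0,7,0] .nil) 6318842 [4,4,0,3] .nil)
  6323813 [7,5,2,0] (.node .nil 6331518 [1,7] .nil))) 6332895 [5,6,2,1] (.node (.node (.node (.node
  .nil 6347421 [2,1,3] .nil) 6350652 [3,2] .nil) 6353827 [3,2] (.node .nil 6364843 [1,2,6,0] .nil))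
  6371221 [6,6,5,1] (.node (.node (.node .nil 6376663 [6,1,3] .nil) 6383081 [1,5,7,1] .nil) 6386038
  [5,4,4] (.node .nil 6391794 [0,7,0] .nil)))))))) 6394733 [6,7,5] (.node (.node (.node (.node (.node
  (.node (.node (.node (.node .nil 6401740 [4,5,3,5] .nil) 6404691 [2,0,5] .nil) 6411662 [0,5,5]
  (.node (.node .nil 6416431 [1,1,2] .nil) 6421680 [0,4,1,0] .nil)) 6426526 [5,6,2] (.node (.node
  (.node .nil 6435391 [1,4,6,1] .nil) 6441341 [0,0,3] .nil) 6446562 [2,3,4,2] (.node .nil 6452444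
  [7,4,4,0] .nil))) 6461127 [5,7,1,0] (.node (.node (.node (.node .nil 6466406 [1,1,6,4] .nil)
  6472891 [3,5,7,2] .nil) 6483333 [6,2,6] (.node .nil 6486298 [3,7,1,5] .nil)) 6498739 [7,4,3,1]
  (.node (.node (.node .nil 6503724 [4,0,2] .nil) 6506094 [6,4,3,6] .nil) 6509297 [3,2,5,1] (.node
  .nil 6516560 [7,0] .nil)))) 6524235 [7,7,0,3] (.node (.node (.node (.node (.node .nil 6527444
  [5,2,4] .nil) 6530165 [0,3,4,0] .nil) 6533354 [0,2,1,1] (.node .nil 6540200 [6,1,6,3] .nil))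
  6546070 [5,2,3,0] (.node (.node (.node .nil 6551049 [3,5,4,3] .nil) 6565364 [0,1,4] .nil) 6568299
  [1,6,3,0] (.node .nil 6575798 [1,7,6,0,0] .nil))) 6581015 [2,2,6,3] (.node (.node (.node (.node
  .nil 6586248 [1,6,4] .nil) 6593939 [2,7,5,3] .nil) 6599853 [3,3,4,5] (.node .nil 6609776
  [3,6,3,1,0] .nil)) 6612689 [1,2,1,1] (.node (.node (.node .nil 6615630 [0,4,1] .nil) 6622169
  [2,4,2,6] .nil) 6627142 [1,3,5,0] (.node .nil 6628071 [4,0,5,1] .nil))))) 6633080 [6,5,2,0] (.node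
  (.node (.node (.node (.node (.node .nil 6638906 [1,7] .nil) 6642085 [2,4,3] .nil) 6647963 [4,6,2,0]
  (.node .nil 6653471 [5,1,2] .nil)) 6663969 [5,0,1,0] (.node (.node (.node .nil 6668540 [1,1,2,3]
  .nil) 6673507 [1,5,4,6] .nil) 6678978 [6,2,6,3] (.node .nil 6688371 [3,0,3] .nil))) 6691564
  [0,0,3,2] (.node (.node (.node (.node .nil 6694733 [1,7,6,1] .nil) 6697938 [5,0,5,0] .nil) 6708239
  [4,0,1,1] (.node .nil 6709678 [4,1,5,0] .nil)) 6714673 [3,2] (.node (.node (.node .nil 6718389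
  [3,1,4,3] .nil) 6723370 [5,7,6,6] .nil) 6728331 [6,5,0,1] (.node .nil 6733332 [5,6] .nil))))
  6735190 [5,6] (.node (.node (.node (.node (.node .nil 6738377 [1,2,5,0] .nil) 6745192 [1,5,1] .nil)
  6760542 [7,0,0,1] (.node .nil 6765761 [3,1] .nil)) 6768515 [7,7,4,0] (.node (.node (.node .nil
  6771484 [3,5,1,4] .nil) 6781474 [5,2,6] .nil) 6786214 [3,7,2] (.node .nil 6789177 [3,4,3] .nil)))
  6792600 [7,6,5] (.node (.node (.node (.node .nil 6795527 [7,0,0,1] .nil) 6801989 [5,4,6,1] .nil)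
  6817533 [1,7,0,3] (.node .nil 6827971 [1,0,3,0] .nil)) 6830940 [0,2,5,1] (.node (.node (.node .nil
  6851387 [2,1,3] .nil) 6856612 [0,3,4,3] .nil) 6862490 [1,7,4,0] (.node .nil 6868440 [6,1,7,0]
  .nil)))))) 6871367 [3,5] (.node (.node (.node (.node (.node (.node (.node .nil 6874342 [7,4] .nil)
  6877305 [5,2] .nil) 6883822 [5,2,1,1] (.node .nil 6888817 [7,3,0] .nil)) 6894671 [3,7,1,3] (.node
  (.node (.node .nil 6901517 [7,7,1,3,0] .nil) 6904722 [4,4,0] .nil) 6907443 [2,6,2] (.node .nil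
  6910636 [1,3,5,4] .nil))) 6918327 [4,0,7,0] (.node (.node (.node (.node .nil 6925590 [5,0,5] .nil)
  6928777 [1,4,6,2] .nil) 6931147 [1,7,7] (.node .nil 6936148 [6,6,2,2] .nil)) 6953179 [6,5] (.node
  (.node (.node .nil 6956410 [7,6,2,0] .nil) 6959589 [4,6,6] .nil) 6965927 [2,1,2,1] (.node .nil
  6970936 [1,2,5] .nil)))) 6972313 [1,0,0,1] (.node (.node (.node (.node (.node .nil 6977286
  [7,2,1,3] .nil) 6984989 [6,0,4,1] .nil) 6990012 [6,0,7] (.node .nil 6994979 [1,5,6] .nil)) 6997857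
  [6,6,7] (.node (.node (.node .nil 7011008 [0,5,4,0,0] .nil) 7013207 [2,1,3,3] .nil) 7018440
  [2,0,3,2,0] (.node .nil 7023209 [3,5,2] .nil))) 7030196 [0,7,7,0] (.node (.node (.node (.node .nil
  7033131 [5,2,0,5] .nil) 7040138 [0,0,1] .nil) 7043093 [6,5] (.node .nil 7048849 [0] .nil)) 7051790
  [5,3,5] (.node (.node (.node .nil 7058224 [7,3,1,0] .nil) 7063666 [0,2,2] .nil) 7070028 [5,1,1,2]
  (.node .nil 7082895 [0,1,5,0] .nil))))) 7089710 [1,7,7,0] (.node (.node (.node (.node (.node (.node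
  .nil 7092913 [0,4,3] .nil) 7094771 [5,2,2] .nil) 7099756 [7,2,6,3] (.node .nil 7104717 [2,4] .nil))
  7109714 [3,2,3,0] (.node (.node (.node .nil 7113430 [7,4,3,4,0] .nil) 7118409 [5,5,5,0] .nil)
  7119848 [3,6,5,5] (.node .nil 7130165 [0,3,3,0] .nil))) 7133354 [5,3,3,5] (.node (.node (.node
  (.node .nil 7136523 [6,5,7,6,0] .nil) 7139732 [7,6,6,0] .nil) 7150748 [6,6] (.node .nil 7151933
  [5,2,2] .nil)) 7157154 [1,5,7,1] (.node (.node (.node .nil 7163616 [0,4,5] .nil) 7172929 [3,2,2,5]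
  .nil) 7177669 [4,0,5,5] (.node .nil 7180634 [6,6,2] .nil)))) 7190628 [3,5] (.node (.node (.node
  (.node (.node .nil 7193382 [4,2,2,0] .nil) 7203352 [7,6,6,0] .nil) 7212457 [7,0,1,0] (.node .nil
  7215414 [1,6,1] .nil)) 7218327 [1,6,5] (.node (.node (.node .nil 7228234 [3,1,0,3] .nil) 7234164
  [0,7] .nil) 7241839 [2,2,7,5] (.node .nil 7247088 [1,0] .nil))) 7252305 [7,4,0] (.node (.node
  (.node (.node .nil 7259788 [1,0] .nil) 7262739 [5,2,0,1] .nil) 7275194 [5,5,1] (.node .nil 7280165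
  [2,7,0,1] .nil)) 7285636 [5,4,0] (.node (.node (.node .nil 7291993 [2,3,2,0] .nil) 7295174
  [1,2,5,0] .nil) 7317058 [3,6] (.node .nil 7331072 [6,1] .nil))))))) 7332001 [6,4,6] (.node (.node
  (.node (.node (.node (.node (.node (.node .nil 7351213 [0,5,6,4] .nil) 7356210 [1,4,4] .nil)
  7360751 [2,3,6,1] (.node (.node .nil 7368014 [2,7,1] .nil) 7371217 [5,2,1,7] .nil)) 7376725
  [3,2,1,3,0] (.node (.node (.node .nil 7379914 [5,7,0,0] .nil) 7382635 [5,3,7,0] .nil) 7385844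
  [7,0,5,3] (.node .nil 7391670 [1,1,7,7,0] .nil))) 7396649 [2,2,5,6] (.node (.node (.node (.node
  .nil 7402519 [1,5,0,1] .nil) 7411999 [3,7,3,3] .nil) 7414974 [3,0,1] (.node .nil 7424867 [5,7,4,0]
  .nil)) 7430749 [7,6,7,6] (.node (.node (.node .nil 7435970 [2,4,1,2] .nil) 7443673 [5,0,4] .nil)
  7448952 [1,1] (.node .nil 7456421 [0,7,0,2] .nil)))) 7459386 [6,2,0,2] (.node (.node (.node (.node
  (.node .nil 7469828 [4,3,5] .nil) 7478453 [7,7] .nil) 7484811 [2,3,0,0] (.node .nil 7491273 [7,7]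
  .nil)) 7494230 [2,1,6,3] (.node (.node (.node .nil 7500648 [0,4,4,0] .nil) 7505388 [0,0] .nil)
  7508339 [0,6,1,3] (.node .nil 7515346 [2,3,3] .nil))) 7518285 [2,2,0,0] (.node (.node (.node (.node
  .nil 7521039 [4,5,1] .nil) 7526288 [4,5,3,2] .nil) 7531057 [0,7,3,0] (.node .nil 7538489 [0,7,0]
  .nil)) 7541670 [7,3,0,0] (.node (.node (.node .nil 7548423 [2,5,0] .nil) 7551640 [7,6,1] .nil)
  7553498 [6,1,3,3] (.node .nil 7558469 [5,2,2,0,0] .nil))))) 7563492 [3,7,1,1] (.node (.node (.node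
  (.node (.node (.node .nil 7577184 [2,3,4] .nil) 7578561 [6,4,7,4] .nil) 7588892 [0,6,3] (.node .nil
  7592067 [2,5,0] .nil)) 7595298 [0,6,5] (.node (.node (.node .nil 7603070 [0,2,2,0] .nil) 7608289
  [3,3,1,4] .nil) 7619997 [5,6,0,3] (.node .nil 7629987 [1,2,2] .nil))) 7632956 [7,6,2] (.node (.node
  (.node (.node .nil 7638712 [1,5,7] .nil) 7641639 [6,7,0,0] .nil) 7645062 [4,2,0,2] (.node .nil
  7648025 [5,6,2,1] .nil)) 7653467 [4,1,1] (.node (.node (.node .nil 7658692 [1,5,7] .nil) 7659877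
  [3,6,0] .nil) 7670893 [1,0,3] (.node .nil 7674098 [4,1,1] .nil)))) 7677267 [2,4,1] (.node (.node
  (.node (.node (.node .nil 7680460 [5,5,4] .nil) 7686798 [6,0,5] .nil) 7691793 [3,5,0] (.node .nil
  7693232 [3,2,7,0] .nil)) 7700907 [5,2,7,6] (.node (.node (.node .nil 7705908 [7,4,1] .nil) 7710869
  [1,0,5] .nil) 7715850 [3,3,3] (.node .nil 7718728 [1,0,3,2] .nil))) 7735751 [1,2,4,3] (.node (.node
  (.node (.node .nil 7740760 [6,4,0] .nil) 7741689 [1,4,0] .nil) 7746662 [6,3,4,0] (.node .nil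
  7753508 [1,1,7] .nil)) 7759386 [4,2,0] (.node (.node (.node .nil 7762565 [1,1,1,2] .nil) 7770270
  [6,3,5] .nil) 7780768 [3,6,0] (.node .nil 7783138 [7,6,0,1] .nil)))))) 7800532 [0,1,5] (.node
  (.node (.node (.node (.node (.node (.node .nil 7803467 [4,5,5,4] .nil) 7815223 [5,5,6] .nil)
  7820456 [7,4,6] (.node .nil 7825673 [1,2,3,0] .nil)) 7834386 [3,3,4] (.node (.node (.node .nil
  7840300 [5,2,1] .nil) 7860304 [6,4,4,0] .nil) 7869910 [2,7,5] (.node .nil 7874679 [5,0,1] .nil)))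
  7879912 [2,2,1,0] (.node (.node (.node (.node .nil 7882666 [1,2,1] .nil) 7885621 [1,3,1,7] .nil)
  7892628 [4,6,6,0] (.node .nil 7895563 [5,7,0,0] .nil)) 7900303 [4,0,4,7] (.node (.node (.node .nil
  7906737 [5,5,1,0] .nil) 7909678 [0,7,7,0,0] .nil) 7916140 [2,2,1,0] (.node .nil 7922514 [1,3,3,2]
  .nil)))) 7933530 [2,2,0] (.node (.node (.node (.node (.node .nil 7936709 [1,7,1,2] .nil) 7939940
  [7,4,2] .nil) 7948473 [6,2,0] (.node .nil 7953446 [4,7,0] .nil)) 7954823 [1,3,3] (.node (.node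
  (.node .nil 7959832 [3,4,7] .nil) 7963548 [0,5,1] .nil) 7968515 [5,4,2,4] (.node .nil 7973538
  [1,5,4] .nil))) 7983584 [6,2,0] (.node (.node (.node (.node .nil 7990337 [4,0,0,1] .nil) 7998448
  [0,1,7] .nil) 8004302 [3,2,7] (.node .nil 8009297 [6,5,1,2] .nil)) 8015123 [0,3,7] (.node (.node
  (.node .nil 8018316 [4,2,0,1] .nil) 8021037 [1,2,1] .nil) 8024242 [0,6,6] (.node .nil 8029750
  [6,3,6] .nil))))) 8032937 [6,5,4,0] (.node (.node (.node (.node (.node (.node .nil 8040200 [2,7,1]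
  .nil) 8044757 [5,5,7,4] .nil) 8049738 [5,7,1,0] (.node .nil 8062179 [7,2,3] .nil)) 8065148 [7,5,0]
  (.node (.node (.node .nil 8075586 [2,3,1,0] .nil) 8096037 [3,1,0] .nil) 8101915 [6,3,2,0] (.node
  .nil 8107140 [4,3,6] .nil))) 8131643 [2,6,5,1] (.node (.node (.node (.node .nil 8137114 [5,7,3]
  .nil) 8142085 [2,4,2] .nil) 8144455 [5,7,5,6] (.node .nil 8147672 [4,2,7,3] .nil)) 8162658 [6,7,3]
  (.node (.node (.node .nil 8168540 [4,1,3] .nil) 8171715 [1,1,6] .nil) 8178561 [0,7,2,0] (.node .nil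
  8189472 [0,5,3,1] .nil)))) 8198952 [5,3,4,0] (.node (.node (.node (.node (.node .nil 8201865
  [1,1,6] .nil) 8204822 [3,2,0] .nil) 8210772 [1,5,0] (.node .nil 8216682 [6,4,1] .nil)) 8225393
  [5,7,7,0] (.node (.node (.node .nil 8242322 [7,0,1] .nil) 8245261 [0,3,2,0] .nil) 8260125 [6,3,5]
  (.node .nil 8265346 [7,4,4] .nil))) 8266531 [5,6,3] (.node (.node (.node (.node .nil 8280161 [7,1]
  .nil) 8283584 [6,1,4,1] .nil) 8295236 [0,6,1,1] (.node .nil 8307000 [7,0,5] .nil)) 8316934 [4,6,2]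
  (.node (.node (.node .nil 8324366 [3,2,1,0] .nil) 8327569 [5,3,1] .nil) 8334384 [] (.node .nil
  8358088 [6,0,5] .nil)))))))))) 8419127 [4,0,7] (.node (.node (.node (.node (.node (.node (.node
  (.node (.node (.node (.node .nil 8442831 [] .nil) 8449646 [4,6,5] .nil) 8452849 [0,7,3,0] (.node
  (.node .nil 8460281 [1,4,3] .nil) 8470215 [4,3,0,0] .nil)) 8481979 [3,2,1,1] (.node (.node (.node
  .nil 8493631 [0,1] .nil) 8497054 [1,0,1,0] .nil) 8510684 [0,3] (.node .nil 8511869 [5,5,2,2]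
  .nil))) 8517090 [0,4,1,0] (.node (.node (.node (.node .nil 8531954 [7,5,0,4] .nil) 8534893 [1,6]
  .nil) 8551822 [4,7,1] (.node .nil 8560533 [6,0,0] .nil)) 8566443 [3] (.node (.node (.node .nil
  8572393 [4,5,1,0] .nil) 8575350 [2,1] .nil) 8578263 [0,2,5] (.node .nil 8587743 [3,7,2,1] .nil))))
  8598654 [2,6,3,0] (.node (.node (.node (.node (.node .nil 8605500 [6,0,0] .nil) 8608675 [3,6,1,0]
  .nil) 8614557 [5,5] (.node .nil 8629543 [6,3,6,0,0] .nil)) 8632760 [5,5,2,2] (.node (.node (.node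
  .nil 8635130 [0,5,4] .nil) 8640101 [0,3,1] .nil) 8645572 [1,5,3] (.node .nil 8670075 [4,3,0]
  .nil))) 8675300 [5,4,3] (.node (.node (.node (.node .nil 8681178 [2,4,4] .nil) 8701629 [6,6,1]
  .nil) 8712067 [2,4,3,0] (.node .nil 8715036 [4,4] .nil)) 8727477 [6,4,2] (.node (.node (.node .nil
  8732458 [7,0,6,1] .nil) 8737015 [3,4,1] .nil) 8744278 [5,3,4,2] (.node .nil 8747465 [6,3,0]
  .nil))))) 8752973 [0,6,0] (.node (.node (.node (.node (.node (.node .nil 8756178 [0,6,7,0] .nil)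
  8758899 [1,0,3,6] .nil) 8762092 [2,0,3] (.node .nil 8767918 [5,6,1,0] .nil)) 8772913 [3,1,7,1]
  (.node (.node (.node .nil 8778767 [0,7,5] .nil) 8786878 [6,0,0,1] .nil) 8793631 [4,7,1] (.node .nil
  8803677 [4,1,4,0] .nil))) 8808700 [1,3,6,2] (.node (.node (.node (.node .nil 8813667 [6,2,1] .nil)
  8817383 [5,6,6] .nil) 8822392 [4,2,3] (.node .nil 8823769 [4,5,7,0] .nil)) 8828742 [3,1,2] (.node
  (.node (.node .nil 8837275 [5,1,0] .nil) 8840506 [6,5,6,2] .nil) 8843685 [5,7,4,1] (.node .nil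
  8854701 [6,3,2,1] .nil)))) 8861075 [2,6,4] (.node (.node (.node (.node (.node .nil 8867537
  [4,7,1,2] .nil) 8870478 [3,1,2,1] .nil) 8876912 [5,0,1,4] (.node .nil 8881652 [6,7,7] .nil))
  8884587 [7,3,3] (.node (.node (.node .nil 8891594 [4,3,0,0] .nil) 8894549 [7,7,6,5] .nil) 8897303
  [0,1,2] (.node .nil 8902536 [2,5,7] .nil))) 8907305 [2,0,3] (.node (.node (.node (.node .nil
  8916911 [5,4,1] .nil) 8936915 [3,2,5,0] .nil) 8942829 [5,7,2,0] (.node .nil 8951542 [2,6] .nil))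
  8956759 [7,4,0] (.node (.node (.node .nil 8961992 [5,5,0] .nil) 8973748 [2,0,5,0] .nil) 8976683
  [2,6,3] (.node .nil 8994077 [2,5,2,6] .nil)))))) 8996447 [2,5,1] (.node (.node (.node (.node (.node
  (.node (.node .nil 9006945 [6,4,6,0] .nil) 9014650 [4,2,1] .nil) 9017829 [2,4,0] (.node .nil
  9023707 [1,7,5] .nil)) 9030553 [7,0,3,1] (.node (.node (.node .nil 9035526 [3,3,5] .nil) 9036455
  [7,1,0,0] .nil) 9041464 [0,6,7] (.node .nil 9058487 [2,3,4,4] .nil))) 9061365 [0,7] (.node (.node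
  (.node (.node .nil 9066346 [0,0,3,0] .nil) 9071307 [7,0,0] .nil) 9076308 [2,2,3,0] (.node .nil
  9083983 [2,5] .nil)) 9085422 [1,5,1,1] (.node (.node (.node .nil 9090417 [5,7,2,0] .nil) 9096755
  [7,1,3,0] .nil) 9099948 [2,0,0] (.node .nil 9103117 [0,7,1] .nil)))) 9106322 [2,2,4] (.node (.node
  (.node (.node (.node .nil 9117338 [0,1,5,1] .nil) 9118523 [2,4,0,2] .nil) 9123748 [1,0,6,1] (.node
  .nil 9129190 [5,0,5,1] .nil)) 9132153 [0,5,3,0] (.node (.node (.node .nil 9135576 [0,0,7,1] .nil)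
  9138503 [2,2,5,0] .nil) 9144259 [0,0,4] (.node .nil 9147228 [4,3,3,0] .nil))) 9157218 [7,0,0]
  (.node (.node (.node (.node .nil 9168926 [1,6,6,4] .nil) 9174145 [5,6,2,0] .nil) 9181917 [2,5,2]
  (.node .nil 9185148 [0,7,4,4] .nil)) 9188323 [7,1,1] (.node (.node (.node .nil 9198654 [6,6,5,4]
  .nil) 9200031 [0,7,2] .nil) 9213723 [2,4,5,0] (.node .nil 9218746 [5,2,5,1] .nil))))) 9223717
  [6,4,2,3] (.node (.node (.node (.node (.node (.node .nil 9225575 [1,7,0] .nil) 9228792 [0,1,0,1]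
  .nil) 9235545 [5,5,1,4] (.node .nil 9238726 [1,5,0,0] .nil)) 9246158 [5,2,2,0] (.node (.node (.node
  .nil 9250927 [6,2,3] .nil) 9256176 [5,4,3] .nil) 9258930 [2,5,1] (.node .nil 9261869 [7,6,0]
  .nil))) 9268876 [5,7,2,3] (.node (.node (.node (.node .nil 9271827 [1,0,6,2] .nil) 9276567
  [2,6,1,5] .nil) 9282985 [6,6,4,0] (.node .nil 9285942 [7,0,3,5] .nil)) 9292404 [0,1] (.node (.node
  (.node .nil 9298762 [1,1,1,1] .nil) 9307387 [4,4,6,0] .nil) 9317829 [6,4,4,2] (.node .nil 9320794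
  [3,5,3,3] .nil)))) 9328263 [6,7] (.node (.node (.node (.node (.node .nil 9333542 [2,3,5,7] .nil)
  9341245 [4,0,0,0] .nil) 9346466 [0,7,1,2] (.node .nil 9352348 [2,0,4,3] .nil)) 9362241 [7,1] (.node
  (.node (.node .nil 9365216 [0,3,0,0] .nil) 9374696 [0,7,6] .nil) 9380566 [6,4,1,1] (.node .nil
  9385545 [6,2,6,0] .nil))) 9391371 [7,2,1,2] (.node (.node (.node (.node .nil 9394580 [4,4,1,5]
  .nil) 9397301 [2,5,1] .nil) 9400490 [5,0,7,0] (.node .nil 9405998 [5,2,2,0] .nil)) 9409201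
  [4,6,6,1] (.node (.node (.node .nil 9416464 [0,0,7,1] .nil) 9421005 [0,7,6] .nil) 9426002 [0,6,0,3]
  (.node .nil 9445214 [6,4,0] .nil))))))) 9446143 [3,5,5] (.node (.node (.node (.node (.node (.node
  (.node (.node .nil 9460157 [3,0] .nil) 9482041 [2,6,2,1] .nil) 9485222 [0,7,4] (.node (.node .nil
  9491579 [1,2,6] .nil) 9497050 [2,1,6] .nil)) 9502021 [1,2] (.node (.node (.node .nil 9514476
  [3,7,4,0] .nil) 9517427 [0,7,4] .nil) 9524910 [3,6,5] (.node .nil 9530127 [3,4,1,0] .nil))) 9535376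
  [2,2,0,3] (.node (.node (.node (.node .nil 9543051 [4,3,1] .nil) 9548981 [0,5,1,1] .nil) 9558888
  [0,3,2] (.node .nil 9561801 [0,3,6] .nil)) 9564758 [1,1,3] (.node (.node (.node .nil 9573863
  [3,6,0,0] .nil) 9583833 [1,4,4,3] .nil) 9586587 [0,6,1] (.node .nil 9596581 [3,2,7,6] .nil))))
  9599546 [3,7,0] (.node (.node (.node (.node (.node .nil 9604286 [4,1,0,2,0] .nil) 9613599 [2,3,1]
  .nil) 9620061 [0,6,3] (.node .nil 9625282 [4,0,4] .nil)) 9626467 [6,0] (.node (.node (.node .nil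
  9637483 [4,0,3,0] .nil) 9640692 [4,4,4] .nil) 9643861 [5,1,4,0] (.node .nil 9647050 [1,1,1] .nil)))
  9657367 [3,7,2,1] (.node (.node (.node (.node .nil 9658806 [1,1,3] .nil) 9663785 [7,4,5,3] .nil)
  9667501 [0,2,4] (.node .nil 9672498 [5,4,5,3] .nil)) 9677459 [3,4,1,0] (.node (.node (.node .nil
  9682444 [7,5,6] .nil) 9684302 [3,2,5] .nil) 9687505 [6,5,3,1] (.node .nil 9694320 [3,3,4,0]
  .nil))))) 9707187 [0,0,0] (.node (.node (.node (.node (.node (.node .nil 9713549 [6,0,3] .nil)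
  9718991 [3,7,7] .nil) 9725425 [7,3,2,0] (.node .nil 9728366 [7,5,3] .nil)) 9734122 [4,2,3,1] (.node
  (.node (.node .nil 9737077 [1,7,4,2] .nil) 9744084 [7,4,5,0] .nil) 9747019 [7,6] (.node .nil
  9754006 [4,6,0] .nil))) 9758775 [4,2,6,3] (.node (.node (.node (.node .nil 9764008 [6,6,0,0] .nil)
  9766207 [2,2,6,4] .nil) 9779358 [3,2,2,5,0] (.node .nil 9782236 [1,5,0] .nil)) 9787203 [4,3,3]
  (.node (.node (.node .nil 9792226 [2,6,0,0] .nil) 9799929 [7,5,0,0] .nil) 9804902 [4,2,3,3] (.node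
  .nil 9806279 [3,7,5] .nil)))) 9811288 [6,4,1,6] (.node (.node (.node (.node (.node .nil 9817626
  [4,3,3] .nil) 9820805 [0,1,1] .nil) 9824036 [6,0,6,3] (.node .nil 9841067 [2,2,1] .nil)) 9846068
  [4,2,2,1] (.node (.node (.node .nil 9848438 [1,2,0,2,0] .nil) 9851625 [1,4,0] .nil) 9858888
  [3,3,5,4] (.node .nil 9866579 [4,2,2,1] .nil))) 9869772 [4,7,6] (.node (.node (.node (.node .nil
  9872493 [5,2,6,7] .nil) 9875698 [6,0] .nil) 9882544 [3,1,4] (.node .nil 9888398 [7,0,4,1] .nil))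
  9893393 [5,0,2,5,0] (.node (.node (.node .nil 9899910 [1,7,2,0] .nil) 9902873 [1,5,7,0] .nil)
  9905848 [2,7,7,0] (.node .nil 9908775 [7,5,6,3] .nil)))))) 9914725 [1,4,4,5] (.node (.node (.node
  (.node (.node (.node (.node .nil 9920603 [0,3,3,1] .nil) 9925828 [5,0,0] .nil) 9946275 [6,4,3,1]
  (.node .nil 9949244 [5,5,6] .nil)) 9959682 [6,0,3,2] (.node (.node (.node .nil 9975226 [0,1,0]
  .nil) 9981688 [3,0] .nil) 9984615 [4] (.node .nil 9988038 [6,1,4,1] .nil))) 9991001 [0,1,0] (.node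
  (.node (.node (.node .nil 9995741 [4,3] .nil) 10005731 [3,6,5,2] .nil) 10008700 [3,7,0,2] (.node
  .nil 10011454 [7,2,7,0] .nil)) 10016673 [2,4,2,0] (.node (.node (.node .nil 10032023 [4,1] .nil)
  10038838 [3,6,5] .nil) 10042025 [2,0,1,6] (.node .nil 10043883 [5,0] .nil)))) 10048884 [7,2,7,0]
  (.node (.node (.node (.node (.node .nil 10053845 [6,7,2,0] .nil) 10058826 [5,5,0] .nil) 10062542
  [4,5,4] (.node .nil 10067537 [3,0,2] .nil)) 10068976 [5,3,4,3] (.node (.node (.node .nil 10079277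
  [3,6,5] .nil) 10082482 [5,7,1,6] .nil) 10085651 [5,2,1,4] (.node .nil 10088844 [1,6,0] .nil)))
  10098237 [7,6,3,1,0] (.node (.node (.node (.node .nil 10103708 [5,6,0,4] .nil) 10108675 [5,1,0,0]
  .nil) 10113246 [6,2,4,1] (.node .nil 10123744 [1,4,4,1] .nil)) 10129252 [6,3,3,0] (.node (.node
  (.node .nil 10135130 [2,3,1] .nil) 10138309 [7,5] .nil) 10144135 [5,3,1,0] (.node .nil 10149144
  [4,6,2,1] .nil))))) 10150073 [0,5,5,5,0] (.node (.node (.node (.node (.node (.node .nil 10155046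
  [5,2,4,1,0] .nil) 10161585 [3,0] .nil) 10164526 [0,2,3,0] (.node .nil 10167439 [4,6,7] .nil))
  10177362 [7,3,3,0] (.node (.node (.node .nil 10183276 [1,6,7,0] .nil) 10190967 [1,2,1,0] .nil)
  10196200 [3,2,5] (.node .nil 10201417 [3,5,1,1] .nil))) 10208916 [3,6,1] (.node (.node (.node
  (.node .nil 10211851 [1,1,0,0] .nil) 10226166 [3,5,3,1] .nil) 10231145 [1,6,7,7] (.node .nil
  10237015 [7,6,1,5] .nil)) 10243861 [3,2,5,0] (.node (.node (.node .nil 10247050 [4,1,2] .nil)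
  10249771 [3,1,5] .nil) 10252980 [2,6,3,2] (.node .nil 10260655 [5,7,0] .nil)))) 10267918 [5,0,3,1]
  (.node (.node (.node (.node (.node .nil 10271121 [1,4,7,2] .nil) 10273491 [4,6,7,0] .nil) 10278476
  [7,2] (.node .nil 10290917 [7,6,0] .nil)) 10293882 [4,5,2,3] (.node (.node (.node .nil 10304324
  [7,4,4,1] .nil) 10310809 [3,3,1,0] .nil) 10316088 [7,5,3] (.node .nil 10324771 [0,3,6,0] .nil)))
  10330653 [0,6,2,2] (.node (.node (.node (.node .nil 10335874 [0,7,5] .nil) 10341824 [1,2,7,0] .nil)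
  10350689 [1,6,1,4] (.node .nil 10355535 [6,6,4] .nil)) 10360784 [2,1,3,5] (.node (.node (.node .nil
  10365553 [2,2,1] .nil) 10372524 [5,3,7,3] .nil) 10375475 [7,5,2,1] (.node .nil 10382482 [6,1,7]
  .nil)))))))) 10385421 [1,5,3,2] (.node (.node (.node (.node (.node (.node (.node (.node (.node .nil
  10391177 [3,7,7] .nil) 10394134 [7,7,1,5] .nil) 10400552 [7,3,6,0] (.node (.node .nil 10405994
  [4,7,5,1] .nil) 10412372 [2,6,5,2] .nil)) 10423388 [4,5,4] (.node (.node (.node .nil 10426563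
  [4,2,2,3] .nil) 10429794 [3,5,2,0] .nil) 10444320 [7,6,0] (.node .nil 10445697 [2,0] .nil)))
  10453402 [4,1] (.node (.node (.node (.node .nil 10458373 [7,6,6,5] .nil) 10463396 [1,5,3] .nil)
  10501820 [4,1,1,0] (.node .nil 10503678 [3,0,1] .nil)) 10516575 [0,2,6] (.node (.node (.node .nil
  10522331 [7,0,3] .nil) 10528741 [1] .nil) 10531706 [2,1,2] (.node .nil 10542247 [1,2,2] .nil))))
  10548633 [6,6,6] (.node (.node (.node (.node (.node .nil 10564015 [1,1,2] .nil) 10570477 [5,2,1,1]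
  .nil) 10575474 [0,3] (.node .nil 10576851 [4,7,4] .nil)) 10581836 [6,4,3] (.node (.node (.node .nil
  10589527 [3,2,4,0] .nil) 10594550 [4,2,1,3] .nil) 10599529 [4,6,5] (.node .nil 10602283 [1,6,4,0]
  .nil))) 10605492 [5,1,7,3] (.node (.node (.node (.node .nil 10612245 [2,2,6,0,0] .nil) 10615434
  [7,6,1] .nil) 10624315 [2,1] (.node .nil 10637127 [0,2,1] .nil)) 10640344 [6,7,4] (.node (.node
  (.node .nil 10643065 [2,1,2] .nil) 10646246 [6,3,4,0] .nil) 10653949 [7,6,5,0] (.node .nil 10661212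
  [7,6,1,3] .nil))))) 10664387 [3,1] (.node (.node (.node (.node (.node (.node .nil 10671646
  [0,6,0,0] .nil) 10682144 [6,6,1,0] .nil) 10684087 [6,5,7,1,0] (.node .nil 10694537 [0,1,3,6] .nil))
  10697494 [2,0,5,2] (.node (.node (.node .nil 10704075 [1,0,4,0] .nil) 10709354 [7,7,7] .nil)
  10718065 [4,2,0,1,0] (.node .nil 10723919 [5,1,7] .nil))) 10729168 [6,7,0,1] (.node (.node (.node
  (.node .nil 10734994 [6,1,2,1] .nil) 10737933 [5,3,5] .nil) 10740908 [0,7,4,0] (.node .nil 10743859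
  [1,3,3,1] .nil)) 10753647 [3,3,0] (.node (.node (.node .nil 10759118 [2,3,0] .nil) 10764113
  [1,1,2,0] .nil) 10775853 [2,0,0,0] (.node .nil 10779058 [1,6,0,0,0] .nil)))) 10784566 [4,0,4,0]
  (.node (.node (.node (.node (.node .nil 10787753 [7,1,2] .nil) 10793623 [0,4,3] .nil) 10799573
  [1,7,3] (.node .nil 10804554 [7] .nil)) 10805483 [6,6,5] (.node (.node (.node .nil 10810484 [6,2,5]
  .nil) 10816995 [4,3,3,3,0] .nil) 10819964 [6,4,2,2] (.node .nil 10822877 [0,2,3,1] .nil))) 10838590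
  [7,7,1,0] (.node (.node (.node (.node .nil 10843809 [2,4,3,3] .nil) 10851514 [1,3,0,2] .nil)
  10856731 [6,4] (.node .nil 10861956 [6,3,0] .nil)) 10864326 [3,4] (.node (.node (.node .nil
  10867289 [5,7] .nil) 10886358 [6,7,3,0] .nil) 10887543 [6,6,5] (.node .nil 10892776 [2,2,6,0]
  .nil)))))) 10899114 [5,5,2,0] (.node (.node (.node (.node (.node (.node (.node .nil 10902069
  [7,6,4,3] .nil) 10905492 [7,2,0,5] .nil) 10908427 [5,6,3] (.node .nil 10913167 [2,4,1,1] .nil))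
  10923185 [4,4,2] (.node (.node (.node .nil 10926126 [1,2,0,1] .nil) 10929004 [6,3,0,0] .nil)
  10938962 [6,2,1,3] (.node .nil 10946394 [4,1,4,0] .nil))) 10949573 [7,3,1] (.node (.node (.node
  (.node .nil 10956388 [2,0,3] .nil) 10961337 [3,4,3] .nil) 10966310 [7,2,3,3] (.node .nil 10971271
  [2,0,3,2] .nil)) 10976280 [7,7,0] (.node (.node (.node .nil 10979996 [2,4,5,2] .nil) 10984963
  [0,2,5,4] .nil) 10986402 [5,3,5,7] (.node .nil 11000032 [2,1,3,0] .nil)))) 11003201 [7,6,5,2]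
  (.node (.node (.node (.node (.node .nil 11020793 [6,6,3,1] .nil) 11025766 [4,2,5] .nil) 11031227
  [1,2,5] (.node .nil 11038490 [3,1,1,2] .nil)) 11041669 [3,3,2] (.node (.node (.node .nil 11049374
  [2,1,1] .nil) 11052095 [4,5,3,2,0] .nil) 11062242 [0,5,2,2] (.node .nil 11068124 [1,7,0,0] .nil)))
  11073091 [7,4,0,1] (.node (.node (.node (.node .nil 11079636 [2,5,3] .nil) 11082571 [0,2] .nil)
  11085546 [7,4,2] (.node .nil 11088501 [7,4,6,4] .nil)) 11094327 [0,6,2,5] (.node (.node (.node .nil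
  11099560 [5,1,7,1] .nil) 11105430 [3,6,6,0] .nil) 11114125 [7,2,1] (.node .nil 11119404 [3,5,2]
  .nil))))) 11126001 [5,3,5,0] (.node (.node (.node (.node (.node (.node .nil 11128942 [3,7,5,0]
  .nil) 11139408 [7,3,7] .nil) 11143806 [1,7,2,6] (.node .nil 11149025 [2,1,0,3] .nil)) 11160733
  [7,0,3] (.node (.node (.node .nil 11167139 [0,0,0,0,0] .nil) 11170108 [0,7] .nil) 11175864 [6,1,0]
  (.node .nil 11178791 [1,6,1] .nil))) 11185798 [7,1,7] (.node (.node (.node (.node .nil 11188761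
  [7,4,0] .nil) 11190619 [3,4,0] .nil) 11195844 [3,6,3] (.node .nil 11200613 [1,3,1,2] .nil))
  11208045 [2,2,4,1] (.node (.node (.node .nil 11211250 [2,5,3,3] .nil) 11218003 [3,4,0] .nil)
  11221196 [4,5,5,5,0] (.node .nil 11223950 [0,4,4] .nil)))) 11228945 [4,2,7,2] (.node (.node (.node
  (.node (.node .nil 11233968 [0,4,4] .nil) 11241643 [0,4,4] .nil) 11246644 [3,7,3,0] (.node .nil
  11248021 [5,2,4,3] .nil)) 11253002 [6,7,2] (.node (.node (.node .nil 11259464 [3,7,3,0] .nil)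
  11277749 [7,0,7,4] .nil) 11287691 [7,3,6,4] (.node .nil 11290569 [2,3,2,0] .nil))) 11293526 [1,4,7]
  (.node (.node (.node (.node .nil 11303528 [5,4,2,1] .nil) 11308268 [5,0,2,7] .nil) 11311219 [1,7,3]
  (.node .nil 11314642 [1,1,7,5] .nil)) 11317581 [3,1,1] (.node (.node (.node .nil 11323919 [5,3,3,5]
  .nil) 11329168 [7] .nil) 11330353 [6,2,5,2] (.node .nil 11341369 [5,7] .nil))))))) 11344550
  [5,2,5,3] (.node (.node (.node (.node (.node (.node (.node (.node .nil 11347719 [2,6,1,1] .nil)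
  11350936 [3,2,6,1] .nil) 11356378 [5,2,7,2,0] (.node (.node .nil 11361349 [0,6,0] .nil) 11362788
  [4,7,0,1] .nil)) 11376480 [1,0,6,3] (.node (.node (.node .nil 11381441 [1,1,5,3] .nil) 11388188
  [2,3,2,0] .nil) 11391363 [7,1,6] (.node .nil 11398178 [7,4,0,1] .nil))) 11406227 [7,4,6,5] (.node
  (.node (.node (.node .nil 11411212 [0,3,1,4] .nil) 11412141 [3,5,6,0] .nil) 11417138 [7,1,1] (.node
  .nil 11423088 [0,2,6,0] .nil)) 11428942 [4,4,5,0,0] (.node (.node (.node .nil 11432145 [2,4,6,6,0]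
  .nil) 11437653 [5,3,3,0,0] .nil) 11440842 [2,7,7,3] (.node .nil 11452598 [1,6,1] .nil)))) 11457577
  [2,7,1,2,0] (.node (.node (.node (.node (.node .nil 11463048 [1,0,0,5] .nil) 11472927 [7,7,7,7]
  .nil) 11483425 [6,2,3] (.node .nil 11485795 [6,3,0,0] .nil)) 11503942 [7,5,4] (.node (.node (.node
  .nil 11509880 [5,1,7] .nil) 11530756 [5,4,0] .nil) 11546007 [5,7,1] (.node .nil 11556565 [4,0,0,2]
  .nil))) 11561844 [1,5,4,3] (.node (.node (.node (.node .nil 11569519 [5,6,5] .nil) 11574768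
  [7,0,6,7,0] .nil) 11580622 [3,1,6] (.node .nil 11587468 [7,2,2] .nil)) 11590419 [2,6,0] (.node
  (.node (.node .nil 11593394 [5,3,1,4] .nil) 11596333 [5,2,1] .nil) 11602874 [0,3,2] (.node .nil
  11607845 [4,6,5,2] .nil))))) 11613723 [3,4,7] (.node (.node (.node (.node (.node (.node .nil
  11619673 [5,3,0,0] .nil) 11622854 [6,5,0] .nil) 11625575 [7,5,3,6] (.node .nil 11628792 [4,5,2]
  .nil)) 11634300 [1,3,0] (.node (.node (.node .nil 11637475 [3,0,7] .nil) 11644738 [6,4,3] .nil)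
  11649183 [1,4] (.node .nil 11659681 [0,5,2] .nil))) 11672207 [7,7] (.node (.node (.node (.node .nil
  11675438 [5,0,4,0] .nil) 11678641 [6,0,2,2] .nil) 11684083 [0,1,7] (.node .nil 11689068 [3,2,1]
  .nil)) 11690445 [3,3] (.node (.node (.node .nil 11695442 [2,4,6,2] .nil) 11699158 [2,3,3] .nil)
  11704137 [5,1,5] (.node .nil 11709160 [1,0,5,0] .nil)))) 11715893 [1,7,4,3] (.node (.node (.node
  (.node (.node .nil 11719082 [1,6,3] .nil) 11725835 [3,5,4] .nil) 11729044 [6,5,6,4] (.node .nil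
  11736476 [2,7,3,1] .nil)) 11741245 [1,6] (.node (.node (.node .nil 11746466 [6,1,4] .nil) 11749344
  [4,1,3,5] .nil) 11762241 [4,2,4] (.node .nil 11766981 [2,7,0,4] .nil))) 11769946 [1,1,3,3,0] (.node
  (.node (.node (.node .nil 11776356 [5,0,0,3] .nil) 11782694 [6,5,0] .nil) 11789080 [4,5] (.node
  .nil 11801051 [4,1,1] .nil)) 11807866 [3,1,6] (.node (.node (.node .nil 11811045 [6,0,5,3,0] .nil)
  11813799 [3,4,2] .nil) 11818808 [1,4,2,1] (.node .nil 11823769 [2,3,7,0] .nil)))))) 11828742 [1,2]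
  (.node (.node (.node (.node (.node (.node (.node .nil 11836445 [2,6,0] .nil) 11837884 [0,7,0,1]
  .nil) 11842851 [1] (.node .nil 11849313 [4,1,5] .nil)) 11858880 [3,6,0] (.node (.node (.node .nil
  11864663 [2,1,1,3] .nil) 11869896 [5,6,3,4] .nil) 11871081 [5,2,1] (.node .nil 11881652 [0,3]
  .nil))) 11884587 [5,3,4,0] (.node (.node (.node (.node .nil 11888010 [1,0,7,4] .nil) 11890965
  [1,0,5] .nil) 11896721 [0,0,6,1] (.node .nil 11899662 [7,0,4] .nil)) 11909680 [4,5,0,1] (.node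
  (.node (.node .nil 11911538 [6,3,1,0] .nil) 11921484 [7,3,1,2] .nil) 11934562 [5,2,5] (.node .nil
  11937475 [4,7,5] .nil)))) 11940444 [0,5,2,0] (.node (.node (.node (.node (.node .nil 11946270
  [4,0,6,2,0] .nil) 11951489 [0,4,2] .nil) 11960891 [6,5,3,5] (.node .nil 11966116 [1,1,7,2] .nil))
  11971333 [4,6,2] (.node (.node (.node .nil 11977944 [0,0,3,7] .nil) 11980871 [5,6,1] .nil) 11993326
  [7,0,4] (.node .nil 11998321 [3,3,0] .nil))) 12003792 [7,3,1] (.node (.node (.node (.node .nil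
  12011021 [2,2,4,5] .nil) 12014226 [2,4,5] .nil) 12029224 [7,0,4] (.node .nil 12035094 [6,2,2,0]
  .nil)) 12038281 [7,3,1] (.node (.node (.node .nil 12060531 [0,5,6] .nil) 12063724 [0,1,0,2] .nil)
  12070477 [0,5,5,1] (.node .nil 12073682 [5,0,7,6] .nil))))) 12080399 [1,2,1] (.node (.node (.node
  (.node (.node (.node .nil 12085422 [1,6,2,1] .nil) 12090417 [0,1,0] .nil) 12094133 [2,6,7,0] (.node
  .nil 12099114 [3,0,0,3] .nil)) 12100491 [2,1,5] (.node (.node (.node .nil 12105492 [6,6,6] .nil)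
  12110934 [4,6,3] .nil) 12114121 [5,4,7] (.node .nil 12117352 [4,0,7,3] .nil))) 12132702 [7,3,7,2]
  (.node (.node (.node (.node .nil 12137921 [4,5,1,1] .nil) 12144259 [1,2,3] .nil) 12147228 [6,5,7,0]
  (.node .nil 12153634 [6,4,1] .nil)) 12158374 [7,2,3] (.node (.node (.node .nil 12161337 [3,3,6,6]
  .nil) 12168344 [5,5,0] .nil) 12171271 [0,4,4,3] (.node .nil 12174149 [0,4,5,0] .nil)))) 12193226
  [6,3,4] (.node (.node (.node (.node (.node .nil 12196181 [4,0,5,0] .nil) 12199156 [3,6,3] .nil)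
  12202091 [3,3,2,2] (.node .nil 12208937 [6,7,3,3] .nil)) 12214807 [4,1,7,0] (.node (.node (.node
  .nil 12220040 [3,6,3] .nil) 12227731 [3,3,7] .nil) 12233010 [4,4,3,0] (.node .nil 12243568
  [2,2,4,6] .nil))) 12255961 [1,4,2,2] (.node (.node (.node (.node .nil 12260934 [1,4,2] .nil)
  12272698 [1,4] .nil) 12275877 [1,7,7,2] (.node .nil 12283140 [6,4,3] .nil)) 12295040 [5,0,2] (.node
  (.node (.node .nil 12297761 [0,7,4,0] .nil) 12312770 [1,4,1,2,0] .nil) 12322462 [7,2] (.node .nil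
  12332960 [1] .nil))))))))) 12337277 [4,5,6,0] (.node (.node (.node (.node (.node (.node (.node
  (.node (.node (.node .nil 12342498 [3,0,4,0] .nil) 12347715 [2,0,4,0] .nil) 12356440 [2,1,7,4]
  (.node (.node .nil 12362342 [5,6,0,0] .nil) 12376356 [1,0,3,3] .nil)) 12379269 [6,1,4,1] (.node
  (.node (.node .nil 12382234 [4,1,3] .nil) 12388749 [7,6,2,1] .nil) 12393746 [7] (.node .nil
  12394675 [2,1,5] .nil))) 12399660 [5,0,2,1] (.node (.node (.node (.node .nil 12412496 [2,6,1,1]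
  .nil) 12420171 [5,4,3,1] .nil) 12423380 [3,1,0,0] (.node .nil 12436136 [6,4,1,2] .nil)) 12454951
  [1,3,7] (.node (.node (.node .nil 12458168 [2,3] .nil) 12461337 [4,7,5] .nil) 12464518 [5,3,7]
  (.node .nil 12470980 [4,6] .nil)))) 12485089 [1,3,7] (.node (.node (.node (.node (.node .nil
  12500032 [0,4,2] .nil) 12502786 [7,4,4] .nil) 12518196 [3,0,3,1] (.node .nil 12528138 [3,1,2,1]
  .nil)) 12538184 [2,5,3,1] (.node (.node (.node .nil 12568593 [5,6,1] .nil) 12598171 [6,5,2] .nil)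
  12610023 [2,5,4,1] (.node .nil 12615032 [3,6,4] .nil))) 12618748 [4,0,1] (.node (.node (.node
  (.node .nil 12623715 [6,3] .nil) 12629597 [3,6,3,0] .nil) 12635423 [3,6,4] (.node .nil 12644542
  [5,2] .nil)) 12656054 [6,6,7,0] (.node (.node (.node .nil 12668874 [2,7,6,0] .nil) 12671829 [6,1,1]
  .nil) 12674804 [6,0,6,1] (.node .nil 12677739 [4,4,0,0] .nil))))) 12682479 [4,0] (.node (.node
  (.node (.node (.node (.node .nil 12692945 [6,5,6,0] .nil) 12695886 [4,0,2] .nil) 12703379 [3,7,3]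
  (.node .nil 12708658 [0,7,0,4,0] .nil)) 12723645 [3,2,2] (.node (.node (.node .nil 12739422
  [4,7,6,0] .nil) 12744641 [5,1,1] .nil) 12752346 [5,5,3] (.node .nil 12757115 [1,0,4,1] .nil)))
  12762340 [6,2,1,2] (.node (.node (.node (.node .nil 12765094 [3,2,2] .nil) 12768057 [5,4,5,0] .nil)
  12775064 [6,3,2] (.node .nil 12777991 [4,7,3] .nil)) 12785423 [7,3,4,0] (.node (.node (.node .nil
  12790446 [3,3,1,1] .nil) 12795441 [6,3] .nil) 12797299 [4,3,4,3] (.node .nil 12800492 [6,3,3]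
  .nil)))) 12807245 [0,7,0,0] (.node (.node (.node (.node (.node .nil 12810450 [4,6,7,1] .nil)
  12815958 [3,0,6,0] .nil) 12819145 [4,6,4] (.node .nil 12822376 [2,0,6,0] .nil)) 12830901 [4,5,7]
  (.node (.node (.node .nil 12835882 [0,1,6] .nil) 12837259 [2,0,2] .nil) 12842260 [5,3,6,0] (.node
  .nil 12847063 [1,4,0,0] .nil))) 12857065 [0,5,0] (.node (.node (.node (.node .nil 12860022
  [0,7,2,3] .nil) 12866987 [7,0,1,0] .nil) 12876949 [6,3,6,4] (.node .nil 12885646 [1,5,7] .nil))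
  12886831 [4,4,1] (.node (.node (.node .nil 12892080 [6,6,3,2] .nil) 12897522 [6,6,3] .nil) 12900461
  [1,3,4] (.node .nil 12903884 [6] .nil)))))) 12906835 [4,5,0] (.node (.node (.node (.node (.node
  (.node (.node .nil 12917851 [0,6,1,4] .nil) 12919290 [6,1,5] .nil) 12924261 [5,5,2,3] (.node .nil
  12930599 [7,2,3,1] .nil)) 12933816 [2,0,6,7] (.node (.node (.node .nil 12936985 [5,1] .nil)
  12940166 [5,1] .nil) 12947869 [6,7,1,0] (.node .nil 12954684 [6,4,0,1] .nil))) 12957859 [5,2,6]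
  (.node (.node (.node (.node .nil 12960737 [4,1,4] .nil) 12975680 [2,0,1] .nil) 12979566 [6,5,4]
  (.node .nil 12982769 [6,6,0,7] .nil)) 12988623 [2,2,1,1] (.node (.node (.node .nil 12995469
  [3,1,0,1] .nil) 13000466 [5,6,2,2] .nil) 13001395 [0,6,7,6,0] (.node .nil 13006380 [2,7] .nil))))
  13014071 [4,2,7,0] (.node (.node (.node (.node (.node .nil 13019542 [5,1,7,0] .nil) 13024521
  [5,1,3] .nil) 13026891 [4,2,0] (.node .nil 13030100 [5,6] .nil)) 13042301 [0,6,4,3] (.node (.node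
  (.node .nil 13047522 [1,5,0,4] .nil) 13052739 [0,0,5] .nil) 13059230 [6,2,7,1] (.node .nil 13069728
  [2,5,7] .nil))) 13081380 [0,0,5,2] (.node (.node (.node (.node .nil 13084293 [4,3,2,1,0] .nil)
  13087258 [2,7,3,7] .nil) 13093208 [7,4,1,0] (.node .nil 13099110 [5,3,2] .nil)) 13111679 [7,5,0]
  (.node (.node (.node .nil 13118686 [2,7,1,3] .nil) 13129628 [6,6] .nil) 13134397 [7,4,7,0] (.node
  .nil 13139618 [0,7,3,3] .nil))))) 13147321 [6,2,7] (.node (.node (.node (.node (.node (.node .nil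
  13153671 [3,0,5,0] .nil) 13160133 [7,2,6] .nil) 13163098 [3,2,4,1] (.node .nil 13169508 [3,4,5,0]
  .nil)) 13175539 [0,7,1,5] (.node (.node (.node .nil 13180524 [2,1,1,4] .nil) 13181901 [1,3,3] .nil)
  13186898 [5,5,2,1] (.node .nil 13195407 [1,5,6,1] .nil))) 13198638 [0,5,4,0] (.node (.node (.node
  (.node .nil 13201841 [7,1,0,0] .nil) 13207349 [2,3,6,2] .nil) 13210538 [0,3,1,3] (.node .nil
  13217291 [3,2,4] .nil)) 13220500 [6,6,5,5] (.node (.node (.node .nil 13222358 [6,5,3] .nil)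
  13227337 [7,0,7] .nil) 13232360 [7,2,1,0] (.node .nil 13242201 [2,5] .nil)))) 13245382 [2,7,4]
  (.node (.node (.node (.node (.node .nil 13248103 [0,7,5,4] .nil) 13251320 [3,5,1] .nil) 13257146
  [3,5,1,2] (.node .nil 13262117 [1,5,6] .nil)) 13267995 [0,7,3] (.node (.node (.node .nil 13271711
  [5,5,1] .nil) 13282209 [2,7,3,0] .nil) 13288572 [2,0,4,1] (.node .nil 13291747 [0,6,4] .nil)))
  13299010 [5,2,6,1] (.node (.node (.node (.node .nil 13309141 [4,3,3,0] .nil) 13314420 [2,4,0] .nil)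
  13321897 [0,5,7,3,0] (.node .nil 13324854 [7,5,0] .nil)) 13335304 [4,0,6,0] (.node (.node (.node
  .nil 13340044 [0,2,0,3] .nil) 13342995 [1,0,6,1,1] .nil) 13345970 [6,4,2,0] (.node .nil 13348909
  [4,4,0,0] .nil))))))) 13361745 [4,3,4] (.node (.node (.node (.node (.node (.node (.node (.node .nil
  13380915 [4,3,0] .nil) 13384108 [7,1,3] .nil) 13386478 [7,1,3] (.node (.node .nil 13391473
  [3,6,1,1] .nil) 13396944 [0,5,1,4] .nil)) 13404619 [2,7,5,0] (.node (.node (.node .nil 13409620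
  [6,0,5,0] .nil) 13410549 [4,4,3] .nil) 13415530 [6,4,7,1] (.node .nil 13422376 [3,4,1,1] .nil)))
  13428246 [4,0,3,1] (.node (.node (.node (.node .nil 13431433 [3,5,3] .nil) 13437726 [2,7,1,0,0]
  .nil) 13442945 [6,6,6,0,0] (.node .nil 13457762 [6,2,2,1] .nil)) 13460675 [3,6,2] (.node (.node
  (.node .nil 13463644 [5,7,1,5] .nil) 13469400 [6,6] .nil) 13472327 [6,7,6] (.node .nil 13484091
  [1,1,4,2] .nil)))) 13489316 [1,1,4] (.node (.node (.node (.node (.node .nil 13494533 [1,1,1,1]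
  .nil) 13504180 [2,5,2] .nil) 13507115 [2,6,3,6] (.node .nil 13510538 [3,6] .nil)) 13513493
  [4,7,6,0] (.node (.node (.node .nil 13518935 [5,0,2,0] .nil) 13524168 [7,2,6] .nil) 13525353
  [6,0,3,0] (.node .nil 13534066 [5,5,1] .nil))) 13544012 [6,4,4] (.node (.node (.node (.node .nil
  13550993 [2,3,5,3] .nil) 13553934 [6,2,3,0] .nil) 13563952 [2,2,6] (.node .nil 13566375 [6,0,4]
  .nil)) 13571384 [4,3,3,0] (.node (.node (.node .nil 13576345 [7,5,1,1] .nil) 13581318 [3,2,4,2]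
  .nil) 13584196 [6,2,2,3] (.node .nil 13601889 [6,5,4] .nil))))) 13611456 [3,6,2,2] (.node (.node
  (.node (.node (.node (.node .nil 13617794 [6,7,6] .nil) 13646895 [3,0,3,0] .nil) 13649773 [4,5,5]
  (.node .nil 13652978 [1,7,3,0] .nil)) 13659731 [7,6,6] (.node (.node (.node .nil 13662924 [7,1,0]
  .nil) 13670615 [0,4,0] .nil) 13673846 [1,2,6] (.node .nil 13677033 [1,1] .nil))) 13683371 [7,7,2]
  (.node (.node (.node (.node .nil 13688372 [2,0,3,0,0] .nil) 13689749 [3,5,0,0] .nil) 13694730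
  [5,6,0] (.node .nil 13700765 [4,1,6] .nil)) 13707171 [1,5,2,3] (.node (.node (.node .nil 13710140
  [5,6,6,5] .nil) 13715582 [6,0,3,5] .nil) 13720801 [1,6,6,1] (.node .nil 13730651 [4,1,1,2] .nil))))
  13735876 [3,7,1] (.node (.node (.node (.node (.node .nil 13740645 [5,0,7] .nil) 13747640 [1,0,5,6]
  .nil) 13750567 [6,1,1,1] (.node .nil 13757574 [5,1,6,3] .nil)) 13760537 [2,7,0,0] (.node (.node
  (.node .nil 13765431 [0,4,0] .nil) 13770664 [1,0,1,4] .nil) 13776534 [1,5,2] (.node .nil 13782484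
  [5,7,5] .nil))) 13785419 [1,5] (.node (.node (.node (.node .nil 13788394 [6,7,0] .nil) 13791349
  [1,7,4] .nil) 13797105 [7,3,1,0,0] (.node .nil 13800046 [1,0,0] .nil)) 13810512 [4,6,2,3] (.node
  (.node (.node .nil 13816973 [4,5,0,0] .nil) 13822252 [6,7,2,5,0] .nil) 13832379 [2,6,7,2] (.node
  .nil 13839642 [1,5] .nil)))))) 13842821 [3,6,7] (.node (.node (.node (.node (.node (.node (.node
  .nil 13845191 [3,6,7] .nil) 13850200 [2,5,4,0] .nil) 13863394 [4,6,4] (.node .nil 13869276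
  [4,5,0,3] .nil)) 13874243 [7,1,0,2] (.node (.node (.node .nil 13881089 [0,5,5,2] .nil) 13890208
  [6,4,5] .nil) 13899004 [0,0,5,5] (.node .nil 13904221 [0,4,7,0] .nil))) 13909442 [3,4,6,2] (.node
  (.node (.node (.node .nil 13914655 [3,2,0] .nil) 13925153 [0,6,2,0] .nil) 13929893 [0,7,4,6] (.node
  .nil 13932858 [4,0,7,4] .nil)) 13935771 [3,1,5,3] (.node (.node (.node .nil 13945670 [2,0,7] .nil)
  13951608 [6,5,5] .nil) 13963120 [1,4,3] (.node .nil 13968974 [0,2,0,2] .nil)))) 13972177 [3,2,0]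
  (.node (.node (.node (.node (.node .nil 13978003 [6,1,1] .nil) 13982988 [3,3,0,0] .nil) 13983917
  [5,3] (.node .nil 13988914 [5,6,0] .nil)) 13992630 [6,7,1,0] (.node (.node (.node .nil 13997609
  [1,1,3,0] .nil) 14003080 [1,5,2,1] .nil) 14009429 [1,4,3,2] (.node .nil 14012618 [7,5,4,0] .nil)))
  14027482 [5,3,6] (.node (.node (.node (.node .nil 14032453 [2,1,6,1] .nil) 14033892 [5,3,2,2] .nil)
  14044217 [4,5,1,0] (.node .nil 14047398 [2,6,1,0] .nil)) 14050567 [4,2,0] (.node (.node (.node .nil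
  14053784 [2,7,4,0] .nil) 14059292 [5,4,2,0] .nil) 14062467 [2,3,4,0] (.node .nil 14069282 [4,4,1]
  .nil))))) 14079328 [0,2,5,0] (.node (.node (.node (.node (.node (.node .nil 14084289 [7,0,4,1]
  .nil) 14091721 [0,7,1,0] .nil) 14094678 [1,6,2,0] (.node .nil 14104680 [6,1,6] .nil)) 14107434
  [4,1,0,5] (.node (.node (.node .nil 14117396 [6,1,1] .nil) 14125071 [6,3,0,7] .nil) 14130320
  [6,4,6,5] (.node .nil 14131505 [5,3,2] .nil))) 14161611 [5,1,1,1] (.node (.node (.node (.node .nil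
  14166890 [3,1,3,5] .nil) 14173367 [2,3,6] .nil) 14183817 [6,2,2,2] (.node .nil 14186774 [5,4,7,2]
  .nil)) 14192530 [5,2,0] (.node (.node (.node .nil 14195469 [7,1,7,0] .nil) 14198444 [1,2,1,2] .nil)
  14201395 [7,5,7,0] (.node .nil 14207345 [7,7,6,0] .nil)))) 14213199 [4,3,6,2] (.node (.node (.node
  (.node (.node .nil 14218448 [6,5,1] .nil) 14224711 [1,6,0,2] .nil) 14227928 [6,5,3] (.node .nil
  14230649 [5,4,5] .nil)) 14233830 [1,5,4,2] (.node (.node (.node .nil 14240676 [7,2,5,6] .nil)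
  14246554 [0,0,2,0] .nil) 14251525 [4,4,1,0] (.node .nil 14259230 [5,1,1,1] .nil))) 14269728 [1,6,0]
  (.node (.node (.node (.node .nil 14272098 [4,7,0] .nil) 14289133 [4,2,2] .nil) 14294130 [4] (.node
  .nil 14295507 [2,0,0,1] .nil)) 14300492 [7,5,2,2] (.node (.node (.node .nil 14306830 [5,2,0,2]
  .nil) 14310033 [3,7,7,4,0] .nil) 14313264 [0,6,1] (.node .nil 14320939 [4,2,6,4] .nil))))))))
  14324148 [2,5,1,1] (.node (.node (.node (.node (.node (.node (.node (.node (.node .nil 14330901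
  [5,2,0] .nil) 14334090 [2,0,5,7] .nil) 14336968 [3,4,2,0] (.node (.node .nil 14357345 [1,0,0] .nil)
  14364352 [7,1,0] .nil)) 14369053 [0,2,0,1] (.node (.node (.node .nil 14374274 [0,5,7,4] .nil)
  14379043 [0,3,5] .nil) 14387768 [4,2,2] (.node .nil 14394118 [2,0,2] .nil))) 14407748 [6,5,2,1]
  (.node (.node (.node (.node .nil 14418873 [2,0,7,3] .nil) 14423846 [7,7,5,3] .nil) 14428807 [6,2]
  (.node .nil 14433816 [7,4,1,4] .nil)) 14435674 [2,4,7,6,0] (.node (.node (.node .nil 14438853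
  [6,6,3,0] .nil) 14445668 [6] .nil) 14457568 [1,3,3,0] (.node .nil 14460737 [6,2,2] .nil))))
  14469276 [2,3,5,1] (.node (.node (.node (.node (.node .nil 14474243 [2,5,5,1] .nil) 14475682
  [2,2,5] .nil) 14486698 [1,3,3,0] (.node .nil 14489653 [1,3,4] .nil)) 14493076 [6,2,0,1] (.node
  (.node (.node .nil 14496011 [3,7,5] .nil) 14502473 [2,7,5,0] .nil) 14516588 [5,7,0] (.node .nil
  14526546 [2,2,4,0] .nil))) 14537488 [1,5,0] (.node (.node (.node (.node .nil 14557246 [1,5,1,1]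
  .nil) 14562465 [7,5] .nil) 14578242 [6,6,4] (.node .nil 14582982 [7,7,1,1] .nil)) 14585945
  [1,0,6,4] (.node (.node (.node .nil 14598693 [2,1,6,5] .nil) 14616083 [1,7,5,0] .nil) 14619276
  [2,0,2,2] (.node .nil 14631152 [1,7,2,3] .nil))))) 14672904 [2,0,2] (.node (.node (.node (.node
  (.node (.node .nil 14687693 [2,5,7,0] .nil) 14693619 [3,6,4,2] .nil) 14700465 [3,5,7] (.node .nil
  14703406 [1,7] .nil)) 14706319 [4,3,1,0] (.node (.node (.node .nil 14724522 [3,4,4] .nil) 14727477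
  [5,4,3,0] .nil) 14729847 [5,4,4] (.node .nil 14735080 [0,0] .nil))) 14740297 [2,4] (.node (.node
  (.node (.node .nil 14750430 [7,4,7] .nil) 14760928 [1,2,2,3] .nil) 14767165 [1,4,6,3] (.node .nil
  14772636 [7,6,1] .nil)) 14777603 [4,0,2] (.node (.node (.node .nil 14781319 [2,5,0] .nil) 14786328
  [3,6,7,1] .nil) 14787257 [2,5,5,0] (.node .nil 14792230 [3,4,3,0] .nil)))) 14798180 [4,0] (.node
  (.node (.node (.node (.node .nil 14804058 [5,7,6] .nil) 14807237 [6,0,1,0] .nil) 14812139 [6,4,1,0]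
  (.node .nil 14817140 [6,5,1,1] .nil)) 14822101 [6,5,2] (.node (.node (.node .nil 14827082 [1,0,4,3]
  .nil) 14832023 [7,0,2] .nil) 14838838 [2,1] (.node .nil 14842025 [6,0,7] .nil))) 14847533 [3,4,4,2]
  (.node (.node (.node (.node .nil 14850738 [0,6,2,1,0] .nil) 14853907 [4,6,0,4] .nil) 14857100
  [1,2,4] (.node .nil 14862542 [0,0,1] .nil)) 14867537 [4,3,7,2] (.node (.node (.node .nil 14868976
  [0,7,6,0,0] .nil) 14879992 [3,5,7] .nil) 14882919 [2,7,2,3] (.node .nil 14886342 [7,6,5] .nil))))))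
  14889305 [7,0,2] (.node (.node (.node (.node (.node (.node (.node .nil 14895643 [0] .nil) 14900868
  [7,3,4,0] .nil) 14902053 [1,2,7,1] (.node .nil 14909758 [6,3,2,7] .nil)) 14914977 [0,1,6,2] (.node
  (.node (.node .nil 14930754 [5,2,4] .nil) 14944447 [2,0,1,0] .nil) 14955806 [4,1,0,0] (.node .nil
  14962268 [7,3,3,5] .nil))) 14965443 [1,6,4] (.node (.node (.node (.node .nil 14968674 [2,3,2,5,0]
  .nil) 14976377 [0,1,4] .nil) 14979558 [5] (.node .nil 14986311 [4,3,1,0] .nil)) 14989528 [0,4,3]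
  (.node (.node (.node .nil 14992282 [1,0,2] .nil) 14997253 [5,1,2] .nil) 15002276 [2,3,0] (.node
  .nil 15009708 [0,4,5] .nil)))) 15012659 [0,3,7,0,0] (.node (.node (.node (.node (.node .nil
  15019666 [5,1] .nil) 15022605 [5,4,2,5] .nil) 15024463 [2,4,1] (.node .nil 15029712 [1,1,7,1]
  .nil)) 15034481 [5,4,4] (.node (.node (.node .nil 15043178 [6,1,2,7] .nil) 15049556 [5,2,0,0,0]
  .nil) 15060105 [4,2,5,0] (.node .nil 15063062 [4,5,7,4,0] .nil))) 15069480 [2,3,0,2] (.node (.node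
  (.node (.node .nil 15079065 [6,4,6,1] .nil) 15084344 [2,0,1,0] .nil) 15090917 [2,7,2] (.node .nil
  15093882 [4,7,2,0] .nil)) 15104324 [3,1] (.node (.node (.node .nil 15110080 [3,4,1,5] .nil)
  15118945 [6,7,4,0] .nil) 15124771 [4,6,1,1] (.node .nil 15130653 [1,3,5] .nil))))) 15135874
  [1,2,0,5] (.node (.node (.node (.node (.node (.node .nil 15142165 [7,3,4,0] .nil) 15145354
  [3,3,4,2] .nil) 15148075 [2,7] (.node .nil 15151284 [0,5,5,0] .nil)) 15164104 [5,3,4,4] (.node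
  (.node (.node .nil 15171795 [3,7,6,0] .nil) 15176780 [5,2,7,1] .nil) 15189552 [1,2,2,0] (.node .nil
  15212055 [4,3,7] .nil))) 15213494 [5,6,4,2] (.node (.node (.node (.node .nil 15218473 [5,0,7,4]
  .nil) 15223915 [7,3,0] .nil) 15227124 [5,1,2,0] (.node .nil 15230293 [2,6,2] .nil)) 15233482
  [1,3,1] (.node (.node (.node .nil 15238990 [0,0,1,2] .nil) 15242193 [4,4,0] .nil) 15249008 [2,6]
  (.node .nil 15253933 [7,4] .nil)))) 15258930 [6,3,6] (.node (.node (.node (.node (.node .nil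
  15263891 [0,2,4,5,0] .nil) 15268876 [4,6,1] .nil) 15271323 [2,3,7,5] (.node .nil 15281317 [4,0]
  .nil)) 15284282 [4,7,3,0] (.node (.node (.node .nil 15287160 [5,6,4] .nil) 15297094 [3,5] .nil)
  15304797 [1,4,6] (.node .nil 15310018 [2,5,7,0] .nil))) 15311203 [7,4,2,2] (.node (.node (.node
  (.node .nil 15325729 [2,4,7,0] .nil) 15329152 [7,1,1,0] .nil) 15340718 [5,2,4,7] (.node .nil
  15345935 [0,0,1] .nil)) 15351184 [6,5,2] (.node (.node (.node .nil 15353554 [1,6,5] .nil) 15356493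
  [1,0,0,1] .nil) 15374696 [0,5,7] (.node .nil 15377609 [5,1,1] .nil))))))) 15380566 [6,3,5,3] (.node
  (.node (.node (.node (.node (.node (.node (.node .nil 15387412 [2,1,5,4] .nil) 15393322 [4,0,5,0,0]
  .nil) 15404834 [5,4,4,0] (.node (.node .nil 15410716 [5,2,3,0] .nil) 15413891 [0,1,2,0] .nil))
  15419841 [0,2] (.node (.node (.node .nil 15430752 [5,1,1] .nil) 15434468 [0,6,4] .nil) 15451143
  [5,4,3,5] (.node .nil 15454360 [0,2,2] .nil))) 15469413 [4,4,1,6] (.node (.node (.node (.node .nil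
  15475291 [3,5,3] .nil) 15480516 [0,4,1] .nil) 15486342 [6,5,4,3] (.node .nil 15489305 [6,7,1,3]
  .nil)) 15492280 [5,2] (.node (.node (.node .nil 15495207 [5] .nil) 15500963 [6,0,7,1] .nil)
  15503932 [7,0,5] (.node .nil 15514370 [3,3,6,0] .nil)))) 15533174 [4,0,7,0] (.node (.node (.node
  (.node (.node .nil 15536361 [4,5,0,4] .nil) 15543624 [3,2,4] .nil) 15549077 [7,7,0,0] (.node .nil
  15554058 [2,1,5,0] .nil)) 15567280 [5,1,4,1] (.node (.node (.node .nil 15573134 [2,6,5,3] .nil)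
  15578129 [5,1,2] .nil) 15598044 [1,0,2] (.node .nil 15603011 [0,5,1,0] .nil))) 15608034 [1,3,1]
  (.node (.node (.node (.node .nil 15618976 [0,3,5,0] .nil) 15625729 [6,4,4] .nil) 15633434 [2,5]
  (.node .nil 15636613 [7,4,2,5] .nil)) 15639844 [1,7,0] (.node (.node (.node .nil 15669840 [0,2]
  .nil) 15681580 [6,3,3] .nil) 15687954 [2,4,4,0] (.node .nil 15696649 [6,6,0,1] .nil))))) 15732454
  [4,5,5] (.node (.node (.node (.node (.node (.node .nil 15735417 [0,0,7,0] .nil) 15738840 [5,2,2,1]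
  .nil) 15741767 [5,1,6] (.node .nil 15752346 [7,1,4,1] .nil)) 15753531 [1,4,2,5] (.node (.node
  (.node .nil 15758756 [0,0,2,2] .nil) 15772190 [4,6,6,0] .nil) 15777409 [1,4,4] (.node .nil 15779267
  [4,2,0,2] .nil))) 15782236 [7,7,3] (.node (.node (.node (.node .nil 15792226 [1,5,3,0] .nil)
  15794677 [5,0,3,0] .nil) 15799658 [4,7,0,2] (.node .nil 15804619 [5,3,3,2] .nil)) 15809620 [5,3,3]
  (.node (.node (.node .nil 15812374 [2,2,0] .nil) 15815561 [5,3,1] .nil) 15822376 [4,6,5] (.node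
  .nil 15830067 [1,7,2] .nil)))) 15833260 [4,2,0,5] (.node (.node (.node (.node (.node .nil 15836429
  [5,3,3] .nil) 15839634 [3,4,7,2] .nil) 15846096 [7,7,3] (.node .nil 15860831 [2,5,3,7] .nil))
  15871329 [6,4,1,0] (.node (.node (.node .nil 15876796 [1,7,3,0] .nil) 15881763 [1,1,7] .nil)
  15887234 [0,4,0,3] (.node .nil 15894937 [3,3,3,0] .nil))) 15899910 [6,7,4,2] (.node (.node (.node
  (.node .nil 15900839 [5,4,0,1] .nil) 15905848 [3] .nil) 15918660 [2,4,6] (.node .nil 15928140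
  [5,0,0,1] .nil)) 15934066 [3,2,5,1] (.node (.node (.node .nil 15948080 [5,7,4,0] .nil) 15950993
  [7,0,2] .nil) 15953934 [2,5,0,2] (.node .nil 15959690 [0,5,5] .nil)))))) 15962645 [5,3,1] (.node
  (.node (.node (.node (.node (.node (.node .nil 15974505 [7,4,6] .nil) 15994635 [3,7,1,2] .nil)
  15997844 [1,6,7,1] (.node .nil 16000565 [3,5,1,0] .nil)) 16003754 [0,0,5,1] (.node (.node (.node
  .nil 16009704 [6,4,7] .nil) 16015574 [5,1,5,1] .nil) 16020553 [3,2,2,1] (.node .nil 16024269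
  [3,1,4,0] .nil))) 16029266 [7,1,2,0] (.node (.node (.node (.node .nil 16041006 [1,0,3] .nil)
  16044209 [3,2,7,0] .nil) 16051472 [2,2,2,1] (.node .nil 16061575 [2,4,1] .nil)) 16066854 [2,3,0]
  (.node (.node (.node .nil 16077412 [2,3,6,1] .nil) 16095553 [3,1,3,7] .nil) 16098528 [3,2,2,1]
  (.node .nil 16114179 [4,1,3,3] .nil)))) 16123314 [1,7,3,0] (.node (.node (.node (.node (.node .nil
  16126253 [1,4,0] .nil) 16133260 [2,2,3] .nil) 16136211 [1,3,5] (.node .nil 16139089 [4,5,3] .nil))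
  16156788 [3,3,3,0] (.node (.node (.node .nil 16163146 [5,6,3] .nil) 16177672 [6,3,5,2] .nil)
  16190113 [0,1,1] (.node .nil 16201472 [1,1,1] .nil))) 16206914 [0,0,4,0] (.node (.node (.node
  (.node .nil 16236932 [5,6,2,6] .nil) 16256316 [5,4,1] .nil) 16259491 [5,1,7,5] (.node .nil 16265373
  [0,6,6] .nil)) 16277312 [4,0,7,0,0] (.node (.node (.node .nil 16278241 [1,5,4] .nil) 16285946
  [0,5,1,2] .nil) 16290917 [1,0,2,1] (.node .nil 16296388 [5,4,7] .nil))))) 16303641 [7,0,1] (.node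
  (.node (.node (.node (.node (.node .nil 16306822 [3,6,3,1] .nil) 16319023 [1,3,2,1] .nil) 16324272
  [5,7,3,1] (.node .nil 16329489 [4,4,0] .nil)) 16336076 [7,2,3,2] (.node (.node (.node .nil 16339027
  [1,2,0,0] .nil) 16364104 [5,7,7,7] .nil) 16369930 [2,1,0,0] (.node .nil 16375860 [2,7,1,0] .nil)))
  16385925 [1,0,0,3] (.node (.node (.node (.node .nil 16388890 [7,6,7,1] .nil) 16398884 [3,3,2] .nil)
  16400742 [4,5,1] (.node .nil 16410712 [3,2,7] .nil)) 16419395 [2,4,5,1] (.node (.node (.node .nil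
  16436384 [7,7,2] .nil) 16445697 [3,4,4,1] .nil) 16451734 [1,7,1] (.node .nil 16456713 [4,3,1]
  .nil)))) 16458152 [7,7,1] (.node (.node (.node (.node (.node .nil 16483664 [4,2,7] .nil) 16518353
  [3,0,1,1] .nil) 16521294 [3,1,4,0] (.node .nil 16527728 [5] .nil)) 16534066 [6,4,7] (.node (.node
  (.node .nil 16540428 [6,1,2,0] .nil) 16548119 [7,6,2,3] .nil) 16553352 [7,4,3,0] (.node .nil
  16558121 [2,4] .nil))) 16581570 [4,5,3,3] (.node (.node (.node (.node .nil 16598305 [3,4,2] .nil)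
  16611456 [0,7,2,0] .nil) 16616964 [3,7,1] (.node .nil 16647784 [5,1,5] .nil)) 16662667 [6,7,6,3]
  (.node (.node (.node .nil 16667668 [4,5,3] .nil) 16687760 [3,5,3] .nil) 16719941 [3,7,5] (.node
  .nil 16748578 [5,7,0] .nil)))))))))))

/-- Orbit representative by the size of the intersection with `dod0`. -/
def repD (c : ℕ) : ℕ := if c = 0 then 8334384 else if c = 4 then 470393 else if c = 6 then 114548 else if c = 8 then 28637 else if c = 12 then 8442831 else 0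

theorem treeD_ok_aux : codeAll (fun m => popc m != 12 ||
    findOK gensD treeD (repD (popc (dod0 &&& m))) m) = true := by decide +kernel

theorem treeD_ok : ∀ m ∈ dodecadList, findOK gensD treeD (repD (popc (dod0 &&& m))) m = true :=
  dodecad_all treeD_ok_aux

theorem toMask_dod0 : toMask (ofMask dod0) = dod0 := toMask_ofMask (by decide +kernel)

theorem card_inter_dod0 (x : Finset GolayPt) :
    (ofMask dod0 ∩ x).card = popc (dod0 &&& toMask x) := by
  rw [card_eq_popc, toMask_inter, toMask_dod0]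

theorem dodecad_orbit_d0 {a b : Finset GolayPt} (ha : a ∈ dodecads) (hb : b ∈ dodecads)
    (h : (ofMask dod0 ∩ a).card = (ofMask dod0 ∩ b).card) :
    ∃ g ∈ M24, g • ofMask dod0 = ofMask dod0 ∧ g • a = b := by
  have h1 := treeD_ok _ ((mem_dodecads_iff a).1 ha)
  have h2 := treeD_ok _ ((mem_dodecads_iff b).1 hb)
  rw [card_inter_dod0, card_inter_dod0] at h
  rw [← h] at h2
  obtain ⟨g, hg, h3⟩ := conj_of_findOK (moves_all_of_genOK gensD_ok) h1 h2
  rw [ofMask_toMask, ofMask_toMask] at h3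
  exact ⟨g, hg.1, hg.2 _ (by simp), h3⟩

/-- Dodecads meeting a fixed dodecad equally are conjugate in its stabiliser. -/
theorem dodecad_orbit {d a b : Finset GolayPt} (hd : d ∈ dodecads) (ha : a ∈ dodecads)
    (hb : b ∈ dodecads) (h : (d ∩ a).card = (d ∩ b).card) :
    ∃ g ∈ M24, g • d = d ∧ g • a = b := by
  obtain ⟨k, hk, rfl⟩ := exists_smul_dodecad dod0_mem hd
  rw [← inter_inv_smul_of_eq rfl a, ← inter_inv_smul_of_eq rfl b] at h
  obtain ⟨g, hg, h1, h2⟩ := dodecad_orbit_d0 (smul_mem_dodecads (M24.inv_mem hk) ha)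
    (smul_mem_dodecads (M24.inv_mem hk) hb) h
  exact ⟨k * g * k⁻¹, M24.mul_mem (M24.mul_mem hk hg) (M24.inv_mem hk), stab_back rfl h1,
    conj_back h2⟩

end Cfsg.Agent.Lib.Sporadic.M24DodCert
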