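import Cfsg.Agent.Lib.Sporadic.M24DpStab
import Cfsg.Agent.Lib.Sporadic.M24SextetTab

/-!
# The stabiliser of a pair of complementary dodecads on sextets
-/

namespace Cfsg.Agent.Lib.Sporadic.M24DpOnSx

open Cfsg Cfsg.Agent.Lib.Sporadic.GolayCore Cfsg.Agent.Lib.Sporadic.M24Tbl
open Cfsg.Agent.Lib.Sporadic.M24Chain Cfsg.Agent.Lib.Sporadic.M24Basic
open Cfsg.Agent.Lib.Sporadic.M24Act Cfsg.Agent.Lib.Sporadic.M24Lists
open Cfsg.Agent.Lib.Sporadic.M24Orbit Cfsg.Agent.Lib.Sporadic.M24Count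
open Cfsg.Agent.Lib.Sporadic.M24Sextet Cfsg.Agent.Lib.Sporadic.M24Fast
open Cfsg.Agent.Lib.Sporadic.M24Classes Cfsg.Agent.Lib.Sporadic.M24Cert
open scoped Pointwise
open Cfsg.Agent.Lib.Sporadic.M24DpStab Cfsg.Agent.Lib.Sporadic.M24SextetTab
open Cfsg.Agent.Lib.Sporadic.M24SextetTree

set_option maxRecDepth 100000 in
set_option maxHeartbeats 0 in
/-- Classes and words. -/
def treeD_S : CT :=
  (.node (.node (.node (.node (.node (.node (.node (.node (.node (.node (.node .nil 8388615 [1452]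
  .nil) 8388619 [1452,3,1,0] (.node .nil 8388621 [1452,4,5,2,2] .nil)) 8388622 [1452,0,1,4] (.node
  (.node .nil 8388627 [780] .nil) 8388629 [780,0,6,7,1] .nil)) 8388630 [780,3,2] (.node (.node (.node
  .nil 8388633 [780,6,6] .nil) 8388634 [780,7,3,2] (.node .nil 8388636 [780,0,0,0] .nil)) 8388643
  [780,6,1,4] (.node (.node .nil 8388645 [780,3,1] .nil) 8388646 [780,2,5,5] .nil))) 8388649
  [780,3,2,4,2] (.node (.node (.node (.node .nil 8388650 [780,4,2,5,2] .nil) 8388652 [780,3,2,2,1]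
  (.node .nil 8388657 [1452,1,0,6,2] .nil)) 8388658 [1452,6,7,2] (.node (.node .nil 8388660
  [300,7,7,7] .nil) 8388664 [300,4,0,3] .nil)) 8388675 [1452,5,7,3,0] (.node (.node (.node .nil
  8388677 [1452,4,2,4] .nil) 8388678 [1452,4,2,5,1] (.node .nil 8388681 [1452,5,7,5] .nil)) 8388682
  [1452,4,4,0] (.node (.node .nil 8388684 [1452,2,0,4] .nil) 8388689 [780,1,7,0] .nil)))) 8388690
  [780,3,5,5,0] (.node (.node (.node (.node (.node .nil 8388692 [780,6,1,2,0] .nil) 8388696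
  [780,0,3,1] (.node .nil 8388705 [780,0,2,5] .nil)) 8388706 [780,3,1,4] (.node (.node .nil 8388708
  [780,2,0,4] .nil) 8388712 [780,5,4] .nil)) 8388720 [300,1,2,0] (.node (.node (.node .nil 8388739
  [1452,7,1,2] .nil) 8388741 [1452,1,0,0] (.node .nil 8388742 [1452,1,0,1] .nil)) 8388745
  [1452,7,0,6,0] (.node (.node .nil 8388746 [1452,0,2,2] .nil) 8388748 [1452,0,4,3] .nil))) 8388753
  [780,1,2,3] (.node (.node (.node (.node .nil 8388754 [780,7,5,6,2] .nil) 8388756 [780,1,0,0] (.node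
  .nil 8388760 [780,2,4,7] .nil)) 8388769 [780,5,6,3,2] (.node (.node .nil 8388770 [780,2,0,0] .nil)
  8388772 [780,6,1,2] .nil)) 8388776 [780,5,0,7] (.node (.node (.node .nil 8388784 [1452,0,2,1] .nil)
  8388801 [1452,1,6,6] (.node .nil 8388802 [1452,6,1,0] .nil)) 8388804 [1452,1,5,1] (.node (.node
  .nil 8388808 [1452,2,7,1] .nil) 8388816 [780,7,6,0,1] .nil))))) 8388832 [780,4,6,0,0] (.node (.node
  (.node (.node (.node (.node .nil 8388867 [1452,4,0,4,0] .nil) 8388869 [1452,3,5,2] (.node .nil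
  8388870 [1452,4,0,2] .nil)) 8388873 [1452,5,1,5] (.node (.node .nil 8388874 [1452,1,6,1,1] .nil)
  8388876 [1452,6,5,5] .nil)) 8388881 [780,4,4,3,1] (.node (.node (.node .nil 8388882 [780,7,4,0,1]
  .nil) 8388884 [780,4,0,2] (.node .nil 8388888 [780,6,3,3] .nil)) 8388897 [780,4,1,5,5] (.node
  (.node .nil 8388898 [780,7,6,1] .nil) 8388900 [780,4] .nil))) 8388904 [780,4,3,1,3] (.node (.node
  (.node (.node .nil 8388912 [1452,7,2,4,0] .nil) 8388929 [1452,6,0,7,1] (.node .nil 8388930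
  [1452,5,3,1] .nil)) 8388932 [1452,6,0,6] (.node (.node .nil 8388936 [1452,6,3,3] .nil) 8388944
  [780,2,7,6,1] .nil)) 8388960 [780,6,0,3,1] (.node (.node (.node .nil 8388993 [1452,1,6,2] .nil)
  8388994 [1452,0] (.node .nil 8388996 [1452,2,7] .nil)) 8389000 [1452,4,3,2,2] (.node (.node .nil
  8389008 [780,3,1,7] .nil) 8389024 [780,2,3,2,0] .nil)))) 8389056 [1452,6,0,2] (.node (.node (.node
  (.node (.node .nil 8389123 [1452,6,1,4] .nil) 8389125 [1452,2,3,3] (.node .nil 8389126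
  [1452,1,0,0,0] .nil)) 8389129 [1452,0,3] (.node (.node .nil 8389130 [1452,3,5,1,0] .nil) 8389132
  [1452,0,5,2,0] .nil)) 8389137 [780,2,5,2,2] (.node (.node (.node .nil 8389138 [780,5,3,3,0] .nil)
  8389140 [780,6,3,7,1] (.node .nil 8389144 [780,7,1,1,1] .nil)) 8389153 [780,3,0,6,2] (.node (.node
  .nil 8389154 [780,0,7,5] .nil) 8389156 [780,4,1,2,0] .nil))) 8389160 [780,5,7,3,2] (.node (.node
  (.node (.node .nil 8389168 [300,7,7,1] .nil) 8389185 [1452,6,3,7] (.node .nil 8389186 [1452,3,5]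
  .nil)) 8389188 [1452,6,1,5] (.node (.node .nil 8389192 [1452,2,2] .nil) 8389200 [780,7,6,5] .nil))
  8389216 [780,0,3,6,1] (.node (.node (.node .nil 8389249 [1452,5,0,3] .nil) 8389250 [1452,3,2,1]
  .nil) 8389252 [1452,1,1,7,1] (.node (.node .nil 8389256 [1452,6,2,4] .nil) 8389264 [780,4,3,2]
  .nil)))))) 8389280 [780,2,0,5,0] (.node (.node (.node (.node (.node (.node (.node .nil 8389312
  [1452,4,3,6] .nil) 8389377 [1452,0,5,0,0] (.node .nil 8389378 [1452,2,0,1,2] .nil)) 8389380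
  [1452,6,7,0] (.node (.node .nil 8389384 [1452,6,7,6,5] .nil) 8389392 [780,0,1,2,0] .nil)) 8389408
  [780,7,6,3,1] (.node (.node (.node .nil 8389440 [1452,7,7,7] .nil) 8389504 [1452,0,6,2] (.node .nil
  8389635 [780,1,5,5] .nil)) 8389637 [780,2,5,4,0] (.node (.node .nil 8389638 [780,6,4,0,3] .nil)
  8389641 [780,4,7,5,0] .nil))) 8389642 [780,0,1,4] (.node (.node (.node (.node .nil 8389644
  [780,0,0,7] .nil) 8389649 [300] (.node .nil 8389650 [300,7,3,1] .nil)) 8389652 [300,5,3,0] (.node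
  (.node .nil 8389656 [300,5,0,0] .nil) 8389665 [300,4,3,0,0] .nil)) 8389666 [300,1,0,5] (.node
  (.node (.node .nil 8389668 [1452,2,5] .nil) 8389672 [1452,7,3,2,0] (.node .nil 8389680
  [780,0,4,2,0] .nil)) 8389697 [780,0,2,0,1] (.node (.node .nil 8389698 [780,6,1,0] .nil) 8389700
  [780,7,3,4] .nil)))) 8389704 [780,6,5,4,1] (.node (.node (.node (.node (.node .nil 8389712
  [1452,6,7,2,0] .nil) 8389728 [300,0,3,1,3] (.node .nil 8389761 [780,3,0,7] .nil)) 8389762
  [780,2,5,2,0] (.node (.node .nil 8389764 [780,1,1,6,0] .nil) 8389768 [780,1,0,4,0] .nil)) 8389776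
  [300,5,0,7,3] (.node (.node (.node .nil 8389792 [300,3,2,5,0] .nil) 8389824 [780,5,1] (.node .nil
  8389889 [780,4,0,3,2] .nil)) 8389890 [780,1,7,0,1] (.node (.node .nil 8389892 [780,0,4] .nil)
  8389896 [780,4,6,3,0] .nil))) 8389904 [1452,7,2,0] (.node (.node (.node (.node .nil 8389920
  [1452,1,0,3,0] .nil) 8389952 [780,6,0,2] (.node .nil 8390016 [780,6,2,7,0] .nil)) 8390145
  [780,7,5,5] (.node (.node .nil 8390146 [780,3,2,0] .nil) 8390148 [780,7,7,0,1] .nil)) 8390152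
  [780,7,0,4] (.node (.node (.node .nil 8390160 [1452,7,5] .nil) 8390176 [300,3,0,6] (.node .nil
  8390208 [780,5,5,6,1] .nil)) 8390272 [780,6,6,5,1] (.node (.node .nil 8390400 [780,6,7,0] .nil)
  8390659 [780,3,2,2] .nil))))) 8390661 [780,0,5,0,2] (.node (.node (.node (.node (.node (.node .nil
  8390662 [780,5,2,3] .nil) 8390665 [780,2,7,0,2] (.node .nil 8390666 [780,3,4,1,6] .nil)) 8390668
  [780,7,1,4] (.node (.node .nil 8390673 [300,4,1,0] .nil) 8390674 [1452,3,7,1] .nil)) 8390676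
  [1452,5,6,2] (.node (.node (.node .nil 8390680 [300,5,6,3] .nil) 8390689 [300,5,5,7] (.node .nil
  8390690 [1452,4,7,2] .nil)) 8390692 [300,1,4,3,1] (.node (.node .nil 8390696 [1452,2,2,4] .nil)
  8390704 [780,2,3,2] .nil))) 8390721 [780,0,7,2] (.node (.node (.node (.node .nil 8390722 [780,3,5]
  .nil) 8390724 [780,7,6,7,2] (.node .nil 8390728 [780,2,3,1] .nil)) 8390736 [300,2,3,1] (.node
  (.node .nil 8390752 [1452,4,0,0] .nil) 8390785 [780,3,4,5,2] .nil)) 8390786 [780,1,7,1,0] (.node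
  (.node (.node .nil 8390788 [780,2,3,3,0] .nil) 8390792 [780,6,7,7,1] (.node .nil 8390800
  [1452,6,0,4] .nil)) 8390816 [1452,3,4] (.node (.node .nil 8390848 [780,0,7,4,1] .nil) 8390913
  [780,1,0,1,0] .nil)))) 8390914 [780,6,4,1,1] (.node (.node (.node (.node (.node .nil 8390916
  [780,3,1,1,0] .nil) 8390920 [780,0,6,4] (.node .nil 8390928 [300,6,3,4,1] .nil)) 8390944
  [300,3,6,1] (.node (.node .nil 8390976 [780,4,7,1] .nil) 8391040 [780,4,1,4,0] .nil)) 8391169
  [780,1,1,0,2] (.node (.node (.node .nil 8391170 [780,7,3,3] .nil) 8391172 [780,5,3,2,0] (.node .nil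
  8391176 [780,1,5,7,1] .nil)) 8391184 [1452,1,5] (.node (.node .nil 8391200 [300,0,5,1] .nil)
  8391232 [780,6,4,3,2] .nil))) 8391296 [780,3,7] (.node (.node (.node (.node .nil 8391424
  [780,7,6,4] .nil) 8391681 [1452,4,0,3] (.node .nil 8391682 [300,3,3,3] .nil)) 8391684 [300,7,5,4]
  (.node (.node .nil 8391688 [1452,6,2,6] .nil) 8391696 [780,7,4,2] .nil)) 8391712 [780,4,2,4] (.node
  (.node (.node .nil 8391744 [300,5,6] .nil) 8391808 [300,2,5,1] .nil) 8391936 [300,2,5,7] (.node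
  (.node .nil 8392192 [1452,2,6,2,0] .nil) 8392707 [1452,0,7,3] .nil))))))) 8392709 [1452,3,2,7,0]
  (.node (.node (.node (.node (.node (.node (.node (.node .nil 8392710 [1452,6,1,0,0] .nil) 8392713
  [1452,3,0,3] (.node .nil 8392714 [1452,1,2,1,2] .nil)) 8392716 [1452,5,2] (.node (.node .nil
  8392721 [780,7,0] .nil) 8392722 [780,7,7,5,1] .nil)) 8392724 [780,7,6,4,0] (.node (.node (.node
  .nil 8392728 [780,2,1,2,2] .nil) 8392737 [780,6,5,5,0] (.node .nil 8392738 [780,3,3,7,1] .nil))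
  8392740 [780,4,7,5,2] (.node (.node .nil 8392744 [780,0,6,2,0] .nil) 8392752 [300,5,4,5] .nil)))
  8392769 [1452,4,5,3,1] (.node (.node (.node (.node .nil 8392770 [1452,6] .nil) 8392772 [1452,7,0,3]
  (.node .nil 8392776 [1452,0,3,1] .nil)) 8392784 [780,7,1,0] (.node (.node .nil 8392800 [780,7,2,5]
  .nil) 8392833 [1452,5,1,1] .nil)) 8392834 [1452,7,2,5,0] (.node (.node (.node .nil 8392836
  [1452,4,0,2,0] .nil) 8392840 [1452,6,2,1] (.node .nil 8392848 [780,3,7,6] .nil)) 8392864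
  [780,3,4,1,0] (.node (.node .nil 8392896 [1452,0,6,4,2] .nil) 8392961 [1452,7,2,5,6] .nil))))
  8392962 [1452,3,4,6] (.node (.node (.node (.node (.node .nil 8392964 [1452,2,1] .nil) 8392968
  [1452,1,1,2] (.node .nil 8392976 [780,6,4,0,0] .nil)) 8392992 [780,4,6,2,0] (.node (.node .nil
  8393024 [1452,2,0,2] .nil) 8393088 [1452,2,3,5] .nil)) 8393217 [1452,7,1,0,0] (.node (.node (.node
  .nil 8393218 [1452,7,3,3] .nil) 8393220 [1452,3,3,2] (.node .nil 8393224 [1452,6,7,4] .nil))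
  8393232 [780,3,3,2] (.node (.node .nil 8393248 [780,6,7,4] .nil) 8393280 [1452,7,1,1] .nil)))
  8393344 [1452,0,2,1,1] (.node (.node (.node (.node .nil 8393472 [1452,3] .nil) 8393729 [780,0,7,3]
  (.node .nil 8393730 [780,0,2,3] .nil)) 8393732 [780,4,0,2,0] (.node (.node .nil 8393736 [780,6,2,1]
  .nil) 8393744 [300,4,4,4] .nil)) 8393760 [1452,3,1,2] (.node (.node (.node .nil 8393792 [780,2,0,2]
  .nil) 8393856 [780,1,7,4,0] (.node .nil 8393984 [780,6,1,1,7] .nil)) 8394240 [780,1,5,3] (.node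
  (.node .nil 8394753 [780,5,1,1] .nil) 8394754 [780,0,4,4] .nil))))) 8394756 [780,3,2,6] (.node
  (.node (.node (.node (.node (.node .nil 8394760 [780,2,5,2,1] .nil) 8394768 [300,6,5,4] (.node .nil
  8394784 [1452,2,5,1,1] .nil)) 8394816 [780,2,4,5] (.node (.node .nil 8394880 [780,2,5,6,0] .nil)
  8395008 [780,1,1,2] .nil)) 8395264 [780,7,6,2,1] (.node (.node (.node .nil 8395776 [1452,7,0,4,0]
  .nil) 8396803 [780,6,0,7] (.node .nil 8396805 [780,4,4,2,6] .nil)) 8396806 [780,1,0,1] (.node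
  (.node .nil 8396809 [780,3,2,5] .nil) 8396810 [780,4,3,1,1] .nil))) 8396812 [780,0,3,6,0] (.node
  (.node (.node (.node .nil 8396817 [300,2,2,0] .nil) 8396818 [300,0,7] (.node .nil 8396820
  [1452,6,3,0,0] .nil)) 8396824 [300,0,2,3,1] (.node (.node .nil 8396833 [300,1,4,6] .nil) 8396834
  [300,6,7,6] .nil)) 8396836 [300,1,0,7] (.node (.node (.node .nil 8396840 [1452,4,3,3] .nil) 8396848
  [780,3,4,2,0] (.node .nil 8396865 [780,6,2,5,1] .nil)) 8396866 [780,7,6,0,4] (.node (.node .nil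
  8396868 [780,7,5,3,0] .nil) 8396872 [780,4,5,0,2] .nil)))) 8396880 [1452,4,5,0] (.node (.node
  (.node (.node (.node .nil 8396896 [300,7,7,3] .nil) 8396929 [780,1,6,2] (.node .nil 8396930
  [780,2,0,7] .nil)) 8396932 [780,2,7,1,0] (.node (.node .nil 8396936 [780,4,1,1] .nil) 8396944
  [1452,3,3,0,0] .nil)) 8396960 [1452,7,0,2] (.node (.node (.node .nil 8396992 [780,1,5,0] .nil)
  8397057 [780,0,4,6] (.node .nil 8397058 [780,5,0,1] .nil)) 8397060 [780,7,0,0,0] (.node (.node .nil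
  8397064 [780,7,1,2,0] .nil) 8397072 [1452,4,7,4,0] .nil))) 8397088 [1452,3,0,4] (.node (.node
  (.node (.node .nil 8397120 [780,6,4,4,3] .nil) 8397184 [780,5,4,7] (.node .nil 8397313 [780,2,5]
  .nil)) 8397314 [780,5,3,0,2] (.node (.node .nil 8397316 [780,2,1,1] .nil) 8397320 [780,4,5] .nil))
  8397328 [300,0,1,2,0] (.node (.node (.node .nil 8397344 [1452,2,0] .nil) 8397376 [780,4,0,1] .nil)
  8397440 [780,5,3,1,0] (.node (.node .nil 8397568 [780,6,0,3] .nil) 8397825 [1452,5,2,4] .nil))))))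
  8397826 [1452,4,4,3] (.node (.node (.node (.node (.node (.node (.node .nil 8397828 [300,7,5,4,0]
  .nil) 8397832 [1452,0,5] (.node .nil 8397840 [780,2,1,6] .nil)) 8397856 [780,7,1,6,4] (.node (.node
  .nil 8397888 [1452,3,5,4] .nil) 8397952 [300,1,1,1] .nil)) 8398080 [1452,5,0,6,0] (.node (.node
  (.node .nil 8398336 [300,3,1] .nil) 8398849 [1452,1,1,0] (.node .nil 8398850 [300,5,0,1] .nil))
  8398852 [1452,0,4,0] (.node (.node .nil 8398856 [1452,7,2,2] .nil) 8398864 [780,1,1,1,1] .nil)))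
  8398880 [780,0,1,0,0] (.node (.node (.node (.node .nil 8398912 [300,4,7,7] .nil) 8398976
  [1452,5,4,0,0] (.node .nil 8399104 [300,4,0,2,1] .nil)) 8399360 [300,1,7,1] (.node (.node .nil
  8399872 [780,0,0,5,5] .nil) 8400897 [780,2,2,2] .nil)) 8400898 [780,6,2,3,3] (.node (.node (.node
  .nil 8400900 [780,1,1,3,0] .nil) 8400904 [780,0,5,2] (.node .nil 8400912 [1452,2,4,1] .nil))
  8400928 [300,5,0,5] (.node (.node .nil 8400960 [780,2] .nil) 8401024 [780,2,4,0,0] .nil)))) 8401152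
  [780,3,4,2] (.node (.node (.node (.node (.node .nil 8401408 [780,7,1,1] .nil) 8401920 [300,1]
  (.node .nil 8402944 [300,0,5] .nil)) 8404995 [1452,1,6,2,0] (.node (.node .nil 8404997 [1452,7,0,6]
  .nil) 8404998 [1452,5,2,6,1] .nil)) 8405001 [1452,3,1,1] (.node (.node (.node .nil 8405002
  [1452,6,3,3,1] .nil) 8405004 [1452,1,6,1] (.node .nil 8405009 [780,2,7,0] .nil)) 8405010
  [780,6,0,3,5] (.node (.node .nil 8405012 [780,0,5,5] .nil) 8405016 [780,1,6,1] .nil))) 8405025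
  [780,1,2,4,1] (.node (.node (.node (.node .nil 8405026 [780,0,6,1,0] .nil) 8405028 [780,6,2,0,1]
  (.node .nil 8405032 [780,7,4,0,0] .nil)) 8405040 [300,6,7,3] (.node (.node .nil 8405057
  [1452,6,6,1] .nil) 8405058 [1452,1,2,6] .nil)) 8405060 [1452,4,6,3] (.node (.node (.node .nil
  8405064 [1452,2,6] .nil) 8405072 [780,3,7,5] .nil) 8405088 [780,1,2,2] (.node (.node .nil 8405121
  [1452,6,6,0] .nil) 8405122 [1452,2,4,3] .nil))))) 8405124 [1452,4,4,7,0] (.node (.node (.node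
  (.node (.node (.node .nil 8405128 [1452,7,4,1] .nil) 8405136 [780,4,1,3,2] (.node .nil 8405152
  [780,7] .nil)) 8405184 [1452,1,5,0] (.node (.node .nil 8405249 [1452,7,4,1,0] .nil) 8405250
  [1452,6,7] .nil)) 8405252 [1452,7,4] (.node (.node (.node .nil 8405256 [1452,1,7,6,0] .nil) 8405264
  [780,5,0,3,2] (.node .nil 8405280 [780,6,7,3,2] .nil)) 8405312 [1452,5,3,0] (.node (.node .nil
  8405376 [1452,0,3,4] .nil) 8405505 [1452,6,1,1] .nil))) 8405506 [1452,3,2,0] (.node (.node (.node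
  (.node .nil 8405508 [1452,4,1,5] .nil) 8405512 [1452,0,1,2] (.node .nil 8405520 [780,1,5,1,0]
  .nil)) 8405536 [780,6,2,5] (.node (.node .nil 8405568 [1452,4,7,5] .nil) 8405632 [1452,7,7] .nil))
  8405760 [1452,7,1] (.node (.node (.node .nil 8406017 [780,2,6,6] .nil) 8406018 [780,6,3,3,0] (.node
  .nil 8406020 [780,4,2,2,2] .nil)) 8406024 [780,1,0,6,2] (.node (.node .nil 8406032 [1452,0,0,2,0]
  .nil) 8406048 [300,4,7] .nil)))) 8406080 [780,6,6,1] (.node (.node (.node (.node (.node .nil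
  8406144 [780,5,1,4,5] .nil) 8406272 [780,0,3,5,1] (.node .nil 8406528 [780,2,3,7] .nil)) 8407041
  [780,6,6,0] (.node (.node .nil 8407042 [780,1,3,7] .nil) 8407044 [780,5,4,2] .nil)) 8407048
  [780,7,2,6,2] (.node (.node (.node .nil 8407056 [1452,5] .nil) 8407072 [300,6,0,6] (.node .nil
  8407104 [780,4,6,1,2] .nil)) 8407168 [780,7,6,6] (.node (.node .nil 8407296 [780,7,4,1,0] .nil)
  8407552 [780,7,7,3,1] .nil))) 8408064 [1452,4,3,4] (.node (.node (.node (.node .nil 8409089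
  [1452,5,3,3] .nil) 8409090 [1452,0,4,4] (.node .nil 8409092 [1452,2,5,3] .nil)) 8409096
  [1452,1,6,7] (.node (.node .nil 8409104 [780,3,2,7] .nil) 8409120 [780,1,5,7] .nil)) 8409152
  [1452,7,1,0] (.node (.node (.node .nil 8409216 [1452,2,6,0] .nil) 8409344 [1452,6,6,5] .nil)
  8409600 [1452,3,5,4,1] (.node (.node .nil 8410112 [780,2,6,0] .nil) 8411136 [780,5,5] .nil))))))))
  8413185 [780,7,2,7] (.node (.node (.node (.node (.node (.node (.node (.node (.node .nil 8413186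
  [780,5,6,5] .nil) 8413188 [780,0,7,2,2] (.node .nil 8413192 [780,2,0,2,0] .nil)) 8413200
  [300,5,1,4,0] (.node (.node .nil 8413216 [1452,0,7,2] .nil) 8413248 [780,4,4,2,2] .nil)) 8413312
  [780,6,3,1,0] (.node (.node (.node .nil 8413440 [780,3,1,3,0] .nil) 8413696 [780,1,3,5,1] (.node
  .nil 8414208 [300,2,6,0] .nil)) 8415232 [300,2,7,1,1] (.node (.node .nil 8417280 [780,3,1,3,7]
  .nil) 8421379 [1452,5,5,4] .nil))) 8421381 [1452,0,0,4,0] (.node (.node (.node (.node .nil 8421382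
  [1452,1,4,2] .nil) 8421385 [1452,7,5,6,0] (.node .nil 8421386 [1452,4,3,1,1] .nil)) 8421388
  [1452,5,5,7] (.node (.node .nil 8421393 [780,6,5,1] .nil) 8421394 [780,7,7,6] .nil)) 8421396
  [780,5,4,4,0] (.node (.node (.node .nil 8421400 [780,6,0,0] .nil) 8421409 [780,2,5,0] (.node .nil
  8421410 [780,1,4,2] .nil)) 8421412 [780,3,0,2] (.node (.node .nil 8421416 [780,0,7,5,4] .nil)
  8421424 [1452,1] .nil)))) 8421441 [1452,6,4,4] (.node (.node (.node (.node (.node .nil 8421442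
  [1452,4,7,0] .nil) 8421444 [1452,6,5] (.node .nil 8421448 [1452,6,4,1] .nil)) 8421456 [780,1,5,2,2]
  (.node (.node .nil 8421472 [780,1,5] .nil) 8421505 [1452,5,1,0] .nil)) 8421506 [1452,4,0,0,0]
  (.node (.node (.node .nil 8421508 [1452,5,4,4,0] .nil) 8421512 [1452,4,7,2,0] (.node .nil 8421520
  [780,0,2,0] .nil)) 8421536 [780,2,4,5,1,0] (.node (.node .nil 8421568 [1452,6,3,0] .nil) 8421633
  [1452,2,5,1] .nil))) 8421634 [1452,0,2,0,0] (.node (.node (.node (.node .nil 8421636 [1452,2,4,1,6]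
  .nil) 8421640 [1452,4,6] (.node .nil 8421648 [780,7,3,5,0] .nil)) 8421664 [780,2,3,5,0] (.node
  (.node .nil 8421696 [1452,4,7,1] .nil) 8421760 [1452,1,1,2,0] .nil)) 8421889 [1452,4,5,6,0] (.node
  (.node (.node .nil 8421890 [1452,3,0,1] .nil) 8421892 [1452,2,1,1] (.node .nil 8421896 [1452,7,0,4]
  .nil)) 8421904 [780,4,3,4,1] (.node (.node .nil 8421920 [780,2,2,1,6] .nil) 8421952 [1452,3,4,1,1]
  .nil))))) 8422016 [1452,6,0,3,3] (.node (.node (.node (.node (.node (.node .nil 8422144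
  [1452,4,0,4] .nil) 8422401 [780,2,2,5,1] (.node .nil 8422402 [780,4,1,3] .nil)) 8422404 [780,2,6,5]
  (.node (.node .nil 8422408 [780,4,3,2,1] .nil) 8422416 [1452,6,5,3] .nil)) 8422432 [1452,1,3,1,0]
  (.node (.node (.node .nil 8422464 [780,1,0,2,1] .nil) 8422528 [780,2,0,3,3] (.node .nil 8422656
  [780,6,7,6] .nil)) 8422912 [780,2,6,1,1] (.node (.node .nil 8423425 [780,7,5,1] .nil) 8423426
  [780,1,6,0] .nil))) 8423428 [780,1,3,4] (.node (.node (.node (.node .nil 8423432 [780,3,6,3] .nil)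
  8423440 [300,4,1,4] (.node .nil 8423456 [300,1,4,4] .nil)) 8423488 [780,0,5,2,2] (.node (.node .nil
  8423552 [780,0,7,5,0] .nil) 8423680 [780,2,4,4] .nil)) 8423936 [780,1,6,1,0] (.node (.node (.node
  .nil 8424448 [300,2,3,5] .nil) 8425473 [1452,2,5,0] (.node .nil 8425474 [1452,3,0,0] .nil)) 8425476
  [1452,3,7,2] (.node (.node .nil 8425480 [1452,1,2,5,0] .nil) 8425488 [780,4,2,1] .nil)))) 8425504
  [780,4,2,0,0] (.node (.node (.node (.node (.node .nil 8425536 [1452,7,2,5] .nil) 8425600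
  [1452,2,6,4,0] (.node .nil 8425728 [1452,3,6,2] .nil)) 8425984 [1452,3,5,5] (.node (.node .nil
  8426496 [780,1,2,7] .nil) 8427520 [780,0,0,1,3] .nil)) 8429569 [780,5,2,0,0] (.node (.node (.node
  .nil 8429570 [780,2,4] .nil) 8429572 [780,6,5] (.node .nil 8429576 [780,1,6,3,3] .nil)) 8429584
  [300,4,1,4,0] (.node (.node .nil 8429600 [300,2,3,1,1] .nil) 8429632 [780,2,6,2,0] .nil))) 8429696
  [780,7,0,2,2] (.node (.node (.node (.node .nil 8429824 [780,3,3,2,0] .nil) 8430080 [780,5,1,1,0]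
  (.node .nil 8430592 [300,3,1,0] .nil)) 8431616 [1452,3,7,5] (.node (.node .nil 8433664 [780,3,2,3]
  .nil) 8437761 [1452,2,6,6] .nil)) 8437762 [1452,3,5,1] (.node (.node (.node .nil 8437764
  [1452,5,4,2] .nil) 8437768 [1452,7,4,0,0] .nil) 8437776 [780,1,0,3,2] (.node (.node .nil 8437792
  [780,0,6,0] .nil) 8437824 [1452,3,5,0] .nil)))))) 8437888 [1452,7,0,1,0] (.node (.node (.node
  (.node (.node (.node (.node .nil 8438016 [1452,4,2] .nil) 8438272 [1452,1,4,7,0] (.node .nil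
  8438784 [780,3,4,1] .nil)) 8439808 [780,4,5,0] (.node (.node .nil 8441856 [1452,1,3,0] .nil)
  8445952 [780,7,7,2,1] .nil)) 8454147 [780,7,3,7,0] (.node (.node (.node .nil 8454149 [780,2,3,3]
  .nil) 8454150 [780,5,4,4] (.node .nil 8454153 [780,2,5,2] .nil)) 8454154 [780,1,7,6] (.node (.node
  .nil 8454156 [780,6,0,6,1] .nil) 8454161 [300,2,2,7] .nil))) 8454162 [1452,2,6,5] (.node (.node
  (.node (.node .nil 8454164 [300,0,4,4] .nil) 8454168 [1452,0,2,5] (.node .nil 8454177 [300,0,3,1]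
  .nil)) 8454178 [1452,0,5,0] (.node (.node .nil 8454180 [1452,4,7] .nil) 8454184 [300,7,0,5] .nil))
  8454192 [780,7,5,0,2] (.node (.node (.node .nil 8454209 [780,1,6,6] .nil) 8454210 [780,0,4,1]
  (.node .nil 8454212 [780,3,6,4,0] .nil)) 8454216 [780,2,2] (.node (.node .nil 8454224 [300,7] .nil)
  8454240 [1452,4,1] .nil)))) 8454273 [780,6,5,2] (.node (.node (.node (.node (.node .nil 8454274
  [780,2,2,6,0,0] .nil) 8454276 [780,4,5,1,0] (.node .nil 8454280 [780,7,0,5,2] .nil)) 8454288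
  [300,7,1,1] (.node (.node .nil 8454304 [300,4,4,1,4] .nil) 8454336 [780,1,2,5,1] .nil)) 8454401
  [780,6,7,1] (.node (.node (.node .nil 8454402 [780,0,1,0,1] .nil) 8454404 [780,2,7,3,1] (.node .nil
  8454408 [780,3,3,5,1] .nil)) 8454416 [1452,2,1,6,0] (.node (.node .nil 8454432 [1452,5,2,2] .nil)
  8454464 [780,5,3,0] .nil))) 8454528 [780,5,4,0] (.node (.node (.node (.node .nil 8454657
  [780,5,3,5] .nil) 8454658 [780,6,0,1] (.node .nil 8454660 [780,2,6,2,1] .nil)) 8454664 [780,1,3,2]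
  (.node (.node .nil 8454672 [300,0,7,5,4] .nil) 8454688 [1452,4,3,5] .nil)) 8454720 [780,3,6,3,0]
  (.node (.node (.node .nil 8454784 [780,3,2,0,0] .nil) 8454912 [780,7,2,3] (.node .nil 8455169
  [1452,5,4,1,1] .nil)) 8455170 [300,5,5] (.node (.node .nil 8455172 [1452,7,7,6] .nil) 8455176
  [300,6,1,4,0] .nil))))) 8455184 [780,7,7,4,0] (.node (.node (.node (.node (.node (.node .nil
  8455200 [780,2,0,6,6] .nil) 8455232 [300,2,0] (.node .nil 8455296 [1452,3,0,5,0] .nil)) 8455424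
  [1452,4,2,6,0] (.node (.node .nil 8455680 [300,6,1,6,0] .nil) 8456193 [1452,5,3] .nil)) 8456194
  [1452,4,1,6,3] (.node (.node (.node .nil 8456196 [300,1,1,6] .nil) 8456200 [300,5,7] (.node .nil
  8456208 [780,1,0,4] .nil)) 8456224 [780,2,0,0,0] (.node (.node .nil 8456256 [1452,2,6,2] .nil)
  8456320 [300,1,7] .nil))) 8456448 [300,5,6,6,3] (.node (.node (.node (.node .nil 8456704
  [300,4,0,5] .nil) 8457216 [780,0,4,7] (.node .nil 8458241 [780,7,5,4] .nil)) 8458242 [780,4,3,7]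
  (.node (.node .nil 8458244 [780,2,6,4] .nil) 8458248 [780,3,5,3,0] .nil)) 8458256 [1452,1,6,1,0]
  (.node (.node (.node .nil 8458272 [300,0,7,4] .nil) 8458304 [780,3,2,5,0] (.node .nil 8458368
  [780,7,7,2,0] .nil)) 8458496 [780,5,4,5,0] (.node (.node .nil 8458752 [780,4,0,5] .nil) 8459264
  [300,2,3] .nil)))) 8460288 [300,2,5,4,0] (.node (.node (.node (.node (.node .nil 8462337
  [1452,7,6,0,0] .nil) 8462338 [300,6,0,7] (.node .nil 8462340 [300,1,5,5,0] .nil)) 8462344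
  [300,4,1,1] (.node (.node .nil 8462352 [780,5,5,1] .nil) 8462368 [780,4,1,2] .nil)) 8462400 [300,0]
  (.node (.node (.node .nil 8462464 [300,6,2,7] .nil) 8462592 [1452,5,2,7,1] (.node .nil 8462848
  [1452,5,1] .nil)) 8463360 [780,4,6,2] (.node (.node .nil 8464384 [780,3,2,3,0] .nil) 8466432
  [1452,5,4] .nil))) 8470529 [780,6,1,1] (.node (.node (.node (.node .nil 8470530 [780,2,4,3] .nil)
  8470532 [780,7,3,1] (.node .nil 8470536 [780,0,1,4,0] .nil)) 8470544 [1452,3,0,6] (.node (.node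
  .nil 8470560 [300,4,6,3] .nil) 8470592 [780,0,1,3] .nil)) 8470656 [780,3,6,2,0] (.node (.node
  (.node .nil 8470784 [780,3,4] .nil) 8471040 [780,7,1] .nil) 8471552 [1452,6,6,3] (.node (.node .nil
  8472576 [1452,5,3,1,0] .nil) 8474624 [780,5,0,2,1] .nil))))))) 8478720 [300,4,0,0] (.node (.node
  (.node (.node (.node (.node (.node (.node .nil 8486913 [780,1,5,2,1] .nil) 8486914 [780,2,1,0,2]
  (.node .nil 8486916 [780,4,5,2,3] .nil)) 8486920 [780,1,7,5,1] (.node (.node .nil 8486928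
  [300,3,3,1,0] .nil) 8486944 [300,4,0,4,6] .nil)) 8486976 [780,2,0,1,0] (.node (.node (.node .nil
  8487040 [780,1,5,0,1] .nil) 8487168 [780,0,1,7] (.node .nil 8487424 [780,3,3,3,0] .nil)) 8487936
  [300,3,1,0,0] (.node (.node .nil 8488960 [1452,5,1,2] .nil) 8491008 [780,1,2,0] .nil))) 8495104
  [1452,5,5,3] (.node (.node (.node (.node .nil 8503296 [780,3,4,0,2] .nil) 8519683 [780,4,6,0,1]
  (.node .nil 8519685 [780,6,6,4,0] .nil)) 8519686 [780,1,0,0,0] (.node (.node .nil 8519689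
  [780,5,7,5] .nil) 8519690 [780,6,3,5,2] .nil)) 8519692 [780,4,7,3] (.node (.node (.node .nil
  8519697 [1452,1,7,1] .nil) 8519698 [1452,3,3,2,0] (.node .nil 8519700 [300,5] .nil)) 8519704
  [300,4,0,0,0] (.node (.node .nil 8519713 [1452,3,7] .nil) 8519714 [1452,1,4] .nil)))) 8519716
  [1452,0,0,1,0] (.node (.node (.node (.node (.node .nil 8519720 [1452,1,6,5] .nil) 8519728
  [780,7,0,2,0] (.node .nil 8519745 [780,3,1,2] .nil)) 8519746 [780,5,2,7,1] (.node (.node .nil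
  8519748 [780,5,4,1,0] .nil) 8519752 [780,3,7,0] .nil)) 8519760 [1452,0,4,2] (.node (.node (.node
  .nil 8519776 [300,3,6,3] .nil) 8519809 [780,6,6,7,6] (.node .nil 8519810 [780,7,5,5,0] .nil))
  8519812 [780,0,5,7] (.node (.node .nil 8519816 [780,0,2,2] .nil) 8519824 [300,1,1,0] .nil)))
  8519840 [300,2,0,6] (.node (.node (.node (.node .nil 8519872 [780,1,4,1] .nil) 8519937
  [780,2,0,0,1] (.node .nil 8519938 [780,7,2] .nil)) 8519940 [780,4,4,5] (.node (.node .nil 8519944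
  [780,7,5,2] .nil) 8519952 [300,1,1,7,3] .nil)) 8519968 [300,7,4,4] (.node (.node (.node .nil
  8520000 [780,5,7,4] .nil) 8520064 [780,5,3] (.node .nil 8520193 [780,1,4,7] .nil)) 8520194
  [780,2,5,1,0] (.node (.node .nil 8520196 [780,0,1,0] .nil) 8520200 [780,4,1,7,0] .nil))))) 8520208
  [1452,6,3,1,0] (.node (.node (.node (.node (.node (.node .nil 8520224 [300,4,2,3] .nil) 8520256
  [780,3,3,6] (.node .nil 8520320 [780,0,4,0,0] .nil)) 8520448 [780,0,0,1,4] (.node (.node .nil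
  8520705 [300,7,1,4] .nil) 8520706 [300,7,1] .nil)) 8520708 [1452,3,1,3,0] (.node (.node (.node .nil
  8520712 [1452,5,3,2] .nil) 8520720 [780,5,4,1] (.node .nil 8520736 [780,2,1,7] .nil)) 8520768
  [1452,6,5,5,0] (.node (.node .nil 8520832 [1452,0,0,7,0] .nil) 8520960 [300,1,5,1] .nil))) 8521216
  [1452,0,6,0] (.node (.node (.node (.node .nil 8521729 [300,5,6,1] .nil) 8521730 [1452,2,4,4,0]
  (.node .nil 8521732 [300,5,4] .nil)) 8521736 [1452,7,2,6] (.node (.node .nil 8521744 [780,5,2]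
  .nil) 8521760 [780,7,4,4] .nil)) 8521792 [300,5,4,5,0] (.node (.node (.node .nil 8521856
  [300,6,4,0,0] .nil) 8521984 [1452,4,1,6] (.node .nil 8522240 [1452,1,4,4] .nil)) 8522752
  [780,7,1,2] (.node (.node .nil 8523777 [780,0,2,6] .nil) 8523778 [780,6,3,1] .nil)))) 8523780
  [780,4,1,0,0] (.node (.node (.node (.node (.node .nil 8523784 [780,6,4] .nil) 8523792 [1452,1,6]
  (.node .nil 8523808 [300,3,1,3] .nil)) 8523840 [780,0,0,1] (.node (.node .nil 8523904 [780,4,4,3]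
  .nil) 8524032 [780,2,4,2,0] .nil)) 8524288 [780,0,6,5] (.node (.node (.node .nil 8524800
  [300,5,1,0] .nil) 8525824 [300,2,6] (.node .nil 8527873 [300,5,0,3,0] .nil)) 8527874 [300,6,3,6]
  (.node (.node .nil 8527876 [300,1,6,3] .nil) 8527880 [1452,0,1,5] .nil))) 8527888 [780,6,7,7]
  (.node (.node (.node (.node .nil 8527904 [780,2,2,5] .nil) 8527936 [1452,0,7,5] (.node .nil 8528000
  [300,1,6,0] .nil)) 8528128 [300,0,0,3] (.node (.node .nil 8528384 [300,6,0,5] .nil) 8528896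
  [780,2,7,3,6] .nil)) 8529920 [780,5,6,1] (.node (.node (.node .nil 8531968 [1452,7,2,1] .nil)
  8536065 [780,6,4,1,0] .nil) 8536066 [780,5,2,1,1] (.node (.node .nil 8536068 [780,5,6,0] .nil)
  8536072 [780,5,6,1,0] .nil)))))) 8536080 [300,0,1,4] (.node (.node (.node (.node (.node (.node
  (.node .nil 8536096 [1452,1,1,6] .nil) 8536128 [780,2,6,3,0] (.node .nil 8536192 [780,4,6,1,0]
  .nil)) 8536320 [780,1,3,6,1] (.node (.node .nil 8536576 [780,4,7,5] .nil) 8537088 [300,2,3,7]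
  .nil)) 8538112 [300,6] (.node (.node (.node .nil 8540160 [780,3,6,1] .nil) 8544256 [1452,4,3,2]
  (.node .nil 8552449 [780,5,6,2] .nil)) 8552450 [780,3,5,1] (.node (.node .nil 8552452 [780,4,0,0]
  .nil) 8552456 [780,4,1] .nil))) 8552464 [300,4,4,1] (.node (.node (.node (.node .nil 8552480
  [300,7,6,0] .nil) 8552512 [780,6,5,3,0] (.node .nil 8552576 [780,7,4,3,0] .nil)) 8552704
  [780,4,3,1] (.node (.node .nil 8552960 [780,4,2,6,0] .nil) 8553472 [300,7,1,0] .nil)) 8554496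
  [1452,2,7,3] (.node (.node (.node .nil 8556544 [780,3,6,3,1] .nil) 8560640 [1452,3,5,3] (.node .nil
  8568832 [780,5,3,4] .nil)) 8585217 [300,0,1,1,1] (.node (.node .nil 8585218 [1452,5,2,0] .nil)
  8585220 [1452,4,0,1] .nil)))) 8585224 [300,3,0] (.node (.node (.node (.node (.node .nil 8585232
  [780,1,3,5] .nil) 8585248 [780,2,6,0,0] (.node .nil 8585280 [300,3,0,0] .nil)) 8585344 [1452,0,2]
  (.node (.node .nil 8585472 [300,4,3,1] .nil) 8585728 [300,7,0,7] .nil)) 8586240 [780,0,4,0] (.node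
  (.node (.node .nil 8587264 [780,6,7,4,0] .nil) 8589312 [1452,0,6] (.node .nil 8593408 [780,6,7,4,6]
  .nil)) 8601600 [300,6,1,1] (.node (.node .nil 8617984 [1452,3,4,0] .nil) 8650755 [780,7,7,1]
  .nil))) 8650757 [780,7,4,7,0] (.node (.node (.node (.node .nil 8650758 [780,7,2,1] .nil) 8650761
  [780,1,2,1] (.node .nil 8650762 [780,2,0,5] .nil)) 8650764 [780,5,5,0] (.node (.node .nil 8650769
  [300,1,3,3] .nil) 8650770 [1452,5,7,0] .nil)) 8650772 [1452,4,0] (.node (.node (.node .nil 8650776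
  [1452,7,5,5] .nil) 8650785 [300,5,3,1,0] .nil) 8650786 [1452,1,6,3] (.node (.node .nil 8650788
  [300,5,0,3] .nil) 8650792 [300,6,3,0] .nil))))) 8650800 [780,5,0,0,4] (.node (.node (.node (.node
  (.node (.node .nil 8650817 [780,6,3] .nil) 8650818 [780,0,5,7,5] (.node .nil 8650820 [780,6,0,6]
  .nil)) 8650824 [780,1,4,4,0] (.node (.node .nil 8650832 [1452,0,7,1] .nil) 8650848 [300,0,2,5]
  .nil)) 8650881 [780,7,1,4,0] (.node (.node (.node .nil 8650882 [780,2,3,6,0] .nil) 8650884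
  [780,3,7,0,1] (.node .nil 8650888 [780,4,3,2,2] .nil)) 8650896 [300,3,2,0] (.node (.node .nil
  8650912 [300,7,4,6] .nil) 8650944 [780,1,1,5,2] .nil))) 8651009 [780,7,1,3] (.node (.node (.node
  (.node .nil 8651010 [780,3,4,4,2] .nil) 8651012 [780,5,2,4,5] (.node .nil 8651016 [780,1,7,1]
  .nil)) 8651024 [300,2,0,1] (.node (.node .nil 8651040 [300,3,0,3] .nil) 8651072 [780,4,3,4] .nil))
  8651136 [780,7,6] (.node (.node (.node .nil 8651265 [780,0,3,3,1] .nil) 8651266 [780,7,4,4,0]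
  (.node .nil 8651268 [780,4,5,2] .nil)) 8651272 [780,7,3] (.node (.node .nil 8651280 [300,3,3,4]
  .nil) 8651296 [1452,7,4,2] .nil)))) 8651328 [780,5,2,7,0] (.node (.node (.node (.node (.node .nil
  8651392 [780,0,0,1,0] .nil) 8651520 [780,3,5,3] (.node .nil 8651777 [1452,5,0,3,3] .nil)) 8651778
  [300,2,3,3] (.node (.node .nil 8651780 [300,4,5,0] .nil) 8651784 [300,1,2,1] .nil)) 8651792
  [780,0,6,7,0] (.node (.node (.node .nil 8651808 [780,0,6] .nil) 8651840 [1452,2,7,4,0] (.node .nil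
  8651904 [1452,5,7] .nil)) 8652032 [300,6,2,0] (.node (.node .nil 8652288 [300,7,5,1,1] .nil)
  8652801 [1452,2,4,1,0] .nil))) 8652802 [1452,2,6,1] (.node (.node (.node (.node .nil 8652804
  [1452,1,2,2] .nil) 8652808 [300,1,2,6] (.node .nil 8652816 [780,3,6,0] .nil)) 8652832 [780,7,6,3,0]
  (.node (.node .nil 8652864 [300,2,3,6] .nil) 8652928 [300,4,3,7] .nil)) 8653056 [1452,1,0] (.node
  (.node (.node .nil 8653312 [300,2,1,0] .nil) 8653824 [780,4,6,6] .nil) 8654849 [780,2,0,6] (.node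
  (.node .nil 8654850 [780,3,7,3,0] .nil) 8654852 [780,7,0,3] .nil))))))))) 8654856 [780,5,4,2,1]
  (.node (.node (.node (.node (.node (.node (.node (.node (.node (.node .nil 8654864 [300,3,3] .nil)
  8654880 [1452,1,2,1,0] (.node .nil 8654912 [780,7,4,5] .nil)) 8654976 [780,2,4,6,6] (.node (.node
  .nil 8655104 [780,6,6,5] .nil) 8655360 [780,7,1,0,0] .nil)) 8655872 [1452,4,2,4,0] (.node (.node
  (.node .nil 8656896 [1452,0,2,0] .nil) 8658945 [1452,1,0,2] (.node .nil 8658946 [300,6,6,1] .nil))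
  8658948 [1452,6,3,1] (.node (.node .nil 8658952 [300,7,5,3,1] .nil) 8658960 [780,2,2,6] .nil)))
  8658976 [780,3,0,3] (.node (.node (.node (.node .nil 8659008 [1452,3,6,7,2] .nil) 8659072
  [300,1,6,4] (.node .nil 8659200 [300,4,7,5] .nil)) 8659456 [1452,0,1] (.node (.node .nil 8659968
  [780,1,7,4,2] .nil) 8660992 [780,2,3,0] .nil)) 8663040 [300,1,5,3,0] (.node (.node (.node .nil
  8667137 [780,0,0,6] .nil) 8667138 [780,3,4,1,2] (.node .nil 8667140 [780,7,4] .nil)) 8667144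
  [780,2,6] (.node (.node .nil 8667152 [300,7,7,5] .nil) 8667168 [1452,4,5,1,0] .nil)))) 8667200
  [780,5,1,6] (.node (.node (.node (.node (.node .nil 8667264 [780,2,2,3,0] .nil) 8667392
  [780,3,7,5,1] (.node .nil 8667648 [780,5,4,3,0] .nil)) 8668160 [300,3,4,1] (.node (.node .nil
  8669184 [300,6,6,2,1] .nil) 8671232 [780,4,7,2,1] .nil)) 8675328 [1452,3,2,0,2] (.node (.node
  (.node .nil 8683521 [780,4,7,4,0] .nil) 8683522 [780,3,6] (.node .nil 8683524 [780,4,3,3] .nil))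
  8683528 [780,7,7,2] (.node (.node .nil 8683536 [1452,6,1] .nil) 8683552 [1452,4,1,0] .nil)))
  8683584 [780,1,6,7,0] (.node (.node (.node (.node .nil 8683648 [780,4,6,4] .nil) 8683776
  [780,5,3,2] (.node .nil 8684032 [780,6,6,3] .nil)) 8684544 [1452,7,5,2] (.node (.node .nil 8685568
  [300,6,6,3] .nil) 8687616 [780,6,2,1,1] .nil)) 8691712 [300,4,1,3,0] (.node (.node (.node .nil
  8699904 [780,3,0] .nil) 8716289 [1452,3,4,0,0] (.node .nil 8716290 [1452,2,5,7,0] .nil)) 8716292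
  [300,2,6,4] (.node (.node .nil 8716296 [1452,5,3,4] .nil) 8716304 [780,0,5] .nil))))) 8716320
  [780,7,3,0] (.node (.node (.node (.node (.node (.node .nil 8716352 [300,0,3,0] .nil) 8716416
  [1452,4,0,6] (.node .nil 8716544 [300,5,4,6] .nil)) 8716800 [1452,0,0] (.node (.node .nil 8717312
  [780,7,3,7] .nil) 8718336 [780,2,3,6] .nil)) 8720384 [300,3,6,5] (.node (.node (.node .nil 8724480
  [780,6] .nil) 8732672 [300,6,2,4,0] (.node .nil 8749056 [300,5,7,3,1] .nil)) 8781825 [300,0,1,0,0]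
  (.node (.node .nil 8781826 [1452,2,4,0] .nil) 8781828 [300,5,5,0] .nil))) 8781832 [300,5,3,3]
  (.node (.node (.node (.node .nil 8781840 [780,2,5,5,0] .nil) 8781856 [780,1,7,5,0] (.node .nil
  8781888 [1452,6,5,7] .nil)) 8781952 [1452,3,4,3,0] (.node (.node .nil 8782080 [1452,3,0,2] .nil)
  8782336 [300,3,1,1,0] .nil)) 8782848 [780,5,4,3,1] (.node (.node (.node .nil 8783872 [780,2,4,3,3]
  .nil) 8785920 [300,5,6,5] (.node .nil 8790016 [780,2,7,4] .nil)) 8798208 [1452,7,7,4,0] (.node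
  (.node .nil 8814592 [300,1,0] .nil) 8847360 [780,5,3,3] .nil)))) 8912899 [780,6,7,2,0] (.node
  (.node (.node (.node (.node .nil 8912901 [780,4,0,0,6] .nil) 8912902 [780,6,3,4] (.node .nil
  8912905 [780,0,3,1,0] .nil)) 8912906 [780,1,4,0] (.node (.node .nil 8912908 [780,7,5] .nil) 8912913
  [1452,3,4,7,1] .nil)) 8912914 [300,4,6] (.node (.node (.node .nil 8912916 [1452,6,2,2] .nil)
  8912920 [300,6,4,6] (.node .nil 8912929 [1452,5,4,0] .nil)) 8912930 [300,3,1,4] (.node (.node .nil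
  8912932 [300,1,5,0] .nil) 8912936 [1452,3,6,5,1] .nil))) 8912944 [780,6,4,5,0] (.node (.node (.node
  (.node .nil 8912961 [780,3,4,0] .nil) 8912962 [780,1,7,3,0] (.node .nil 8912964 [780,6,3,0,3]
  .nil)) 8912968 [780,0,3,2,3] (.node (.node .nil 8912976 [300,6,4,0] .nil) 8912992 [1452,5,3,6,0]
  .nil)) 8913025 [780,5,4,5] (.node (.node (.node .nil 8913026 [780,4,1,7,1] .nil) 8913028
  [780,0,4,3] .nil) 8913032 [780,7,0,1] (.node (.node .nil 8913040 [300,0,5,0] .nil) 8913056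
  [300,0,0,0] .nil)))))) 8913088 [780,2,7,1] (.node (.node (.node (.node (.node (.node (.node .nil
  8913153 [780,7,5,6,4] .nil) 8913154 [780,2,1,6,6] (.node .nil 8913156 [780,2,1] .nil)) 8913160
  [780,0,1,1,0] (.node (.node .nil 8913168 [300,4,0] .nil) 8913184 [300,4] .nil)) 8913216 [780,7,7,7]
  (.node (.node (.node .nil 8913280 [780,2,2,4,2] .nil) 8913409 [780,1,1,1] (.node .nil 8913410
  [780,6,5,4,0] .nil)) 8913412 [780,4,3,7,1] (.node (.node .nil 8913416 [780,4,1,4] .nil) 8913424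
  [300,3,0,7] .nil))) 8913440 [1452,5,4,1] (.node (.node (.node (.node .nil 8913472 [780,0,0,3] .nil)
  8913536 [780,6,4,4,0] (.node .nil 8913664 [780,2,2,2,1] .nil)) 8913921 [300,0,7,7,3] (.node (.node
  .nil 8913922 [1452,7,7,0] .nil) 8913924 [300,4,5,7] .nil)) 8913928 [1452,4,4,2] (.node (.node
  (.node .nil 8913936 [780,7,0,7] .nil) 8913952 [780,2,0,3] (.node .nil 8913984 [300,2,4,4,1] .nil))
  8914048 [1452,2] (.node (.node .nil 8914176 [300,6,0] .nil) 8914432 [300,7,5,2,0] .nil)))) 8914945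
  [300,3,7,5] (.node (.node (.node (.node (.node .nil 8914946 [300,6,1,2,0] .nil) 8914948
  [1452,2,3,1,1] (.node .nil 8914952 [1452,0,7,7] .nil)) 8914960 [780,6,3,0] (.node (.node .nil
  8914976 [780,4,6,5] .nil) 8915008 [1452,2,1,6] .nil)) 8915072 [300,4,0,1] (.node (.node (.node .nil
  8915200 [1452,1,1] .nil) 8915456 [300,6,1,0] (.node .nil 8915968 [780,0,3,7] .nil)) 8916993
  [780,0,0,4] (.node (.node .nil 8916994 [780,7,3,1,3] .nil) 8916996 [780,2,2,3] .nil))) 8917000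
  [780,6,0,4] (.node (.node (.node (.node .nil 8917008 [1452,2,6,0,4] .nil) 8917024 [300,7,3] (.node
  .nil 8917056 [780,0,2,1] .nil)) 8917120 [780,1,0,2] (.node (.node .nil 8917248 [780,4,0,1,0] .nil)
  8917504 [780,3] .nil)) 8918016 [300,0,3,7] (.node (.node (.node .nil 8919040 [300,0,6,0] .nil)
  8921089 [300,0,4,6] (.node .nil 8921090 [1452,5,6] .nil)) 8921092 [1452,3,1,6] (.node (.node .nil
  8921096 [1452,3,0] .nil) 8921104 [780,7,0,0] .nil))))) 8921120 [780,5,3,5,0] (.node (.node (.node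
  (.node (.node (.node .nil 8921152 [300,7,7,0,0] .nil) 8921216 [300,0,0,7] (.node .nil 8921344
  [300,2,1] .nil)) 8921600 [1452,1,0,1,0] (.node (.node .nil 8922112 [780,3,5,7] .nil) 8923136
  [780,0,3,2] .nil)) 8925184 [1452,4,4] (.node (.node (.node .nil 8929281 [780,4,4,1,1] .nil) 8929282
  [780,0,5,1] (.node .nil 8929284 [780,4,1,5] .nil)) 8929288 [780,5,4,6] (.node (.node .nil 8929296
  [1452,4,4,6,0] .nil) 8929312 [300,5,0] .nil))) 8929344 [780,1,0,6] (.node (.node (.node (.node .nil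
  8929408 [780,2,1,5] .nil) 8929536 [780,6,0] (.node .nil 8929792 [780,6,4,3,0] .nil)) 8930304
  [1452,1,2,5] (.node (.node .nil 8931328 [1452,4,6,0] .nil) 8933376 [780,5,6,7,0] .nil)) 8937472
  [300,5,6,2,0] (.node (.node (.node .nil 8945665 [780,6,1,4,1] .nil) 8945666 [780,7,4,0] (.node .nil
  8945668 [780,1,1,7] .nil)) 8945672 [780,7,1,3,0] (.node (.node .nil 8945680 [1452,2,7,1,1] .nil)
  8945696 [1452,3,2,3,0] .nil)))) 8945728 [780,6,2,0] (.node (.node (.node (.node (.node .nil 8945792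
  [780,6,0,5] .nil) 8945920 [780,4,2] (.node .nil 8946176 [780,5,3,6] .nil)) 8946688 [1452,2,2,2]
  (.node (.node .nil 8947712 [300,6,1,3] .nil) 8949760 [780,4,7] .nil)) 8953856 [300,6,3,3] (.node
  (.node (.node .nil 8962048 [780,2,6,1] .nil) 8978433 [300,5,3,2,0] (.node .nil 8978434 [300,6,0,1]
  .nil)) 8978436 [300,1,7,3] (.node (.node .nil 8978440 [300,5,1] .nil) 8978448 [780,6,4,0] .nil)))
  8978464 [780,5,7,2,2] (.node (.node (.node (.node .nil 8978496 [1452,3,6] .nil) 8978560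
  [1452,5,4,7,1] (.node .nil 8978688 [300,4,4] .nil)) 8978944 [1452,6,6] (.node (.node .nil 8979456
  [780,6,1,2,1] .nil) 8980480 [780,7,5,7] .nil)) 8982528 [1452,5,7,2] (.node (.node (.node .nil
  8986624 [780,0] .nil) 8994816 [1452,2,6,3] .nil) 9011200 [300,3,2,0,1] (.node (.node .nil 9043969
  [1452,7,6,3] .nil) 9043970 [300,3,1,4,0] .nil))))))) 9043972 [300,3,3,1] (.node (.node (.node
  (.node (.node (.node (.node (.node .nil 9043976 [1452,7,3,1] .nil) 9043984 [780,4,4,2,0] (.node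
  .nil 9044000 [780,1,7] .nil)) 9044032 [300,7,1,0,1] (.node (.node .nil 9044096 [1452,6,4,6] .nil)
  9044224 [1452,4,6,2] .nil)) 9044480 [300,1,2,0,0] (.node (.node (.node .nil 9044992 [780,3,0,6,1]
  .nil) 9046016 [780,6,1,7,0] (.node .nil 9048064 [1452,7,2,4] .nil)) 9052160 [780,3,6,2,2] (.node
  (.node .nil 9060352 [300,2,3,0] .nil) 9076736 [300,5,6,6,1] .nil))) 9109504 [780,7,4,3] (.node
  (.node (.node (.node .nil 9175041 [300,5,1,0,0] .nil) 9175042 [300,2,2,0,1] (.node .nil 9175044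
  [1452,1,5,4,0] .nil)) 9175048 [300,0,1] (.node (.node .nil 9175056 [780,0,5,5,0] .nil) 9175072
  [780,6,2,0,0] .nil)) 9175104 [300,0,0,5] (.node (.node (.node .nil 9175168 [1452,2,1,0] .nil)
  9175296 [1452,6,3,6] (.node .nil 9175552 [1452,5,5] .nil)) 9176064 [780,1,3,1] (.node (.node .nil
  9177088 [780,7,5,0] .nil) 9179136 [300,0,7,0,0] .nil)))) 9183232 [780,5,0,6] (.node (.node (.node
  (.node (.node .nil 9191424 [300,0,5,3,4] .nil) 9207808 [1452,7,6,0] (.node .nil 9240576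
  [780,4,5,2,0] .nil)) 9306112 [780,4,6,4,0] (.node (.node .nil 9437187 [780,5,0] .nil) 9437189
  [780,3,0,0,0] .nil)) 9437190 [780,2,5,0,1] (.node (.node (.node .nil 9437193 [780,3,1,0] .nil)
  9437194 [780,0,6,1] (.node .nil 9437196 [780,0,5,2,0] .nil)) 9437201 [300,4,1,7] (.node (.node .nil
  9437202 [300,0,4,5] .nil) 9437204 [300,5,4,4,0] .nil))) 9437208 [1452,3,7,2,0] (.node (.node (.node
  (.node .nil 9437217 [300,1,6,4,0] .nil) 9437218 [300,0,1,5] (.node .nil 9437220 [1452,2,3,4,0]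
  .nil)) 9437224 [300,4,5,1] (.node (.node .nil 9437232 [780,2,1,3] .nil) 9437249 [780,5,2,5,0]
  .nil)) 9437250 [780,1,5,2] (.node (.node (.node .nil 9437252 [780,4,4,2] .nil) 9437256 [780,1,3,3]
  (.node .nil 9437264 [300,1,2,7] .nil)) 9437280 [1452,7,0] (.node (.node .nil 9437313 [780,5,1,0]
  .nil) 9437314 [780,6,2,2] .nil))))) 9437316 [780,3,0,6] (.node (.node (.node (.node (.node (.node
  .nil 9437320 [780,1,6,3] .nil) 9437328 [1452,7,2] (.node .nil 9437344 [1452,3,0,7,0] .nil)) 9437376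
  [780,2,3,4] (.node (.node .nil 9437441 [780,3,7,1,4] .nil) 9437442 [780,5,7] .nil)) 9437444
  [780,7,1,6,1] (.node (.node (.node .nil 9437448 [780,2,2,7,2] .nil) 9437456 [300,5,6,4] (.node .nil
  9437472 [300,6,3,4,0] .nil)) 9437504 [780,5,5,3,0] (.node (.node .nil 9437568 [780,2,6,1,0] .nil)
  9437697 [780,5,6,4,0] .nil))) 9437698 [780,2,5,4,6] (.node (.node (.node (.node .nil 9437700
  [780,6,1,5] .nil) 9437704 [780,7,6,0,2] (.node .nil 9437712 [1452,6,3] .nil)) 9437728 [300,1,0,6]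
  (.node (.node .nil 9437760 [780,3,4,1,1] .nil) 9437824 [780,3,2,1] .nil)) 9437952 [780,4,3] (.node
  (.node (.node .nil 9438209 [1452,6,3,2] .nil) 9438210 [1452,5,1,6] (.node .nil 9438212 [1452,3,4,2]
  .nil)) 9438216 [300,1,6,5] (.node (.node .nil 9438224 [780,5,6,4] .nil) 9438240 [780,4,2,2,1]
  .nil)))) 9438272 [300,5,2,6] (.node (.node (.node (.node (.node .nil 9438336 [300,2,1,6,0] .nil)
  9438464 [300,6,0,0] (.node .nil 9438720 [1452,3,0,5] .nil)) 9439233 [1452,7,6,4,0] (.node (.node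
  .nil 9439234 [300,7,6,5] .nil) 9439236 [300,2,3,0,0] .nil)) 9439240 [300,2,4,6,0] (.node (.node
  (.node .nil 9439248 [780,1,0,7,0] .nil) 9439264 [780,3,4,3,0] (.node .nil 9439296 [1452,0,0,0]
  .nil)) 9439360 [1452,6,2] (.node (.node .nil 9439488 [1452,4,1,2] .nil) 9439744 [1452,4,5,2,0]
  .nil))) 9440256 [780,5,3,6,1] (.node (.node (.node (.node .nil 9441281 [780,4,1,7] .nil) 9441282
  [780,0,3,5,2] (.node .nil 9441284 [780,7,3,5] .nil)) 9441288 [780,4,7,6] (.node (.node .nil 9441296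
  [1452,7,7,1] .nil) 9441312 [300,6,7,4] .nil)) 9441344 [780,0,7] (.node (.node (.node .nil 9441408
  [780,5,6,1,1] .nil) 9441536 [780,2,3,5] .nil) 9441792 [780,1,2,5] (.node (.node .nil 9442304
  [300,1,6,5,0] .nil) 9443328 [300,2,1,1] .nil)))))) 9445377 [1452,5,7,4] (.node (.node (.node (.node
  (.node (.node (.node .nil 9445378 [1452,4,1,2,0] .nil) 9445380 [300,3,5] (.node .nil 9445384
  [300,3,5,0] .nil)) 9445392 [780,0,7,1,0] (.node (.node .nil 9445408 [780,1,7,0,0] .nil) 9445440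
  [300,4,1,5] .nil)) 9445504 [1452,2,1,1,1] (.node (.node (.node .nil 9445632 [300,3,5,4] .nil)
  9445888 [300,1,7,1,0] (.node .nil 9446400 [780,4,7,0,2] .nil)) 9447424 [780,4,1,4,0,0] (.node
  (.node .nil 9449472 [1452,7,3] .nil) 9453569 [780,3,6,1,1] .nil))) 9453570 [780,2,5,7] (.node
  (.node (.node (.node .nil 9453572 [780,6,0,6,0] .nil) 9453576 [780,7,4,1] (.node .nil 9453584
  [300,1,0,3] .nil)) 9453600 [1452,7,3,2] (.node (.node .nil 9453632 [780,5,2,0] .nil) 9453696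
  [780,4,4,6] .nil)) 9453824 [780,6,7] (.node (.node (.node .nil 9454080 [780,5,5,2,1] .nil) 9454592
  [300,4,1] (.node .nil 9455616 [300,3,0,5,0] .nil)) 9457664 [780,0,0] (.node (.node .nil 9461760
  [1452,1,3,2] .nil) 9469953 [780,2,0] .nil)))) 9469954 [780,1,3,6,0] (.node (.node (.node (.node
  (.node .nil 9469956 [780,1,3,2,1] .nil) 9469960 [780,6,3,6,1] (.node .nil 9469968 [1452,2,2,0,2]
  .nil)) 9469984 [1452,4,3,0] (.node (.node .nil 9470016 [780,1,1,0,4] .nil) 9470080 [780,2,6,5,1]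
  .nil)) 9470208 [780,4,3,0,2] (.node (.node (.node .nil 9470464 [780,4,7,2] .nil) 9470976
  [1452,4,4,1,0] (.node .nil 9472000 [300,1,3,4] .nil)) 9474048 [780,3,7,2] (.node (.node .nil
  9478144 [300,0,6,5] .nil) 9486336 [780,6,4,6] .nil))) 9502721 [1452,6,0] (.node (.node (.node
  (.node .nil 9502722 [300,4,4,0,0] .nil) 9502724 [1452,7,5,4,0] (.node .nil 9502728 [1452,0,2,2,1]
  .nil)) 9502736 [780,5,5,3,1] (.node (.node .nil 9502752 [780,4,0] .nil) 9502784 [1452,5,0,4] .nil))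
  9502848 [300,0,6,3,0] (.node (.node (.node .nil 9502976 [300,2,5,6] .nil) 9503232 [300,7,3,4] .nil)
  9503744 [780,2,0,6,0] (.node (.node .nil 9504768 [780,5,4,3] .nil) 9506816 [1452,0,3,5] .nil)))))
  9510912 [780,0,7,0] (.node (.node (.node (.node (.node (.node .nil 9519104 [300,0,6,3] .nil)
  9535488 [300,1,1,3] (.node .nil 9568257 [300,6,2,1,0] .nil)) 9568258 [300,6,2,1] (.node (.node .nil
  9568260 [1452,4,1,1] .nil) 9568264 [300,3] .nil)) 9568272 [780,3,5,6,4] (.node (.node (.node .nil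
  9568288 [780,3,1,3] .nil) 9568320 [300,4,6,0] (.node .nil 9568384 [300,7,6,3,0] .nil)) 9568512
  [1452,0,3,3] (.node (.node .nil 9568768 [1452,2,4] .nil) 9569280 [780,7,4,6] .nil))) 9570304
  [780,6,7,3] (.node (.node (.node (.node .nil 9572352 [1452,3,1,4] .nil) 9576448 [780,5,1,4] (.node
  .nil 9584640 [1452,3,2,2] .nil)) 9601024 [300,7,1,6] (.node (.node .nil 9633792 [780,4,4,3,0] .nil)
  9699329 [1452,3,2,2,2] .nil)) 9699330 [300,6,4] (.node (.node (.node .nil 9699332 [300,7,4] .nil)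
  9699336 [1452,2,0,0] (.node .nil 9699344 [780,7,2,2] .nil)) 9699360 [780,1,4,7,3] (.node (.node
  .nil 9699392 [300,5,2,0] .nil) 9699456 [300,2,2,1,0] .nil)))) 9699584 [1452,0,4,1] (.node (.node
  (.node (.node (.node .nil 9699840 [300,6,5,0,0] .nil) 9700352 [780,3,3,1] (.node .nil 9701376
  [780,4,0,0,0] .nil)) 9703424 [300,4,2,0] (.node (.node .nil 9707520 [780,4,4,6,0] .nil) 9715712
  [1452,2,0,1] .nil)) 9732096 [1452,3,1,0,0] (.node (.node (.node .nil 9764864 [780,4,4,0,2] .nil)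
  9830400 [780,2,4,5,2] (.node .nil 9961473 [300,4,3,4,1] .nil)) 9961474 [1452,5,3,5] (.node (.node
  .nil 9961476 [300,7,3,5] .nil) 9961480 [300,0,3,1,0] .nil))) 9961488 [780,7,7,3,5] (.node (.node
  (.node (.node .nil 9961504 [780,6,1,1,0] .nil) 9961536 [1452,4,2,0] (.node .nil 9961600 [300,3,4,4]
  .nil)) 9961728 [1452,0,2,1,0] (.node (.node .nil 9961984 [300,7,7,4] .nil) 9962496 [780,4,2,7,1]
  .nil)) 9963520 [780,3,6,6,1] (.node (.node (.node .nil 9965568 [1452,5,7,6] .nil) 9969664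
  [780,3,5,2] .nil) 9977856 [300,6,0,2,1] (.node (.node .nil 9994240 [1452,1,1,4] .nil) 10027008
  [780,3,6,1,0] .nil)))))))) 10092544 [780,1,2,0,0] (.node (.node (.node (.node (.node (.node (.node
  (.node (.node .nil 10223616 [780,5,7,0,1] .nil) 10485763 [780,4,6,7] (.node .nil 10485765
  [780,7,0,2] .nil)) 10485766 [780,7,5,3,1] (.node (.node .nil 10485769 [780,0,5,0] .nil) 10485770
  [780,1,2,7,0] .nil)) 10485772 [780,6,2] (.node (.node (.node .nil 10485777 [1452,4,5,3] .nil)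
  10485778 [300,3,0,5] (.node .nil 10485780 [1452,2,4,2] .nil)) 10485784 [1452,0,5,1] (.node (.node
  .nil 10485793 [1452,0,4,7] .nil) 10485794 [300,2,4,4] .nil))) 10485796 [300,1,7,0,1] (.node (.node
  (.node (.node .nil 10485800 [300,2,4,0] .nil) 10485808 [780,3,3,3] (.node .nil 10485825
  [780,5,1,0,1] .nil)) 10485826 [780,4,0,3] (.node (.node .nil 10485828 [780,2,3] .nil) 10485832
  [780,0,7,6] .nil)) 10485840 [300,6,6,0] (.node (.node (.node .nil 10485856 [1452,0,1,0] .nil)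
  10485889 [780,6,1] (.node .nil 10485890 [780,3,3,0] .nil)) 10485892 [780,1,6] (.node (.node .nil
  10485896 [780,7,3,6] .nil) 10485904 [300,5,6,0,1] .nil)))) 10485920 [300,2,0,0] (.node (.node
  (.node (.node (.node .nil 10485952 [780,1,0] .nil) 10486017 [780,1,4,0,0] (.node .nil 10486018
  [780,2,5,3,0] .nil)) 10486020 [780,0,1,3,0] (.node (.node .nil 10486024 [780,1,6,1,1] .nil)
  10486032 [1452,6,2,0] .nil)) 10486048 [1452,1,6,0] (.node (.node (.node .nil 10486080 [780,1,1,0]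
  .nil) 10486144 [780,2,7] (.node .nil 10486273 [780,4,6,0] .nil)) 10486274 [780,1,6,4] (.node (.node
  .nil 10486276 [780,2,1,0,0] .nil) 10486280 [780,0,3,5,0] .nil))) 10486288 [1452,1,0,6] (.node
  (.node (.node (.node .nil 10486304 [300,4,4,0] .nil) 10486336 [780,4,3,6] (.node .nil 10486400
  [780,3,7,5,5] .nil)) 10486528 [780,2,2,4] (.node (.node .nil 10486785 [300,7,5,5] .nil) 10486786
  [1452,6,1,3,0] .nil)) 10486788 [300,7,0,1] (.node (.node (.node .nil 10486792 [300,6,7,1] .nil)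
  10486800 [780,4,2,6] (.node .nil 10486816 [780,0,3,3] .nil)) 10486848 [300,3,4] (.node (.node .nil
  10486912 [1452,1,5,1,1] .nil) 10487040 [1452,2,3,1] .nil))))) 10487296 [1452,7,3,0] (.node (.node
  (.node (.node (.node (.node .nil 10487809 [300,1,5] .nil) 10487810 [300,3,3,0] (.node .nil 10487812
  [1452,6,3,2,0] .nil)) 10487816 [300,6,1,1,3] (.node (.node .nil 10487824 [780,0,3,6] .nil) 10487840
  [780,3,4,4,0] .nil)) 10487872 [1452,2,4,7] (.node (.node (.node .nil 10487936 [300,0,4,1] .nil)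
  10488064 [300,7,7] (.node .nil 10488320 [1452,2,5,6] .nil)) 10488832 [780,2,5,1] (.node (.node .nil
  10489857 [780,6,0,0,0] .nil) 10489858 [780,3,5,1,1] .nil))) 10489860 [780,6,1,0,0] (.node (.node
  (.node (.node .nil 10489864 [780,3,3,4] .nil) 10489872 [300,6,5] (.node .nil 10489888 [1452,6,4,0]
  .nil)) 10489920 [780,6,3,2] (.node (.node .nil 10489984 [780,0,3,3,0] .nil) 10490112 [780,0,3,2,6]
  .nil)) 10490368 [780,3,6,7] (.node (.node (.node .nil 10490880 [1452,0,5,5] .nil) 10491904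
  [1452,5,0] (.node .nil 10493953 [300,7,2,7] .nil)) 10493954 [1452,7,6,5] (.node (.node .nil
  10493956 [1452,2,4,6] .nil) 10493960 [300,1,1] .nil)))) 10493968 [780,6,4,4] (.node (.node (.node
  (.node (.node .nil 10493984 [780,1,1] .nil) 10494016 [300,0,5,0,0] (.node .nil 10494080 [300,1,6]
  .nil)) 10494208 [1452,0,0,4] (.node (.node .nil 10494464 [300,5,2,7] .nil) 10494976 [780,4,1,6]
  .nil)) 10496000 [780,5,0,2] (.node (.node (.node .nil 10498048 [300,7,5,7] .nil) 10502145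
  [780,6,3,6] (.node .nil 10502146 [780,3,3,5,0] .nil)) 10502148 [780,6,3,4,2] (.node (.node .nil
  10502152 [780,1,2] .nil) 10502160 [300,1,6,1] .nil))) 10502176 [1452,1,4,3] (.node (.node (.node
  (.node .nil 10502208 [780,4,4] .nil) 10502272 [780,3,2,6,1] (.node .nil 10502400 [780,2,3,5,1]
  .nil)) 10502656 [780,2,7,4,0] (.node (.node .nil 10503168 [300,6,1,0,1] .nil) 10504192 [300,1,1,7]
  .nil)) 10506240 [780,4,0,7] (.node (.node (.node .nil 10510336 [1452,3,3] .nil) 10518529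
  [780,7,6,1,0] .nil) 10518530 [780,1,3,3,4] (.node (.node .nil 10518532 [780,1,6,2,2] .nil) 10518536
  [780,6,0,5,0] .nil)))))) 10518544 [300,3,6,4] (.node (.node (.node (.node (.node (.node (.node .nil
  10518560 [300,7,6] .nil) 10518592 [780,4,7,0] (.node .nil 10518656 [780,4,3,4,4] .nil)) 10518784
  [780,1,6,5] (.node (.node .nil 10519040 [780,0,4,5,0] .nil) 10519552 [300,3,6,0] .nil)) 10520576
  [1452,2,1,5] (.node (.node (.node .nil 10522624 [780,3,6,2] .nil) 10526720 [1452,2,0,6] (.node .nil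
  10534912 [780,3,5,0] .nil)) 10551297 [300,6,2,6] (.node (.node .nil 10551298 [300,1,0,0] .nil)
  10551300 [300,7,7,1,0] .nil))) 10551304 [1452,2,6,2,4] (.node (.node (.node (.node .nil 10551312
  [780,4,7,4] .nil) 10551328 [780,1,3,6] (.node .nil 10551360 [1452,0,3,4,0] .nil)) 10551424
  [1452,2,2,1] (.node (.node .nil 10551552 [1452,1,1,1] .nil) 10551808 [300,1,3,0] .nil)) 10552320
  [780,3,6,6] (.node (.node (.node .nil 10553344 [780,6,6,4] .nil) 10555392 [300,1,4,0] (.node .nil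
  10559488 [780,0,6,6] .nil)) 10567680 [300,4,0,7] (.node (.node .nil 10584064 [1452,2,7,0] .nil)
  10616833 [1452,5,0,0] .nil)))) 10616834 [300,6,5,6] (.node (.node (.node (.node (.node .nil
  10616836 [300,6,5,1] .nil) 10616840 [300,0,0] (.node .nil 10616848 [780,2,1,4] .nil)) 10616864
  [780,5,6,3,0] (.node (.node .nil 10616896 [300,4,6,4] .nil) 10616960 [1452,4,4,4] .nil)) 10617088
  [300,3,3,3,0] (.node (.node (.node .nil 10617344 [1452,2,7,2] .nil) 10617856 [780,1,6,6,2] (.node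
  .nil 10618880 [780,4,2,2] .nil)) 10620928 [300,4,5,3,0] (.node (.node .nil 10625024 [780,2,4,0,1]
  .nil) 10633216 [1452,7,1,4] .nil))) 10649600 [1452,3,2] (.node (.node (.node (.node .nil 10682368
  [780,4,5,3,0] .nil) 10747905 [300,6,4,1] (.node .nil 10747906 [300,6,5,6,0] .nil)) 10747908
  [1452,1,6,4,1] (.node (.node .nil 10747912 [1452,3,6,2,2] .nil) 10747920 [780,1,6,2,0] .nil))
  10747936 [780,2,6,3] (.node (.node (.node .nil 10747968 [300,5,2,3] .nil) 10748032 [1452,4,0,7,1]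
  (.node .nil 10748160 [300,0,2,1] .nil)) 10748416 [300,7,5] (.node (.node .nil 10748928 [780,3,2,4]
  .nil) 10749952 [780,4,0,2,3] .nil))))) 10752000 [1452,7,4,0] (.node (.node (.node (.node (.node
  (.node .nil 10756096 [780,0,6,0,0] .nil) 10764288 [1452,2,1,0,2] (.node .nil 10780672 [300,3,6]
  .nil)) 10813440 [780,0,0,4,0] (.node (.node .nil 10878976 [780,7,4,7,1] .nil) 11010049 [1452,1,2,0]
  .nil)) 11010050 [1452,3,6,3] (.node (.node (.node .nil 11010052 [1452,4,3] .nil) 11010056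
  [300,2,6,4,0] (.node .nil 11010064 [780,4,6,7,0] .nil)) 11010080 [780,2,6,4,0] (.node (.node .nil
  11010112 [1452,2,1,2] .nil) 11010176 [1452,6,0,0] .nil))) 11010304 [300,2,7] (.node (.node (.node
  (.node .nil 11010560 [300,1,4,4,0] .nil) 11011072 [780,6,7,2] (.node .nil 11012096 [780,3,2,6,0]
  .nil)) 11014144 [300,0,1,6] (.node (.node .nil 11018240 [780,3,1,1] .nil) 11026432 [300,3,1,7]
  .nil)) 11042816 [300,3,1,1] (.node (.node (.node .nil 11075584 [780,3,0,2,3] .nil) 11141120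
  [780,7,3,2,1] (.node .nil 11272192 [780,7,5,1,0] .nil)) 11534337 [300,0,3,4] (.node (.node .nil
  11534338 [1452,0,6,7] .nil) 11534340 [300,7,1,3,0] .nil)))) 11534344 [1452,7,5,1] (.node (.node
  (.node (.node (.node .nil 11534352 [780,3,0,3,2] .nil) 11534368 [780,7,5,2,1] (.node .nil 11534400
  [1452,1,1,3,0] .nil)) 11534464 [300,1,5,0,0] (.node (.node .nil 11534592 [300,4,1,3] .nil) 11534848
  [1452,3,1] .nil)) 11535360 [780,1,5,3,0] (.node (.node (.node .nil 11536384 [780,0,1] .nil)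
  11538432 [300,5,1,5,0] (.node .nil 11542528 [780,5] .nil)) 11550720 [1452,1,0,4] (.node (.node .nil
  11567104 [300,5,5,0,3] .nil) 11599872 [780,1,3,0] .nil))) 11665408 [780,3,7,3] (.node (.node (.node
  (.node .nil 11796480 [780,0,3,2,1] .nil) 12058624 [780,0,3,4] (.node .nil 12582915 [780,0,6,3]
  .nil)) 12582917 [780,4,6,0,4] (.node (.node .nil 12582918 [780,0,3,4,0] .nil) 12582921 [780,4,2,0]
  .nil)) 12582922 [780,5,4,1,1] (.node (.node (.node .nil 12582924 [780,7,1,7,0] .nil) 12582929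
  [1452,1,7,7] .nil) 12582930 [300,6,1] (.node (.node .nil 12582932 [300,6,3,6,1] .nil) 12582936
  [1452,0,4] .nil))))))) 12582945 [1452,6,2,6,0] (.node (.node (.node (.node (.node (.node (.node
  (.node .nil 12582946 [300,5,1,1] .nil) 12582948 [1452,2,3,0] (.node .nil 12582952 [300,3,3,7]
  .nil)) 12582960 [780,3,2,4,1] (.node (.node .nil 12582977 [780,3,3] .nil) 12582978 [780,4,4,0]
  .nil)) 12582980 [780,6,3,4,0] (.node (.node (.node .nil 12582984 [780,3,2,3,1] .nil) 12582992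
  [1452,4,2,1,1] (.node .nil 12583008 [300,7,5,6] .nil)) 12583041 [780,1,6,3,1] (.node (.node .nil
  12583042 [780,0,0,3,3] .nil) 12583044 [780,1,5,1] .nil))) 12583048 [780,5,4,5,2] (.node (.node
  (.node (.node .nil 12583056 [1452,1,5,3] .nil) 12583072 [1452,1,4,0] (.node .nil 12583104
  [780,3,1,0,0] .nil)) 12583169 [780,2,6,6,0] (.node (.node .nil 12583170 [780,5,2,1] .nil) 12583172
  [780,7,5,3] .nil)) 12583176 [780,5,1,5] (.node (.node (.node .nil 12583184 [300,3,2,1,0] .nil)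
  12583200 [300,2,3,5,0] (.node .nil 12583232 [780,3,1,6] .nil)) 12583296 [780,1,7,4] (.node (.node
  .nil 12583425 [780,3,5,0,2] .nil) 12583426 [780,3,5,1,0] .nil)))) 12583428 [780,1,2,0,5] (.node
  (.node (.node (.node (.node .nil 12583432 [780,0,3] .nil) 12583440 [300,0,3] (.node .nil 12583456
  [1452,2,6,7] .nil)) 12583488 [780,1,1,4,0] (.node (.node .nil 12583552 [780,7,3,3,0] .nil) 12583680
  [780,5,7,1] .nil)) 12583937 [300,3,6,3,0] (.node (.node (.node .nil 12583938 [1452,3,6,0] .nil)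
  12583940 [1452,5,5,2,0] (.node .nil 12583944 [300,7,2,2,0] .nil)) 12583952 [780,1,1,2,7] (.node
  (.node .nil 12583968 [780,3,5,2,2] .nil) 12584000 [1452,2,1,6,1] .nil))) 12584064 [300,3,5,3,0]
  (.node (.node (.node (.node .nil 12584192 [300,6,3] .nil) 12584448 [300,4,6,2,0] (.node .nil
  12584961 [300,0,7,1] .nil)) 12584962 [300,5,3,7] (.node (.node .nil 12584964 [300,5,3,1] .nil)
  12584968 [300,5,0,6,0] .nil)) 12584976 [780,5,3,1] (.node (.node (.node .nil 12584992 [780,0,2]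
  .nil) 12585024 [300,4,6,1] (.node .nil 12585088 [1452,1,3,1] .nil)) 12585216 [1452,5,5,1] (.node
  (.node .nil 12585472 [300,3,6,2,0] .nil) 12585984 [780,3,4,0,1] .nil))))) 12587009 [780,6,6,2]
  (.node (.node (.node (.node (.node (.node .nil 12587010 [780,4,3,0] .nil) 12587012 [780,6,1,6]
  (.node .nil 12587016 [780,7,7,5] .nil)) 12587024 [300,3,4,7] (.node (.node .nil 12587040
  [1452,7,4,3] .nil) 12587072 [780,2,7,4,3] .nil)) 12587136 [780,0,6,6,0] (.node (.node (.node .nil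
  12587264 [780,1,3] .nil) 12587520 [780,3,4,2,2] (.node .nil 12588032 [1452,7,0,0] .nil)) 12589056
  [1452,0,7,7,0] (.node (.node .nil 12591105 [300,0,4,0] .nil) 12591106 [1452,6,4,1,0] .nil)))
  12591108 [300,4,3,4] (.node (.node (.node (.node .nil 12591112 [300,7,2,3] .nil) 12591120
  [780,4,6,3,2] (.node .nil 12591136 [780,2,7,2] .nil)) 12591168 [1452,2,5,2] (.node (.node .nil
  12591232 [1452,1,2] .nil) 12591360 [300,1,3] .nil)) 12591616 [1452,2,5,3,1] (.node (.node (.node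
  .nil 12592128 [780,2,6,2] .nil) 12593152 [780,4,1,1,0] (.node .nil 12595200 [300,3,4,0] .nil))
  12599297 [780,7,0,6] (.node (.node .nil 12599298 [780,3,4,4] .nil) 12599300 [780,5,3,6,0] .nil))))
  12599304 [780,6,3,3,1] (.node (.node (.node (.node (.node .nil 12599312 [1452,3,1,5] .nil) 12599328
  [300,6,6,0,0] (.node .nil 12599360 [780,5,0,5] .nil)) 12599424 [780,1,2,7,1] (.node (.node .nil
  12599552 [780,5,4,7,0] .nil) 12599808 [780,5,1,3] .nil)) 12600320 [1452,5,1,4] (.node (.node (.node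
  .nil 12601344 [1452,1,5,2] .nil) 12603392 [780,7,6,2] (.node .nil 12607488 [300,7,1,7,1] .nil))
  12615681 [780,2,4,1] (.node (.node .nil 12615682 [780,5,0,4] .nil) 12615684 [780,6,0,7,0] .nil)))
  12615688 [780,5,5,5] (.node (.node (.node (.node .nil 12615696 [300,3,2,6,0] .nil) 12615712
  [300,4,5] (.node .nil 12615744 [780,0,4,1,2] .nil)) 12615808 [780,5,2,2] (.node (.node .nil
  12615936 [780,0,3,5] .nil) 12616192 [780,3,7,1,0] .nil)) 12616704 [300,2,4,6] (.node (.node (.node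
  .nil 12617728 [1452,5,5,0] .nil) 12619776 [780,1,1,6] .nil) 12623872 [1452,0,6,2,0] (.node (.node
  .nil 12632064 [780,5,3,2,1] .nil) 12648449 [300,0,0,3,0] .nil)))))) 12648450 [300,5,6,0] (.node
  (.node (.node (.node (.node (.node (.node .nil 12648452 [1452,1,1,5] .nil) 12648456 [1452,2,0,3]
  (.node .nil 12648464 [780,2,5,3,5] .nil)) 12648480 [780,5,1,2,0] (.node (.node .nil 12648512
  [300,7,4,4,0] .nil) 12648576 [300,0,6] .nil)) 12648704 [300,5,4,0] (.node (.node (.node .nil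
  12648960 [1452,5,0,0,0] .nil) 12649472 [780,2,4,6] (.node .nil 12650496 [780,2,0,1] .nil)) 12652544
  [300,6,2,5] (.node (.node .nil 12656640 [780,7,1,2,1] .nil) 12664832 [1452,7,6] .nil))) 12681216
  [1452,5,7,2,0] (.node (.node (.node (.node .nil 12713985 [1452,7,6,2,1] .nil) 12713986
  [300,5,7,0,0] (.node .nil 12713988 [1452,4,1,4] .nil)) 12713992 [300,0,7,3] (.node (.node .nil
  12714000 [780,0,3,4,1] .nil) 12714016 [780,1,4,5] .nil)) 12714048 [1452,0,3,5,0] (.node (.node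
  (.node .nil 12714112 [300,4,7,1] .nil) 12714240 [1452,7] (.node .nil 12714496 [300,1,5,4] .nil))
  12715008 [780,2,1,2] (.node (.node .nil 12716032 [780,1] .nil) 12718080 [300,0,0,6] .nil))))
  12722176 [780,1,1,4] (.node (.node (.node (.node (.node .nil 12730368 [300,5,3,4] .nil) 12746752
  [1452,3,3,1] (.node .nil 12779520 [780,0,6,2] .nil)) 12845057 [300,0,7,2,3] (.node (.node .nil
  12845058 [300,7,2,6] .nil) 12845060 [300,1,3,5] .nil)) 12845064 [1452,5,6,0] (.node (.node (.node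
  .nil 12845072 [780,3,3,6,0] .nil) 12845088 [780,6,6,3,0] (.node .nil 12845120 [1452,6,4,2] .nil))
  12845184 [300,1,5,7] (.node (.node .nil 12845312 [1452,0,3,0] .nil) 12845568 [1452,1,7,1,0] .nil)))
  12846080 [780,5,7,2] (.node (.node (.node (.node .nil 12847104 [780,3,1,5,0] .nil) 12849152
  [1452,2,5,7] (.node .nil 12853248 [780,6,3,2,1] .nil)) 12861440 [300,4,2,1] (.node (.node .nil
  12877824 [300,5,5,3,0] .nil) 12910592 [780,1,4,4] .nil)) 12976128 [780,0,6,6,1] (.node (.node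
  (.node .nil 13107201 [1452,5,1,1,1] .nil) 13107202 [1452,4,1,0,0] .nil) 13107204 [300,1,4] (.node
  (.node .nil 13107208 [300,6,5,2,0] .nil) 13107216 [780,4,6] .nil))))) 13107232 [780,0,2,5,0] (.node
  (.node (.node (.node (.node (.node .nil 13107264 [300,7,3,7] .nil) 13107328 [300,2,5,0,0] (.node
  .nil 13107456 [1452,4,5,4] .nil)) 13107712 [1452,0,5,1,0] (.node (.node .nil 13108224 [780,1,4]
  .nil) 13109248 [780,4,5,3,1] .nil)) 13111296 [300,3,4,2,0] (.node (.node (.node .nil 13115392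
  [780,3,7,1] .nil) 13123584 [1452,0,0,1] (.node .nil 13139968 [300,6,5,0] .nil)) 13172736
  [780,6,0,2,0] (.node (.node .nil 13238272 [780,3,3,1,2] .nil) 13369344 [780,7,2,0] .nil))) 13631489
  [300,2,6,6,0] (.node (.node (.node (.node .nil 13631490 [1452,2,0,1,0] .nil) 13631492 [1452,6,5,1]
  (.node .nil 13631496 [1452,2,3,1,0] .nil)) 13631504 [780,5,3,3,1] (.node (.node .nil 13631520
  [780,6,6,0,2] .nil) 13631552 [300,2,1,2,0] .nil)) 13631616 [1452,3,3,1,0] (.node (.node (.node .nil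
  13631744 [1452,3,4,1] .nil) 13632000 [300,1,0,1] (.node .nil 13632512 [780,7,7] .nil)) 13633536
  [780,2,2,1] (.node (.node .nil 13635584 [300,1,4,1] .nil) 13639680 [780,2,7,7] .nil)))) 13647872
  [300,7,0,0] (.node (.node (.node (.node (.node .nil 13664256 [300,3,7] .nil) 13697024 [780,0,7,7]
  (.node .nil 13762560 [780,2,4,2] .nil)) 13893632 [780,1,0,2,0] (.node (.node .nil 14155776
  [780,1,7,6,1] .nil) 14680065 [1452,5,0,4,0] .nil)) 14680066 [1452,4] (.node (.node (.node .nil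
  14680068 [300,2,5] .nil) 14680072 [1452,6,0,3] (.node .nil 14680080 [780,2,6,0,1] .nil)) 14680096
  [780,1,4,1,1] (.node (.node .nil 14680128 [300,2,1,3] .nil) 14680192 [300,2,5,0] .nil))) 14680320
  [300,5,7,6] (.node (.node (.node (.node .nil 14680576 [300,1,3,7] .nil) 14681088 [780,6,2,3,0]
  (.node .nil 14682112 [780,5,7,6] .nil)) 14684160 [1452,0,7,0] (.node (.node .nil 14688256
  [780,4,1,0] .nil) 14696448 [300,5,3,6,0] .nil)) 14712832 [1452,4,4,6] (.node (.node (.node .nil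
  14745600 [780,1,6,3,0] .nil) 14811136 [780,0,7,0,2] .nil) 14942208 [780,6,7,5,0] (.node (.node .nil
  15204352 [780,2,4,1,0] .nil) 15728640 [780,7,1,2,2] .nil))))))))))

/-- Classes with representatives. -/
def repsD_S : List (ℕ × ℕ × List ℕ) :=
  [(300,8389649,[8389649,2148,229384,533120,2375682,5247232]),
  (1452,8388615,[8388615,147496,268544,1082880,2621632,4268048]),
  (780,8388627,[8388627,33184,135744,1574920,2376704,4268036])]

theorem certD_S : ctAll (certNode tbsD treeD_S repsD_S (sxClv famD) sxSem) sxTree = true := by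
  decide +kernel

theorem hrepsD_S : ∀ p ∈ repsD_S, sxTree.find p.2.1 = some p.2.2 := by decide +kernel

theorem hcvD_S : ∀ p ∈ repsD_S, sxClv famD p.2.1 p.2.2 = p.1 := by decide +kernel

theorem CD_S : Cert sextets sxObj sxTree sxSem (famOf famD) (clF (famOf famD)) (sxClv famD) (stabF famD) tbsD treeD_S repsD_S :=
  sx_cert famD_nodup famD_lt gensD_ok hrepsD_S certD_S

theorem nD_S0 : ctCount (fun m _ => Nat.beq (clsOf treeD_S m) 300) sxTree = 396 := by decide +kernel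

theorem nD_S1 : ctCount (fun m _ => Nat.beq (clsOf treeD_S m) 1452) sxTree = 495 := by decide +kernel

theorem nD_S2 : ctCount (fun m _ => Nat.beq (clsOf treeD_S m) 780) sxTree = 880 := by decide +kernel

end Cfsg.Agent.Lib.Sporadic.M24DpOnSx
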