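import Cfsg.Agent.Lib.Sporadic.M24OcStab
import Cfsg.Agent.Lib.Sporadic.M24SextetTab

/-!
# The octad stabiliser on sextets
-/

namespace Cfsg.Agent.Lib.Sporadic.M24OcOnSx

open Cfsg Cfsg.Agent.Lib.Sporadic.GolayCore Cfsg.Agent.Lib.Sporadic.M24Tbl
open Cfsg.Agent.Lib.Sporadic.M24Chain Cfsg.Agent.Lib.Sporadic.M24Basic
open Cfsg.Agent.Lib.Sporadic.M24Act Cfsg.Agent.Lib.Sporadic.M24Lists
open Cfsg.Agent.Lib.Sporadic.M24Orbit Cfsg.Agent.Lib.Sporadic.M24Count
open Cfsg.Agent.Lib.Sporadic.M24Sextet Cfsg.Agent.Lib.Sporadic.M24Fast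
open Cfsg.Agent.Lib.Sporadic.M24Classes Cfsg.Agent.Lib.Sporadic.M24Cert
open scoped Pointwise
open Cfsg.Agent.Lib.Sporadic.M24OcStab Cfsg.Agent.Lib.Sporadic.M24SextetTab
open Cfsg.Agent.Lib.Sporadic.M24SextetTree

set_option maxRecDepth 100000 in
set_option maxHeartbeats 0 in
/-- Classes and words. -/
def treeO_S : CT :=
  (.node (.node (.node (.node (.node (.node (.node (.node (.node (.node (.node .nil 8388615 [1254]
  .nil) 8388619 [1254,7,4] (.node .nil 8388621 [1254,7] .nil)) 8388622 [1254,3,2] (.node (.node .nil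
  8388627 [150] .nil) 8388629 [150,4,3,3] .nil)) 8388630 [150,5,4,4,6] (.node (.node (.node .nil
  8388633 [150,0,7,7,1] .nil) 8388634 [150,5,6,0] (.node .nil 8388636 [150,5,7,6,1] .nil)) 8388643
  [1254,4,1] (.node (.node .nil 8388645 [1254,6,5] .nil) 8388646 [1254,7,0] .nil))) 8388649 [1254,0]
  (.node (.node (.node (.node .nil 8388650 [1254,7,5] .nil) 8388652 [1254,5,0] (.node .nil 8388657
  [150,5,2,3] .nil)) 8388658 [150,1,3,2] (.node (.node .nil 8388660 [150,7,4,1,5] .nil) 8388664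
  [150,1,0,7,1] .nil)) 8388675 [150,3,7] (.node (.node (.node .nil 8388677 [150,6,3,3] .nil) 8388678
  [150,3,1,3,1] (.node .nil 8388681 [150,1,2,7] .nil)) 8388682 [150,5,2,0,5] (.node (.node .nil
  8388684 [150,2,5,6,0] .nil) 8388689 [102] .nil)))) 8388690 [102,1,7,7,3] (.node (.node (.node
  (.node (.node .nil 8388692 [102,4,2,3] .nil) 8388696 [102,3,0,2,0] (.node .nil 8388705
  [150,0,2,7,1] .nil)) 8388706 [150,4,1,3,1] (.node (.node .nil 8388708 [150,0,3,5] .nil) 8388712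
  [150,6,1,6,0] .nil)) 8388720 [102,2,1,0,2] (.node (.node (.node .nil 8388739 [150,1,1,2,0] .nil)
  8388741 [150,5,5,1,0] (.node .nil 8388742 [150,4,7,4,0] .nil)) 8388745 [150,3,7,3,0] (.node (.node
  .nil 8388746 [150,3,3,3,0] .nil) 8388748 [150,3,6,5] .nil))) 8388753 [102,5,3,6] (.node (.node
  (.node (.node .nil 8388754 [102,1,3,3,3] .nil) 8388756 [102,5,4,1] (.node .nil 8388760
  [102,4,1,6,0] .nil)) 8388769 [150,5,1,7,1] (.node (.node .nil 8388770 [150,4,4,6,1] .nil) 8388772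
  [150,2,0,5] .nil)) 8388776 [150,7,3,0,2] (.node (.node (.node .nil 8388784 [102,3,2,1] .nil)
  8388801 [102,7,5,4,0] (.node .nil 8388802 [102,6,2,0,1] .nil)) 8388804 [102,7,1,6,3] (.node (.node
  .nil 8388808 [102,7,2,5,1] .nil) 8388816 [150,5,7,6,0] .nil))))) 8388832 [102,3,2] (.node (.node
  (.node (.node (.node (.node .nil 8388867 [150,7,4] .nil) 8388869 [150,3,5,0,0] (.node .nil 8388870
  [150,6,7] .nil)) 8388873 [150,4,2,6,2] (.node (.node .nil 8388874 [150,4,5,5] .nil) 8388876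
  [150,1,7,4] .nil)) 8388881 [102,5,3,4] (.node (.node (.node .nil 8388882 [102,2,4,2,2] .nil)
  8388884 [102,7,7,2] (.node .nil 8388888 [102,6,7,7,1] .nil)) 8388897 [150,3,4,4,0] (.node (.node
  .nil 8388898 [150,1,7,1,2] .nil) 8388900 [150,4,3,0] .nil))) 8388904 [150,6,3] (.node (.node (.node
  (.node .nil 8388912 [102,4,6,1] .nil) 8388929 [102,6,2,3] (.node .nil 8388930 [102,4,2,6] .nil))
  8388932 [102,2,7,3,0] (.node (.node .nil 8388936 [102,7,7,7] .nil) 8388944 [150,7,4,5] .nil))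
  8388960 [102,5,3,5] (.node (.node (.node .nil 8388993 [102,2,2,7] .nil) 8388994 [102,7,4,1,1]
  (.node .nil 8388996 [102,6,6,0,2] .nil)) 8389000 [102,1,3,2,1] (.node (.node .nil 8389008
  [150,4,3,1,0] .nil) 8389024 [102,2,3,3,1] .nil)))) 8389056 [150,4,1,4,0] (.node (.node (.node
  (.node (.node .nil 8389123 [150,2,2,4,0] .nil) 8389125 [150,6,5,2,2] (.node .nil 8389126
  [150,1,5,3,1] .nil)) 8389129 [150,6,2,0] (.node (.node .nil 8389130 [150,1,7,7,7] .nil) 8389132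
  [150,6,2,1,2] .nil)) 8389137 [102,4,5,3,0] (.node (.node (.node .nil 8389138 [102,7,3,2] .nil)
  8389140 [102,2,0,7] (.node .nil 8389144 [102,3,6,0] .nil)) 8389153 [150,7,6,1] (.node (.node .nil
  8389154 [150,3,5,1] .nil) 8389156 [150,6,0] .nil))) 8389160 [150,6,0,7,2] (.node (.node (.node
  (.node .nil 8389168 [102,3,7,7,0] .nil) 8389185 [102,5,4,4] (.node .nil 8389186 [102,3,0,1,0]
  .nil)) 8389188 [102,1,4,2,1] (.node (.node .nil 8389192 [102,2,6,6] .nil) 8389200 [150,4,5,3,0]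
  .nil)) 8389216 [102,0,5,3] (.node (.node (.node .nil 8389249 [102,5,6,3,1] .nil) 8389250
  [102,4,1,0] .nil) 8389252 [102,1,0,1,2] (.node (.node .nil 8389256 [102,0,0,2] .nil) 8389264
  [150,5,7,2] .nil)))))) 8389280 [102,7,2,0] (.node (.node (.node (.node (.node (.node (.node .nil
  8389312 [150,4,6,7,0] .nil) 8389377 [102,4,1,7,0] (.node .nil 8389378 [102,2,0,0] .nil)) 8389380
  [102,6,6,4,0] (.node (.node .nil 8389384 [102,6,2,0] .nil) 8389392 [150,6,1,0] .nil)) 8389408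
  [102,6,3,6,2] (.node (.node (.node .nil 8389440 [150,3,3,0] .nil) 8389504 [150,0,5,5,1] (.node .nil
  8389635 [150,6,2,5,0] .nil)) 8389637 [150,1,1,7,6] (.node (.node .nil 8389638 [150,2,2] .nil)
  8389641 [150,0,7,3] .nil))) 8389642 [150,6,2,4,1] (.node (.node (.node (.node .nil 8389644
  [150,6,5,0] .nil) 8389649 [102,6,4,0] (.node .nil 8389650 [102,7,2,6,0] .nil)) 8389652 [102,7,1]
  (.node (.node .nil 8389656 [102,0,5,5] .nil) 8389665 [150,5,3,1] .nil)) 8389666 [150,0,2,5,0]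
  (.node (.node (.node .nil 8389668 [150,2,4,3] .nil) 8389672 [150,7,3,2] (.node .nil 8389680
  [102,3,2,2,0] .nil)) 8389697 [102,0,4,5,1] (.node (.node .nil 8389698 [102,6,3,2,3] .nil) 8389700
  [102,5,0,0] .nil)))) 8389704 [102,1,5,3] (.node (.node (.node (.node (.node .nil 8389712
  [150,7,4,6] .nil) 8389728 [102,5,7,4,0] (.node .nil 8389761 [102,1,1,6,0] .nil)) 8389762
  [102,4,3,4,0] (.node (.node .nil 8389764 [102,2,4,1] .nil) 8389768 [102,0,1,3] .nil)) 8389776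
  [150,5,1,7] (.node (.node (.node .nil 8389792 [102,1,6,3,0] .nil) 8389824 [150,1,2,2] (.node .nil
  8389889 [102,7,1,6] .nil)) 8389890 [102,3,1,3,0] (.node (.node .nil 8389892 [102,1,2,1,2] .nil)
  8389896 [102,6,5,0] .nil))) 8389904 [150,7,1] (.node (.node (.node (.node .nil 8389920 [102,2,1,7]
  .nil) 8389952 [150,6,2,3] (.node .nil 8390016 [150,2,3,6,6] .nil)) 8390145 [102,4,2,1] (.node
  (.node .nil 8390146 [102,6,6,6,0] .nil) 8390148 [102,0,6,0,0] .nil)) 8390152 [102,2,3,7] (.node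
  (.node (.node .nil 8390160 [150,0,3,2,0] .nil) 8390176 [102,4,6,3,5] (.node .nil 8390208
  [150,6,3,0,1] .nil)) 8390272 [150,2,7,4,3] (.node (.node .nil 8390400 [150,7,4,2] .nil) 8390659
  [150,1,1,0,0] .nil))))) 8390661 [150,7,4,4,0] (.node (.node (.node (.node (.node (.node .nil
  8390662 [150,5,1,5,4] .nil) 8390665 [150,0,1,0] (.node .nil 8390666 [150,2,1,6,1] .nil)) 8390668
  [150,7,3,1] (.node (.node .nil 8390673 [102,1,3,4,0] .nil) 8390674 [102,7,4,3,3] .nil)) 8390676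
  [102,3,4,6,0] (.node (.node (.node .nil 8390680 [102,6,6,3] .nil) 8390689 [150,4,4,4] (.node .nil
  8390690 [150,0,5,1] .nil)) 8390692 [150,3,1,0,0] (.node (.node .nil 8390696 [150,2,7,6,0] .nil)
  8390704 [102,7,7,1] .nil))) 8390721 [102,6,6,3,0] (.node (.node (.node (.node .nil 8390722
  [102,1,4,6,0] .nil) 8390724 [102,0,6,2,2] (.node .nil 8390728 [102,6,1,6,0] .nil)) 8390736
  [150,0,3,2] (.node (.node .nil 8390752 [102,4,3,3] .nil) 8390785 [102,2,4,0] .nil)) 8390786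
  [102,7,6,3,0] (.node (.node (.node .nil 8390788 [102,1,0,3,1] .nil) 8390792 [102,4,7,6,3] (.node
  .nil 8390800 [150,6,4] .nil)) 8390816 [102,2,0,5] (.node (.node .nil 8390848 [150,2,0,2,2] .nil)
  8390913 [102,2,0,2] .nil)))) 8390914 [102,4,5,5] (.node (.node (.node (.node (.node .nil 8390916
  [102,3,3] .nil) 8390920 [102,0,7,4] (.node .nil 8390928 [150,6,6,2,0] .nil)) 8390944 [102,2,4,0,0]
  (.node (.node .nil 8390976 [150,4,2,2,2] .nil) 8391040 [150,5,7,5,0] .nil)) 8391169 [102,6,6,0]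
  (.node (.node (.node .nil 8391170 [102,6,1,5] .nil) 8391172 [102,4,3,2] (.node .nil 8391176
  [102,2,1,0,0] .nil)) 8391184 [150,7,0,3,3] (.node (.node .nil 8391200 [102,7,0,0] .nil) 8391232
  [150,0,2,4,3] .nil))) 8391296 [150,0,2,4] (.node (.node (.node (.node .nil 8391424 [150,6,3,0,2]
  .nil) 8391681 [102,3,7,0,1] (.node .nil 8391682 [102,0,5,1] .nil)) 8391684 [102,5,5,0,0] (.node
  (.node .nil 8391688 [102,5,7,7,1] .nil) 8391696 [150,3,0,0,1] .nil)) 8391712 [102,2,6,6,1] (.node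
  (.node (.node .nil 8391744 [150,1,5,4] .nil) 8391808 [150,0,3,2,4] .nil) 8391936 [150,4,0,2,3]
  (.node (.node .nil 8392192 [150,1,1,7] .nil) 8392707 [150,1,5,4,3] .nil))))))) 8392709
  [150,0,5,0,1] (.node (.node (.node (.node (.node (.node (.node (.node .nil 8392710 [150,5,6,5]
  .nil) 8392713 [150,6,0,0] (.node .nil 8392714 [150,0,3,3] .nil)) 8392716 [150,4,2,0] (.node (.node
  .nil 8392721 [102,6,4,5] .nil) 8392722 [102,0,6,5] .nil)) 8392724 [102,4,6,5] (.node (.node (.node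
  .nil 8392728 [102,7,5] .nil) 8392737 [150,5,5,2] (.node .nil 8392738 [150,7,0,3,1] .nil)) 8392740
  [150,7,1,2,0] (.node (.node .nil 8392744 [150,4,1,2,0,0] .nil) 8392752 [102,5,2,1] .nil))) 8392769
  [102,4,6,4,0] (.node (.node (.node (.node .nil 8392770 [102,7,4,0] .nil) 8392772 [102,6,3,1] (.node
  .nil 8392776 [102,1,0] .nil)) 8392784 [150,1,6,4,1] (.node (.node .nil 8392800 [102,0,1,4] .nil)
  8392833 [102,0,2,3,0] .nil)) 8392834 [102,4,1,5] (.node (.node (.node .nil 8392836 [102,4,6,0]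
  .nil) 8392840 [102,3,3,3,0] (.node .nil 8392848 [150,0,1,4,0] .nil)) 8392864 [102,2,5,7,0] (.node
  (.node .nil 8392896 [150,4,3,0,2] .nil) 8392961 [102,0,4,6,1] .nil)))) 8392962 [102,6,7] (.node
  (.node (.node (.node (.node .nil 8392964 [102,3,0,5] .nil) 8392968 [102,5,5,1,4] (.node .nil
  8392976 [150,1,7] .nil)) 8392992 [102,6,4,1] (.node (.node .nil 8393024 [150,7,3,5,0] .nil) 8393088
  [150,5,1,1,2] .nil)) 8393217 [102,1,6,1,2] (.node (.node (.node .nil 8393218 [102,7,6,2] .nil)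
  8393220 [102,6,3,4] (.node .nil 8393224 [102,3,6,5,0] .nil)) 8393232 [150,6,4,1,5] (.node (.node
  .nil 8393248 [102,5,2] .nil) 8393280 [150,0,0,7,2] .nil))) 8393344 [150,1,3,6,0] (.node (.node
  (.node (.node .nil 8393472 [150,3,6,3,0] .nil) 8393729 [102,5,6,6] (.node .nil 8393730 [102,2,7,6]
  .nil)) 8393732 [102,5,1,6,2] (.node (.node .nil 8393736 [102,4,0,4,1] .nil) 8393744 [150,2,0,1,1]
  .nil)) 8393760 [102,0,1] (.node (.node (.node .nil 8393792 [150,4,6,3] .nil) 8393856 [150,1,4,1]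
  (.node .nil 8393984 [150,0,5,0,0] .nil)) 8394240 [150,4,6] (.node (.node .nil 8394753 [102,5,1,3]
  .nil) 8394754 [102,4,7,5,0] .nil))))) 8394756 [102,5,6,5] (.node (.node (.node (.node (.node (.node
  .nil 8394760 [102,5,5,5,0] .nil) 8394768 [150,4,6,1,5] (.node .nil 8394784 [102,6,3,0] .nil))
  8394816 [150,7,4,0] (.node (.node .nil 8394880 [150,7,6,3,0] .nil) 8395008 [150,7,2,7,4] .nil))
  8395264 [150,7,5,0] (.node (.node (.node .nil 8395776 [150,0,6] .nil) 8396803 [150,7,2,4,0] (.node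
  .nil 8396805 [150,1,6,0,0] .nil)) 8396806 [150,1,5,5,2] (.node (.node .nil 8396809 [150,4,0,2,2]
  .nil) 8396810 [150,7,1,1,1] .nil))) 8396812 [150,0,3,4,1] (.node (.node (.node (.node .nil 8396817
  [102,1,6,0,0] .nil) 8396818 [102,4,2,0,1] (.node .nil 8396820 [102,2,6,1] .nil)) 8396824
  [102,0,4,1,4] (.node (.node .nil 8396833 [150,6,4,3,1] .nil) 8396834 [150,0,0,7] .nil)) 8396836
  [150,1,4,0] (.node (.node (.node .nil 8396840 [150,3,2,0,0] .nil) 8396848 [102,3,5,0] (.node .nil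
  8396865 [102,5,3,3] .nil)) 8396866 [102,0,2,2,1] (.node (.node .nil 8396868 [102,6,2,5] .nil)
  8396872 [102,1,5,6,1] .nil)))) 8396880 [150,0,2,6] (.node (.node (.node (.node (.node .nil 8396896
  [102,2,6,0] .nil) 8396929 [102,5,3,6,1] (.node .nil 8396930 [102,1,1,5,2] .nil)) 8396932 [102,2,6]
  (.node (.node .nil 8396936 [102,3,2,0,0] .nil) 8396944 [150,2,0] .nil)) 8396960 [102,3,1,1] (.node
  (.node (.node .nil 8396992 [150,4,6,0,2] .nil) 8397057 [102,2,3,1] (.node .nil 8397058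
  [102,4,3,6,0] .nil)) 8397060 [102,3,7,1] (.node (.node .nil 8397064 [102,6,1] .nil) 8397072
  [150,4,7,5,1] .nil))) 8397088 [102,0,5,6] (.node (.node (.node (.node .nil 8397120 [150,3,0] .nil)
  8397184 [150,1,2,6,2] (.node .nil 8397313 [102,1,3,0] .nil)) 8397314 [102,2,7,7] (.node (.node .nil
  8397316 [102,4,7,7] .nil) 8397320 [102,7,4,4] .nil)) 8397328 [150,3,3,1,6] (.node (.node (.node
  .nil 8397344 [102,3,0,2,2] .nil) 8397376 [150,4,1,4,4] .nil) 8397440 [150,2,0,3] (.node (.node .nil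
  8397568 [150,1,4,6,0] .nil) 8397825 [102,2,2,6,0] .nil)))))) 8397826 [102,6,4,3] (.node (.node
  (.node (.node (.node (.node (.node .nil 8397828 [102,3,4,5] .nil) 8397832 [102,0,0,0,0] (.node .nil
  8397840 [150,2,3,0] .nil)) 8397856 [102,6,7,0] (.node (.node .nil 8397888 [150,6,5,0,2] .nil)
  8397952 [150,5,7,1,0] .nil)) 8398080 [150,2,2,7,0] (.node (.node (.node .nil 8398336 [150,7,2,2]
  .nil) 8398849 [102,4,5,0,0] (.node .nil 8398850 [102,6,4,0,0] .nil)) 8398852 [102,3,1,0,0] (.node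
  (.node .nil 8398856 [102,6,0,2] .nil) 8398864 [150,7,0] .nil))) 8398880 [102,5,0,4] (.node (.node
  (.node (.node .nil 8398912 [150,5,1,0,2] .nil) 8398976 [150,6,3,2,1] (.node .nil 8399104
  [150,3,5,7] .nil)) 8399360 [150,4,1,7,3] (.node (.node .nil 8399872 [150,1,7,1] .nil) 8400897
  [102,3,3,2,2] .nil)) 8400898 [102,6,4,7,1] (.node (.node (.node .nil 8400900 [102,5,1,4,3] .nil)
  8400904 [102,1,1,2] (.node .nil 8400912 [150,3,4,4,3] .nil)) 8400928 [102,5,6,1,1] (.node (.node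
  .nil 8400960 [150,1,0] .nil) 8401024 [150,5,5,1,2] .nil)))) 8401152 [150,5,2,3,0] (.node (.node
  (.node (.node (.node .nil 8401408 [150,7,1,7,2] .nil) 8401920 [150,2,2,2,0] (.node .nil 8402944
  [150,7,3,0] .nil)) 8404995 [1254,2,3] (.node (.node .nil 8404997 [1254,2,0] .nil) 8404998
  [1254,5,2] .nil)) 8405001 [1254,0,2] (.node (.node (.node .nil 8405002 [1254,1,1] .nil) 8405004
  [1254,7,2,0] (.node .nil 8405009 [150,3,3,0,5] .nil)) 8405010 [150,1,5,2,0] (.node (.node .nil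
  8405012 [150,1,7,7] .nil) 8405016 [150,2,7,4] .nil))) 8405025 [1254,3] (.node (.node (.node (.node
  .nil 8405026 [1254,3,2,0] .nil) 8405028 [1254,0,0] (.node .nil 8405032 [1254,1,5,0] .nil)) 8405040
  [150,3,2,3] (.node (.node .nil 8405057 [150,1,0,6] .nil) 8405058 [150,4,2,6] .nil)) 8405060
  [150,5,4,6,1] (.node (.node (.node .nil 8405064 [150,2] .nil) 8405072 [102,4,3,7] .nil) 8405088
  [150,0,6,3] (.node (.node .nil 8405121 [150,3,0,6,0] .nil) 8405122 [150,6,2,0,1] .nil))))) 8405124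
  [150,4,3,3,3,0] (.node (.node (.node (.node (.node (.node .nil 8405128 [150,4,4,2,1,0] .nil)
  8405136 [102,5,3,5,1] (.node .nil 8405152 [150,3,5,2] .nil)) 8405184 [102,1,4,3,0] (.node (.node
  .nil 8405249 [150,0,2,2,2] .nil) 8405250 [150,6,2,6] .nil)) 8405252 [150,2,3,1,6] (.node (.node
  (.node .nil 8405256 [150,3,4,7,1,0] .nil) 8405264 [102,0,2,5] (.node .nil 8405280 [150,1,7,0]
  .nil)) 8405312 [102,6,3,7] (.node (.node .nil 8405376 [102,2,5,0] .nil) 8405505 [150,1,7,5,0]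
  .nil))) 8405506 [150,4,0,5,1] (.node (.node (.node (.node .nil 8405508 [150,0,6,0,0] .nil) 8405512
  [150,0,0,2] (.node .nil 8405520 [102,2,7,4] .nil)) 8405536 [150,7,4,6,1] (.node (.node .nil 8405568
  [102,4,1,3] .nil) 8405632 [102,0,5,5,1] .nil)) 8405760 [102,7,1,5] (.node (.node (.node .nil
  8406017 [150,0,5,4] .nil) 8406018 [150,1,7,5,3] (.node .nil 8406020 [150,7,2,5,0] .nil)) 8406024
  [150,2,3,7] (.node (.node .nil 8406032 [102,4,1,4,1] .nil) 8406048 [150,1,5,5,0] .nil)))) 8406080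
  [102,2] (.node (.node (.node (.node (.node .nil 8406144 [102,1,0,7] .nil) 8406272 [102,7,6,6,0]
  (.node .nil 8406528 [102,1,1,7] .nil)) 8407041 [150,0,0,5] (.node (.node .nil 8407042 [150,7,0,5,1]
  .nil) 8407044 [150,4,0,3,3] .nil)) 8407048 [150,1,2,6,1] (.node (.node (.node .nil 8407056
  [102,4,7,4,0] .nil) 8407072 [150,2,6,3,0] (.node .nil 8407104 [102,3,4,0,2] .nil)) 8407168
  [102,0,4,4] (.node (.node .nil 8407296 [102,7,1,3,0] .nil) 8407552 [102,3,0] .nil))) 8408064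
  [102,0,6] (.node (.node (.node (.node .nil 8409089 [150,0,4,3] .nil) 8409090 [150,5,3,3,0] (.node
  .nil 8409092 [150,7,5,1] .nil)) 8409096 [150,0,2] (.node (.node .nil 8409104 [102,4,4,7] .nil)
  8409120 [150,4,2,4] .nil)) 8409152 [102,2,3,6,1] (.node (.node (.node .nil 8409216 [102,2,0,3,1]
  .nil) 8409344 [102,4,5] .nil) 8409600 [102,0,1,0] (.node (.node .nil 8410112 [102,7,7,7,4] .nil)
  8411136 [102,0,4,1] .nil)))))))) 8413185 [150,7,7] (.node (.node (.node (.node (.node (.node (.node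
  (.node (.node .nil 8413186 [150,7,2,6] .nil) 8413188 [150,7,4,3,2] (.node .nil 8413192 [150,1,4,4]
  .nil)) 8413200 [102,1,3,6] (.node (.node .nil 8413216 [150,1,3,6] .nil) 8413248 [102,5,1,5] .nil))
  8413312 [102,5,0,7] (.node (.node (.node .nil 8413440 [102,4,3,1,5] .nil) 8413696 [102,3,5] (.node
  .nil 8414208 [102,0,6,4] .nil)) 8415232 [102,3,3,0] (.node (.node .nil 8417280 [102,7,0,1,0] .nil)
  8421379 [150,7,1,7,0] .nil))) 8421381 [150,7,2,0,3] (.node (.node (.node (.node .nil 8421382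
  [150,7,6,3] .nil) 8421385 [150,0,4,2,1] (.node .nil 8421386 [150,2,3,5,5] .nil)) 8421388
  [150,1,2,4] (.node (.node .nil 8421393 [102,4,2,5] .nil) 8421394 [102,3,3,5,1] .nil)) 8421396
  [102,2,3] (.node (.node (.node .nil 8421400 [102,1,7,0,0] .nil) 8421409 [150,0,3,1] (.node .nil
  8421410 [150,3,0,7] .nil)) 8421412 [150,7,3,5] (.node (.node .nil 8421416 [150,0,4,4,0] .nil)
  8421424 [102,4,3,5,2] .nil)))) 8421441 [102,3,2,4,0] (.node (.node (.node (.node (.node .nil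
  8421442 [102,7,1,7,0] .nil) 8421444 [102,7,5,6,1] (.node .nil 8421448 [102,4,1] .nil)) 8421456
  [150,3,7,2] (.node (.node .nil 8421472 [102,5,4,7,0] .nil) 8421505 [102,5,4,3,1] .nil)) 8421506
  [102,0,7,7] (.node (.node (.node .nil 8421508 [102,7,5,3] .nil) 8421512 [102,4,0,2] (.node .nil
  8421520 [150,2,2,1,1] .nil)) 8421536 [102,6,2] (.node (.node .nil 8421568 [150,1,0,1] .nil) 8421633
  [102,4,4,7,3] .nil))) 8421634 [102,7,5,6,3] (.node (.node (.node (.node .nil 8421636 [102,0,5,6,0]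
  .nil) 8421640 [102,2,2,3,0] (.node .nil 8421648 [150,4,6,1] .nil)) 8421664 [102,6,2,0,2] (.node
  (.node .nil 8421696 [150,4,7,2,0] .nil) 8421760 [150,5,1,2,2] .nil)) 8421889 [102,0,7,1,1] (.node
  (.node (.node .nil 8421890 [102,0,3,2] .nil) 8421892 [102,7,3,5] (.node .nil 8421896 [102,0,4,2,1]
  .nil)) 8421904 [150,1,2,1] (.node (.node .nil 8421920 [102,6,4,0,4] .nil) 8421952 [150,5,0,5]
  .nil))))) 8422016 [150,3,4,2,2] (.node (.node (.node (.node (.node (.node .nil 8422144 [150,0,1,4]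
  .nil) 8422401 [102,0,1,2] (.node .nil 8422402 [102,3,0,7] .nil)) 8422404 [102,5,3] (.node (.node
  .nil 8422408 [102,7,1,6,5] .nil) 8422416 [150,1,3,7,2] .nil)) 8422432 [102,4,1,4,2] (.node (.node
  (.node .nil 8422464 [150,6,2,5,2] .nil) 8422528 [150,3,5,1,2] (.node .nil 8422656 [150,3,7,1,0]
  .nil)) 8422912 [150,7,0,0,2] (.node (.node .nil 8423425 [102,2,5,1] .nil) 8423426 [102,5,1,6,0]
  .nil))) 8423428 [102,0,2,6] (.node (.node (.node (.node .nil 8423432 [102,4] .nil) 8423440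
  [150,7,0,3] (.node .nil 8423456 [102,4,5,6,1] .nil)) 8423488 [150,2,3,1,0] (.node (.node .nil
  8423552 [150,3,6,2] .nil) 8423680 [150,6,4,4,2] .nil)) 8423936 [150,6,7,4,2] (.node (.node (.node
  .nil 8424448 [150,5,4,4] .nil) 8425473 [102,6,6,1,3] (.node .nil 8425474 [102,2,1,5] .nil)) 8425476
  [102,6,3] (.node (.node .nil 8425480 [102,4,7,2,4] .nil) 8425488 [150,2,4,3,6] .nil)))) 8425504
  [102,6,7,4,1] (.node (.node (.node (.node (.node .nil 8425536 [150,7,3] .nil) 8425600 [150,5,6,2]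
  (.node .nil 8425728 [150,6,4,1] .nil)) 8425984 [150,7] (.node (.node .nil 8426496 [150,4,0,4,1]
  .nil) 8427520 [150,5,7,3] .nil)) 8429569 [102,0,6,7,0] (.node (.node (.node .nil 8429570
  [102,0,0,5,2] .nil) 8429572 [102,5,4,4,2] (.node .nil 8429576 [102,6] .nil)) 8429584 [150,6,1,2]
  (.node (.node .nil 8429600 [102,6,6,4] .nil) 8429632 [150,3,2,1] .nil))) 8429696 [150,4,3,2,1]
  (.node (.node (.node (.node .nil 8429824 [150,0] .nil) 8430080 [150,5,0,6] (.node .nil 8430592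
  [150,3,1,1,4] .nil)) 8431616 [150,2,5,1] (.node (.node .nil 8433664 [150,2,7,2] .nil) 8437761
  [150,3,2,1,1] .nil)) 8437762 [150,4,3,5,1] (.node (.node (.node .nil 8437764 [150,0,0,1,0] .nil)
  8437768 [150,5,2,0,1] .nil) 8437776 [102,3,3,6] (.node (.node .nil 8437792 [150,2,2,6,0] .nil)
  8437824 [102,7,0,6] .nil)))))) 8437888 [102,4,4,1,0] (.node (.node (.node (.node (.node (.node
  (.node .nil 8438016 [102,2,5,5] .nil) 8438272 [102,1,6,6] (.node .nil 8438784 [102,3,3,6,1] .nil))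
  8439808 [102,0,4] (.node (.node .nil 8441856 [102,1,6,4] .nil) 8445952 [102,6,7,6,2] .nil)) 8454147
  [150,3,3,2,0] (.node (.node (.node .nil 8454149 [150,1,4,5,0] .nil) 8454150 [150,4,5,1] (.node .nil
  8454153 [150,4,4,6,0] .nil)) 8454154 [150,1,1,3,1] (.node (.node .nil 8454156 [150,0,0,6] .nil)
  8454161 [102,0,0,5,0] .nil))) 8454162 [102,0,0,3] (.node (.node (.node (.node .nil 8454164
  [102,2,6,2,0] .nil) 8454168 [102,2,2,0,0] (.node .nil 8454177 [150,0,2,3] .nil)) 8454178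
  [150,2,5,7] (.node (.node .nil 8454180 [150,6,5,7,2] .nil) 8454184 [150,3,6,4,1] .nil)) 8454192
  [102,5,5,0] (.node (.node (.node .nil 8454209 [102,4,5,2] .nil) 8454210 [102,3,2,6] (.node .nil
  8454212 [102,6,5,3,0] .nil)) 8454216 [102,5,3,2] (.node (.node .nil 8454224 [150,2,6,1,0] .nil)
  8454240 [102,2,1,2,1] .nil)))) 8454273 [102,6,7,7] (.node (.node (.node (.node (.node .nil 8454274
  [102,7,0,1] .nil) 8454276 [102,3,0,2,3] (.node .nil 8454280 [102,2,0,3,2] .nil)) 8454288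
  [150,3,3,6,2] (.node (.node .nil 8454304 [102,6,2,7] .nil) 8454336 [150,3,2] .nil)) 8454401
  [102,2,1,0,3] (.node (.node (.node .nil 8454402 [102,4,4,4,1] .nil) 8454404 [102,1,7,4] (.node .nil
  8454408 [102,3] .nil)) 8454416 [150,5,4,5,1] (.node (.node .nil 8454432 [102,5,1,4] .nil) 8454464
  [150,6,5,3,0] .nil))) 8454528 [150,6,1,4,4] (.node (.node (.node (.node .nil 8454657 [102,6,5,7,1]
  .nil) 8454658 [102,6,1,3,0] (.node .nil 8454660 [102,1,3,4] .nil)) 8454664 [102,4,6,2,0] (.node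
  (.node .nil 8454672 [150,7,5,3] .nil) 8454688 [102,7,2,5] .nil)) 8454720 [150,5,2,0,7] (.node
  (.node (.node .nil 8454784 [150,5,2,1] .nil) 8454912 [150,3,5,2,1] (.node .nil 8455169
  [102,7,0,3,1] .nil)) 8455170 [102,5,6,4,0] (.node (.node .nil 8455172 [102,5,7,1] .nil) 8455176
  [102,5,4,3,3] .nil))))) 8455184 [150,2,3,3,0] (.node (.node (.node (.node (.node (.node .nil
  8455200 [102,0,2,5,0] .nil) 8455232 [150,3,0,1,2] (.node .nil 8455296 [150,0,6,3,0] .nil)) 8455424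
  [150,5,0,3] (.node (.node .nil 8455680 [150,5,0] .nil) 8456193 [102,6,0,1,4] .nil)) 8456194
  [102,6,1,0] (.node (.node (.node .nil 8456196 [102,1,1,4,6] .nil) 8456200 [102,7,6,4] (.node .nil
  8456208 [150,0,2,1,0] .nil)) 8456224 [102,2,3,4,0] (.node (.node .nil 8456256 [150,1,7,0,3] .nil)
  8456320 [150,6,3,4] .nil))) 8456448 [150,1,0,0] (.node (.node (.node (.node .nil 8456704
  [150,3,7,7] .nil) 8457216 [150,2,5,2,2] (.node .nil 8458241 [102,1,4,1,0] .nil)) 8458242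
  [102,3,5,5] (.node (.node .nil 8458244 [102,0,2,7] .nil) 8458248 [102,7,4,7] .nil)) 8458256
  [150,5,6,7] (.node (.node (.node .nil 8458272 [102,0,5,0] .nil) 8458304 [150,5,6,2,7] (.node .nil
  8458368 [150,1,6,1,4] .nil)) 8458496 [150,1,6,6,0] (.node (.node .nil 8458752 [150,1,1,6,0] .nil)
  8459264 [150,1,1,7,1] .nil)))) 8460288 [150,1,6] (.node (.node (.node (.node (.node .nil 8462337
  [102,4,1,4] .nil) 8462338 [102,2,3,5] (.node .nil 8462340 [102,5,4,5] .nil)) 8462344 [102,1,3,3]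
  (.node (.node .nil 8462352 [150,3,5,7,1] .nil) 8462368 [102,5,7,2] .nil)) 8462400 [150,4,5,0,3]
  (.node (.node (.node .nil 8462464 [150,6,0,7,0] .nil) 8462592 [150,6,5,5,0] (.node .nil 8462848
  [150,2,6,2] .nil)) 8463360 [150,0,5,6,5] (.node (.node .nil 8464384 [150,5,6,3,1] .nil) 8466432
  [150,4,6,0,0] .nil))) 8470529 [150,7,3,2,0] (.node (.node (.node (.node .nil 8470530 [150,3,5,5]
  .nil) 8470532 [150,0,6,2,0] (.node .nil 8470536 [150,7,5,5] .nil)) 8470544 [102,3,7,4] (.node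
  (.node .nil 8470560 [150,1,1,5] .nil) 8470592 [102,0,6,2,0] .nil)) 8470656 [102,7,5,5] (.node
  (.node (.node .nil 8470784 [102,6,1,3] .nil) 8471040 [102,3,4,7] .nil) 8471552 [102,2,5,4,4] (.node
  (.node .nil 8472576 [102,1,2,2,0] .nil) 8474624 [102,7,4,4,1] .nil))))))) 8478720 [102,7,2,6]
  (.node (.node (.node (.node (.node (.node (.node (.node .nil 8486913 [102,5,3,0] .nil) 8486914
  [102,0,6,3,3] (.node .nil 8486916 [102,7,6,3] .nil)) 8486920 [102,6,2,4,3] (.node (.node .nil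
  8486928 [150,0,4,1] .nil) 8486944 [102,3,4,2] .nil)) 8486976 [150,3,0,2,2] (.node (.node (.node
  .nil 8487040 [150,4,2,2,0] .nil) 8487168 [150,2,1,1] (.node .nil 8487424 [150,2,7,6] .nil)) 8487936
  [150,5,5,7] (.node (.node .nil 8488960 [150,4,2,4,0] .nil) 8491008 [150,2,6,6] .nil))) 8495104
  [150,3,4,5,2] (.node (.node (.node (.node .nil 8503296 [102,5,2,0,1] .nil) 8519683 [1254,0,3]
  (.node .nil 8519685 [1254,3,3] .nil)) 8519686 [1254,6,1] (.node (.node .nil 8519689 [1254,4,0]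
  .nil) 8519690 [1254,1,2] .nil)) 8519692 [1254,1] (.node (.node (.node .nil 8519697 [150,2,4,3,0]
  .nil) 8519698 [150,3,3,5,1] (.node .nil 8519700 [150,7,2,0,0] .nil)) 8519704 [150,3,6,0] (.node
  (.node .nil 8519713 [1254,5] .nil) 8519714 [1254,4,2] .nil)))) 8519716 [1254,3,0] (.node (.node
  (.node (.node (.node .nil 8519720 [1254,3,5,0] .nil) 8519728 [150,0,2,2,0] (.node .nil 8519745
  [150,3,2,4,0] .nil)) 8519746 [150,3,2,6] (.node (.node .nil 8519748 [150,5,6,1] .nil) 8519752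
  [150,4,3] .nil)) 8519760 [102,5,6,1] (.node (.node (.node .nil 8519776 [150,1,4,5] .nil) 8519809
  [150,5,2,1,1] (.node .nil 8519810 [150,4,2,1,0] .nil)) 8519812 [150,6,2,6,1] (.node (.node .nil
  8519816 [150,5,5,5,1] .nil) 8519824 [102,0,2,6,0] .nil))) 8519840 [150,1,0,1,1] (.node (.node
  (.node (.node .nil 8519872 [102,1,2,2] .nil) 8519937 [150,7,5,3,0] (.node .nil 8519938
  [150,6,1,3,1] .nil)) 8519940 [150,7,2,2,0] (.node (.node .nil 8519944 [150,0,2,3,0] .nil) 8519952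
  [102,1,0,2] .nil)) 8519968 [150,1,5,7,0] (.node (.node (.node .nil 8520000 [102,4,3,1,1] .nil)
  8520064 [102,4,1,4,0] (.node .nil 8520193 [150,1,3,1,2] .nil)) 8520194 [150,1,0,3,2] (.node (.node
  .nil 8520196 [150,0,7,1,0] .nil) 8520200 [150,5,2,4,0] .nil))))) 8520208 [102,1,2,1] (.node (.node
  (.node (.node (.node (.node .nil 8520224 [150,6,4,0,4] .nil) 8520256 [102,6,2,4] (.node .nil
  8520320 [102,5,2,4,0] .nil)) 8520448 [102,5,7,1,1] (.node (.node .nil 8520705 [150,3,4] .nil)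
  8520706 [150,7,1,4,0] .nil)) 8520708 [150,5,5,0,0] (.node (.node (.node .nil 8520712 [150,4,7,1]
  .nil) 8520720 [102,6,7,1,1] (.node .nil 8520736 [150,5,4,4,0] .nil)) 8520768 [102,6,6,5,0] (.node
  (.node .nil 8520832 [102,3,3,6,3] .nil) 8520960 [102,1,3,1] .nil))) 8521216 [102,6,7,0,0] (.node
  (.node (.node (.node .nil 8521729 [150,6,7,6] .nil) 8521730 [150,3,2,0,1] (.node .nil 8521732
  [150,1,3,6,1] .nil)) 8521736 [150,0,6,6] (.node (.node .nil 8521744 [102,0,4,0,0] .nil) 8521760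
  [150,5,0,4] .nil)) 8521792 [102,0,0,1] (.node (.node (.node .nil 8521856 [102,4,3,1,2] .nil)
  8521984 [102,4,7,6] (.node .nil 8522240 [102,4,7,4] .nil)) 8522752 [102,0,2,4,0] (.node (.node .nil
  8523777 [150,4,0] .nil) 8523778 [150,1,6,5] .nil)))) 8523780 [150,2,1] (.node (.node (.node (.node
  (.node .nil 8523784 [150,2,0,3,0] .nil) 8523792 [102,3,5,2] (.node .nil 8523808 [150,6,7,2] .nil))
  8523840 [102,6,6,1,1] (.node (.node .nil 8523904 [102,3,0,5,0] .nil) 8524032 [102,3,6,3,0] .nil))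
  8524288 [102,6,1,1] (.node (.node (.node .nil 8524800 [102,1,1,0] .nil) 8525824 [102,0,6,6] (.node
  .nil 8527873 [150,6,2,7] .nil)) 8527874 [150,5,5,3,0] (.node (.node .nil 8527876 [150,6,5,3] .nil)
  8527880 [150,5,4] .nil))) 8527888 [102,6,0] (.node (.node (.node (.node .nil 8527904 [150,5,7,0,3]
  .nil) 8527936 [102,2,2,6,1] (.node .nil 8528000 [102,0,3,4] .nil)) 8528128 [102,1,1,3] (.node
  (.node .nil 8528384 [102,4,2,7] .nil) 8528896 [102,1,5,3,2] .nil)) 8529920 [102,4,2] (.node (.node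
  (.node .nil 8531968 [102,2,7,2] .nil) 8536065 [1254,0,1] .nil) 8536066 [1254,2,2,0] (.node (.node
  .nil 8536068 [1254,5,1] .nil) 8536072 [1254,2] .nil)))))) 8536080 [150,0,4,0,0] (.node (.node
  (.node (.node (.node (.node (.node .nil 8536096 [1254,4] .nil) 8536128 [150,6,3,7] (.node .nil
  8536192 [150,0,1] .nil)) 8536320 [150,4,2,2] (.node (.node .nil 8536576 [150,5,7] .nil) 8537088
  [150,3,4,7,2] .nil)) 8538112 [150,5,2,7,0] (.node (.node (.node .nil 8540160 [150,6] .nil) 8544256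
  [150,4,0,3,0] (.node .nil 8552449 [150,4,6,4] .nil)) 8552450 [150,7,4,3,0] (.node (.node .nil
  8552452 [150,6,4,4] .nil) 8552456 [150,0,5] .nil))) 8552464 [102,6,1,2] (.node (.node (.node (.node
  .nil 8552480 [150,3,1,0,3] .nil) 8552512 [102,6,1,2,1] (.node .nil 8552576 [102,0,3,5,2] .nil))
  8552704 [102,6,3,3] (.node (.node .nil 8552960 [102,6,4,4] .nil) 8553472 [102,4,1,1,2] .nil))
  8554496 [102,4,6,4] (.node (.node (.node .nil 8556544 [102,2,6,2,1] .nil) 8560640 [102,5,7,0,1]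
  (.node .nil 8568832 [150,1,1,2] .nil)) 8585217 [150,2,6,0] (.node (.node .nil 8585218 [150,0,4,3,1]
  .nil) 8585220 [150,3,5,3,1] .nil)))) 8585224 [150,3,2,4,3] (.node (.node (.node (.node (.node .nil
  8585232 [102,4,5,5,2] .nil) 8585248 [150,7,0,3,2] (.node .nil 8585280 [102,0,4,3,1] .nil)) 8585344
  [102,4,2,2,0] (.node (.node .nil 8585472 [102,4,7,6,1] .nil) 8585728 [102,1,5,4,0] .nil)) 8586240
  [102,5,3,6,2] (.node (.node (.node .nil 8587264 [102,7] .nil) 8589312 [102,2,2,0] (.node .nil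
  8593408 [102,4,7,3] .nil)) 8601600 [150,4,7,6,3] (.node (.node .nil 8617984 [102,3,1,2] .nil)
  8650755 [150,4,6,6,0] .nil))) 8650757 [150,7,0,4] (.node (.node (.node (.node .nil 8650758
  [150,2,0,2] .nil) 8650761 [150,4,5,0] (.node .nil 8650762 [150,4,2,4,1] .nil)) 8650764
  [150,0,4,0,1] (.node (.node .nil 8650769 [102,2,6,4,1] .nil) 8650770 [102,6,6] .nil)) 8650772
  [102,0,4,0,1] (.node (.node (.node .nil 8650776 [102,5,5,2] .nil) 8650785 [150,3,0,4] .nil) 8650786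
  [150,2,6] (.node (.node .nil 8650788 [150,4,6,2,3] .nil) 8650792 [150,4,0,7,1] .nil))))) 8650800
  [102,6,0,0] (.node (.node (.node (.node (.node (.node .nil 8650817 [102,3,3,0,0] .nil) 8650818
  [102,3,7] (.node .nil 8650820 [102,5,2,0] .nil)) 8650824 [102,4,5,0] (.node (.node .nil 8650832
  [150,4,2,3] .nil) 8650848 [102,6,4,2] .nil)) 8650881 [102,1,2,6] (.node (.node (.node .nil 8650882
  [102,4,2,1,0] .nil) 8650884 [102,3,6,5] (.node .nil 8650888 [102,0] .nil)) 8650896 [150,6,7,5,0]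
  (.node (.node .nil 8650912 [102,3,2,4] .nil) 8650944 [150,4,2,4,3] .nil))) 8651009 [102,7,4] (.node
  (.node (.node (.node .nil 8651010 [102,0,3,0,0] .nil) 8651012 [102,2,7,0] (.node .nil 8651016
  [102,0,7] .nil)) 8651024 [150,0,5,3,1] (.node (.node .nil 8651040 [102,5,5,3] .nil) 8651072
  [150,0,0,3,0] .nil)) 8651136 [150,2,4,2] (.node (.node (.node .nil 8651265 [102,1,0,1,0] .nil)
  8651266 [102,5,1,7] (.node .nil 8651268 [102,4,6,4,6] .nil)) 8651272 [102,2,2,5,6] (.node (.node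
  .nil 8651280 [150,3,6,5,3] .nil) 8651296 [102,6,5,2,1] .nil)))) 8651328 [150,1,0,2] (.node (.node
  (.node (.node (.node .nil 8651392 [150,6,3,1] .nil) 8651520 [150,0,1,2,1] (.node .nil 8651777
  [102,3,4] .nil)) 8651778 [102,7,3,5,0] (.node (.node .nil 8651780 [102,2,1,0] .nil) 8651784
  [102,5,6,3,0] .nil)) 8651792 [150,4,3,2,3] (.node (.node (.node .nil 8651808 [102,3,0,4] .nil)
  8651840 [150,4,4,6,4] (.node .nil 8651904 [150,2,7,3] .nil)) 8652032 [150,6,6,1,0] (.node (.node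
  .nil 8652288 [150,7,1,2] .nil) 8652801 [102,6,3,0,0] .nil))) 8652802 [102,1,3] (.node (.node (.node
  (.node .nil 8652804 [102,7,2,0,0,0] .nil) 8652808 [102,3,1,6,0] (.node .nil 8652816 [150,4,2,5,2]
  .nil)) 8652832 [102,7,5,0,0] (.node (.node .nil 8652864 [150,0,5,5,3] .nil) 8652928 [150,3,7,3]
  .nil)) 8653056 [150,6,0,4] (.node (.node (.node .nil 8653312 [150,2,6,3,2] .nil) 8653824
  [150,2,4,1,0] .nil) 8654849 [102,5,1,6,1] (.node (.node .nil 8654850 [102,2,5,6] .nil) 8654852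
  [102,6,5,7,0] .nil))))))))) 8654856 [102,5,0,5,0] (.node (.node (.node (.node (.node (.node (.node
  (.node (.node (.node .nil 8654864 [150,7,1,5] .nil) 8654880 [102,4,7,0,0] (.node .nil 8654912
  [150,5,4,5,7] .nil)) 8654976 [150,4,3,6,0] (.node (.node .nil 8655104 [150,3,2,6,1] .nil) 8655360
  [150,7,7,4] .nil)) 8655872 [150,1,2,1,0] (.node (.node (.node .nil 8656896 [150,1,6,3] .nil)
  8658945 [102,7,3,0,0] (.node .nil 8658946 [102,1,0,5] .nil)) 8658948 [102,2,1,1,2] (.node (.node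
  .nil 8658952 [102,7,6,1,0] .nil) 8658960 [150,6,0,1,2] .nil))) 8658976 [102,1,4,0] (.node (.node
  (.node (.node .nil 8659008 [150,0,4,0] .nil) 8659072 [150,6,1,6] (.node .nil 8659200 [150,0,0,4,0]
  .nil)) 8659456 [150,6,2] (.node (.node .nil 8659968 [150,2,1,0] .nil) 8660992 [150,1,2,7,0] .nil))
  8663040 [150,2,5,7,2,0] (.node (.node (.node .nil 8667137 [150,1,4,6] .nil) 8667138 [150,1,5,0,0]
  (.node .nil 8667140 [150,2,6,0,0] .nil)) 8667144 [150,6,7,6,0] (.node (.node .nil 8667152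
  [102,1,1,0,2] .nil) 8667168 [150,2,4,0] .nil)))) 8667200 [102,3,6,1,0] (.node (.node (.node (.node
  (.node .nil 8667264 [102,3,1,3] .nil) 8667392 [102,1,6,0] (.node .nil 8667648 [102,6,0,4,5] .nil))
  8668160 [102,1,1] (.node (.node .nil 8669184 [102,6,3,6] .nil) 8671232 [102,5,3,1,6] .nil)) 8675328
  [102,7,7] (.node (.node (.node .nil 8683521 [102,2,0,5,0] .nil) 8683522 [102,4,4,3] (.node .nil
  8683524 [102,1,4,3] .nil)) 8683528 [102,0,1,1,4] (.node (.node .nil 8683536 [150,1,3,5,1] .nil)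
  8683552 [102,2,2,2,0] .nil))) 8683584 [150,7,4,3] (.node (.node (.node (.node .nil 8683648
  [150,4,5,7,0] .nil) 8683776 [150,6,4,7,1] (.node .nil 8684032 [150,1,0,6,0] .nil)) 8684544
  [150,4,4,2,0] (.node (.node .nil 8685568 [150,6,7,7] .nil) 8687616 [150,2,1,5] .nil)) 8691712
  [150,0,3] (.node (.node (.node .nil 8699904 [102,1,7,2,1] .nil) 8716289 [102,2,5,2] (.node .nil
  8716290 [102,2,0,1,0] .nil)) 8716292 [102,4,5,1] (.node (.node .nil 8716296 [102,2,7,6,2] .nil)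
  8716304 [150,5,4,4,3] .nil))))) 8716320 [102,2,6,1,1] (.node (.node (.node (.node (.node (.node
  .nil 8716352 [150,7,0,7,1] .nil) 8716416 [150,2,7] (.node .nil 8716544 [150,6,0,2,1] .nil)) 8716800
  [150,7,6] (.node (.node .nil 8717312 [150,0,1,7,0] .nil) 8718336 [150,6,6,5] .nil)) 8720384
  [150,3,0,1] (.node (.node (.node .nil 8724480 [150,6,1,5] .nil) 8732672 [102,0,0,0,2] (.node .nil
  8749056 [150,1,4,3] .nil)) 8781825 [150,3,3,2,3] (.node (.node .nil 8781826 [150,2,7,5,1] .nil)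
  8781828 [150,2,4,2,0] .nil))) 8781832 [150,6,5,4,1] (.node (.node (.node (.node .nil 8781840
  [102,1,4,0,2] .nil) 8781856 [150,1,1,1] (.node .nil 8781888 [102,3,6,0,0] .nil)) 8781952
  [102,2,6,3] (.node (.node .nil 8782080 [102,0,3,1,0] .nil) 8782336 [102,4,6,6,1] .nil)) 8782848
  [102,2,6,3,1] (.node (.node (.node .nil 8783872 [102,4,2,1,3] .nil) 8785920 [102,2,3,2,0] (.node
  .nil 8790016 [102,6,5,3] .nil)) 8798208 [150,1,4,0,2] (.node (.node .nil 8814592 [102,4,7,0] .nil)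
  8847360 [102,1,6,7] .nil)))) 8912899 [150,3,6,6,0] (.node (.node (.node (.node (.node .nil 8912901
  [150,0,5,6] .nil) 8912902 [150,0,5,2,1] (.node .nil 8912905 [150,3,1,6] .nil)) 8912906
  [150,3,2,7,3] (.node (.node .nil 8912908 [150,0,0,0,1] .nil) 8912913 [102,4,1,6,1] .nil)) 8912914
  [102,5,6,0] (.node (.node (.node .nil 8912916 [102,6,7,5] .nil) 8912920 [102,7,3,0] (.node .nil
  8912929 [150,0,5,0,2] .nil)) 8912930 [150,1,5,1,0] (.node (.node .nil 8912932 [150,7,1,0,0] .nil)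
  8912936 [150,1,0,3] .nil))) 8912944 [102,7,1,0,0] (.node (.node (.node (.node .nil 8912961
  [102,7,7,0] .nil) 8912962 [102,1,4,1] (.node .nil 8912964 [102,3,7,5] .nil)) 8912968 [102,5,6,2]
  (.node (.node .nil 8912976 [150,6,6,0] .nil) 8912992 [102,7,3,7] .nil)) 8913025 [102,0,6,2] (.node
  (.node (.node .nil 8913026 [102,2,0,4] .nil) 8913028 [102,2,4] .nil) 8913032 [102,5,2,7] (.node
  (.node .nil 8913040 [150,0,3,1,0] .nil) 8913056 [102,6,5,3,1] .nil)))))) 8913088 [150,4,0,4] (.node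
  (.node (.node (.node (.node (.node (.node .nil 8913153 [102,2,7,3] .nil) 8913154 [102,0,1,1,0]
  (.node .nil 8913156 [102,6,1,2,2] .nil)) 8913160 [102,6,1,4,3,0] (.node (.node .nil 8913168
  [150,3,2,4] .nil) 8913184 [102,0,4,3,2] .nil)) 8913216 [150,5] (.node (.node (.node .nil 8913280
  [150,3,7,5,1] .nil) 8913409 [102,0,2,2] (.node .nil 8913410 [102,5,0,0,0] .nil)) 8913412
  [102,0,3,5,0] (.node (.node .nil 8913416 [102,2,1,3] .nil) 8913424 [150,6,6,3,0] .nil))) 8913440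
  [102,1,0,3] (.node (.node (.node (.node .nil 8913472 [150,1,2,0] .nil) 8913536 [150,4,6,5] (.node
  .nil 8913664 [150,2,6,1] .nil)) 8913921 [102,3,1,6] (.node (.node .nil 8913922 [102,3,6,6,0] .nil)
  8913924 [102,5,7,6,0] .nil)) 8913928 [102,7,6,7] (.node (.node (.node .nil 8913936 [150,7,4,0,0]
  .nil) 8913952 [102,1,2] (.node .nil 8913984 [150,5,5,0] .nil)) 8914048 [150,3,7,1] (.node (.node
  .nil 8914176 [150,4,2,0,0] .nil) 8914432 [150,5,3,0] .nil)))) 8914945 [102,1,2,1,0] (.node (.node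
  (.node (.node (.node .nil 8914946 [102,0,4,2,3] .nil) 8914948 [102,2,0,2,0] (.node .nil 8914952
  [102,0,2,1,2] .nil)) 8914960 [150,7,5,7] (.node (.node .nil 8914976 [102,7,3] .nil) 8915008
  [150,7,2,0] .nil)) 8915072 [150,4,7,7] (.node (.node (.node .nil 8915200 [150,2,6,5,2] .nil)
  8915456 [150,0,4,5] (.node .nil 8915968 [150,6,4,5] .nil)) 8916993 [102,0,4,3] (.node (.node .nil
  8916994 [102,0,2,3] .nil) 8916996 [102,1,5,5] .nil))) 8917000 [102,7,0] (.node (.node (.node (.node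
  .nil 8917008 [150,6,0,2] .nil) 8917024 [102,5,1,2,0] (.node .nil 8917056 [150,2,0,6,2] .nil))
  8917120 [150,6,5,6] (.node (.node .nil 8917248 [150,7,3,4,0] .nil) 8917504 [150,0,3,5,0] .nil))
  8918016 [150,1,5,0,2] (.node (.node (.node .nil 8919040 [150,2,1,2] .nil) 8921089 [102,3,5,6,0]
  (.node .nil 8921090 [102,2,3,3,0] .nil)) 8921092 [102,5,4,5,1] (.node (.node .nil 8921096 [102,6,4]
  .nil) 8921104 [150,4,3,0,4] .nil))))) 8921120 [102,3,1] (.node (.node (.node (.node (.node (.node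
  .nil 8921152 [150,2,7,0] .nil) 8921216 [150,2,2,5,1] (.node .nil 8921344 [150,7,0,6] .nil)) 8921600
  [150,7,0,5] (.node (.node .nil 8922112 [150,3,1] .nil) 8923136 [150,0,1,6] .nil)) 8925184
  [150,4,3,1] (.node (.node (.node .nil 8929281 [150,1,3,4,1] .nil) 8929282 [150,7,2,0,1] (.node .nil
  8929284 [150,3,3,2] .nil)) 8929288 [150,1,3,5,0] (.node (.node .nil 8929296 [102,3,2,3] .nil)
  8929312 [150,5,5,1] .nil))) 8929344 [102,0,0,7] (.node (.node (.node (.node .nil 8929408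
  [102,4,3,6] .nil) 8929536 [102,4,2,2] (.node .nil 8929792 [102,5,0,1,0] .nil)) 8930304 [102,4,4,6]
  (.node (.node .nil 8931328 [102,3,6,7] .nil) 8933376 [102,3,3,1,0] .nil)) 8937472 [102,1,2,3]
  (.node (.node (.node .nil 8945665 [102,5,0] .nil) 8945666 [102,1,6,0,1] (.node .nil 8945668
  [102,0,4,4,1] .nil)) 8945672 [102,2,6,1,0] (.node (.node .nil 8945680 [150,3,3,6] .nil) 8945696
  [102,2,7] .nil)))) 8945728 [150,3,6,6] (.node (.node (.node (.node (.node .nil 8945792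
  [150,3,0,7,2] .nil) 8945920 [150,0,6,0] (.node .nil 8946176 [150,4,1,5] .nil)) 8946688
  [150,3,5,6,2] (.node (.node .nil 8947712 [150,4,3,5] .nil) 8949760 [150,4,2] .nil)) 8953856
  [150,4,1,6] (.node (.node (.node .nil 8962048 [102,6,6,7] .nil) 8978433 [102,5,5] (.node .nil
  8978434 [102,2,3,0] .nil)) 8978436 [102,6,4,0,1] (.node (.node .nil 8978440 [102,0,4,4,2] .nil)
  8978448 [150,3,4,1,0] .nil))) 8978464 [102,5,0,2,2] (.node (.node (.node (.node .nil 8978496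
  [150,6,5,1,0] .nil) 8978560 [150,5,6,2,0] (.node .nil 8978688 [150,7,1,6,3] .nil)) 8978944
  [150,1,1] (.node (.node .nil 8979456 [150,1,5,2] .nil) 8980480 [150,4,5] .nil)) 8982528 [150,7,7,7]
  (.node (.node (.node .nil 8986624 [150,1,3,3] .nil) 8994816 [102,7,3,6,0] .nil) 9011200
  [150,7,4,0,4] (.node (.node .nil 9043969 [150,1,0,1,5] .nil) 9043970 [150,1,2,3,1] .nil)))))))
  9043972 [150,0,5,4,0] (.node (.node (.node (.node (.node (.node (.node (.node .nil 9043976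
  [150,0,7,0,0] .nil) 9043984 [102,4,4,2] (.node .nil 9044000 [150,5,6,2,1] .nil)) 9044032 [102,1,7]
  (.node (.node .nil 9044096 [102,4,1,6,2] .nil) 9044224 [102,0,7,0,0] .nil)) 9044480 [102,5,7,6,2]
  (.node (.node (.node .nil 9044992 [102,6,1,5,3] .nil) 9046016 [102,3,0,4,2] (.node .nil 9048064
  [102,6,6,2] .nil)) 9052160 [102,3,2,6,0] (.node (.node .nil 9060352 [150,6,7,4] .nil) 9076736
  [102,3,3,1] .nil))) 9109504 [102,3,6,7,0] (.node (.node (.node (.node .nil 9175041 [102,2,6,3,0]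
  .nil) 9175042 [102,6,0,6] (.node .nil 9175044 [102,4,3,4,2] .nil)) 9175048 [102,6,0,0,0] (.node
  (.node .nil 9175056 [150,0,7,5,1] .nil) 9175072 [102,0,5,7,0] .nil)) 9175104 [150,6,4,2] (.node
  (.node (.node .nil 9175168 [150,5,0,0] .nil) 9175296 [150,5,6,5,0] (.node .nil 9175552
  [150,7,1,6,0] .nil)) 9176064 [150,5,6,3,0] (.node (.node .nil 9177088 [150,6,1] .nil) 9179136
  [150,6,6,2] .nil)))) 9183232 [150,1,2,2,0] (.node (.node (.node (.node (.node .nil 9191424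
  [102,0,0] .nil) 9207808 [150,0,7,1] (.node .nil 9240576 [150,2,7,5,0] .nil)) 9306112 [102,3,3,5,0]
  (.node (.node .nil 9437187 [150,5,1,2,1] .nil) 9437189 [150,5,3,2] .nil)) 9437190 [150,6,3,2,0]
  (.node (.node (.node .nil 9437193 [150,1,7,6] .nil) 9437194 [150,6,5,5] (.node .nil 9437196
  [150,7,2,3] .nil)) 9437201 [102,0,5,2] (.node (.node .nil 9437202 [102,5,6,1,2] .nil) 9437204
  [102,7,5,0] .nil))) 9437208 [102,6,3,5] (.node (.node (.node (.node .nil 9437217 [150,0,5,2] .nil)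
  9437218 [150,7,7,6,1] (.node .nil 9437220 [150,4,6,3,1] .nil)) 9437224 [150,6,3,2,4] (.node (.node
  .nil 9437232 [102,4,0,4] .nil) 9437249 [102,6,2,3,1] .nil)) 9437250 [102,1,3,2,0] (.node (.node
  (.node .nil 9437252 [102,6,3,2,0] .nil) 9437256 [102,5,3,1,1] (.node .nil 9437264 [150,2,7,1]
  .nil)) 9437280 [102,6,5,6] (.node (.node .nil 9437313 [102,0,1,4,1] .nil) 9437314 [102,3,6]
  .nil))))) 9437316 [102,6,6,3,1] (.node (.node (.node (.node (.node (.node .nil 9437320 [102,5,3,1]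
  .nil) 9437328 [150,5,3,6] (.node .nil 9437344 [102,0,2,0,2] .nil)) 9437376 [150,4,6,2,0] (.node
  (.node .nil 9437441 [102,2,1,2] .nil) 9437442 [102,6,2,6] .nil)) 9437444 [102,7,2,2,0] (.node
  (.node (.node .nil 9437448 [102,4,3,5] .nil) 9437456 [150,4,5,3,6] (.node .nil 9437472 [102,1,7,0]
  .nil)) 9437504 [150,0,5,3,0] (.node (.node .nil 9437568 [150,6,2,1,1] .nil) 9437697 [102,7,6,1]
  .nil))) 9437698 [102,2,1,1] (.node (.node (.node (.node .nil 9437700 [102,5,7,5] .nil) 9437704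
  [102,7,4,6] (.node .nil 9437712 [150,6,7,3,1] .nil)) 9437728 [102,7,3,2,0] (.node (.node .nil
  9437760 [150,5,2,2] .nil) 9437824 [150,5,6,6] .nil)) 9437952 [150,3,4,0] (.node (.node (.node .nil
  9438209 [102,4,4,4,0] .nil) 9438210 [102,2,2] (.node .nil 9438212 [102,7,2,5,0] .nil)) 9438216
  [102,7,2,3] (.node (.node .nil 9438224 [150,5,2,4] .nil) 9438240 [102,4,0,1] .nil)))) 9438272
  [150,5,4,6,0] (.node (.node (.node (.node (.node .nil 9438336 [150,3,7,2,0] .nil) 9438464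
  [150,2,5,5,0] (.node .nil 9438720 [150,3,3,5,0] .nil)) 9439233 [102,3,7,0] (.node (.node .nil
  9439234 [102,7,7,0,0] .nil) 9439236 [102,3,3,7] .nil)) 9439240 [102,0,2,0] (.node (.node (.node
  .nil 9439248 [150,1,0,7] .nil) 9439264 [102,4,1,2] (.node .nil 9439296 [150,5,1,2] .nil)) 9439360
  [150,7,3,2,4] (.node (.node .nil 9439488 [150,3,2,0] .nil) 9439744 [150,0,6,1] .nil))) 9440256
  [150,7,2,4] (.node (.node (.node (.node .nil 9441281 [102,3,5,4,0] .nil) 9441282 [102,5,0,4,1]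
  (.node .nil 9441284 [102,7,7,7,0] .nil)) 9441288 [102,7,2,6,1] (.node (.node .nil 9441296
  [150,2,7,7,1] .nil) 9441312 [102,0,1,1] .nil)) 9441344 [150,4,1,0] (.node (.node (.node .nil
  9441408 [150,2,5,2,0] .nil) 9441536 [150,2,5,4,0] .nil) 9441792 [150,4,6,5,0] (.node (.node .nil
  9442304 [150,4,1,2,1] .nil) 9443328 [150,6,7,1,0] .nil)))))) 9445377 [102,2,6,7,0] (.node (.node
  (.node (.node (.node (.node (.node .nil 9445378 [102,1,2,0] .nil) 9445380 [102,4,1,7] (.node .nil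
  9445384 [102,4,5,6,2] .nil)) 9445392 [150,0,7,7] (.node (.node .nil 9445408 [102,7,1,3,1] .nil)
  9445440 [150,6,6,1] .nil)) 9445504 [150,4,4] (.node (.node (.node .nil 9445632 [150,2,3,1] .nil)
  9445888 [150,2,2,1,0] (.node .nil 9446400 [150,4,4,3] .nil)) 9447424 [150,1,6,0] (.node (.node .nil
  9449472 [150,5,7,1] .nil) 9453569 [150,1,4,0,1] .nil))) 9453570 [150,1,6,1] (.node (.node (.node
  (.node .nil 9453572 [150,5,3,3,3] .nil) 9453576 [150,1,5,7,1] (.node .nil 9453584 [102,5,4,3]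
  .nil)) 9453600 [150,6,2,2] (.node (.node .nil 9453632 [102,0,3] .nil) 9453696 [102,4,7,0,1] .nil))
  9453824 [102,1,5,7,1] (.node (.node (.node .nil 9454080 [102,6,5] .nil) 9454592 [102,7,4,3] (.node
  .nil 9455616 [102,3,5,7,1] .nil)) 9457664 [102,3,2,5,1] (.node (.node .nil 9461760 [102,1,1,2,0]
  .nil) 9469953 [102,6,1,6] .nil)))) 9469954 [102,6,5,5] (.node (.node (.node (.node (.node .nil
  9469956 [102,3,3,7,1] .nil) 9469960 [102,7,3,4] (.node .nil 9469968 [150,0,2,2] .nil)) 9469984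
  [102,4,0] (.node (.node .nil 9470016 [150,1,1,1,2] .nil) 9470080 [150,3,5,6] .nil)) 9470208
  [150,0,0,1] (.node (.node (.node .nil 9470464 [150,5,1,1] .nil) 9470976 [150,4,4,4,0] (.node .nil
  9472000 [150,3,0,2] .nil)) 9474048 [150,6,2,5,1] (.node (.node .nil 9478144 [150,7,3,4] .nil)
  9486336 [102,3,4,1,0] .nil))) 9502721 [102,0,4,1,1] (.node (.node (.node (.node .nil 9502722
  [102,0,1,2,6] .nil) 9502724 [102,6,1,7,0] (.node .nil 9502728 [102,7,7,4] .nil)) 9502736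
  [150,3,1,0] (.node (.node .nil 9502752 [102,5,1] .nil) 9502784 [150,7,1,0] .nil)) 9502848
  [150,4,2,1] (.node (.node (.node .nil 9502976 [150,1,2,0,0] .nil) 9503232 [150,1,7,3] .nil) 9503744
  [150,7,4,1,0] (.node (.node .nil 9504768 [150,1,1,4] .nil) 9506816 [150,0,7,0] .nil))))) 9510912
  [150,5,1] (.node (.node (.node (.node (.node (.node .nil 9519104 [102,1,7,3] .nil) 9535488
  [150,2,5,0] (.node .nil 9568257 [150,6,3,0] .nil)) 9568258 [150,7,6,0] (.node (.node .nil 9568260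
  [150,0,4,1,0] .nil) 9568264 [150,2,2,2] .nil)) 9568272 [102,1,4] (.node (.node (.node .nil 9568288
  [150,6,5,1,1] .nil) 9568320 [102,6,6,1] (.node .nil 9568384 [102,3,5,1] .nil)) 9568512
  [102,5,0,0,2] (.node (.node .nil 9568768 [102,3,4,0] .nil) 9569280 [102,2,5,0,0] .nil))) 9570304
  [102,1,5,2] (.node (.node (.node (.node .nil 9572352 [102,7,6,0] .nil) 9576448 [102,5,1,6] (.node
  .nil 9584640 [150,5,6,6,0] .nil)) 9601024 [102,0,5] (.node (.node .nil 9633792 [102,1,1,4] .nil)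
  9699329 [102,2,0,1] .nil)) 9699330 [102,1,0,0] (.node (.node (.node .nil 9699332 [102,4,4,0] .nil)
  9699336 [102,0,1,5,2] (.node .nil 9699344 [150,1,1,2,4] .nil)) 9699360 [102,2,1,1,0] (.node (.node
  .nil 9699392 [150,0,5,5] .nil) 9699456 [150,5,0,2,1] .nil)))) 9699584 [150,4,5,7] (.node (.node
  (.node (.node (.node .nil 9699840 [150,2,1,2,1,0] .nil) 9700352 [150,1,3,3,0] (.node .nil 9701376
  [150,5,4,5,0] .nil)) 9703424 [150,6,3,2] (.node (.node .nil 9707520 [150,4,4,3,3] .nil) 9715712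
  [102,6,2,2] .nil)) 9732096 [150,7,2,1,2] (.node (.node (.node .nil 9764864 [150,2,4,6] .nil)
  9830400 [102,1,6] (.node .nil 9961473 [102,7,0,0,1] .nil)) 9961474 [102,4,6] (.node (.node .nil
  9961476 [102,0,4,1,0] .nil) 9961480 [102,2,0,5,1] .nil))) 9961488 [150,0,4,6,0] (.node (.node
  (.node (.node .nil 9961504 [102,0,2] .nil) 9961536 [150,1,2,3,0] (.node .nil 9961600 [150,5,7,0,0]
  .nil)) 9961728 [150,0,5,1,0] (.node (.node .nil 9961984 [150,4,1,0,5] .nil) 9962496 [150,2,1,5,4]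
  .nil)) 9963520 [150,6,5,2] (.node (.node (.node .nil 9965568 [150,1,5,6,4] .nil) 9969664
  [150,3,4,6] .nil) 9977856 [102,5,7,7,4] (.node (.node .nil 9994240 [150,0,4,2] .nil) 10027008
  [150,7,5,6,0] .nil)))))))) 10092544 [102,4,0,0] (.node (.node (.node (.node (.node (.node (.node
  (.node (.node .nil 10223616 [150,2,0,6] .nil) 10485763 [150,2,4] (.node .nil 10485765 [150,6,3,7,1]
  .nil)) 10485766 [150,5,0,3,2] (.node (.node .nil 10485769 [150,7,2,1,1] .nil) 10485770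
  [150,1,1,2,3] .nil)) 10485772 [150,4,0,0] (.node (.node (.node .nil 10485777 [102,4,3,1] .nil)
  10485778 [102,4,1,2,3] (.node .nil 10485780 [102,1,5,3,3] .nil)) 10485784 [102,1,6,5,0] (.node
  (.node .nil 10485793 [150,1,5,0,1] .nil) 10485794 [150,5,6,4,1] .nil))) 10485796 [150,6,1,4] (.node
  (.node (.node (.node .nil 10485800 [150,0,0,4] .nil) 10485808 [102,0,0,4] (.node .nil 10485825
  [102,1,2,7] .nil)) 10485826 [102,4,7] (.node (.node .nil 10485828 [102,5,2,5] .nil) 10485832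
  [102,7,4,1,0] .nil)) 10485840 [150,3,3,4] (.node (.node (.node .nil 10485856 [102,0,6,6,1] .nil)
  10485889 [102,3,3,3,1] (.node .nil 10485890 [102,1,2,1,3] .nil)) 10485892 [102,6,1,4] (.node (.node
  .nil 10485896 [102,5,1,2] .nil) 10485904 [150,0,2,4,6] .nil)))) 10485920 [102,5,4,2] (.node (.node
  (.node (.node (.node .nil 10485952 [150,2,4,4,0] .nil) 10486017 [102,3,2,2] (.node .nil 10486018
  [102,6,0,1,0] .nil)) 10486020 [102,6,5,2] (.node (.node .nil 10486024 [102,3,4,3,0] .nil) 10486032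
  [150,0,3,6] .nil)) 10486048 [102,5,6,3] (.node (.node (.node .nil 10486080 [150,3,3,2,1] .nil)
  10486144 [150,4,7,1,0] (.node .nil 10486273 [102,2,2,2,1] .nil)) 10486274 [102,0,6,1,3] (.node
  (.node .nil 10486276 [102,0,1,4,0] .nil) 10486280 [102,1,6,1] .nil))) 10486288 [150,2,0,7] (.node
  (.node (.node (.node .nil 10486304 [102,7,6,3,6] .nil) 10486336 [150,0,3,5,5] (.node .nil 10486400
  [150,2,6,5] .nil)) 10486528 [150,3,0,4,0] (.node (.node .nil 10486785 [102,6,5,1] .nil) 10486786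
  [102,5] .nil)) 10486788 [102,4,3,7,0] (.node (.node (.node .nil 10486792 [102,2,4,7] .nil) 10486800
  [150,1,4,4,0] (.node .nil 10486816 [102,4,0,2,0] .nil)) 10486848 [150,2,3,3,4] (.node (.node .nil
  10486912 [150,5,5,4] .nil) 10487040 [150,5,1,6,1] .nil))))) 10487296 [150,0,3,0,4] (.node (.node
  (.node (.node (.node (.node .nil 10487809 [102,4,3] .nil) 10487810 [102,7,7,3] (.node .nil 10487812
  [102,2,2,5] .nil)) 10487816 [102,4,5,4,4] (.node (.node .nil 10487824 [150,6,2,1] .nil) 10487840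
  [102,6,2,2,0] .nil)) 10487872 [150,5,6] (.node (.node (.node .nil 10487936 [150,3,0,1,0] .nil)
  10488064 [150,7,7,1,0] (.node .nil 10488320 [150,3,3,3] .nil)) 10488832 [150,0,5,3] (.node (.node
  .nil 10489857 [102,4,3,4] .nil) 10489858 [102,7,2,7] .nil))) 10489860 [102,1,4,5,2] (.node (.node
  (.node (.node .nil 10489864 [102,1,0,4] .nil) 10489872 [150,7,6,2,0] (.node .nil 10489888
  [102,4,1,1] .nil)) 10489920 [150,2,5,1,0] (.node (.node .nil 10489984 [150,7,0,0] .nil) 10490112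
  [150,5,7,2,1] .nil)) 10490368 [150,5,2] (.node (.node (.node .nil 10490880 [150,6,0,6] .nil)
  10491904 [150,5,1,4] (.node .nil 10493953 [102,4,0,5] .nil)) 10493954 [102,0,3,7,0] (.node (.node
  .nil 10493956 [102,5,5,3,1] .nil) 10493960 [102,1,1,2,1] .nil)))) 10493968 [150,7,2,1] (.node
  (.node (.node (.node (.node .nil 10493984 [102,3,1,4] .nil) 10494016 [150,2,7,2,1] (.node .nil
  10494080 [150,0,0] .nil)) 10494208 [150,1,4] (.node (.node .nil 10494464 [150,5,0,1,2] .nil)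
  10494976 [150,7,6,6] .nil)) 10496000 [150,4,5,0,0] (.node (.node (.node .nil 10498048 [150,2,2,0,0]
  .nil) 10502145 [150,5,5,5] (.node .nil 10502146 [150,0,5,6,0] .nil)) 10502148 [150,7,0,7] (.node
  (.node .nil 10502152 [150,2,2,4] .nil) 10502160 [102,3,3,4] .nil))) 10502176 [150,4] (.node (.node
  (.node (.node .nil 10502208 [102,4,6,6] .nil) 10502272 [102,1,6,1,0] (.node .nil 10502400
  [102,7,0,7] .nil)) 10502656 [102,0,7,5] (.node (.node .nil 10503168 [102,4,5,6,0] .nil) 10504192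
  [102,5,3,0,3] .nil)) 10506240 [102,5,0,4,3] (.node (.node (.node .nil 10510336 [102,0,7,3,0] .nil)
  10518529 [102,0,3,2,0] .nil) 10518530 [102,1,4,5] (.node (.node .nil 10518532 [102,0,4,6] .nil)
  10518536 [102,1,2,4] .nil)))))) 10518544 [150,4,4,0] (.node (.node (.node (.node (.node (.node
  (.node .nil 10518560 [102,3,1,7,1] .nil) 10518592 [150,5,5] (.node .nil 10518656 [150,0,2,1] .nil))
  10518784 [150,4,6,7,1] (.node (.node .nil 10519040 [150,1,6,6] .nil) 10519552 [150,1,6,1,2] .nil))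
  10520576 [150,0,4] (.node (.node (.node .nil 10522624 [150,6,1,7,1] .nil) 10526720 [150,6,2,4,0]
  (.node .nil 10534912 [102,2,0,0,0] .nil)) 10551297 [102,0,0,0] (.node (.node .nil 10551298
  [102,7,1,2] .nil) 10551300 [102,7,4,2] .nil))) 10551304 [102,6,6,2,0] (.node (.node (.node (.node
  .nil 10551312 [150,5,5,7,1] .nil) 10551328 [102,3,6,3] (.node .nil 10551360 [150,5,5,3] .nil))
  10551424 [150,3,7,2,1] (.node (.node .nil 10551552 [150,5,4,1] .nil) 10551808 [150,3,4,2,0] .nil))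
  10552320 [150,1,2,0,1] (.node (.node (.node .nil 10553344 [150,2,3,3] .nil) 10555392 [150,2,3]
  (.node .nil 10559488 [150,3,4,1] .nil)) 10567680 [102,0,3,6,0] (.node (.node .nil 10584064
  [150,6,2,3,0] .nil) 10616833 [150,1,0,7,0] .nil)))) 10616834 [150,0,7,4,3] (.node (.node (.node
  (.node (.node .nil 10616836 [150,2,4,0,0] .nil) 10616840 [150,3,4,3,0] (.node .nil 10616848
  [102,2,6,5,2] .nil)) 10616864 [150,4,7,2] (.node (.node .nil 10616896 [102,4,4,1] .nil) 10616960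
  [102,4,3,0] .nil)) 10617088 [102,1,5,7,0] (.node (.node (.node .nil 10617344 [102,6,5,5,1] .nil)
  10617856 [102,4,1,3,1] (.node .nil 10618880 [102,0,3,7] .nil)) 10620928 [102,2,1] (.node (.node
  .nil 10625024 [102,4,4,1,4] .nil) 10633216 [150,1,6,2] .nil))) 10649600 [102,2,7,4,2] (.node (.node
  (.node (.node .nil 10682368 [102,1,3,5] .nil) 10747905 [102,2,4,1,1] (.node .nil 10747906
  [102,1,7,1] .nil)) 10747908 [102,0,7,6] (.node (.node .nil 10747912 [102,5,0,1] .nil) 10747920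
  [150,4,5,5,1] .nil)) 10747936 [102,2,2,1] (.node (.node (.node .nil 10747968 [150,4,3,4,0] .nil)
  10748032 [150,1,3,5,5] (.node .nil 10748160 [150,0,7] .nil)) 10748416 [150,0,5,1,1] (.node (.node
  .nil 10748928 [150,4,0,6,3] .nil) 10749952 [150,5,0,1] .nil))))) 10752000 [150,6,1,4,2] (.node
  (.node (.node (.node (.node (.node .nil 10756096 [150,3,2,2,2] .nil) 10764288 [102,5,5,5] (.node
  .nil 10780672 [150,6,5] .nil)) 10813440 [150,2,5,2] (.node (.node .nil 10878976 [102,3,4,6,1] .nil)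
  11010049 [102,5,4,7] .nil)) 11010050 [102,6,5,3,6] (.node (.node (.node .nil 11010052 [102,1,7,7,0]
  .nil) 11010056 [102,7,4,3,1] (.node .nil 11010064 [150,1,0,1,2] .nil)) 11010080 [102,1,7,4,3]
  (.node (.node .nil 11010112 [150,7,0,2] .nil) 11010176 [150,2,0,4] .nil))) 11010304 [150,4,3,2]
  (.node (.node (.node (.node .nil 11010560 [150,2,5,0,1] .nil) 11011072 [150,2,5,6] (.node .nil
  11012096 [150,1,7,3,0] .nil)) 11014144 [150,0,7,6,3] (.node (.node .nil 11018240 [150,0,5,7] .nil)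
  11026432 [102,2,4,3] .nil)) 11042816 [150,5,7,7] (.node (.node (.node .nil 11075584 [150,4,1,4,2]
  .nil) 11141120 [102,4,4,1,1] (.node .nil 11272192 [150,2,5,1,4] .nil)) 11534337 [102,3,0,5,1]
  (.node (.node .nil 11534338 [102,0,4,5] .nil) 11534340 [102,4,4,5] .nil)))) 11534344 [102,2,5]
  (.node (.node (.node (.node (.node .nil 11534352 [150,5,4,1,0] .nil) 11534368 [102,7,4,1] (.node
  .nil 11534400 [150,1,3,2,0] .nil)) 11534464 [150,0,3,4,3] (.node (.node .nil 11534592 [150,1,0,6,1]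
  .nil) 11534848 [150,3,3] .nil)) 11535360 [150,7,3,6] (.node (.node (.node .nil 11536384 [150,0,3,4]
  .nil) 11538432 [150,3,2,7] (.node .nil 11542528 [150,7,7,2] .nil)) 11550720 [102,7,3,5,1] (.node
  (.node .nil 11567104 [150,6,7,0] .nil) 11599872 [150,7,7,0,7] .nil))) 11665408 [102,3,1,7,0] (.node
  (.node (.node (.node .nil 11796480 [150,3,4,3] .nil) 12058624 [150,6,3,6] (.node .nil 12582915
  [150,6,0,7] .nil)) 12582917 [150,3,6,1] (.node (.node .nil 12582918 [150,0,3,0] .nil) 12582921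
  [150,7,0,6,0] .nil)) 12582922 [150,3,2,1,0] (.node (.node (.node .nil 12582924 [150,1] .nil)
  12582929 [102,3,6,1] .nil) 12582930 [102,3,4,0,0] (.node (.node .nil 12582932 [102,7,1,1] .nil)
  12582936 [102,1,6,2,1] .nil))))))) 12582945 [150,5,7,4,5] (.node (.node (.node (.node (.node (.node
  (.node (.node .nil 12582946 [150,2,0,1] .nil) 12582948 [150,7,5,4,3] (.node .nil 12582952
  [150,6,7,1] .nil)) 12582960 [102,6,6,2,2] (.node (.node .nil 12582977 [102,2,3,2,1] .nil) 12582978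
  [102,7,5,1] .nil)) 12582980 [102,6,3,5,0] (.node (.node (.node .nil 12582984 [102,3,6,4,3] .nil)
  12582992 [150,4,0,1] (.node .nil 12583008 [102,0,6,3] .nil)) 12583041 [102,2,6,2] (.node (.node
  .nil 12583042 [102,7,0,5,0] .nil) 12583044 [102,4,7,2,1] .nil))) 12583048 [102,5,0,2] (.node (.node
  (.node (.node .nil 12583056 [150,6,4,3] .nil) 12583072 [102,5,5,6] (.node .nil 12583104
  [150,7,2,4,2] .nil)) 12583169 [102,4,4,1,2] (.node (.node .nil 12583170 [102,3,1,0] .nil) 12583172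
  [102,3,0,0] .nil)) 12583176 [102,1,6,2] (.node (.node (.node .nil 12583184 [150,7,6,5,2] .nil)
  12583200 [102,1,3,3,0] (.node .nil 12583232 [150,0,1,1] .nil)) 12583296 [150,4,5,2] (.node (.node
  .nil 12583425 [102,0,1,0,0] .nil) 12583426 [102,0,1,6] .nil)))) 12583428 [102,2,0] (.node (.node
  (.node (.node (.node .nil 12583432 [102,3,0,3] .nil) 12583440 [150,4,5,1,0] (.node .nil 12583456
  [102,5,4,3,2] .nil)) 12583488 [150,3,1,7,2] (.node (.node .nil 12583552 [150,4,1,3,3] .nil)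
  12583680 [150,3,5,0] .nil)) 12583937 [102,2,3,2] (.node (.node (.node .nil 12583938 [102,3,1,5]
  .nil) 12583940 [102,4,2,2,1] (.node .nil 12583944 [102,4,7,1] .nil)) 12583952 [150,1,5,5] (.node
  (.node .nil 12583968 [102,2,1,2,2] .nil) 12584000 [150,0,3,7] .nil))) 12584064 [150,2,1,0,1] (.node
  (.node (.node (.node .nil 12584192 [150,7,7,1] .nil) 12584448 [150,3,4,3,1] (.node .nil 12584961
  [102,3,7,1,2] .nil)) 12584962 [102,6,3,4,0] (.node (.node .nil 12584964 [102,2,5,3,1] .nil)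
  12584968 [102,2,3,6] .nil)) 12584976 [150,0,6,2] (.node (.node (.node .nil 12584992 [102,3,4,7,0]
  .nil) 12585024 [150,3,0,5] (.node .nil 12585088 [150,0,5,1,2] .nil)) 12585216 [150,5,4,3] (.node
  (.node .nil 12585472 [150,0,4,3,0] .nil) 12585984 [150,6,1,0,0] .nil))))) 12587009 [102,6,3,7,0]
  (.node (.node (.node (.node (.node (.node .nil 12587010 [102,1,6,5] .nil) 12587012 [102,3,2,0]
  (.node .nil 12587016 [102,5,5,1] .nil)) 12587024 [150,1,0,3,0] (.node (.node .nil 12587040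
  [102,6,1,3,1] .nil) 12587072 [150,1,6,2,2] .nil)) 12587136 [150,4,4,6] (.node (.node (.node .nil
  12587264 [150,2,4,1] .nil) 12587520 [150,1,0,5] (.node .nil 12588032 [150,0,7,4] .nil)) 12589056
  [150,0,1,2] (.node (.node .nil 12591105 [102,5,7,7] .nil) 12591106 [102,6,3,5,1] .nil))) 12591108
  [102,7,2] (.node (.node (.node (.node .nil 12591112 [102,5,7,4,1] .nil) 12591120 [150,6,4,4,0]
  (.node .nil 12591136 [102,0,4,2] .nil)) 12591168 [150,2,2,0] (.node (.node .nil 12591232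
  [150,1,3,3,2] .nil) 12591360 [150,3,0,3,3] .nil)) 12591616 [150,6,0,4,1] (.node (.node (.node .nil
  12592128 [150,6,4,2,0] .nil) 12593152 [150,2,4,4] (.node .nil 12595200 [150,5,7,2,0] .nil))
  12599297 [150,0,4,7,1] (.node (.node .nil 12599298 [150,1,1,7,3] .nil) 12599300 [150,0,0,7,3]
  .nil)))) 12599304 [150,0,2,3,7] (.node (.node (.node (.node (.node .nil 12599312 [102,3,4,6] .nil)
  12599328 [150,4,7,4] (.node .nil 12599360 [102,7,6] .nil)) 12599424 [102,0,4,7,1] (.node (.node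
  .nil 12599552 [102,1,4,2] .nil) 12599808 [102,1,1,7,1] .nil)) 12600320 [102,3,3,3] (.node (.node
  (.node .nil 12601344 [102,4,6,7] .nil) 12603392 [102,5,6] (.node .nil 12607488 [102,4,3,1,0] .nil))
  12615681 [102,0,3,1] (.node (.node .nil 12615682 [102,3,3,4,0] .nil) 12615684 [102,5,3,7] .nil)))
  12615688 [102,4,4] (.node (.node (.node (.node .nil 12615696 [150,3,7,6,0] .nil) 12615712
  [102,4,1,6,3] (.node .nil 12615744 [150,5,7,0] .nil)) 12615808 [150,5,0,2] (.node (.node .nil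
  12615936 [150,4,7,0,0] .nil) 12616192 [150,4,0,5] .nil)) 12616704 [150,5,2,0] (.node (.node (.node
  .nil 12617728 [150,2,4,2,1] .nil) 12619776 [150,4,1,4,1] .nil) 12623872 [150,3,7,7,1] (.node (.node
  .nil 12632064 [102,4,2,0,0] .nil) 12648449 [102,2,7,2,0] .nil)))))) 12648450 [102,1,1,1,2] (.node
  (.node (.node (.node (.node (.node (.node .nil 12648452 [102,6,2,1] .nil) 12648456 [102,2,4,1,0]
  (.node .nil 12648464 [150,0,0,3] .nil)) 12648480 [102,4,3,2,1] (.node (.node .nil 12648512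
  [150,6,7,1,2] .nil) 12648576 [150,0,1,3,2] .nil)) 12648704 [150,4,3,6] (.node (.node (.node .nil
  12648960 [150,6,6] .nil) 12649472 [150,0,6,5] (.node .nil 12650496 [150,3,5] .nil)) 12652544
  [150,1,5] (.node (.node .nil 12656640 [150,7,2] .nil) 12664832 [102,1,5] .nil))) 12681216
  [150,3,0,1,1] (.node (.node (.node (.node .nil 12713985 [150,7,7,3,0] .nil) 12713986 [150,5,1,0,1]
  (.node .nil 12713988 [150,6,3,5,0] .nil)) 12713992 [150,1,7,2] (.node (.node .nil 12714000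
  [102,6,0,1] .nil) 12714016 [150,7,6,5] .nil)) 12714048 [102,2,5,4,1] (.node (.node (.node .nil
  12714112 [102,7,3,3,0] .nil) 12714240 [102,2,2,4] (.node .nil 12714496 [102,3,6,2] .nil)) 12715008
  [102,6,4,7,0] (.node (.node .nil 12716032 [102,0,6,4,1] .nil) 12718080 [102,6,0,2,0] .nil))))
  12722176 [102,3,3,2] (.node (.node (.node (.node (.node .nil 12730368 [150,1,4,2] .nil) 12746752
  [102,5,7,0] (.node .nil 12779520 [102,1,3,5,1] .nil)) 12845057 [102,1,4,6] (.node (.node .nil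
  12845058 [102,1,5,0,0] .nil) 12845060 [102,7,2,4] .nil)) 12845064 [102,7,1,3] (.node (.node (.node
  .nil 12845072 [150,1,4,2,2] .nil) 12845088 [102,7,6,5] (.node .nil 12845120 [150,6,6,4,1] .nil))
  12845184 [150,4,4,5] (.node (.node .nil 12845312 [150,5,2,7] .nil) 12845568 [150,0,7,2] .nil)))
  12846080 [150,0,1,5] (.node (.node (.node (.node .nil 12847104 [150,3,1,6,0] .nil) 12849152
  [150,1,7,0,0] (.node .nil 12853248 [150,4,6,7,2] .nil)) 12861440 [102,6,4,6] (.node (.node .nil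
  12877824 [150,3,0,0,6] .nil) 12910592 [150,3,6] .nil)) 12976128 [102,5,5,4,0] (.node (.node (.node
  .nil 13107201 [102,3,6,2,0] .nil) 13107202 [102,4,0,6] .nil) 13107204 [102,7,2,0,2] (.node (.node
  .nil 13107208 [102,5,4,0] .nil) 13107216 [150,4,4,2] .nil))))) 13107232 [102,1,4,6,2] (.node (.node
  (.node (.node (.node (.node .nil 13107264 [150,3,2,2] .nil) 13107328 [150,4,1] (.node .nil 13107456
  [150,5,3] .nil)) 13107712 [150,0,7,6,0] (.node (.node .nil 13108224 [150,5,4,0] .nil) 13109248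
  [150,1,4,7,2] .nil)) 13111296 [150,4,2,6,0] (.node (.node (.node .nil 13115392 [150,5,3,5,0] .nil)
  13123584 [102,1,6,3] (.node .nil 13139968 [150,7,0,1,0] .nil)) 13172736 [150,3,2,0,2] (.node (.node
  .nil 13238272 [102,3,3,1,1] .nil) 13369344 [150,3,1,2] .nil))) 13631489 [102,4,7,5] (.node (.node
  (.node (.node .nil 13631490 [102,5,2,7,3] .nil) 13631492 [102,7,2,1] (.node .nil 13631496
  [102,0,6,4,2] .nil)) 13631504 [150,4,6,0] (.node (.node .nil 13631520 [102,1,4,4,0] .nil) 13631552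
  [150,1,3,1] .nil)) 13631616 [150,6,7,7,2] (.node (.node (.node .nil 13631744 [150,0,2,6,1] .nil)
  13632000 [150,5,1,6,2] (.node .nil 13632512 [150,6,4,0,2] .nil)) 13633536 [150,1,2] (.node (.node
  .nil 13635584 [150,4,6,3,0] .nil) 13639680 [150,0,3,4,0] .nil)))) 13647872 [102,3,5,0,0,0] (.node
  (.node (.node (.node (.node .nil 13664256 [150,5,6,4] .nil) 13697024 [150,5,4,6] (.node .nil
  13762560 [102,1,1,6] .nil)) 13893632 [150,1,2,3] (.node (.node .nil 14155776 [150,1,7,2,2] .nil)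
  14680065 [102,0,5,3,0] .nil)) 14680066 [102,3,4,2,5] (.node (.node (.node .nil 14680068 [102,1]
  .nil) 14680072 [102,5,4,0,1] (.node .nil 14680080 [150,5,1,0] .nil)) 14680096 [102,4,6,2] (.node
  (.node .nil 14680128 [150,7,5,6] .nil) 14680192 [150,2,0,2,1] .nil))) 14680320 [150,7,5,1,2] (.node
  (.node (.node (.node .nil 14680576 [150,3] .nil) 14681088 [150,7,0,7,2] (.node .nil 14682112
  [150,3,5,5,0] .nil)) 14684160 [150,7,4,2,2] (.node (.node .nil 14688256 [150,2,0,0] .nil) 14696448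
  [102,1,5,0,2] .nil)) 14712832 [150,7,1,1,2] (.node (.node (.node .nil 14745600 [150,0,2,0,1] .nil)
  14811136 [102,6,6,5,3] .nil) 14942208 [150,2,7,0,0] (.node (.node .nil 15204352 [150,4,6,2] .nil)
  15728640 [150,4,0,2] .nil))))))))))

/-- Classes with representatives. -/
def repsO_S : List (ℕ × ℕ × List ℕ) :=
  [(1254,8388615,[8388615,147496,268544,1082880,2621632,4268048]),
  (102,8388689,[8388689,3108,135682,852224,3186688,4210824]),
  (150,8388627,[8388627,33184,135744,1574920,2376704,4268036])]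

theorem certO_S : ctAll (certNode tbsO treeO_S repsO_S (sxClv famO) sxSem) sxTree = true := by
  decide +kernel

theorem hrepsO_S : ∀ p ∈ repsO_S, sxTree.find p.2.1 = some p.2.2 := by decide +kernel

theorem hcvO_S : ∀ p ∈ repsO_S, sxClv famO p.2.1 p.2.2 = p.1 := by decide +kernel

theorem CO_S : Cert sextets sxObj sxTree sxSem (famOf famO) (clF (famOf famO)) (sxClv famO) (stabF famO) tbsO treeO_S repsO_S :=
  sx_cert famO_nodup famO_lt gensO_ok hrepsO_S certO_S

theorem nO_S0 : ctCount (fun m _ => Nat.beq (clsOf treeO_S m) 1254) sxTree = 35 := by decide +kernel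

theorem nO_S1 : ctCount (fun m _ => Nat.beq (clsOf treeO_S m) 102) sxTree = 840 := by decide +kernel

theorem nO_S2 : ctCount (fun m _ => Nat.beq (clsOf treeO_S m) 150) sxTree = 896 := by decide +kernel

end Cfsg.Agent.Lib.Sporadic.M24OcOnSx
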