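import Cfsg.Agent.Lib.Sporadic.M24Cert

/-!
# The master table of octads
-/

namespace Cfsg.Agent.Lib.Sporadic.M24OctTab

open Cfsg Cfsg.Agent.Lib.Sporadic.GolayCore Cfsg.Agent.Lib.Sporadic.M24Tbl
open Cfsg.Agent.Lib.Sporadic.M24Basic Cfsg.Agent.Lib.Sporadic.M24Orbit
open Cfsg.Agent.Lib.Sporadic.M24Sextet Cfsg.Agent.Lib.Sporadic.M24Fast
open Cfsg.Agent.Lib.Sporadic.M24Cert Cfsg.Agent.Lib.Sporadic.M24Classes
open Cfsg.Agent.Lib.Sporadic.M24Count
open scoped Pointwise

set_option maxRecDepth 100000 in
/-- The table of octads. -/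
def octTree : CT :=
  (.node (.node (.node (.node (.node (.node (.node (.node (.node (.node .nil 5279 [] .nil) 10558 []
  .nil) 15777 [] (.node (.node .nil 18147 [] .nil) 21116 [] .nil)) 31554 [] (.node (.node (.node .nil
  36294 [] .nil) 39257 [] .nil) 42232 [] (.node (.node .nil 45159 [] .nil) 52005 [] .nil))) 57883 []
  (.node (.node (.node (.node .nil 63108 [] .nil) 69395 [] .nil) 72588 [] (.node (.node .nil 75309 []
  .nil) 78514 [] .nil)) 84464 [] (.node (.node (.node .nil 90318 [] .nil) 95313 [] .nil) 99029 []
  (.node (.node .nil 104010 [] .nil) 115766 [] .nil)))) 118953 [] (.node (.node (.node (.node (.node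
  .nil 126216 [] .nil) 133817 [] .nil) 138790 [] (.node (.node .nil 140167 [] .nil) 145176 [] .nil))
  150618 [] (.node (.node (.node .nil 153797 [] .nil) 157028 [] .nil) 168928 [] (.node (.node .nil
  175681 [] .nil) 180636 [] .nil))) 185603 [] (.node (.node (.node (.node .nil 190626 [] .nil) 198058
  [] .nil) 201013 [] (.node (.node .nil 208020 [] .nil) 210955 [] .nil)) 213833 [] (.node (.node
  (.node .nil 231532 [] .nil) 237906 [] .nil) 252432 [] (.node (.node .nil 262637 [] .nil) 267634 []
  .nil))))) 272595 [] (.node (.node (.node (.node (.node (.node .nil 277580 [] .nil) 280334 [] .nil)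
  283537 [] (.node (.node .nil 290352 [] .nil) 298027 [] .nil)) 301236 [] (.node (.node (.node .nil
  304405 [] .nil) 307594 [] .nil) 314056 [] (.node (.node .nil 334433 [] .nil) 337856 [] .nil)))
  346141 [] (.node (.node (.node (.node .nil 351362 [] .nil) 352547 [] .nil) 361272 [] (.node (.node
  .nil 371206 [] .nil) 381252 [] .nil)) 396116 [] (.node (.node (.node .nil 402026 [] .nil) 416040 []
  .nil) 418953 [] (.node (.node .nil 421910 [] .nil) 427666 [] .nil)))) 430605 [] (.node (.node
  (.node (.node (.node .nil 442481 [] .nil) 459847 [] .nil) 463064 [] (.node (.node .nil 475812 []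
  .nil) 493953 [] .nil)) 504864 [] (.node (.node (.node .nil 525274 [] .nil) 530245 [] .nil) 535268
  [] (.node (.node .nil 542009 [] .nil) 545190 [] .nil))) 551943 [] (.node (.node (.node (.node .nil
  555160 [] .nil) 560668 [] .nil) 563843 [] (.node (.node .nil 567074 [] .nil) 580704 [] .nil))
  582081 [] (.node (.node (.node .nil 593097 [] .nil) 596054 [] .nil) 602472 [] (.node .nil 608810 []
  .nil)))))) 615188 [] (.node (.node (.node (.node (.node (.node (.node .nil 622863 [] .nil) 628112
  [] .nil) 632881 [] (.node (.node .nil 657763 [] .nil) 663645 [] .nil)) 668866 [] (.node (.node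
  (.node .nil 675712 [] .nil) 684577 [] .nil) 689317 [] (.node (.node .nil 692282 [] .nil) 702724 []
  .nil))) 705094 [] (.node (.node (.node (.node .nil 722544 [] .nil) 737427 [] .nil) 742412 [] (.node
  (.node .nil 762504 [] .nil) 786999 [] .nil)) 792232 [] (.node (.node (.node .nil 797449 [] .nil)
  804052 [] .nil) 806987 [] (.node (.node .nil 832080 [] .nil) 837906 [] .nil)))) 843820 [] (.node
  (.node (.node (.node (.node .nil 855332 [] .nil) 861210 [] .nil) 864389 [] (.node (.node .nil
  884962 [] .nil) 902657 [] .nil)) 919694 [] (.node (.node (.node .nil 924689 [] .nil) 926128 []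
  .nil) 951624 [] (.node (.node .nil 987906 [] .nil) 1009728 [] .nil))) 1050548 [] (.node (.node
  (.node (.node .nil 1053483 [] .nil) 1060490 [] .nil) 1063445 [] (.node (.node .nil 1065303 [] .nil)
  1070536 [] .nil)) 1075305 [] (.node (.node (.node .nil 1084018 [] .nil) 1090380 [] .nil) 1100945 []
  (.node (.node .nil 1103886 [] .nil) 1110320 [] .nil))))) 1116327 [] (.node (.node (.node (.node
  (.node (.node .nil 1121336 [] .nil) 1122713 [] .nil) 1127686 [] (.node (.node .nil 1134148 [] .nil)
  1148257 [] .nil)) 1161408 [] (.node (.node (.node .nil 1164162 [] .nil) 1182989 [] .nil) 1186194 []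
  (.node (.node .nil 1188915 [] .nil) 1192108 [] .nil))) 1204944 [] (.node (.node (.node (.node .nil
  1212619 [] .nil) 1217620 [] .nil) 1230376 [] (.node (.node .nil 1245726 [] .nil) 1250945 [] .nil))
  1256224 [] (.node (.node (.node .nil 1265762 [] .nil) 1302533 [] .nil) 1312345 [] (.node (.node
  .nil 1315526 [] .nil) 1327290 [] .nil)))) 1332261 [] (.node (.node (.node (.node (.node .nil
  1337732 [] .nil) 1351424 [] .nil) 1352353 [] (.node (.node .nil 1369154 [] .nil) 1378634 [] .nil))
  1384564 [] (.node (.node (.node .nil 1405448 [] .nil) 1410188 [] .nil) 1413139 [] (.node (.node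
  .nil 1445088 [] .nil) 1454401 [] .nil))) 1460739 [] (.node (.node (.node (.node .nil 1474854 []
  .nil) 1484824 [] .nil) 1525008 [] (.node (.node .nil 1573998 [] .nil) 1577201 [] .nil)) 1584464 []
  (.node (.node (.node .nil 1589901 [] .nil) 1594898 [] .nil) 1608104 [] (.node .nil 1613974 []
  .nil))))))) 1618953 [] (.node (.node (.node (.node (.node (.node (.node (.node .nil 1647171 []
  .nil) 1661185 [] .nil) 1664160 [] (.node (.node .nil 1675812 [] .nil) 1687640 [] .nil)) 1710664 []
  (.node (.node (.node .nil 1722420 [] .nil) 1728778 [] .nil) 1737489 [] (.node (.node .nil 1769924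
  [] .nil) 1805314 [] .nil))) 1836419 [] (.node (.node (.node (.node .nil 1839388 [] .nil) 1849378 []
  .nil) 1852256 [] (.node (.node .nil 1869893 [] .nil) 1903248 [] .nil)) 1975812 [] (.node (.node
  (.node .nil 2019456 [] .nil) 2031657 [] .nil) 2101096 [] (.node (.node .nil 2106966 [] .nil)
  2110153 [] .nil)))) 2115979 [] (.node (.node (.node (.node (.node .nil 2120980 [] .nil) 2121909 []
  .nil) 2126890 [] (.node (.node .nil 2130606 [] .nil) 2135601 [] .nil)) 2141072 [] (.node (.node
  (.node .nil 2147405 [] .nil) 2150610 [] .nil) 2162811 [] (.node (.node .nil 2168036 [] .nil)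
  2173253 [] .nil))) 2180760 [] (.node (.node (.node (.node .nil 2183687 [] .nil) 2201890 [] .nil)
  2204803 [] (.node (.node .nil 2207772 [] .nil) 2220640 [] .nil)) 2229713 [] (.node (.node (.node
  .nil 2232654 [] .nil) 2242672 [] .nil) 2245426 [] (.node (.node .nil 2255372 [] .nil) 2263063 []
  .nil))))) 2268296 [] (.node (.node (.node (.node (.node (.node .nil 2269481 [] .nil) 2296514 []
  .nil) 2313249 [] (.node (.node .nil 2322816 [] .nil) 2328324 [] .nil)) 2363013 [] (.node (.node
  (.node .nil 2365978 [] .nil) 2372388 [] .nil) 2377830 [] (.node (.node .nil 2384216 [] .nil)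
  2392899 [] .nil))) 2409888 [] (.node (.node (.node (.node .nil 2422785 [] .nil) 2425238 [] .nil)
  2430217 [] (.node (.node .nil 2435240 [] .nil) 2460752 [] .nil)) 2491452 [] (.node (.node (.node
  .nil 2494627 [] .nil) 2501890 [] .nil) 2512448 [] (.node (.node .nil 2531524 [] .nil) 2564625 []
  .nil)))) 2605066 [] (.node (.node (.node (.node (.node .nil 2624690 [] .nil) 2627629 [] .nil)
  2631052 [] (.node (.node .nil 2634003 [] .nil) 2640465 [] .nil)) 2654580 [] (.node (.node (.node
  .nil 2664522 [] .nil) 2675464 [] .nil) 2687905 [] (.node (.node .nil 2702848 [] .nil) 2704706 []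
  .nil))) 2738308 [] (.node (.node (.node (.node .nil 2754059 [] .nil) 2757268 [] .nil) 2769128 []
  (.node (.node .nil 2810896 [] .nil) 2820376 [] .nil)) 2826278 [] (.node (.node (.node .nil 2854977
  [] .nil) 2890176 [] .nil) 2892897 [] (.node .nil 2908802 [] .nil)))))) 2916505 [] (.node (.node
  (.node (.node (.node (.node (.node .nil 2921478 [] .nil) 2949708 [] .nil) 2969648 [] (.node (.node
  .nil 3031301 [] .nil) 3050016 [] .nil)) 3147996 [] (.node (.node (.node .nil 3152963 [] .nil)
  3154402 [] .nil) 3168928 [] (.node (.node .nil 3172097 [] .nil) 3179802 [] .nil))) 3182981 []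
  (.node (.node (.node (.node .nil 3189796 [] .nil) 3216208 [] .nil) 3227948 [] (.node (.node .nil
  3237906 [] .nil) 3246601 [] .nil)) 3277413 [] (.node (.node (.node .nil 3294342 [] .nil) 3297305 []
  .nil) 3322370 [] (.node (.node .nil 3328320 [] .nil) 3351624 [] .nil)))) 3375280 [] (.node (.node
  (.node (.node (.node .nil 3410225 [] .nil) 3416079 [] .nil) 3421328 [] (.node (.node .nil 3444840
  [] .nil) 3457556 [] .nil)) 3474978 [] (.node (.node (.node .nil 3489985 [] .nil) 3539848 [] .nil)
  3610628 [] (.node (.node .nil 3672838 [] .nil) 3678776 [] .nil))) 3698756 [] (.node (.node (.node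
  (.node .nil 3704512 [] .nil) 3719203 [] .nil) 3736597 [] (.node (.node .nil 3739786 [] .nil)
  3806496 [] .nil)) 3811457 [] (.node (.node (.node .nil 3951624 [] .nil) 4038912 [] .nil) 4063314 []
  (.node (.node .nil 4196943 [] .nil) 4202192 [] .nil))))) 4203377 [] (.node (.node (.node (.node
  (.node (.node .nil 4213932 [] .nil) 4216883 [] .nil) 4220306 [] (.node (.node .nil 4223245 [] .nil)
  4229001 [] .nil)) 4231958 [] (.node (.node (.node .nil 4241960 [] .nil) 4243818 [] .nil) 4253780 []
  (.node (.node .nil 4261212 [] .nil) 4264387 [] .nil))) 4271202 [] (.node (.node (.node (.node .nil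
  4282144 [] .nil) 4287105 [] .nil) 4294810 [] (.node (.node .nil 4299781 [] .nil) 4301220 [] .nil))
  4325622 [] (.node (.node (.node .nil 4330601 [] .nil) 4336072 [] .nil) 4343317 [] (.node (.node
  .nil 4346506 [] .nil) 4361520 [] .nil)))) 4367374 [] (.node (.node (.node (.node (.node .nil
  4370577 [] .nil) 4403780 [] .nil) 4409606 [] (.node (.node .nil 4415544 [] .nil) 4424227 [] .nil))
  4441280 [] (.node (.node (.node .nil 4459426 [] .nil) 4465308 [] .nil) 4470275 [] (.node (.node
  .nil 4476225 [] .nil) 4485344 [] .nil))) 4490852 [] (.node (.node (.node (.node .nil 4505735 []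
  .nil) 4510744 [] .nil) 4523185 [] (.node (.node .nil 4526126 [] .nil) 4536592 [] .nil)) 4538962 []
  (.node (.node (.node .nil 4563017 [] .nil) 4587803 [] .nil) 4593028 [] (.node .nil 4597797 []
  .nil)))))))) 4626498 [] (.node (.node (.node (.node (.node (.node (.node (.node (.node .nil 4645632
  [] .nil) 4656648 [] .nil) 4721045 [] (.node (.node .nil 4726026 [] .nil) 4726955 [] .nil)) 4731956
  [] (.node (.node (.node .nil 4744776 [] .nil) 4752467 [] .nil) 4755660 [] (.node (.node .nil
  4768432 [] .nil) 4785798 [] .nil))) 4788761 [] (.node (.node (.node (.node .nil 4800613 [] .nil)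
  4819776 [] .nil) 4845570 [] (.node (.node .nil 4850476 [] .nil) 4860434 [] .nil)) 4870480 [] (.node
  (.node (.node .nil 4900873 [] .nil) 4921504 [] .nil) 4924673 [] (.node (.node .nil 4982904 [] .nil)
  4989254 [] .nil)))) 5003780 [] (.node (.node (.node (.node (.node .nil 5017889 [] .nil) 5024896 []
  .nil) 5063048 [] (.node (.node .nil 5112513 [] .nil) 5129250 [] .nil)) 5210132 [] (.node (.node
  (.node .nil 5249380 [] .nil) 5252293 [] .nil) 5255258 [] (.node (.node .nil 5262104 [] .nil)
  5268006 [] .nil))) 5275709 [] (.node (.node (.node (.node .nil 5280930 [] .nil) 5286147 [] .nil)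
  5296705 [] (.node (.node .nil 5309160 [] .nil) 5325835 [] .nil)) 5329044 [] (.node (.node (.node
  .nil 5350928 [] .nil) 5375810 [] .nil) 5390753 [] (.node (.node .nil 5405696 [] .nil) 5409412 []
  .nil))))) 5441617 [] (.node (.node (.node (.node (.node (.node .nil 5476616 [] .nil) 5508118 []
  .nil) 5511305 [] (.node (.node .nil 5514536 [] .nil) 5538256 [] .nil)) 5571333 [] (.node (.node
  (.node .nil 5621792 [] .nil) 5640752 [] .nil) 5652556 [] (.node (.node .nil 5709954 [] .nil)
  5770785 [] .nil))) 5780352 [] (.node (.node (.node (.node .nil 5785794 [] .nil) 5817604 [] .nil)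
  5833010 [] (.node (.node .nil 5842956 [] .nil) 5899416 [] .nil)) 5902343 [] (.node (.node (.node
  .nil 5939296 [] .nil) 6053905 [] .nil) 6062602 [] (.node (.node .nil 6100032 [] .nil) 6292775 []
  .nil)))) 6295992 [] (.node (.node (.node (.node (.node .nil 6302745 [] .nil) 6305926 [] .nil)
  6308804 [] (.node (.node .nil 6326497 [] .nil) 6337856 [] .nil)) 6344194 [] (.node (.node (.node
  .nil 6359604 [] .nil) 6365962 [] .nil) 6379592 [] (.node (.node .nil 6406417 [] .nil) 6429441 []
  .nil))) 6432416 [] (.node (.node (.node (.node .nil 6447171 [] .nil) 6455896 [] .nil) 6475812 []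
  (.node (.node .nil 6488205 [] .nil) 6493202 [] .nil)) 6554826 [] (.node (.node (.node .nil 6557781
  [] .nil) 6570537 [] .nil) 6588684 [] (.node .nil 6594610 [] .nil)))))) 6644740 [] (.node (.node
  (.node (.node (.node (.node (.node .nil 6656640 [] .nil) 6703248 [] .nil) 6750560 [] (.node (.node
  .nil 6820450 [] .nil) 6832158 [] .nil)) 6837377 [] (.node (.node (.node .nil 6842656 [] .nil)
  6857221 [] .nil) 6889680 [] (.node (.node .nil 6915112 [] .nil) 6949956 [] .nil))) 6979970 []
  (.node (.node (.node (.node .nil 7079696 [] .nil) 7145475 [] .nil) 7221256 [] (.node (.node .nil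
  7340691 [] .nil) 7345676 [] .nil)) 7357552 [] (.node (.node (.node .nil 7397512 [] .nil) 7409024 []
  .nil) 7417889 [] (.node (.node .nil 7438406 [] .nil) 7473194 [] .nil)))) 7479572 [] (.node (.node
  (.node (.node (.node .nil 7612992 [] .nil) 7622914 [] .nil) 7767041 [] (.node (.node .nil 7864649
  [] .nil) 7903248 [] .nil)) 8077824 [] (.node (.node (.node .nil 8126628 [] .nil) 8391797 [] .nil)
  8394986 [] (.node (.node .nil 8398155 [] .nil) 8401364 [] .nil))) 8407702 [] (.node (.node (.node
  (.node .nil 8412681 [] .nil) 8414120 [] .nil) 8421811 [] (.node (.node .nil 8426796 [] .nil)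
  8431757 [] .nil)) 8436754 [] (.node (.node (.node .nil 8439632 [] .nil) 8455014 [] .nil) 8464984 []
  (.node (.node .nil 8471941 [] .nil) 8474906 [] .nil))))) 8484900 [] (.node (.node (.node (.node
  (.node (.node .nil 8490656 [] .nil) 8499969 [] .nil) 8505411 [] (.node (.node .nil 8521420 [] .nil)
  8524371 [] .nil)) 8536111 [] (.node (.node (.node .nil 8541360 [] .nil) 8546577 [] .nil) 8555274 []
  (.node (.node .nil 8561204 [] .nil) 8581192 [] .nil))) 8592704 [] (.node (.node (.node (.node .nil
  8593633 [] .nil) 8611330 [] .nil) 8619033 [] (.node (.node .nil 8622214 [] .nil) 8654232 [] .nil))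
  8657159 [] (.node (.node (.node .nil 8660134 [] .nil) 8663097 [] .nil) 8675909 [] (.node (.node
  .nil 8683614 [] .nil) 8688833 [] .nil)))) 8694112 [] (.node (.node (.node (.node (.node .nil
  8704546 [] .nil) 8716939 [] .nil) 8721940 [] (.node (.node .nil 8733800 [] .nil) 8773776 [] .nil))
  8783649 [] (.node (.node (.node .nil 8796800 [] .nil) 8798658 [] .nil) 8834052 [] (.node (.node
  .nil 8849458 [] .nil) 8855820 [] .nil))) 8919856 [] (.node (.node (.node (.node .nil 8922769 []
  .nil) 8925710 [] .nil) 8931660 [] (.node (.node .nil 8937586 [] .nil) 8946281 [] .nil)) 8963210 []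
  (.node (.node (.node .nil 8966165 [] .nil) 8978620 [] .nil) 8983587 [] (.node .nil 8989058 []
  .nil))))))) 8999616 [] (.node (.node (.node (.node (.node (.node (.node (.node .nil 9020484 []
  .nil) 9045270 [] .nil) 9048457 [] (.node (.node .nil 9055272 [] .nil) 9078992 [] .nil)) 9112069 []
  (.node (.node (.node .nil 9158944 [] .nil) 9178690 [] .nil) 9193633 [] (.node (.node .nil 9204992
  [] .nil) 9208708 [] .nil))) 9240913 [] (.node (.node (.node (.node .nil 9279496 [] .nil) 9310308 []
  .nil) 9323032 [] (.node (.node .nil 9347075 [] .nil) 9440193 [] .nil)) 9451104 [] (.node (.node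
  (.node .nil 9456930 [] .nil) 9462812 [] .nil) 9465987 [] (.node (.node .nil 9471495 [] .nil)
  9474712 [] .nil)))) 9486564 [] (.node (.node (.node (.node (.node .nil 9503954 [] .nil) 9506893 []
  .nil) 9519665 [] (.node (.node .nil 9537812 [] .nil) 9543722 [] .nil)) 9568632 [] (.node (.node
  (.node .nil 9578566 [] .nil) 9589508 [] .nil) 9607201 [] (.node (.node .nil 9610624 [] .nil)
  9652360 [] .nil))) 9701932 [] (.node (.node (.node (.node .nil 9708306 [] .nil) 9721936 [] .nil)
  9748745 [] (.node (.node .nil 9769376 [] .nil) 9776129 [] .nil)) 9830549 [] (.node (.node (.node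
  .nil 9835530 [] .nil) 9929280 [] .nil) 9963547 [] (.node (.node .nil 9968772 [] .nil) 9969957 []
  .nil))))) 9998658 [] (.node (.node (.node (.node (.node (.node .nil 10021376 [] .nil) 10028808 []
  .nil) 10093218 [] (.node (.node .nil 10110017 [] .nil) 10170384 [] .nil)) 10232008 [] (.node (.node
  (.node .nil 10257456 [] .nil) 10305542 [] .nil) 10486557 [] (.node (.node .nil 10491778 [] .nil)
  10496547 [] .nil))) 10506593 [] (.node (.node (.node (.node .nil 10513600 [] .nil) 10525252 []
  .nil) 10537016 [] (.node (.node .nil 10543366 [] .nil) 10554382 [] .nil)) 10557585 [] (.node (.node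
  (.node .nil 10560816 [] .nil) 10584520 [] .nil) 10619300 [] (.node (.node .nil 10625178 [] .nil)
  10630149 [] .nil)))) 10650722 [] (.node (.node (.node (.node (.node .nil 10666625 [] .nil) 10687016
  [] .nil) 10698836 [] (.node (.node .nil 10748656 [] .nil) 10765331 [] .nil)) 10768524 [] (.node
  (.node (.node .nil 10790408 [] .nil) 10825794 [] .nil) 10832640 [] (.node (.node .nil 10846245 []
  .nil) 10881097 [] .nil))) 10916112 [] (.node (.node (.node (.node .nil 11010247 [] .nil) 11015256
  [] .nil) 11028004 [] (.node (.node .nil 11046145 [] .nil) 11055264 [] .nil)) 11100169 [] (.node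
  (.node (.node .nil 11108882 [] .nil) 11150144 [] .nil) 11163650 [] (.node .nil 11272490 []
  .nil)))))) 11282452 [] (.node (.node (.node (.node (.node (.node (.node .nil 11469952 [] .nil)
  11535529 [] .nil) 11538486 [] (.node (.node .nil 11548936 [] .nil) 11551306 [] .nil)) 11575377 []
  (.node (.node (.node .nil 11608708 [] .nil) 11654144 [] .nil) 11669008 [] (.node (.node .nil
  11731203 [] .nil) 11797828 [] .nil))) 11831426 [] (.node (.node (.node (.node .nil 11952160 []
  .nil) 12075408 [] .nil) 12126304 [] (.node (.node .nil 12222476 [] .nil) 12325377 [] .nil))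
  12584506 [] (.node (.node (.node .nil 12587685 [] .nil) 12594948 [] .nil) 12599513 [] (.node (.node
  .nil 12604486 [] .nil) 12624578 [] .nil)))) 12638592 [] (.node (.node (.node (.node (.node .nil
  12641313 [] .nil) 12650793 [] .nil) 12656663 [] (.node (.node .nil 12661896 [] .nil) 12685424 []
  .nil)) 12698124 [] (.node (.node (.node .nil 12717187 [] .nil) 12720156 [] .nil) 12726562 [] (.node
  (.node .nil 12733024 [] .nil) 12747077 [] .nil))) 12780432 [] (.node (.node (.node (.node .nil
  12849992 [] .nil) 12861748 [] .nil) 12871690 [] (.node (.node .nil 12880401 [] .nil) 12912836 []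
  .nil)) 12944642 [] (.node (.node (.node .nil 12985424 [] .nil) 13009064 [] .nil) 13062145 [] (.node
  (.node .nil 13108704 [] .nil) 13121601 [] .nil))))) 13124355 [] (.node (.node (.node (.node (.node
  (.node .nil 13142054 [] .nil) 13148440 [] .nil) 13192208 [] (.node (.node .nil 13262980 [] .nil)
  13276672 [] .nil)) 13303882 [] (.node (.node (.node .nil 13370381 [] .nil) 13373586 [] .nil)
  13443616 [] (.node (.node .nil 13631886 [] .nil) 13636881 [] .nil))) 13641904 [] (.node (.node
  (.node (.node .nil 13667400 [] .nil) 13703682 [] .nil) 13721920 [] (.node (.node .nil 13771273 []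
  .nil) 13811730 [] .nil)) 13829156 [] (.node (.node (.node .nil 13893731 [] .nil) 13911680 [] .nil)
  13938692 [] (.node (.node .nil 14156372 [] .nil) 14176296 [] .nil)))) 14254209 [] (.node (.node
  (.node (.node (.node .nil 14551296 [] .nil) 14682450 [] .nil) 14688364 [] (.node (.node .nil
  14709264 [] .nil) 14714004 [] .nil)) 14716939 [] (.node (.node (.node .nil 14747201 [] .nil)
  14762146 [] .nil) 14828808 [] (.node (.node .nil 14919680 [] .nil) 14949408 [] .nil))) 14950785 []
  (.node (.node (.node (.node .nil 15073798 [] .nil) 15207048 [] .nil) 15274244 [] (.node (.node .nil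
  15335473 [] .nil) 15515712 [] .nil)) 15747077 [] (.node (.node (.node .nil 15762208 [] .nil)
  15864000 [] .nil) 16056344 [] (.node .nil 16262146 [] .nil)))))))))

/-- Check of one table entry. -/
def octEntryOK (m : ℕ) (_ : List ℕ) : Bool := fOct m

theorem oct_entries_ok : ctAll octEntryOK octTree = true := by decide +kernel

theorem oct_bd_ok : ctBd 0 16777216 octTree = true := by decide +kernel

theorem oct_count_ok : ctCount (fun _ _ => true) octTree = 759 := by decide +kernel

/-- The number of octads. -/
theorem ncard_octads : octads.ncard = 759 := by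
  have h := ncard_octads_filter (fun _ => True) (fun m => popc m == 8) (by
    intro o ho
    simp only [true_iff]
    rw [← card_eq_popc, ho.2]
    rfl) (by
    intro m hm
    simpa using hm)
  have h1 : {o | o ∈ octads ∧ True} = octads := by
    ext o
    simp
  rw [h1] at h
  rw [h]
  decide +kernel

theorem oct_master : Master octads ofMask octTree := by
  refine Master.of_count oct_bd_ok (Set.toFinite _) ?_ ?_ (by rw [ncard_octads, oct_count_ok])
  · intro m v hf
    exact ofMask_mem_octads_of_fOct (ctAll_of_find oct_entries_ok hf)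
  · intro m v m' v' hf hf' he
    exact (ofMask_inj (find_bd oct_bd_ok hf).2 (find_bd oct_bd_ok hf').2).1 he

/-- Test that an element moves an octad to an octad. -/
def octSem (f : ℕ → ℕ) (r : ℕ) (_ : List ℕ) (m : ℕ) (_ : List ℕ) : Bool := Nat.beq (f r) m

theorem oct_sys : Sys octads ofMask octTree octSem where
  master := oct_master
  inv := fun g hg x hx => smul_mem_octads hg hx
  sound := by
    intro g f r m vr v hg hf hr hm hs
    rw [← hf, Nat.eq_of_beq_eq_true hs]

/-- The class values on the table. -/
def octClv (L : List ℕ) (m : ℕ) (_ : List ℕ) : ℕ := clRow m L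

/-- The certificate for the orbits on octads of the stabiliser of a family of masks. -/
theorem oct_cert {L : List ℕ} (hL : L.Nodup) (hL' : ∀ a ∈ L, a < 2 ^ 24) {gens : List (List ℕ)}
    {tbs : List ℕ} (hgens : gensFOK L gens tbs = true) {tr : CT} {reps : List (ℕ × ℕ × List ℕ)}
    (hreps : ∀ p ∈ reps, octTree.find p.2.1 = some p.2.2)
    (cert : ctAll (certNode tbs tr reps (octClv L) octSem) octTree = true) :
    Cert octads ofMask octTree octSem (famOf L) (clO (famOf L)) (octClv L) (stabF L) tbs tr reps where
  sys := oct_sys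
  hcl := fun m _ _ => clO_famOf hL hL' m
  hinv := fun g _ h x _ => clO_invariant h x
  hH := fun g hg => ⟨hg.1, hg.2⟩
  hgens := moves_of_gensFOK hgens
  hreps := hreps
  cert := cert

end Cfsg.Agent.Lib.Sporadic.M24OctTab
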