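import Cfsg.Agent.Lib.Sporadic.M24Orbit
import Cfsg.Agent.S0360

/-!
# The octad stabiliser: orbits on octads, and maximality
-/

namespace Cfsg.Agent.Lib.Sporadic.M24Octad

open Cfsg Cfsg.Agent.Lib.Sporadic.GolayCore Cfsg.Agent.Lib.Sporadic.M24Tbl
open Cfsg.Agent.Lib.Sporadic.M24Chain Cfsg.Agent.Lib.Sporadic.M24Basic
open Cfsg.Agent.Lib.Sporadic.M24Act Cfsg.Agent.Lib.Sporadic.M24Lists
open Cfsg.Agent.Lib.Sporadic.M24Orbit Cfsg.Agent.Lib.Sporadic.M24Count
open scoped Pointwise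

/-- Generators of the stabiliser of `octad0`. -/
def gensO : List (List ℕ) := [
  [5,0,23,14,12,3,15,21,11,13,8,10,6,9,17,19,7,1,4,18,20,16,22,2],
  [17,3,14,5,20,0,19,9,13,21,10,6,15,11,1,22,16,2,12,4,8,18,7,23],
  [0,23,17,14,21,2,22,9,4,12,7,16,15,6,5,8,11,1,10,13,19,20,18,3],
  [5,0,3,2,11,14,8,21,16,6,12,18,19,4,23,10,9,1,20,13,22,15,7,17],
  [5,0,2,14,6,1,10,16,4,12,19,20,22,8,23,21,7,17,15,13,11,9,18,3],
  [23,14,5,17,19,1,12,8,22,4,16,10,15,18,3,9,11,2,13,6,20,21,7,0],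
  [0,1,2,3,6,5,4,22,20,12,11,10,9,19,14,18,21,17,15,13,8,16,7,23],
  [0,1,2,3,7,5,22,4,15,11,12,9,10,21,14,8,19,17,20,16,18,13,6,23]]

theorem gensO_ok : gensO.all (genOK [octad0]) = true := by decide +kernel

/-- Words for all octads. -/
def treeO : CT :=
  (.node (.node (.node (.node (.node (.node (.node (.node (.node (.node .nil 5279 [] .nil) 10558
  [2,5] .nil) 15777 [] (.node (.node .nil 18147 [1,3,2,0] .nil) 21116 [4,5,2] .nil)) 31554 [6,4,0]
  (.node (.node (.node .nil 36294 [2,7,4,1] .nil) 39257 [0,3,1] .nil) 42232 [0,7,6] (.node (.node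
  .nil 45159 [7,1,1] .nil) 52005 [6,4,6] .nil))) 57883 [1,2,1] (.node (.node (.node (.node .nil 63108
  [6,3,6,0] .nil) 69395 [1,7,3] .nil) 72588 [1,2,1,1] (.node (.node .nil 75309 [6,3] .nil) 78514
  [6,4,7] .nil)) 84464 [2,0,0] (.node (.node (.node .nil 90318 [0,4,2] .nil) 95313 [3,0,1] .nil)
  99029 [2] (.node (.node .nil 104010 [5,3,7] .nil) 115766 [7,2,1] .nil)))) 118953 [3,1,1] (.node
  (.node (.node (.node (.node .nil 126216 [0,0] .nil) 133817 [3,1,5] .nil) 138790 [5,0,0] (.node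
  (.node .nil 140167 [4,0,2] .nil) 145176 [7,2,5,1] .nil)) 150618 [0,6,1] (.node (.node (.node .nil
  153797 [3,4,0] .nil) 157028 [2,3,3] .nil) 168928 [1,0,4] (.node (.node .nil 175681 [1] .nil) 180636
  [0,0,3] .nil))) 185603 [3,3,2] (.node (.node (.node (.node .nil 190626 [1,0,4,0] .nil) 198058
  [5,3,2,0] .nil) 201013 [3,2,1,0] (.node (.node .nil 208020 [6,1,1] .nil) 210955 [5,0,3] .nil))
  213833 [4,4,5] (.node (.node (.node .nil 231532 [0,0] .nil) 237906 [5,7,6,0] .nil) 252432 [1,2,6]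
  (.node (.node .nil 262637 [3,6] .nil) 267634 [3,1] .nil))))) 272595 [4,4] (.node (.node (.node
  (.node (.node (.node .nil 277580 [0,5,2] .nil) 280334 [3,0,0] .nil) 283537 [5,4,3] (.node (.node
  .nil 290352 [6,3,7] .nil) 298027 [7,2,2] .nil)) 301236 [3,1,0,1] (.node (.node (.node .nil 304405
  [1,4,1] .nil) 307594 [3,1,1] .nil) 314056 [2,1,5] (.node (.node .nil 334433 [7,6] .nil) 337856 []
  .nil))) 346141 [1,0,2] (.node (.node (.node (.node .nil 351362 [7,4,0] .nil) 352547 [5,4,4] .nil)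
  361272 [0,1,0] (.node (.node .nil 371206 [5,7,4,1] .nil) 381252 [3,0] .nil)) 396116 [5,1,2,1]
  (.node (.node (.node .nil 402026 [5,3,3] .nil) 416040 [6,1] .nil) 418953 [1,1,1] (.node (.node .nil
  421910 [7,4,0,0] .nil) 427666 [5,7,0] .nil)))) 430605 [4,1,2] (.node (.node (.node (.node (.node
  .nil 442481 [1,3] .nil) 459847 [0,4,1] .nil) 463064 [0,3] (.node (.node .nil 475812 [2,3,2,0] .nil)
  493953 [5,1,5] .nil)) 504864 [7,4,1] (.node (.node (.node .nil 525274 [1,5,4] .nil) 530245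
  [5,0,3,0] .nil) 535268 [2,7,3] (.node (.node .nil 542009 [4,2,1,0] .nil) 545190 [2,1] .nil)))
  551943 [7,5,3,2] (.node (.node (.node (.node .nil 555160 [0,0,1,0] .nil) 560668 [1,7,5,0] .nil)
  563843 [3,5,0] (.node (.node .nil 567074 [0,1] .nil) 580704 [3,7] .nil)) 582081 [3,4,7] (.node
  (.node (.node .nil 593097 [4,5,6] .nil) 596054 [2,6,4,1] .nil) 602472 [0,7] (.node .nil 608810
  [0,4,1,0] .nil)))))) 615188 [3,0,7] (.node (.node (.node (.node (.node (.node (.node .nil 622863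
  [0,3,2] .nil) 628112 [4] .nil) 632881 [6,1,0] (.node (.node .nil 657763 [2,2,3] .nil) 663645
  [3,5,1,3] .nil)) 668866 [7,5,0] (.node (.node (.node .nil 675712 [0,0,0] .nil) 684577 [1,3,6] .nil)
  689317 [3,5,0] (.node (.node .nil 692282 [0,1,3] .nil) 702724 [5,0,3] .nil))) 705094 [3,4,2] (.node
  (.node (.node (.node .nil 722544 [4,1,6] .nil) 737427 [1,4] .nil) 742412 [1,0,4,1] (.node (.node
  .nil 762504 [1,2,1] .nil) 786999 [0,1,0] .nil)) 792232 [7,6,0] (.node (.node (.node .nil 797449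
  [0,0,1] .nil) 804052 [7,2,0] .nil) 806987 [4,4,0] (.node (.node .nil 832080 [3,1] .nil) 837906
  [4,0,6] .nil)))) 843820 [3,3] (.node (.node (.node (.node (.node .nil 855332 [6,2,3] .nil) 861210
  [6,5,3] .nil) 864389 [2,6] (.node (.node .nil 884962 [7,4] .nil) 902657 [1,4,2] .nil)) 919694 [0,5]
  (.node (.node (.node .nil 924689 [6,1] .nil) 926128 [2,7,3,0] .nil) 951624 [0,3,7] (.node (.node
  .nil 987906 [7,5,6,0] .nil) 1009728 [7,1,2] .nil))) 1050548 [5,2,4,2] (.node (.node (.node (.node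
  .nil 1053483 [2,2] .nil) 1060490 [0,6,4,1] .nil) 1063445 [2,3,2,1] (.node (.node .nil 1065303
  [4,2,5] .nil) 1070536 [0,6,0] .nil)) 1075305 [0,2,2] (.node (.node (.node .nil 1084018 [6,3,1]
  .nil) 1090380 [2,0,2] .nil) 1100945 [0,0,4,1] (.node (.node .nil 1103886 [2,4,2] .nil) 1110320
  [3,1,0] .nil))))) 1116327 [6,1,1] (.node (.node (.node (.node (.node (.node .nil 1121336 [6,0]
  .nil) 1122713 [1,4] .nil) 1127686 [2,2,2,0] (.node (.node .nil 1134148 [3,0,1,0] .nil) 1148257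
  [1,6,0] .nil)) 1161408 [2,1] (.node (.node (.node .nil 1164162 [1,2,0] .nil) 1182989 [1,3,1,0]
  .nil) 1186194 [7,5,7,0] (.node (.node .nil 1188915 [3,1,0] .nil) 1192108 [0,6,0] .nil))) 1204944
  [1,7,2] (.node (.node (.node (.node .nil 1212619 [3,1,2] .nil) 1217620 [1,6,1] .nil) 1230376 [1]
  (.node (.node .nil 1245726 [5,1] .nil) 1250945 [3,5] .nil)) 1256224 [6,4,1] (.node (.node (.node
  .nil 1265762 [1,1,0,2] .nil) 1302533 [2,3] .nil) 1312345 [5,3,3] (.node (.node .nil 1315526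
  [3,5,0,0] .nil) 1327290 [5,4,3] .nil)))) 1332261 [4,6] (.node (.node (.node (.node (.node .nil
  1337732 [0,3,3,0] .nil) 1351424 [4,1,0] .nil) 1352353 [3,1,6,3] (.node (.node .nil 1369154 [5,4,6]
  .nil) 1378634 [0,4,1] .nil)) 1384564 [4,7,2] (.node (.node (.node .nil 1405448 [7,6,0,0] .nil)
  1410188 [1,5,0] .nil) 1413139 [1,3] (.node (.node .nil 1445088 [6,2,3,0] .nil) 1454401 [0,4,0]
  .nil))) 1460739 [0,0,1] (.node (.node (.node (.node .nil 1474854 [4,2,4] .nil) 1484824 [3,2,4]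
  .nil) 1525008 [0,6,0,0] (.node (.node .nil 1573998 [6,2,5] .nil) 1577201 [0,1,3] .nil)) 1584464
  [3,3,1] (.node (.node (.node .nil 1589901 [6,0,4,0] .nil) 1594898 [4,0] .nil) 1608104 [5,2,0]
  (.node .nil 1613974 [2,4,1] .nil))))))) 1618953 [1,3,1] (.node (.node (.node (.node (.node (.node
  (.node (.node .nil 1647171 [1,2,0,0] .nil) 1661185 [3,3,1] .nil) 1664160 [7,3] (.node (.node .nil
  1675812 [1,0,3] .nil) 1687640 [5,4,0] .nil)) 1710664 [3,5,1] (.node (.node (.node .nil 1722420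
  [5,5,1] .nil) 1728778 [0,1] .nil) 1737489 [2,2,7] (.node (.node .nil 1769924 [2,2,3] .nil) 1805314
  [5,6,0] .nil))) 1836419 [7,1,3] (.node (.node (.node (.node .nil 1839388 [7,1,5,0] .nil) 1849378
  [4,6] .nil) 1852256 [3,7,6] (.node (.node .nil 1869893 [0,7,5] .nil) 1903248 [3,5] .nil)) 1975812
  [4,1,1] (.node (.node (.node .nil 2019456 [1,6,2] .nil) 2031657 [6,4,1,0] .nil) 2101096 [0] (.node
  (.node .nil 2106966 [1,0,0,0] .nil) 2110153 [4,5,7] .nil)))) 2115979 [1,4,3] (.node (.node (.node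
  (.node (.node .nil 2120980 [0,2,5] .nil) 2121909 [6,4] .nil) 2126890 [1,3,0,0] (.node (.node .nil
  2130606 [7,2,5] .nil) 2135601 [7] .nil)) 2141072 [0] (.node (.node (.node .nil 2147405 [5,4,1]
  .nil) 2150610 [0,0,3] .nil) 2162811 [2,7,2] (.node (.node .nil 2168036 [4,2] .nil) 2173253
  [2,6,1,0] .nil))) 2180760 [2,2,5] (.node (.node (.node (.node .nil 2183687 [5,3,2] .nil) 2201890
  [7,0,1] .nil) 2204803 [2,6,1] (.node (.node .nil 2207772 [2,5,2] .nil) 2220640 [6,3] .nil)) 2229713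
  [1,6] (.node (.node (.node .nil 2232654 [6,5,1] .nil) 2242672 [1,0,0,1] .nil) 2245426 [4,4,1,0]
  (.node (.node .nil 2255372 [0,3,4] .nil) 2263063 [5,4,2] .nil))))) 2268296 [2,5,1] (.node (.node
  (.node (.node (.node (.node .nil 2269481 [4,1,0] .nil) 2296514 [6,5,0] .nil) 2313249 [1,6,3] (.node
  (.node .nil 2322816 [6,1,2] .nil) 2328324 [1,3,5] .nil)) 2363013 [2,4,2,1] (.node (.node (.node
  .nil 2365978 [5,6,3] .nil) 2372388 [7,2,3] .nil) 2377830 [4,2,0] (.node (.node .nil 2384216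
  [6,5,4,0] .nil) 2392899 [5,0,2] .nil))) 2409888 [7,3,1,0] (.node (.node (.node (.node .nil 2422785
  [5,5,1,0] .nil) 2425238 [1,1,2] .nil) 2430217 [4,4,3] (.node (.node .nil 2435240 [3,7,2] .nil)
  2460752 [3,0] .nil)) 2491452 [6,0,0] (.node (.node (.node .nil 2494627 [0,1,4] .nil) 2501890
  [0,0,0,0] .nil) 2512448 [5,5,3] (.node (.node .nil 2531524 [1,7,1] .nil) 2564625 [2,7,2] .nil))))
  2605066 [7,0,1] (.node (.node (.node (.node (.node .nil 2624690 [6,1,0,0] .nil) 2627629 [3] .nil)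
  2631052 [3,4,5,1] (.node (.node .nil 2634003 [4,0,1] .nil) 2640465 [2,1,4] .nil)) 2654580 [2,3,1,0]
  (.node (.node (.node .nil 2664522 [5,3] .nil) 2675464 [7,0,0] .nil) 2687905 [3,2,1] (.node (.node
  .nil 2702848 [1] .nil) 2704706 [7,1,3,0] .nil))) 2738308 [5,5,0] (.node (.node (.node (.node .nil
  2754059 [4,3,2] .nil) 2757268 [3,1,5] .nil) 2769128 [1,6] (.node (.node .nil 2810896 [3,0,2] .nil)
  2820376 [3,2,0,1] .nil)) 2826278 [0,2] (.node (.node (.node .nil 2854977 [1,7,6] .nil) 2890176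
  [3,2] .nil) 2892897 [1,0] (.node .nil 2908802 [1,6,2,0] .nil)))))) 2916505 [4,5] (.node (.node
  (.node (.node (.node (.node (.node .nil 2921478 [0,0,3,0] .nil) 2949708 [0,0,2] .nil) 2969648 [3]
  (.node (.node .nil 3031301 [2,2,0] .nil) 3050016 [2,2,0] .nil)) 3147996 [5,1,2] (.node (.node
  (.node .nil 3152963 [3,5,7,0] .nil) 3154402 [6,4] .nil) 3168928 [0,1,4] (.node (.node .nil 3172097
  [4,5,3] .nil) 3179802 [1,4,0] .nil))) 3182981 [2,7] (.node (.node (.node (.node .nil 3189796 [2,3]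
  .nil) 3216208 [3] .nil) 3227948 [1,5,1] (.node (.node .nil 3237906 [4,5,2,0] .nil) 3246601 [0,6,4]
  .nil)) 3277413 [7,2,4] (.node (.node (.node .nil 3294342 [4,0,0] .nil) 3297305 [2,5,2] .nil)
  3322370 [4,2,2,0] (.node (.node .nil 3328320 [0,0,6,0] .nil) 3351624 [2,2,4] .nil)))) 3375280
  [3,3,5,4] (.node (.node (.node (.node (.node .nil 3410225 [3,4,4] .nil) 3416079 [3,0,5] .nil)
  3421328 [5,1,0] (.node (.node .nil 3444840 [7,0,6] .nil) 3457556 [6,3,0] .nil)) 3474978 [5,2,3]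
  (.node (.node (.node .nil 3489985 [2,1,0,1] .nil) 3539848 [0,7,3] .nil) 3610628 [3,2,5] (.node
  (.node .nil 3672838 [3,0,3] .nil) 3678776 [3,2,6] .nil))) 3698756 [3,7,6,0] (.node (.node (.node
  (.node .nil 3704512 [1,2] .nil) 3719203 [0,3,1,2] .nil) 3736597 [0,6,5] (.node (.node .nil 3739786
  [1,5,0,1] .nil) 3806496 [4,1] .nil)) 3811457 [0,1,2,0] (.node (.node (.node .nil 3951624 [6,0,0]
  .nil) 4038912 [1,3] .nil) 4063314 [4,2,3,0] (.node (.node .nil 4196943 [6] .nil) 4202192 [2]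
  .nil))))) 4203377 [1,5,2,0] (.node (.node (.node (.node (.node (.node .nil 4213932 [3,2,0] .nil)
  4216883 [4,2,2] .nil) 4220306 [6,5,4] (.node (.node .nil 4223245 [0,4,0] .nil) 4229001 [6,0,4]
  .nil)) 4231958 [1,1,6,2] (.node (.node (.node .nil 4241960 [7,0] .nil) 4243818 [5,2,1] .nil)
  4253780 [2,0,7] (.node (.node .nil 4261212 [5,0,0,0] .nil) 4264387 [2,1] .nil))) 4271202 [1,0,0]
  (.node (.node (.node (.node .nil 4282144 [7,3,7] .nil) 4287105 [3,4] .nil) 4294810 [1,1,3,0] (.node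
  (.node .nil 4299781 [2,7,6] .nil) 4301220 [4,2,6] .nil)) 4325622 [0,6,2] (.node (.node (.node .nil
  4330601 [2,5,1,0] .nil) 4336072 [2,5,6,1] .nil) 4343317 [2,3,6] (.node (.node .nil 4346506 [4,4,2]
  .nil) 4361520 [2,3,0] .nil)))) 4367374 [5,6,1] (.node (.node (.node (.node (.node .nil 4370577
  [7,1,6] .nil) 4403780 [7,1,1] .nil) 4409606 [2,0,0] (.node (.node .nil 4415544 [6,1,6] .nil)
  4424227 [3,7,1,0] .nil)) 4441280 [4,0,3] (.node (.node (.node .nil 4459426 [4,7,1,0] .nil) 4465308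
  [6,4,5,1] .nil) 4470275 [4,4,7] (.node (.node .nil 4476225 [1,2,3] .nil) 4485344 [3,6] .nil)))
  4490852 [4,6,2] (.node (.node (.node (.node .nil 4505735 [5,7,3,2] .nil) 4510744 [3,2,3] .nil)
  4523185 [4,2,1] (.node (.node .nil 4526126 [2,3,6,0] .nil) 4536592 [5] .nil)) 4538962 [5,0,1]
  (.node (.node (.node .nil 4563017 [6,4,5] .nil) 4587803 [5,3,4] .nil) 4593028 [1,1,7] (.node .nil
  4597797 [2,4] .nil)))))))) 4626498 [5,0,7] (.node (.node (.node (.node (.node (.node (.node (.node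
  (.node .nil 4645632 [1,2,7] .nil) 4656648 [5,0,0] .nil) 4721045 [7,2] (.node (.node .nil 4726026
  [5,2,0,0] .nil) 4726955 [1,5,2,1] .nil)) 4731956 [7,4,2] (.node (.node (.node .nil 4744776 [0,7,0]
  .nil) 4752467 [7,2,1] .nil) 4755660 [4,5,1] (.node (.node .nil 4768432 [6,3,6] .nil) 4785798
  [4,4,2] .nil))) 4788761 [1,7,4] (.node (.node (.node (.node .nil 4800613 [4] .nil) 4819776 [3,3]
  .nil) 4845570 [1,3,0] (.node (.node .nil 4850476 [7,0,0] .nil) 4860434 [4,4,1] .nil)) 4870480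
  [2,2,0,2] (.node (.node (.node .nil 4900873 [6,1,1,1] .nil) 4921504 [4,3,5] .nil) 4924673 [5,2,5]
  (.node (.node .nil 4982904 [1,5,3] .nil) 4989254 [6,2,4,1] .nil)))) 5003780 [3,6,0] (.node (.node
  (.node (.node (.node .nil 5017889 [7,1,6,0] .nil) 5024896 [7,3] .nil) 5063048 [4,1,5] (.node (.node
  .nil 5112513 [4,5,0] .nil) 5129250 [5,2,5] .nil)) 5210132 [6,1,7,1] (.node (.node (.node .nil
  5249380 [2,6,3] .nil) 5252293 [2,1,0] .nil) 5255258 [4,5,2] (.node (.node .nil 5262104 [0,0,6]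
  .nil) 5268006 [4,3] .nil))) 5275709 [2,0] (.node (.node (.node (.node .nil 5280930 [7,3,1] .nil)
  5286147 [4,4,6] .nil) 5296705 [5,7,5] (.node (.node .nil 5309160 [0,7,1,0] .nil) 5325835 [4,5,4]
  .nil)) 5329044 [2,0] (.node (.node (.node .nil 5350928 [1,4] .nil) 5375810 [5,5,2,0] .nil) 5390753
  [1,2,0] (.node (.node .nil 5405696 [6,0,0,0] .nil) 5409412 [2,4,2] .nil))))) 5441617 [6,1,6] (.node
  (.node (.node (.node (.node (.node .nil 5476616 [1,1,3] .nil) 5508118 [5,6,4,1] .nil) 5511305 [0,4]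
  (.node (.node .nil 5514536 [0,6] .nil) 5538256 [4,5] .nil)) 5571333 [6,2,7] (.node (.node (.node
  .nil 5621792 [4,0,4] .nil) 5640752 [4,7,1] .nil) 5652556 [5,0,1] (.node (.node .nil 5709954 [2,1,1]
  .nil) 5770785 [6] .nil))) 5780352 [4,1] (.node (.node (.node (.node .nil 5785794 [5,4] .nil)
  5817604 [7,3,0] .nil) 5833010 [4] (.node (.node .nil 5842956 [4,7,5,1] .nil) 5899416 [7,0,3] .nil))
  5902343 [1,1,3] (.node (.node (.node .nil 5939296 [4,6,1] .nil) 6053905 [3,4,6] .nil) 6062602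
  [5,3,1,0] (.node (.node .nil 6100032 [6,0] .nil) 6292775 [1,1] .nil)))) 6295992 [3,2,1,0] (.node
  (.node (.node (.node (.node .nil 6302745 [1,0,1] .nil) 6305926 [6,4,4,2] .nil) 6308804 [6,2,0]
  (.node (.node .nil 6326497 [1,7,0] .nil) 6337856 [0,2] .nil)) 6344194 [2,0,3] (.node (.node (.node
  .nil 6359604 [6,4,2] .nil) 6365962 [4,0,2] .nil) 6379592 [7,0,7,0] (.node (.node .nil 6406417
  [3,6,4] .nil) 6429441 [7,1] .nil))) 6432416 [0,3,4] (.node (.node (.node (.node .nil 6447171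
  [6,1,4] .nil) 6455896 [6,0,3] .nil) 6475812 [3,1,4,0] (.node (.node .nil 6488205 [0,5,1,1] .nil)
  6493202 [5,0] .nil)) 6554826 [3,2,4,2] (.node (.node (.node .nil 6557781 [6,2] .nil) 6570537
  [4,5,0] .nil) 6588684 [6,1,5,0] (.node .nil 6594610 [7,6,4] .nil)))))) 6644740 [0,3,2,0] (.node
  (.node (.node (.node (.node (.node (.node .nil 6656640 [2,2] .nil) 6703248 [5,4,0,2] .nil) 6750560
  [7,4,6,1] (.node (.node .nil 6820450 [4,7] .nil) 6832158 [0,0,4] .nil)) 6837377 [6,3,4] (.node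
  (.node (.node .nil 6842656 [7,6,3] .nil) 6857221 [0,4,3] .nil) 6889680 [4,4] (.node (.node .nil
  6915112 [7,0,7] .nil) 6949956 [1,1] .nil))) 6979970 [3,0,2,0] (.node (.node (.node (.node .nil
  7079696 [5,0] .nil) 7145475 [1,6,3] .nil) 7221256 [6,1,2,1] (.node (.node .nil 7340691 [6,2,1]
  .nil) 7345676 [3,1,5,0] .nil)) 7357552 [0,0,4] (.node (.node (.node .nil 7397512 [5,4,7,0] .nil)
  7409024 [2,3,0] .nil) 7417889 [7,1,0] (.node (.node .nil 7438406 [5,4,1] .nil) 7473194 [0,1,2,0]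
  .nil)))) 7479572 [7,1,7,1] (.node (.node (.node (.node (.node .nil 7612992 [1,0] .nil) 7622914
  [4,7,0] .nil) 7767041 [1,7] (.node (.node .nil 7864649 [6,1,4] .nil) 7903248 [6] .nil)) 8077824
  [1,2] (.node (.node (.node .nil 8126628 [3,0,4] .nil) 8391797 [3,1,2,1] .nil) 8394986 [5,4] (.node
  (.node .nil 8398155 [2,1,0] .nil) 8401364 [2,0,1] .nil))) 8407702 [6,3,1] (.node (.node (.node
  (.node .nil 8412681 [1,4,4] .nil) 8414120 [3,4] .nil) 8421811 [1,0,2,0] (.node (.node .nil 8426796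
  [4,5,1,0] .nil) 8431757 [7,5,2] .nil)) 8436754 [5,7,6] (.node (.node (.node .nil 8439632 [3,6,3]
  .nil) 8455014 [4,6,4] .nil) 8464984 [4,4,0,0] (.node (.node .nil 8471941 [5,1,7,0] .nil) 8474906
  [4,3,4] .nil))))) 8484900 [0,5,2] (.node (.node (.node (.node (.node (.node .nil 8490656 [7,5,2]
  .nil) 8499969 [2,3,5,0] .nil) 8505411 [0,6,5,1] (.node (.node .nil 8521420 [2,4,4] .nil) 8524371
  [3,3,5] .nil)) 8536111 [] (.node (.node (.node .nil 8541360 [5,6] .nil) 8546577 [7,2] .nil) 8555274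
  [4,6,5] (.node (.node .nil 8561204 [2,2,1] .nil) 8581192 [5,4,4,0] .nil))) 8592704 [4,1,7,2] (.node
  (.node (.node (.node .nil 8593633 [4,1,4] .nil) 8611330 [3,5] .nil) 8619033 [0,4,2,0] (.node (.node
  .nil 8622214 [6,1,2] .nil) 8654232 [2,5] .nil)) 8657159 [4,4,3] (.node (.node (.node .nil 8660134
  [4,4] .nil) 8663097 [0,0,1,0] .nil) 8675909 [5,1,0] (.node (.node .nil 8683614 [1,4,1] .nil)
  8688833 [5,3,4,0] .nil)))) 8694112 [5,2,6] (.node (.node (.node (.node (.node .nil 8704546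
  [1,2,4,0] .nil) 8716939 [6,5,0] .nil) 8721940 [5,1] (.node (.node .nil 8733800 [0,3] .nil) 8773776
  [7,4,0,0] .nil)) 8783649 [1,1,4,0] (.node (.node (.node .nil 8796800 [4,1,2] .nil) 8798658
  [3,3,6,0] .nil) 8834052 [4,5,0,1] (.node (.node .nil 8849458 [6,3,2] .nil) 8855820 [1,7,1,0]
  .nil))) 8919856 [5,2] (.node (.node (.node (.node .nil 8922769 [3,1,3,0] .nil) 8925710 [5,1,3]
  .nil) 8931660 [5,1,4] (.node (.node .nil 8937586 [2,0,1] .nil) 8946281 [1,5,4] .nil)) 8963210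
  [0,0,0] (.node (.node (.node .nil 8966165 [2,2,2] .nil) 8978620 [3,0,4,0] .nil) 8983587 [1,0,3]
  (.node .nil 8989058 [4,7,3] .nil))))))) 8999616 [1,4,2,0] (.node (.node (.node (.node (.node (.node
  (.node (.node .nil 9020484 [5,6,1] .nil) 9045270 [6,2,0,2] .nil) 9048457 [3,3,1] (.node (.node .nil
  9055272 [7,4,2] .nil) 9078992 [0,3,0] .nil)) 9112069 [4,4,0,0] (.node (.node (.node .nil 9158944
  [5] .nil) 9178690 [5,6,1,0] .nil) 9193633 [7,6,0] (.node (.node .nil 9204992 [6,3,3] .nil) 9208708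
  [1,0,2,0] .nil))) 9240913 [3,6,4,0] (.node (.node (.node (.node .nil 9279496 [1,5,1,0] .nil)
  9310308 [2,4,3] .nil) 9323032 [0,3,3] (.node (.node .nil 9347075 [1,0] .nil) 9440193 [3,5,0,1]
  .nil)) 9451104 [6,5,2] (.node (.node (.node .nil 9456930 [3,1,3] .nil) 9462812 [3,3,3] .nil)
  9465987 [0,5,1] (.node (.node .nil 9471495 [1,5,6] .nil) 9474712 [7,2,5] .nil)))) 9486564 [1,1,1,0]
  (.node (.node (.node (.node (.node .nil 9503954 [5,6] .nil) 9506893 [6,5,2] .nil) 9519665 [6,0]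
  (.node (.node .nil 9537812 [5,3,5] .nil) 9543722 [2,4,1] .nil)) 9568632 [4,7,2] (.node (.node
  (.node .nil 9578566 [2,0,2] .nil) 9589508 [3,0,3] .nil) 9607201 [4,0,0,1] (.node (.node .nil
  9610624 [5,0,4] .nil) 9652360 [1,1,5] .nil))) 9701932 [5,2,3] (.node (.node (.node (.node .nil
  9708306 [7,6,5] .nil) 9721936 [1,2,4] .nil) 9748745 [2,5,0] (.node (.node .nil 9769376 [4,3,4]
  .nil) 9776129 [4,5,4] .nil)) 9830549 [2,1,1] (.node (.node (.node .nil 9835530 [2,1,2] .nil)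
  9929280 [5,1,3,1] .nil) 9963547 [5,6,0] (.node (.node .nil 9968772 [7,5,1] .nil) 9969957 [3,4,4,0]
  .nil))))) 9998658 [7,5] (.node (.node (.node (.node (.node (.node .nil 10021376 [3,3] .nil)
  10028808 [3,3,0] .nil) 10093218 [5,2,0] (.node (.node .nil 10110017 [7,6,2] .nil) 10170384
  [4,0,0,0] .nil)) 10232008 [3,3,6,0] (.node (.node (.node .nil 10257456 [2,4,7,0] .nil) 10305542
  [3,6,1] .nil) 10486557 [5,2] (.node (.node .nil 10491778 [4,6,3] .nil) 10496547 [2,1,4] .nil)))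
  10506593 [0] (.node (.node (.node (.node .nil 10513600 [4,5,4,0] .nil) 10525252 [6,5,1] .nil)
  10537016 [6,0,3] (.node (.node .nil 10543366 [4,3,3] .nil) 10554382 [1,3,5] .nil)) 10557585
  [4,1,2,0] (.node (.node (.node .nil 10560816 [7,0,2] .nil) 10584520 [0,4,2] .nil) 10619300 [4,2,3]
  (.node (.node .nil 10625178 [4,5] .nil) 10630149 [3,0,0,0] .nil)))) 10650722 [3,2] (.node (.node
  (.node (.node (.node .nil 10666625 [2] .nil) 10687016 [4,2] .nil) 10698836 [3,3,4] (.node (.node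
  .nil 10748656 [3,3,4] .nil) 10765331 [0,0,5] .nil)) 10768524 [2,4,0] (.node (.node (.node .nil
  10790408 [3,5,5,0] .nil) 10825794 [5,1,0] .nil) 10832640 [7,3,3] (.node (.node .nil 10846245
  [1,4,2] .nil) 10881097 [0,2,1] .nil))) 10916112 [0,7,2,0] (.node (.node (.node (.node .nil 11010247
  [6,1,5] .nil) 11015256 [7,1,5] .nil) 11028004 [3,3,1,1] (.node (.node .nil 11046145 [2,1,3] .nil)
  11055264 [0,2] .nil)) 11100169 [3,2,1] (.node (.node (.node .nil 11108882 [5,7] .nil) 11150144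
  [5,4,5] .nil) 11163650 [4,1] (.node .nil 11272490 [4,7,0] .nil)))))) 11282452 [2,4] (.node (.node
  (.node (.node (.node (.node (.node .nil 11469952 [0,5,5,0] .nil) 11535529 [1,4,0] .nil) 11538486
  [7,4,4] (.node (.node .nil 11548936 [4,3,3] .nil) 11551306 [2,4,5] .nil)) 11575377 [1,5,2] (.node
  (.node (.node .nil 11608708 [7,2,4] .nil) 11654144 [1,5,1] .nil) 11669008 [2,1,1,2] (.node (.node
  .nil 11731203 [7,1,0] .nil) 11797828 [0,7,5,1] .nil))) 11831426 [6,5] (.node (.node (.node (.node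
  .nil 11952160 [6,5] .nil) 12075408 [4,0,0] .nil) 12126304 [0,2,7] (.node (.node .nil 12222476
  [3,2,4,0] .nil) 12325377 [3,7,4,0] .nil)) 12584506 [4,0] (.node (.node (.node .nil 12587685 [1,0,4]
  .nil) 12594948 [2,7,4] .nil) 12599513 [3,4,3] (.node (.node .nil 12604486 [3,1] .nil) 12624578
  [4,3] .nil)))) 12638592 [5,2,1] (.node (.node (.node (.node (.node .nil 12641313 [7,0] .nil)
  12650793 [0,1,1] .nil) 12656663 [1,5] (.node (.node .nil 12661896 [1,5] .nil) 12685424 [0,6,2]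
  .nil)) 12698124 [2,5,4] (.node (.node (.node .nil 12717187 [1,7,0] .nil) 12720156 [1,1,0] .nil)
  12726562 [7,3,2] (.node (.node .nil 12733024 [3,6,0] .nil) 12747077 [0,3,1] .nil))) 12780432
  [6,0,2,0] (.node (.node (.node (.node .nil 12849992 [2,4,3] .nil) 12861748 [4,0,4,0] .nil) 12871690
  [6,0,0,0] (.node (.node .nil 12880401 [2,2,1] .nil) 12912836 [4,2,0] .nil)) 12944642 [5] (.node
  (.node (.node .nil 12985424 [3,3,3] .nil) 13009064 [0,4] .nil) 13062145 [6,2] (.node (.node .nil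
  13108704 [5,7,2] .nil) 13121601 [3,4,0] .nil))))) 13124355 [6,0,5,1] (.node (.node (.node (.node
  (.node (.node .nil 13142054 [6,4,4] .nil) 13148440 [1,7,5] .nil) 13192208 [3,3,1,0] (.node (.node
  .nil 13262980 [3,0,2,0] .nil) 13276672 [5,0,3,1] .nil)) 13303882 [6,4,5] (.node (.node (.node .nil
  13370381 [4,3,1] .nil) 13373586 [6,4,3] .nil) 13443616 [6,0,2] (.node (.node .nil 13631886 [2,3,2]
  .nil) 13636881 [4,6,4,0] .nil))) 13641904 [4,3,3,1] (.node (.node (.node (.node .nil 13667400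
  [6,2,5] .nil) 13703682 [2,6,5,0] .nil) 13721920 [2,5,3] (.node (.node .nil 13771273 [4,4,1] .nil)
  13811730 [4,6,1] .nil)) 13829156 [2,4,2,0] (.node (.node (.node .nil 13893731 [3,0,0,1] .nil)
  13911680 [1,4,3,0] .nil) 13938692 [2,4,7] (.node (.node .nil 14156372 [2,6,4] .nil) 14176296
  [0,2,0] .nil)))) 14254209 [4,7,4,0] (.node (.node (.node (.node (.node .nil 14551296 [5,1,4] .nil)
  14682450 [1,3,3] .nil) 14688364 [5,2,2,0] (.node (.node .nil 14709264 [3,7,3] .nil) 14714004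
  [4,3,0] .nil)) 14716939 [5,0] (.node (.node (.node .nil 14747201 [2,4,4] .nil) 14762146 [5,1,1]
  .nil) 14828808 [0,3,2,0] (.node (.node .nil 14919680 [3,4,0,0] .nil) 14949408 [0,7,2] .nil)))
  14950785 [3,5,4] (.node (.node (.node (.node .nil 15073798 [1,2] .nil) 15207048 [3,2,0] .nil)
  15274244 [5,1,6] (.node (.node .nil 15335473 [5,5,2] .nil) 15515712 [5,4,0,1] .nil)) 15747077
  [7,5,1,0] (.node (.node (.node .nil 15762208 [5,2,7] .nil) 15864000 [0,2,0] .nil) 16056344 [1,5,7]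
  (.node .nil 16262146 [4,3,7] .nil)))))))))

/-- Orbit representative by the size of the intersection with `octad0`. -/
def repO (c : ℕ) : ℕ :=
  if c = 8 then 8536111 else if c = 4 then 5279 else if c = 2 then 15777 else 337856

theorem treeO_ok_aux : codeAll (fun m => popc m != 8 ||
    findOK gensO treeO (repO (popc (octad0 &&& m))) m) = true := by decide +kernel

theorem treeO_ok : ∀ m ∈ octadList, findOK gensO treeO (repO (popc (octad0 &&& m))) m = true :=
  octad_all treeO_ok_aux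

theorem octad_orbit_O0 {a b : Finset GolayPt} (ha : a ∈ octads) (hb : b ∈ octads)
    (h : (ofMask octad0 ∩ a).card = (ofMask octad0 ∩ b).card) :
    ∃ g ∈ M24, g • ofMask octad0 = ofMask octad0 ∧ g • a = b := by
  have hO : toMask (ofMask octad0) = octad0 := toMask_ofMask (by decide +kernel)
  have e : ∀ x : Finset GolayPt, (ofMask octad0 ∩ x).card = popc (octad0 &&& toMask x) := by
    intro x
    rw [card_eq_popc, toMask_inter, hO]
  have h1 := treeO_ok _ ((mem_octads_iff a).1 ha)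
  have h2 := treeO_ok _ ((mem_octads_iff b).1 hb)
  rw [e, e] at h
  rw [← h] at h2
  obtain ⟨g, hg, h3⟩ := conj_of_findOK (moves_all_of_genOK gensO_ok) h1 h2
  rw [ofMask_toMask, ofMask_toMask] at h3
  exact ⟨g, hg.1, hg.2 _ (by simp), h3⟩

/-- Octads meeting a fixed octad equally are conjugate in its stabiliser. -/
theorem octad_orbit {o a b : Finset GolayPt} (ho : o ∈ octads) (ha : a ∈ octads) (hb : b ∈ octads)
    (h : (o ∩ a).card = (o ∩ b).card) : ∃ g ∈ M24, g • o = o ∧ g • a = b := by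
  obtain ⟨k, hk, rfl⟩ := exists_smul_octad octad0_mem ho
  have e : ∀ x : Finset GolayPt, (k • ofMask octad0 ∩ x).card = (ofMask octad0 ∩ k⁻¹ • x).card := by
    intro x
    conv_lhs => rw [← smul_inv_smul k x, ← Finset.smul_finset_inter, Finset.card_smul_finset]
  rw [e, e] at h
  obtain ⟨g, hg, h1, h2⟩ := octad_orbit_O0 (smul_mem_octads (M24.inv_mem hk) ha)
    (smul_mem_octads (M24.inv_mem hk) hb) h
  refine ⟨k * g * k⁻¹, M24.mul_mem (M24.mul_mem hk hg) (M24.inv_mem hk), ?_, ?_⟩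
  · rw [mul_smul, mul_smul, inv_smul_smul, h1]
  · rw [mul_smul, mul_smul, h2, smul_inv_smul]

theorem octad_inter_cases {a : ℕ} (ha : a ∈ octadList) : popc (octad0 &&& a) = 8 ∨
    popc (octad0 &&& a) = 4 ∨ popc (octad0 &&& a) = 2 ∨ popc (octad0 &&& a) = 0 := by
  have : codeAll (fun m => popc m != 8 || (popc (octad0 &&& m) == 8 || popc (octad0 &&& m) == 4 ||
    popc (octad0 &&& m) == 2 || popc (octad0 &&& m) == 0)) = true := by decide +kernel
  have h1 := octad_all this a ha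
  simpa [or_assoc] using h1

/-- Class of an octad relative to `octad0`. -/
def clO (m : ℕ) : Fin 4 :=
  if popc (octad0 &&& m) = 8 then 0 else if popc (octad0 &&& m) = 0 then 1
  else if popc (octad0 &&& m) = 4 then 2 else 3

theorem cnt_clO : ∀ c : Fin 4, codeCount (fun m => popc m == 8 && decide (clO m = c)) =
    (![1, 30, 280, 448] : Fin 4 → ℕ) c := by
  decide +kernel

theorem isCoatom_octad0 : IsCoatom (MulAction.stabilizer M24 (ofMask octad0)) := by
  have hO : toMask (ofMask octad0) = octad0 := toMask_ofMask (by decide +kernel)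
  have e : ∀ x : Finset GolayPt, (ofMask octad0 ∩ x).card = popc (octad0 &&& toMask x) := by
    intro x
    rw [card_eq_popc, toMask_inter, hO]
  have cl_inj : ∀ {a b : Finset GolayPt}, a ∈ octads → b ∈ octads → clO (toMask a) = clO (toMask b) →
      popc (octad0 &&& toMask a) = popc (octad0 &&& toMask b) := by
    intro a b ha hb h
    have h1 := octad_inter_cases ((mem_octads_iff a).1 ha)
    have h2 := octad_inter_cases ((mem_octads_iff b).1 hb)
    unfold clO at h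
    generalize popc (octad0 &&& toMask a) = x at *
    generalize popc (octad0 &&& toMask b) = y at *
    rcases h1 with rfl | rfl | rfl | rfl <;> rcases h2 with rfl | rfl | rfl | rfl <;>
      first
      | rfl
      | exact absurd h (by decide)
  refine OrbitCoatom.isCoatom_stabilizer_of_classes (ofMask octad0) octads ?_
    (y₀ := ofMask 8398155) (by
      exact (ofMask_mem_octads_iff (by decide +kernel)).2 (isOctad_mem (by decide +kernel)))
    (by decide +kernel)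
    (k := 4) (fun a => clO (toMask a)) ![1, 30, 280, 448] 759 ?_ 0 ?_ ?_ ?_ ?_ (by decide +kernel)
  · ext t
    constructor
    · rintro ⟨g, rfl⟩
      exact smul_mem_octads g.2 octad0_mem
    · intro ht
      obtain ⟨g, hg, h⟩ := exists_smul_octad octad0_mem ht
      exact ⟨⟨g, hg⟩, h⟩
  · exact Cfsg.Agent.S0360.result
  · rw [hO]; decide +kernel
  · intro c
    rw [← cnt_clO c]
    apply ncard_octads_filter
    · intro o ho
      have h8 : popc (toMask o) = 8 := by rw [← card_eq_popc]; exact ho.2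
      simp [h8]
    · intro m hm
      simp only [Bool.and_eq_true, beq_iff_eq] at hm
      exact hm.1
  · intro y hy z hz hc
    obtain ⟨g, hg, h1, h2⟩ := octad_orbit_O0 hy hz (by
      rw [e, e]; exact cl_inj hy hz hc)
    exact ⟨⟨g, hg⟩, (mem_stabilizer_M24_finset _ _).2 h1, h2⟩
  · intro y hy hc
    have h1 : (ofMask octad0 ∩ y).card = 8 := by
      rw [hO] at hc
      have := cl_inj hy octad0_mem (by rw [hc, hO])
      rw [e, this, hO]
      decide +kernel
    have h4 : ofMask octad0 ∩ y = ofMask octad0 := by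
      apply Finset.eq_of_subset_of_card_le Finset.inter_subset_left
      rw [h1, card_ofMask]
      decide +kernel
    have h5 : ofMask octad0 ⊆ y := Finset.inter_eq_left.1 h4
    exact (Finset.eq_of_subset_of_card_le h5 (by rw [hy.2, card_ofMask]; decide +kernel)).symm

theorem isCoatom_octad {o : Finset GolayPt} (ho : o ∈ octads) :
    IsCoatom (MulAction.stabilizer M24 o) := by
  obtain ⟨g, hg, hgs⟩ := exists_smul_octad octad0_mem ho
  have := isCoatom_stabilizer_smul (⟨g, hg⟩ : M24) isCoatom_octad0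
  rwa [show (⟨g, hg⟩ : M24) • ofMask octad0 = o from hgs] at this

end Cfsg.Agent.Lib.Sporadic.M24Octad
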