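import Cfsg.Agent.Lib.Sporadic.M24Octad

/-!
# The octad stabiliser: order, action on the octad, split extension
-/

namespace Cfsg.Agent.Lib.Sporadic.M24OctadStab

open Cfsg Cfsg.Agent.Lib.Sporadic.GolayCore Cfsg.Agent.Lib.Sporadic.M24Tbl
open Cfsg.Agent.Lib.Sporadic.M24Chain Cfsg.Agent.Lib.Sporadic.M24Basic
open Cfsg.Agent.Lib.Sporadic.M24Act Cfsg.Agent.Lib.Sporadic.M24Lists
open Cfsg.Agent.Lib.Sporadic.M24Orbit Cfsg.Agent.Lib.Sporadic.M24Count
open Cfsg.Agent.Lib.Sporadic.M24Six Cfsg.Agent.Lib.Sporadic.M24Octad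
open scoped Pointwise

theorem orbit_octad {o : Finset GolayPt} (ho : o ∈ octads) : MulAction.orbit M24 o = octads := by
  ext s
  constructor
  · rintro ⟨g, rfl⟩
    exact smul_mem_octads g.2 ho
  · intro hs
    obtain ⟨g, hg, hgs⟩ := exists_smul_octad ho hs
    exact ⟨⟨g, hg⟩, hgs⟩

/-- An octad stabiliser has order 322560. -/
theorem card_stab_octad {o : Finset GolayPt} (ho : o ∈ octads) :
    Nat.card (MulAction.stabilizer M24 o) = 322560 := by
  have h := Subgroup.index_mul_card (MulAction.stabilizer M24 o)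
  rw [MulAction.index_stabilizer, card_M24, orbit_octad ho, Cfsg.Agent.S0360.result] at h
  omega

theorem card_pointwise_octad {o : Finset GolayPt} (ho : o ∈ octads) :
    Nat.card {g : Equiv.Perm GolayPt // g ∈ M24 ∧ ∀ p ∈ o, g p = p} = 16 := by
  rw [← (octad_pointwise o ho).1]
  apply Nat.card_congr
  apply Equiv.subtypeEquivRight
  intro g
  rw [Subgroup.mem_inf, mem_fixingSubgroup_iff]
  rfl

theorem card_range {o : Finset GolayPt} (ho : o ∈ octads) :
    Nat.card (restrictTo o).range = 20160 := by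
  have h := card_stabilizer_eq o
  rw [card_stab_octad ho, card_pointwise_octad ho] at h
  omega

/-- The octad stabiliser induces the alternating group on the octad. -/
theorem range_eq_alt {o : Finset GolayPt} (ho : o ∈ octads) :
    (restrictTo o).range = alternatingGroup ↥o := by
  apply Equiv.Perm.eq_alternatingGroup_of_index_eq_two
  have h := Subgroup.index_mul_card (restrictTo o).range
  rw [card_range ho, Nat.card_eq_fintype_card (α := Equiv.Perm ↥o), Fintype.card_perm,
    Fintype.card_coe, ho.2] at h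
  have h8 : Nat.factorial 8 = 40320 := rfl
  omega

theorem smul_eq_of_iff {g : Equiv.Perm GolayPt} {o : Finset GolayPt}
    (h : ∀ x, g x ∈ o ↔ x ∈ o) : g • o = o := by
  ext x
  rw [mem_smul_iff_inv, ← h]
  simp

theorem induces_alt {o : Finset GolayPt} (ho : o ∈ octads) :
    {e : Equiv.Perm ↥o | ∃ g : Equiv.Perm GolayPt, g ∈ M24 ∧ ∃ h : (∀ x, g x ∈ o ↔ x ∈ o),
      g.subtypePerm h = e} = (alternatingGroup ↥o : Set (Equiv.Perm ↥o)) := by
  rw [← range_eq_alt ho]
  ext e
  constructor
  · rintro ⟨g, hg, h, rfl⟩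
    exact ⟨⟨⟨g, hg⟩, (mem_stabilizer_M24_finset _ _).2 (smul_eq_of_iff h)⟩, rfl⟩
  · rintro ⟨k, rfl⟩
    exact ⟨_, (k : M24).2, mem_iff_of_smul_eq ((mem_stabilizer_M24_finset _ _).1 k.2), rfl⟩

/-- The pointwise stabiliser of an octad acts freely outside the octad. -/
theorem free_outside {o : Finset GolayPt} (ho : o ∈ octads) {g : Equiv.Perm GolayPt}
    (hg : g ∈ M24) (hfix : ∀ x ∈ o, g x = x) {p : GolayPt} (hp : p ∉ o) (hgp : g p = p) : g = 1 := by
  have hgg : g * g = 1 := (octad_pointwise o ho).2 g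
    ⟨hg, (mem_fixingSubgroup_iff _).2 fun x hx => hfix x hx⟩
  obtain ⟨s, hs, hs5⟩ := Finset.exists_subset_card_eq (s := o) (n := 5) (by rw [ho.2]; norm_num)
  have hps : p ∉ s := fun h => hp (hs h)
  set E : Finset GolayPt := insert p s with hE
  have hE6 : E.card = 6 := by rw [hE, Finset.card_insert_of_notMem hps, hs5]
  have hns : ¬ ∃ o' ∈ octads, E ⊆ o' := by
    rintro ⟨o', ho', hE'⟩
    have h1 : o = o' := eq_of_octads_of_five ho ho' (by
      have : s ⊆ o ∩ o' := fun x hx => Finset.mem_inter.2 ⟨hs hx, hE' (Finset.mem_insert_of_mem hx)⟩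
      calc 5 = s.card := hs5.symm
        _ ≤ _ := Finset.card_le_card this)
    exact hp (h1 ▸ hE' (Finset.mem_insert_self p s))
  have hcard := (card_pointwise_six E hE6).2 hns
  let H : Subgroup (Equiv.Perm GolayPt) := M24 ⊓ fixingSubgroup (Equiv.Perm GolayPt) (E : Set GolayPt)
  have hH : Nat.card H = 3 := by
    rw [← hcard]
    apply Nat.card_congr
    apply Equiv.subtypeEquivRight
    intro g
    rw [Subgroup.mem_inf, mem_fixingSubgroup_iff]
    rfl
  have hgH : g ∈ H := by
    refine ⟨hg, (mem_fixingSubgroup_iff _).2 fun x hx => ?_⟩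
    have hx' : x ∈ E := hx
    rcases Finset.mem_insert.1 hx' with rfl | hxs
    · exact hgp
    · exact hfix x (hs hxs)
  have h3 : (⟨g, hgH⟩ : H) ^ 3 = 1 := by
    have := pow_card_eq_one' (x := (⟨g, hgH⟩ : H))
    rwa [hH] at this
  have h3' : g ^ 3 = 1 := by
    have := congrArg Subtype.val h3
    simpa using this
  have h4 : g ^ 3 = g := by rw [pow_succ, pow_two, hgg, one_mul]
  rw [← h4, h3']

/-- The pointwise stabiliser of an octad is transitive on the 16 points outside. -/
theorem trans_outside {o : Finset GolayPt} (ho : o ∈ octads) {p q : GolayPt} (hp : p ∉ o)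
    (hq : q ∉ o) : ∃ g ∈ M24, (∀ x ∈ o, g x = x) ∧ g p = q := by
  classical
  let A := {g : Equiv.Perm GolayPt // g ∈ M24 ∧ ∀ x ∈ o, g x = x}
  have hcompl : ∀ (g : A) {y}, y ∉ o → g.1 y ∉ o := by
    intro g y hy hgy
    have h1 : g.1 y = y := g.1.injective (g.2.2 _ hgy)
    rw [h1] at hgy
    exact hy hgy
  let f : A → {x // x ∉ o} := fun g => ⟨g.1 p, hcompl g hp⟩
  have hinj : Function.Injective f := by
    intro a b hab
    have h1 : a.1 p = b.1 p := congrArg Subtype.val hab
    have h2 : b.1⁻¹ * a.1 = 1 := by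
      apply free_outside ho (M24.mul_mem (M24.inv_mem b.2.1) a.2.1) _ hp
      · simp [h1]
      · intro x hx
        simp only [Equiv.Perm.mul_apply]
        rw [a.2.2 x hx]
        conv_lhs => rw [← b.2.2 x hx]
        simp
    have h3 : a.1 = b.1 := by
      rw [inv_mul_eq_one] at h2
      exact h2.symm
    exact Subtype.ext h3
  have hA : Nat.card A = 16 := card_pointwise_octad ho
  have hC : Nat.card {x // x ∉ o} = 16 := by
    rw [Nat.card_eq_fintype_card, Fintype.card_subtype_compl, Fintype.card_coe, ho.2]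
    rfl
  haveI : Finite A := by
    apply Finite.of_injective (fun a => a.1)
    exact Subtype.val_injective
  have hsurj : Function.Surjective f := by
    apply ((Nat.bijective_iff_injective_and_card f).2 ⟨hinj, by rw [hA, hC]⟩).2
  obtain ⟨g, hg⟩ := hsurj ⟨q, hq⟩
  exact ⟨g.1, g.2.1, g.2.2, congrArg Subtype.val hg⟩

/-- The joint stabiliser, in the permutation group, of an octad and a point outside it. -/
abbrev jointStab (o : Finset GolayPt) (p : GolayPt) : Subgroup (Equiv.Perm GolayPt) :=
  M24 ⊓ MulAction.stabilizer (Equiv.Perm GolayPt) o ⊓ MulAction.stabilizer (Equiv.Perm GolayPt) p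

theorem mem_iff_of_stab {o : Finset GolayPt} {g : Equiv.Perm GolayPt} (h : g • o = o)
    (x : GolayPt) : g x ∈ o ↔ x ∈ o := by
  conv_lhs => rw [← h]
  exact apply_mem_smul g o x

/-- Restriction to the octad. -/
noncomputable def jointHom (o : Finset GolayPt) (p : GolayPt) : jointStab o p →* Equiv.Perm ↥o where
  toFun k := (k : Equiv.Perm GolayPt).subtypePerm (mem_iff_of_stab k.2.1.2)
  map_one' := by
    ext x
    rfl
  map_mul' a b := by
    ext x
    rfl

theorem jointHom_injective {o : Finset GolayPt} (ho : o ∈ octads) {p : GolayPt} (hp : p ∉ o) :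
    Function.Injective (jointHom o p) := by
  rw [injective_iff_map_eq_one]
  intro k hk
  apply Subtype.ext
  apply free_outside ho k.2.1.1 _ hp k.2.2
  intro x hx
  have := congrArg (fun e : Equiv.Perm ↥o => ((e ⟨x, hx⟩ : ↥o) : GolayPt)) hk
  exact this

theorem jointHom_range {o : Finset GolayPt} (ho : o ∈ octads) {p : GolayPt} (hp : p ∉ o) :
    (jointHom o p).range = alternatingGroup ↥o := by
  rw [← range_eq_alt ho]
  apply le_antisymm
  · rintro _ ⟨k, rfl⟩
    exact ⟨⟨⟨k.1, k.2.1.1⟩, (mem_stabilizer_M24_finset _ _).2 k.2.1.2⟩, rfl⟩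
  · rintro _ ⟨k, rfl⟩
    set g : Equiv.Perm GolayPt := ((k : M24) : Equiv.Perm GolayPt) with hg
    have hgo : g • o = o := (mem_stabilizer_M24_finset _ _).1 k.2
    have hgM : g ∈ M24 := (k : M24).2
    have hq : g p ∉ o := fun h => hp ((mem_iff_of_stab hgo p).1 h)
    obtain ⟨f, hf, hfo, hfp⟩ := trans_outside ho hp hq
    have hfi : ∀ x ∈ o, f⁻¹ x = x := by
      intro x hx
      conv_lhs => rw [← hfo x hx]
      simp
    have h1 : (f⁻¹ * g) • o = o := by
      rw [mul_smul, hgo]
      apply Finset.eq_of_subset_of_card_le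
      · intro x hx
        obtain ⟨y, hy, rfl⟩ := Finset.mem_smul_finset.1 hx
        show f⁻¹ y ∈ o
        rw [hfi y hy]
        exact hy
      · rw [Finset.card_smul_finset]
    have h2 : (f⁻¹ * g) p = p := by
      simp only [Equiv.Perm.mul_apply]
      rw [← hfp]
      simp
    refine ⟨⟨f⁻¹ * g, ⟨⟨M24.mul_mem (M24.inv_mem hf) hgM, h1⟩, h2⟩⟩, ?_⟩
    refine Equiv.ext fun x => Subtype.ext ?_
    show f⁻¹ (g x.1) = g x.1
    exact hfi _ ((mem_iff_of_stab hgo x.1).2 x.2)

/-- An octad stabiliser is a split extension. -/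
theorem octad_split {o : Finset GolayPt} (ho : o ∈ octads) {p : GolayPt} (hp : p ∉ o) :
    (M24 ⊓ fixingSubgroup (Equiv.Perm GolayPt) (o : Set GolayPt)) ⊓ jointStab o p = ⊥ ∧
    (M24 ⊓ fixingSubgroup (Equiv.Perm GolayPt) (o : Set GolayPt)) ⊔ jointStab o p =
      (M24 ⊓ MulAction.stabilizer (Equiv.Perm GolayPt) o) ∧
    Nonempty (↥(jointStab o p) ≃* alternatingGroup (Fin 8)) := by
  refine ⟨?_, ?_, ?_⟩
  · rw [eq_bot_iff]
    rintro g ⟨⟨hg, hfix⟩, h2⟩
    rw [Subgroup.mem_bot]
    exact free_outside ho hg (fun x hx => (mem_fixingSubgroup_iff _).1 hfix x hx) hp h2.2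
  · apply le_antisymm
    · apply sup_le
      · rintro g ⟨hg, hfix⟩
        refine ⟨hg, ?_⟩
        have hfix' := fun x hx => (mem_fixingSubgroup_iff (M := Equiv.Perm GolayPt) (s := (o : Set GolayPt))).1 hfix x hx
        show g • o = o
        apply Finset.eq_of_subset_of_card_le
        · intro x hx
          obtain ⟨y, hy, rfl⟩ := Finset.mem_smul_finset.1 hx
          rw [hfix' y hy]
          exact hy
        · rw [Finset.card_smul_finset]
      · exact inf_le_left
    · rintro g ⟨hgM, hgo⟩
      have hgo' : g • o = o := hgo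
      have hq : g p ∉ o := fun h => hp ((mem_iff_of_stab hgo' p).1 h)
      obtain ⟨f, hf, hfo, hfp⟩ := trans_outside ho hp hq
      have hfi : ∀ x ∈ o, f⁻¹ x = x := by
        intro x hx
        conv_lhs => rw [← hfo x hx]
        simp
      have hfs : f⁻¹ • o = o := by
        apply Finset.eq_of_subset_of_card_le
        · intro x hx
          obtain ⟨y, hy, rfl⟩ := Finset.mem_smul_finset.1 hx
          show f⁻¹ y ∈ o
          rw [hfi y hy]
          exact hy
        · rw [Finset.card_smul_finset]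
      have h1 : f⁻¹ * g ∈ jointStab o p := by
        refine ⟨⟨M24.mul_mem (M24.inv_mem hf) hgM, ?_⟩, ?_⟩
        · show (f⁻¹ * g) • o = o
          rw [mul_smul, hgo', hfs]
        · show (f⁻¹ * g) p = p
          simp only [Equiv.Perm.mul_apply]
          rw [← hfp]
          simp
      have h2 : f ∈ M24 ⊓ fixingSubgroup (Equiv.Perm GolayPt) (o : Set GolayPt) :=
        ⟨hf, (mem_fixingSubgroup_iff _).2 fun x hx => hfo x hx⟩
      have := Subgroup.mul_mem_sup h2 h1
      rwa [mul_inv_cancel_left] at this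
  · exact ⟨(MonoidHom.ofInjective (jointHom_injective ho hp)).trans
      ((MulEquiv.subgroupCongr (jointHom_range ho hp)).trans
        (Equiv.altCongrHom (o.equivFinOfCardEq ho.2)))⟩

theorem inter_smul_card (k : Equiv.Perm GolayPt) (a b : Finset GolayPt) :
    (k • a ∩ k • b).card = (a ∩ b).card := by
  rw [← Finset.smul_finset_inter, Finset.card_smul_finset]

/-- The number of octads meeting a given octad in `c` points. -/
theorem ncard_octads_inter {o : Finset GolayPt} (ho : o ∈ octads) (c : ℕ) :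
    {x : Finset GolayPt | x ∈ octads ∧ (o ∩ x).card = c}.ncard =
      codeCount (fun m => popc m == 8 && popc (octad0 &&& m) == c) := by
  obtain ⟨k, hk, rfl⟩ := exists_smul_octad octad0_mem ho
  have hO : toMask (ofMask octad0) = octad0 := toMask_ofMask (by decide +kernel)
  rw [← ncard_smul_eq (A := {x : Finset GolayPt | x ∈ octads ∧ (ofMask octad0 ∩ x).card = c}) k]
  · rw [ncard_octads_filter _ (fun m => popc m == 8 && popc (octad0 &&& m) == c)]
    · intro x hx
      have h8 : popc (toMask x) = 8 := by rw [← card_eq_popc]; exact hx.2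
      rw [card_eq_popc, toMask_inter, hO]
      simp [h8]
    · intro m hm
      simp only [Bool.and_eq_true, beq_iff_eq] at hm
      exact hm.1
  · intro s
    simp only [Set.mem_ofPred_eq]
    rw [inter_smul_card, smul_mem_octads_iff hk]

/-- Order of the joint stabiliser of two octads in terms of the number of octads of the same type. -/
theorem card_stab_two_octads {o o' : Finset GolayPt} (ho : o ∈ octads) (ho' : o' ∈ octads) :
    Nat.card ↥(MulAction.stabilizer M24 o ⊓ MulAction.stabilizer M24 o') *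
      {x : Finset GolayPt | x ∈ octads ∧ (o ∩ x).card = (o ∩ o').card}.ncard = 322560 := by
  have h := Subgroup.index_mul_card (MulAction.stabilizer (MulAction.stabilizer M24 o) o')
  rw [MulAction.index_stabilizer, card_stab_octad ho] at h
  have h1 : MulAction.orbit (MulAction.stabilizer M24 o) o' =
      {x : Finset GolayPt | x ∈ octads ∧ (o ∩ x).card = (o ∩ o').card} := by
    ext x
    constructor
    · rintro ⟨⟨⟨g, hgM⟩, hg0⟩, rfl⟩
      have hg : g • o = o := (mem_stabilizer_M24_finset _ _).1 hg0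
      refine ⟨smul_mem_octads hgM ho', ?_⟩
      show (o ∩ g • o').card = _
      have h2 : o ∩ g • o' = g • o ∩ g • o' := by rw [hg]
      rw [h2, inter_smul_card]
    · rintro ⟨hx, hc⟩
      obtain ⟨g, hg, h2, h3⟩ := octad_orbit ho ho' hx hc.symm
      exact ⟨⟨⟨g, hg⟩, (mem_stabilizer_M24_finset _ _).2 h2⟩, h3⟩
  rw [h1] at h
  rw [← h, mul_comm]
  congr 1
  apply Nat.card_congr
  exact
    { toFun := fun x => ⟨⟨x.1, x.2.1⟩, x.2.2⟩
      invFun := fun x => ⟨x.1.1, ⟨x.1.2, x.2⟩⟩
      left_inv := fun _ => rfl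
      right_inv := fun _ => rfl }

theorem joint_orders {o o' : Finset GolayPt} (ho : o ∈ octads) (ho' : o' ∈ octads) :
    ((o ∩ o').card = 0 → Nat.card ↥(MulAction.stabilizer M24 o ⊓ MulAction.stabilizer M24 o') = 10752) ∧
    ((o ∩ o').card = 4 → Nat.card ↥(MulAction.stabilizer M24 o ⊓ MulAction.stabilizer M24 o') = 1152) ∧
    ((o ∩ o').card = 2 → Nat.card ↥(MulAction.stabilizer M24 o ⊓ MulAction.stabilizer M24 o') = 720) := by
  have h := card_stab_two_octads ho ho'
  rw [ncard_octads_inter ho] at h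
  refine ⟨fun hc => ?_, fun hc => ?_, fun hc => ?_⟩
  · rw [hc, show codeCount (fun m => popc m == 8 && popc (octad0 &&& m) == 0) = 30 by decide +kernel] at h
    omega
  · rw [hc, show codeCount (fun m => popc m == 8 && popc (octad0 &&& m) == 4) = 280 by decide +kernel] at h
    omega
  · rw [hc, show codeCount (fun m => popc m == 8 && popc (octad0 &&& m) == 2) = 448 by decide +kernel] at h
    omega

end Cfsg.Agent.Lib.Sporadic.M24OctadStab
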