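import Cfsg.Agent.Lib.Sporadic.M24Lists

/-!
# Orbit certificates: words in explicit elements of a subgroup, looked up in a binary tree
-/

namespace Cfsg.Agent.Lib.Sporadic.M24Orbit

open Cfsg Cfsg.Agent.Lib.Sporadic.GolayCore Cfsg.Agent.Lib.Sporadic.M24Tbl
open Cfsg.Agent.Lib.Sporadic.M24Chain
open scoped Pointwise

/-- `f` is the action on masks of an element of `H`. -/
def Moves (H : Subgroup (Equiv.Perm GolayPt)) (f : ℕ → ℕ) : Prop :=
  ∃ g ∈ H, ∀ m, ofMask (f m) = g • ofMask m

theorem moves_id (H : Subgroup (Equiv.Perm GolayPt)) : Moves H id :=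
  ⟨1, H.one_mem, fun m => by simp⟩

theorem moves_comp {H : Subgroup (Equiv.Perm GolayPt)} {f f' : ℕ → ℕ} (h : Moves H f)
    (h' : Moves H f') : Moves H (f ∘ f') := by
  obtain ⟨g, hg, h1⟩ := h
  obtain ⟨g', hg', h2⟩ := h'
  refine ⟨g * g', H.mul_mem hg hg', fun m => ?_⟩
  rw [Function.comp_apply, h1, h2, mul_smul]

/-- Application of a word in a list of tables. -/
def wordFn (gens : List (List ℕ)) : List ℕ → ℕ → ℕ
  | [], m => m
  | i :: w, m => applyT (gens.getD i []) (wordFn gens w m)

theorem moves_word {H : Subgroup (Equiv.Perm GolayPt)} {gens : List (List ℕ)}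
    (hgens : ∀ T ∈ gens, Moves H (applyT T)) (w : List ℕ) (hw : ∀ i ∈ w, i < gens.length) :
    Moves H (wordFn gens w) := by
  induction w with
  | nil => exact moves_id H
  | cons i w ih =>
    have hi := hw i List.mem_cons_self
    have h1 : Moves H (applyT (gens.getD i [])) := by
      apply hgens
      rw [List.getD_eq_getElem _ _ hi]
      exact List.getElem_mem _
    exact moves_comp h1 (ih fun j hj => hw j (List.mem_cons_of_mem _ hj))

/-- Binary search tree of words. -/
inductive CT where
  | nil : CT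
  | node : CT → ℕ → List ℕ → CT → CT

def CT.find (m : ℕ) : CT → Option (List ℕ)
  | .nil => none
  | .node l k w r => if m < k then CT.find m l else if k < m then CT.find m r else some w

/-- Check that the tree holds a word moving `rep` to `m`. -/
def findOK (gens : List (List ℕ)) (t : CT) (rep m : ℕ) : Bool :=
  match t.find m with
  | some w => w.all (· < gens.length) && (wordFn gens w rep == m)
  | none => false

theorem moved_of_findOK {H : Subgroup (Equiv.Perm GolayPt)} {gens : List (List ℕ)}
    (hgens : ∀ T ∈ gens, Moves H (applyT T)) {t : CT} {rep m : ℕ}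
    (h : findOK gens t rep m = true) : ∃ g ∈ H, g • ofMask rep = ofMask m := by
  unfold findOK at h
  split at h
  · rename_i w _
    simp only [Bool.and_eq_true, List.all_eq_true, decide_eq_true_eq, beq_iff_eq] at h
    obtain ⟨g, hg, h1⟩ := moves_word hgens w h.1
    exact ⟨g, hg, by rw [← h1, h.2]⟩
  · simp at h

/-- Two masks in the orbit of a representative are conjugate. -/
theorem conj_of_findOK {H : Subgroup (Equiv.Perm GolayPt)} {gens : List (List ℕ)}
    (hgens : ∀ T ∈ gens, Moves H (applyT T)) {t : CT} {rep m m' : ℕ}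
    (h : findOK gens t rep m = true) (h' : findOK gens t rep m' = true) :
    ∃ g ∈ H, g • ofMask m = ofMask m' := by
  obtain ⟨g, hg, h1⟩ := moved_of_findOK hgens h
  obtain ⟨g', hg', h2⟩ := moved_of_findOK hgens h'
  refine ⟨g' * g⁻¹, H.mul_mem hg' (H.inv_mem hg), ?_⟩
  rw [mul_smul, ← h1, inv_smul_smul, h2]

/-- The joint stabiliser in `M24` of a list of masks. -/
def stabL (L : List ℕ) : Subgroup (Equiv.Perm GolayPt) where
  carrier := {g | g ∈ M24 ∧ ∀ m ∈ L, g • ofMask m = ofMask m}
  mul_mem' := by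
    rintro a b ⟨ha, ha'⟩ ⟨hb, hb'⟩
    refine ⟨M24.mul_mem ha hb, fun m hm => ?_⟩
    rw [mul_smul, hb' m hm, ha' m hm]
  one_mem' := ⟨M24.one_mem, fun m _ => one_smul _ _⟩
  inv_mem' := by
    rintro a ⟨ha, ha'⟩
    refine ⟨M24.inv_mem ha, fun m hm => ?_⟩
    conv_lhs => rw [← ha' m hm]
    rw [inv_smul_smul]

theorem mem_stabL {L : List ℕ} {g : Equiv.Perm GolayPt} :
    g ∈ stabL L ↔ g ∈ M24 ∧ ∀ m ∈ L, g • ofMask m = ofMask m := Iff.rfl

/-- A generator check: a good table fixing the masks in `L`. -/
def genOK (L : List ℕ) (T : List ℕ) : Bool := goodT T && L.all fun m => applyT T m == m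

theorem moves_of_genOK {L T : List ℕ} (h : genOK L T = true) : Moves (stabL L) (applyT T) := by
  simp only [genOK, Bool.and_eq_true, List.all_eq_true, beq_iff_eq] at h
  refine ⟨gPerm T h.1, ⟨gPerm_mem h.1, fun m hm => ?_⟩, fun m => ofMask_applyT _ m⟩
  have := ofMask_applyT (validTbl_of_goodT h.1) m
  rw [h.2 m hm] at this
  exact this.symm

theorem moves_all_of_genOK {L : List ℕ} {gens : List (List ℕ)} (h : gens.all (genOK L) = true) :
    ∀ T ∈ gens, Moves (stabL L) (applyT T) := fun T hT =>
  moves_of_genOK (List.all_eq_true.1 h T hT)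

theorem octad_all {P : ℕ → Bool} (h : codeAll (fun m => popc m != 8 || P m) = true) :
    ∀ m ∈ octadList, P m = true := by
  intro m hm
  have h1 := List.mem_filter.1 hm
  have h2 := (codeAll_iff _).1 h m h1.1
  simp only [Bool.or_eq_true, bne_iff_ne, ne_eq] at h2
  rcases h2 with h2 | h2
  · exact absurd (by simpa using h1.2) h2
  · exact h2

theorem dodecad_all {P : ℕ → Bool} (h : codeAll (fun m => popc m != 12 || P m) = true) :
    ∀ m ∈ dodecadList, P m = true := by
  intro m hm
  have h1 := List.mem_filter.1 hm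
  have h2 := (codeAll_iff _).1 h m h1.1
  simp only [Bool.or_eq_true, bne_iff_ne, ne_eq] at h2
  rcases h2 with h2 | h2
  · exact absurd (by simpa using h1.2) h2
  · exact h2

end Cfsg.Agent.Lib.Sporadic.M24Orbit
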