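import Cfsg.Agent.Lib.Sporadic.M24Count

/-!
# Orbits of `M24` on 6-tuples
-/

namespace Cfsg.Agent.Lib.Sporadic.M24Six

open Cfsg Cfsg.Agent.Lib.Sporadic.GolayCore Cfsg.Agent.Lib.Sporadic.M24Tbl
open Cfsg.Agent.Lib.Sporadic.M24Chain Cfsg.Agent.Lib.Sporadic.M24Basic
open Cfsg.Agent.Lib.Sporadic.M24Act
open scoped Pointwise

theorem octad0_card : (ofMask octad0).card = 8 := octad0_mem.2

theorem base5_pts (i : Fin 5) : e5 i ∈ ofMask octad0 := by
  revert i; decide +kernel

/-- Points of `octad0` outside the base are in `{5, 14, 17}`. -/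
theorem octad0_rest {p : GolayPt} (hp : p ∈ ofMask octad0) (hb : ∀ i, p ≠ e5 i) :
    idx p ∈ [5, 14, 17] := by
  revert p; decide +kernel

/-- Points outside `octad0` form the orbit of level 6. -/
theorem octad0_out {p : GolayPt} (hp : p ∉ ofMask octad0) :
    idx p ∈ [4, 6, 7, 8, 9, 10, 11, 12, 13, 15, 16, 18, 19, 20, 21, 22] := by
  revert p; decide +kernel

/-- The stabiliser of the base five points is transitive on the remaining three points of the octad
and on the outside of the octad. -/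
theorem fix5_trans {p q : GolayPt}
    (h : (p ∈ ofMask octad0 ∧ q ∈ ofMask octad0 ∧ (∀ i, p ≠ e5 i) ∧ ∀ i, q ≠ e5 i) ∨
      (p ∉ ofMask octad0 ∧ q ∉ ofMask octad0)) :
    ∃ g ∈ fixG [3, 2, 1, 0, 23], g p = q := by
  have keyin : ∀ {p : GolayPt}, p ∈ ofMask octad0 → (∀ i, p ≠ e5 i) →
      ∃ g ∈ fixG [3, 2, 1, 0, 23], g (pt 5) = p := by
    intro p hp hb
    have := octad0_rest hp hb
    have h2 := levelOK_transversal (by simp) (by norm_num) level5_ok this
    rwa [pt_idx] at h2
  have keyout : ∀ {p : GolayPt}, p ∉ ofMask octad0 →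
      ∃ g ∈ fixG [3, 2, 1, 0, 23], g (pt 4) = p := by
    intro p hp
    have := octad0_out hp
    have h2 := levelOK_transversal (by simp) (by norm_num) level6_ok this
    rw [pt_idx] at h2
    obtain ⟨g, hg, hgp⟩ := h2
    exact ⟨g, (Subgroup.mem_inf.1 hg).1, hgp⟩
  rcases h with ⟨hp, hq, hbp, hbq⟩ | ⟨hp, hq⟩
  · obtain ⟨a, ha, hap⟩ := keyin hp hbp
    obtain ⟨b, hb, hbq'⟩ := keyin hq hbq
    refine ⟨b * a⁻¹, (fixG _).mul_mem hb ((fixG _).inv_mem ha), ?_⟩
    rw [Equiv.Perm.mul_apply, ← hap]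
    simpa using hbq'
  · obtain ⟨a, ha, hap⟩ := keyout hp
    obtain ⟨b, hb, hbq'⟩ := keyout hq
    refine ⟨b * a⁻¹, (fixG _).mul_mem hb ((fixG _).inv_mem ha), ?_⟩
    rw [Equiv.Perm.mul_apply, ← hap]
    simpa using hbq'

/-- The first five entries of a 6-tuple. -/
def first5 (x : Fin 6 ↪ GolayPt) : Fin 5 ↪ GolayPt :=
  ⟨fun i => x i.castSucc, fun i j hij => by
    have := x.injective hij
    simpa using this⟩

/-- A 6-tuple is special when it lies in an octad. -/
def Special (x : Fin 6 ↪ GolayPt) : Prop := ∃ o ∈ octads, ∀ i, x i ∈ o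

theorem perm_inv_self (u : Equiv.Perm GolayPt) (p : GolayPt) : u⁻¹ (u p) = p := by simp

/-- Normal form of a 6-tuple. -/
theorem exists_normal_six (x : Fin 6 ↪ GolayPt) :
    ∃ u ∈ M24, (∀ i : Fin 5, u (e5 i) = x i.castSucc) ∧
      ((u⁻¹ (x (Fin.last 5)) ∈ ofMask octad0 ∧ ∀ i, u⁻¹ (x (Fin.last 5)) ≠ e5 i) ∧ Special x ∨
        (u⁻¹ (x (Fin.last 5)) ∉ ofMask octad0 ∧ ¬ Special x)) := by
  obtain ⟨u, hu, hux⟩ := exists_map_embedding (le_refl 5) e5 (first5 x)
  have hux' : ∀ i : Fin 5, u (e5 i) = x i.castSucc := hux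
  refine ⟨u, hu, hux', ?_⟩
  have hne : ∀ i, u⁻¹ (x (Fin.last 5)) ≠ e5 i := by
    intro i h
    have h1 : x (Fin.last 5) = u (e5 i) := by
      rw [← h]; simp
    rw [hux' i] at h1
    have h2 := x.injective h1
    exact (Fin.castSucc_lt_last i).ne' h2
  by_cases hin : u⁻¹ (x (Fin.last 5)) ∈ ofMask octad0
  · left
    refine ⟨⟨hin, hne⟩, u • ofMask octad0, smul_mem_octads hu octad0_mem, fun i => ?_⟩
    rw [mem_smul_iff_inv]
    refine Fin.lastCases hin (fun j => ?_) i
    rw [← hux' j, perm_inv_self]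
    exact base5_pts j
  · right
    refine ⟨hin, ?_⟩
    rintro ⟨o, ho, hxo⟩
    apply hin
    have h2 : o = u • ofMask octad0 := by
      apply eq_of_octads_of_five ho (smul_mem_octads hu octad0_mem)
      have hsub : (u • base5) ⊆ o ∩ u • ofMask octad0 := by
        apply Finset.subset_inter
        · intro p hp
          rw [mem_smul_iff_inv] at hp
          have hc : ∀ p : GolayPt, p ∈ base5 → ∃ i, e5 i = p := by decide +kernel
          obtain ⟨i, hi⟩ := hc _ hp
          have h3 : p = u (e5 i) := by rw [hi]; simp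
          rw [h3, hux']
          exact hxo _
        · exact Finset.smul_finset_subset_smul_finset base5_subset_octad0
      have := Finset.card_le_card hsub
      rwa [Finset.card_smul_finset, card_base5] at this
    have h3 := hxo (Fin.last 5)
    rw [h2, mem_smul_iff_inv] at h3
    exact h3

/-- `M24` has two orbits on ordered 6-tuples. -/
theorem exists_map_six (x y : Fin 6 ↪ GolayPt) (h : Special x ↔ Special y) :
    ∃ g ∈ M24, ∀ i, g (x i) = y i := by
  obtain ⟨u, hu, hux, hu'⟩ := exists_normal_six x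
  obtain ⟨v, hv, hvy, hv'⟩ := exists_normal_six y
  have ht : ∃ t ∈ fixG [3, 2, 1, 0, 23], t (u⁻¹ (x (Fin.last 5))) = v⁻¹ (y (Fin.last 5)) := by
    apply fix5_trans
    rcases hu' with ⟨⟨h1, h2⟩, h3⟩ | ⟨h1, h3⟩ <;> rcases hv' with ⟨⟨h4, h5⟩, h6⟩ | ⟨h4, h6⟩
    · exact Or.inl ⟨h1, h4, h2, h5⟩
    · exact absurd (h.1 h3) h6
    · exact absurd (h.2 h6) h3
    · exact Or.inr ⟨h1, h4⟩
  obtain ⟨t, ht, htx⟩ := ht
  have htM := (mem_fixG.1 ht).1
  refine ⟨v * t * u⁻¹, M24.mul_mem (M24.mul_mem hv htM) (M24.inv_mem hu), fun i => ?_⟩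
  refine Fin.lastCases ?_ (fun j => ?_) i
  · simp only [Equiv.Perm.mul_apply]
    rw [htx]; simp
  · simp only [Equiv.Perm.mul_apply]
    rw [← hux j, perm_inv_self]
    have hfix := (mem_fixG.1 ht)
    have : t (e5 j) = e5 j := by
      have hf : ∀ f ∈ ([3, 2, 1, 0, 23] : List ℕ), t (pt f) = pt f := hfix.2
      fin_cases j
      · exact hf 23 (by simp)
      · exact hf 0 (by simp)
      · exact hf 1 (by simp)
      · exact hf 2 (by simp)
      · exact hf 3 (by simp)
    rw [this, hvy]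

/-! ### Restriction of a setwise stabiliser -/

theorem mem_iff_of_smul_eq {g : Equiv.Perm GolayPt} {E : Finset GolayPt} (h : g • E = E)
    (x : GolayPt) : g x ∈ E ↔ x ∈ E := by
  conv_lhs => rw [← h]
  exact apply_mem_smul g E x

/-- Restriction of the setwise stabiliser of a finite subset to the subset. -/
noncomputable def restrictTo (E : Finset GolayPt) : MulAction.stabilizer M24 E →* Equiv.Perm ↥E where
  toFun k := ((k : M24) : Equiv.Perm GolayPt).subtypePerm
    (mem_iff_of_smul_eq ((mem_stabilizer_M24_finset _ _).1 k.2))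
  map_one' := by
    ext x
    rfl
  map_mul' a b := by
    ext x
    rfl

theorem restrictTo_apply (E : Finset GolayPt) (k : MulAction.stabilizer M24 E) (x : ↥E) :
    ((restrictTo E k x : ↥E) : GolayPt) = ((k : M24) : Equiv.Perm GolayPt) x := rfl

/-- The order of a setwise stabiliser, from the order of the image and the kernel. -/
theorem card_stabilizer_eq (E : Finset GolayPt) :
    Nat.card (MulAction.stabilizer M24 E) =
      Nat.card (restrictTo E).range *
        Nat.card {g : Equiv.Perm GolayPt // g ∈ M24 ∧ ∀ p ∈ E, g p = p} := by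
  have h1 := Subgroup.index_mul_card (restrictTo E).ker
  rw [Subgroup.index_ker] at h1
  rw [← h1]
  congr 1
  refine Nat.card_congr
    { toFun := fun k => ⟨((k.1 : M24) : Equiv.Perm GolayPt), (k.1 : M24).2, fun p hp => ?_⟩
      invFun := fun g => ⟨⟨⟨g.1, g.2.1⟩, (mem_stabilizer_M24_finset _ _).2 ?_⟩, ?_⟩
      left_inv := fun k => rfl
      right_inv := fun g => rfl }
  · have h2 := MonoidHom.mem_ker.1 k.2
    have h3 := congrArg (fun e : Equiv.Perm ↥E => ((e ⟨p, hp⟩ : ↥E) : GolayPt)) h2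
    exact h3
  · apply Finset.eq_of_subset_of_card_le
    · intro x hx
      rw [mem_smul_iff_inv] at hx
      have h2 := g.2.2 _ hx
      have h3 : g.1 (g.1⁻¹ x) = x := by simp
      rw [h3] at h2
      rw [h2]
      exact hx
    · rw [Finset.card_smul_finset]
  · apply MonoidHom.mem_ker.2
    refine Equiv.ext fun x => Subtype.ext ?_
    exact g.2.2 x.1 x.2

/-- Enumeration of a 6-subset. -/
noncomputable def enumSix (E : Finset GolayPt) (hE : E.card = 6) : Fin 6 ↪ GolayPt :=
  ⟨fun i => (((E.equivFinOfCardEq hE).symm i : ↥E) : GolayPt), fun i j hij => by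
    have := Subtype.ext hij
    simpa using this⟩

theorem enumSix_mem (E : Finset GolayPt) (hE : E.card = 6) (i : Fin 6) : enumSix E hE i ∈ E :=
  ((E.equivFinOfCardEq hE).symm i).2

theorem enumSix_surj (E : Finset GolayPt) (hE : E.card = 6) {p : GolayPt} (hp : p ∈ E) :
    ∃ i, enumSix E hE i = p :=
  ⟨E.equivFinOfCardEq hE ⟨p, hp⟩, by
    show (((E.equivFinOfCardEq hE).symm (E.equivFinOfCardEq hE ⟨p, hp⟩) : ↥E) : GolayPt) = p
    simp⟩

theorem special_enumSix_iff (E : Finset GolayPt) (hE : E.card = 6) :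
    Special (enumSix E hE) ↔ ∃ o ∈ octads, E ⊆ o := by
  constructor
  · rintro ⟨o, ho, h⟩
    refine ⟨o, ho, fun p hp => ?_⟩
    obtain ⟨i, rfl⟩ := enumSix_surj E hE hp
    exact h i
  · rintro ⟨o, ho, h⟩
    exact ⟨o, ho, fun i => h (enumSix_mem E hE i)⟩

/-- `M24` induces the full symmetric group on every 6-set. -/
theorem six_induces_sym (E : Finset GolayPt) (hE : E.card = 6) (σ : Equiv.Perm ↥E) :
    ∃ g ∈ M24, ∀ p : ↥E, g p = σ p := by
  let x := enumSix E hE
  let y : Fin 6 ↪ GolayPt := ⟨fun i => (σ ((E.equivFinOfCardEq hE).symm i) : GolayPt), fun i j hij => by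
    have := Subtype.ext hij
    simpa using this⟩
  have hy : Special y ↔ ∃ o ∈ octads, E ⊆ o := by
    constructor
    · rintro ⟨o, ho, h⟩
      refine ⟨o, ho, fun p hp => ?_⟩
      have h1 := h (E.equivFinOfCardEq hE (σ⁻¹ ⟨p, hp⟩))
      have h2 : y (E.equivFinOfCardEq hE (σ⁻¹ ⟨p, hp⟩)) = p := by
        show ((σ ((E.equivFinOfCardEq hE).symm (E.equivFinOfCardEq hE (σ⁻¹ ⟨p, hp⟩))) : ↥E) : GolayPt) = p
        simp
      rwa [h2] at h1
    · rintro ⟨o, ho, h⟩
      exact ⟨o, ho, fun i => h (σ _).2⟩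
  obtain ⟨g, hg, hgx⟩ := exists_map_six x y ((special_enumSix_iff E hE).trans hy.symm)
  refine ⟨g, hg, fun p => ?_⟩
  have h1 := hgx (E.equivFinOfCardEq hE p)
  have h2 : x (E.equivFinOfCardEq hE p) = p := by
    show (((E.equivFinOfCardEq hE).symm (E.equivFinOfCardEq hE p) : ↥E) : GolayPt) = p
    simp
  have h3 : y (E.equivFinOfCardEq hE p) = σ p := by
    show ((σ ((E.equivFinOfCardEq hE).symm (E.equivFinOfCardEq hE p)) : ↥E) : GolayPt) = σ p
    simp
  rwa [h2, h3] at h1

/-- The sixth base tuple, inside `octad0`. -/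
def base6in : Fin 6 ↪ GolayPt :=
  ⟨fun i => pt ([23, 0, 1, 2, 3, 5].getD i.val 0), by decide +kernel⟩

/-- The sixth base tuple, not in an octad. -/
def base6out : Fin 6 ↪ GolayPt :=
  ⟨fun i => pt ([23, 0, 1, 2, 3, 4].getD i.val 0), by decide +kernel⟩

theorem special_base6in : Special base6in :=
  ⟨_, octad0_mem, fun i => by revert i; decide +kernel⟩

theorem not_special_base6out : ¬ Special base6out := by
  rintro ⟨o, ho, h⟩
  have h2 : o = ofMask octad0 := by
    apply eq_of_octads_of_five ho octad0_mem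
    have hsub : base5 ⊆ o ∩ ofMask octad0 := by
      apply Finset.subset_inter
      · intro p hp
        have hc : ∀ p : GolayPt, p ∈ base5 → ∃ i : Fin 6, base6out i = p := by decide +kernel
        obtain ⟨i, rfl⟩ := hc p hp
        exact h i
      · exact base5_subset_octad0
    have := Finset.card_le_card hsub
    rwa [card_base5] at this
  have h3 := h 5
  rw [h2] at h3
  revert h3
  decide +kernel

theorem mem_fixG_conj_iff {F : List ℕ} {g x : Equiv.Perm GolayPt} (hg : g ∈ M24)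
    {E : Finset GolayPt} (hE : ∀ f ∈ F, g⁻¹ (pt f) ∈ E) (hE' : ∀ p ∈ E, idx (g p) ∈ F) :
    (x ∈ M24 ∧ ∀ p ∈ E, x p = p) ↔ g * x * g⁻¹ ∈ fixG F := by
  rw [mem_fixG]
  constructor
  · rintro ⟨hx, hfix⟩
    refine ⟨M24.mul_mem (M24.mul_mem hg hx) (M24.inv_mem hg), fun f hf => ?_⟩
    simp only [Equiv.Perm.mul_apply]
    rw [hfix _ (hE f hf)]
    simp
  · rintro ⟨hx, hfix⟩
    constructor
    · have h1 := M24.mul_mem (M24.mul_mem (M24.inv_mem hg) hx) hg
      have : g⁻¹ * (g * x * g⁻¹) * g = x := by group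
      rwa [this] at h1
    · intro p hp
      have h1 := hfix _ (hE' p hp)
      rw [pt_idx] at h1
      simp only [Equiv.Perm.mul_apply] at h1
      rw [perm_inv_self] at h1
      exact g.injective h1

/-- The order of the pointwise stabiliser of a 6-set given by a tuple. -/
theorem card_pointwise_of_map {E : Finset GolayPt} (hE : E.card = 6) {y : Fin 6 ↪ GolayPt}
    {F : List ℕ} (hyF : ∀ i, idx (y i) ∈ F) (hFy : ∀ f ∈ F, ∃ i, y i = pt f)
    (hs : (∃ o ∈ octads, E ⊆ o) ↔ Special y) :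
    Nat.card {g : Equiv.Perm GolayPt // g ∈ M24 ∧ ∀ p ∈ E, g p = p} = Nat.card (fixG F) := by
  obtain ⟨g, hg, hgx⟩ := exists_map_six (enumSix E hE) y ((special_enumSix_iff E hE).trans hs)
  have hE1 : ∀ f ∈ F, g⁻¹ (pt f) ∈ E := by
    intro f hf
    obtain ⟨i, hi⟩ := hFy f hf
    rw [← hi, ← hgx, perm_inv_self]
    exact enumSix_mem E hE i
  have hE2 : ∀ p ∈ E, idx (g p) ∈ F := by
    intro p hp
    obtain ⟨i, rfl⟩ := enumSix_surj E hE hp
    rw [hgx]
    exact hyF i
  refine Nat.card_congr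
    { toFun := fun x => ⟨g * x.1 * g⁻¹, (mem_fixG_conj_iff (F := F) hg hE1 hE2).1 x.2⟩
      invFun := fun x => ⟨g⁻¹ * x.1 * g, (mem_fixG_conj_iff (F := F) hg hE1 hE2).2 ?_⟩
      left_inv := ?_
      right_inv := ?_ }
  · have : g * (g⁻¹ * x.1 * g) * g⁻¹ = x.1 := by group
    rw [this]; exact x.2
  · intro x
    apply Subtype.ext
    simp only
    group
  · intro x
    apply Subtype.ext
    simp only
    group

theorem card_fixG_4out : Nat.card (fixG [4, 3, 2, 1, 0, 23]) = 3 := by
  have e := card_fixG_step (F := [3, 2, 1, 0, 23]) (b := 4)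
    (orb := [4, 6, 7, 8, 9, 10, 11, 12, 13, 15, 16, 18, 19, 20, 21, 22])
    (fun x hx => by
      have h := levelOK_transversal (by simp) (by norm_num) level6_ok hx
      obtain ⟨g, hg, hgx⟩ := h
      exact ⟨g, (Subgroup.mem_inf.1 hg).1, hgx⟩)
    (fun g hg => by
      apply octad0_out
      rw [← smul_octad0_of_fix hg, apply_mem_smul, mem_ofMask]
      decide)
    (by decide) (by decide)
  rw [card_fixG_5] at e
  simp only [List.length_cons, List.length_nil] at e
  omega

/-- The pointwise stabiliser of a 6-set. -/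
theorem card_pointwise_six (E : Finset GolayPt) (hE : E.card = 6) :
    ((∃ o ∈ octads, E ⊆ o) → Nat.card {g : Equiv.Perm GolayPt // g ∈ M24 ∧ ∀ p ∈ E, g p = p} = 16) ∧
    ((¬ ∃ o ∈ octads, E ⊆ o) → Nat.card {g : Equiv.Perm GolayPt // g ∈ M24 ∧ ∀ p ∈ E, g p = p} = 3) := by
  constructor
  · intro h
    rw [card_pointwise_of_map (y := base6in) (F := [5, 3, 2, 1, 0, 23]) hE (by decide +kernel)
      (by decide +kernel) (iff_of_true h special_base6in), card_fixG_6]
  · intro h
    rw [card_pointwise_of_map (y := base6out) (F := [4, 3, 2, 1, 0, 23]) hE (by decide +kernel)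
      (by decide +kernel) (iff_of_false h not_special_base6out), card_fixG_4out]

/-- The setwise stabiliser of a 6-set outside every octad has order 2160. -/
theorem card_setwise_six (E : Finset GolayPt) (hE : E.card = 6) (h : ¬ ∃ o ∈ octads, E ⊆ o) :
    Nat.card (MulAction.stabilizer M24 E) = 2160 := by
  rw [card_stabilizer_eq, (card_pointwise_six E hE).2 h]
  have hr : (restrictTo E).range = ⊤ := by
    rw [eq_top_iff]
    intro σ _
    obtain ⟨g, hg, hgσ⟩ := six_induces_sym E hE σ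
    have hgE : g • E = E := by
      apply Finset.eq_of_subset_of_card_le
      · intro p hp
        rw [Finset.mem_smul_finset] at hp
        obtain ⟨q, hq, rfl⟩ := hp
        have := hgσ ⟨q, hq⟩
        show g q ∈ E
        rw [this]
        exact (σ _).2
      · rw [Finset.card_smul_finset]
    refine ⟨⟨⟨g, hg⟩, (mem_stabilizer_M24_finset _ _).2 hgE⟩, ?_⟩
    refine Equiv.ext fun x => Subtype.ext ?_
    exact hgσ x
  rw [hr, Subgroup.card_top, Nat.card_eq_fintype_card, Fintype.card_perm]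
  simp [hE]
  rfl

end Cfsg.Agent.Lib.Sporadic.M24Six
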