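import Cfsg.Agent.Lib.Sporadic.M24SxStab
import Cfsg.Agent.Lib.Sporadic.M24OctTab

/-!
# The sextet stabiliser on octads
-/

namespace Cfsg.Agent.Lib.Sporadic.M24SxOnOc

open Cfsg Cfsg.Agent.Lib.Sporadic.GolayCore Cfsg.Agent.Lib.Sporadic.M24Tbl
open Cfsg.Agent.Lib.Sporadic.M24Chain Cfsg.Agent.Lib.Sporadic.M24Basic
open Cfsg.Agent.Lib.Sporadic.M24Act Cfsg.Agent.Lib.Sporadic.M24Lists
open Cfsg.Agent.Lib.Sporadic.M24Orbit Cfsg.Agent.Lib.Sporadic.M24Count
open Cfsg.Agent.Lib.Sporadic.M24Sextet Cfsg.Agent.Lib.Sporadic.M24Fast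
open Cfsg.Agent.Lib.Sporadic.M24Classes Cfsg.Agent.Lib.Sporadic.M24Cert
open scoped Pointwise
open Cfsg.Agent.Lib.Sporadic.M24SxStab Cfsg.Agent.Lib.Sporadic.M24OctTab


set_option maxRecDepth 100000 in
set_option maxHeartbeats 0 in
/-- Classes and words. -/
def treeS_O : CT :=
  (.node (.node (.node (.node (.node (.node (.node (.node (.node (.node .nil 5279 [150] .nil) 10558
  [102] .nil) 15777 [150,4,5,2] (.node (.node .nil 18147 [102,3,5,2,0] .nil) 21116 [150,2,4,1] .nil))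
  31554 [150,0,3,2] (.node (.node (.node .nil 36294 [102,4] .nil) 39257 [150,0,3,3,0] .nil) 42232
  [102,2,3,4] (.node (.node .nil 45159 [150,7,5,1] .nil) 52005 [102,1,2,0,0] .nil))) 57883
  [102,6,5,6,0] (.node (.node (.node (.node .nil 63108 [150,0,0,2] .nil) 69395 [102,3,4,7] .nil)
  72588 [150,0,0,4] (.node (.node .nil 75309 [102,1,5,0,0] .nil) 78514 [150,4,5,4] .nil)) 84464
  [102,3,3] (.node (.node (.node .nil 90318 [102,5,3,2] .nil) 95313 [150,3,7,0,0] .nil) 99029
  [102,6,2,5] (.node (.node .nil 104010 [150,4,3,0] .nil) 115766 [102,2,0,3] .nil)))) 118953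
  [150,1,3] (.node (.node (.node (.node (.node .nil 126216 [102,2,1,7,0] .nil) 133817 [150,4,7,2]
  .nil) 138790 [102,7,3,0,0] (.node (.node .nil 140167 [150,1,6,7] .nil) 145176 [102,4,0,0] .nil))
  150618 [150,6,0,0] (.node (.node (.node .nil 153797 [102,0,3,2] .nil) 157028 [150,3,4] .nil) 168928
  [102,3,7,3,0] (.node (.node .nil 175681 [150,7,1,0] .nil) 180636 [150,1,5,1] .nil))) 185603
  [102,4,2,0,3] (.node (.node (.node (.node .nil 190626 [150,5,2,2] .nil) 198058 [150,3,0,0] .nil)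
  201013 [102,2,6,0] (.node (.node .nil 208020 [150,4,2,7] .nil) 210955 [102,4,5,6] .nil)) 213833
  [150,7,3,3] (.node (.node (.node .nil 231532 [150,7,0,3] .nil) 237906 [150,3,4,3] .nil) 252432
  [102,2,5,0] (.node (.node .nil 262637 [102,0,1,2] .nil) 267634 [150,3,0,7] .nil))))) 272595
  [102,4,5,0] (.node (.node (.node (.node (.node (.node .nil 277580 [150,4,0,2] .nil) 280334
  [102,0,3,0] .nil) 283537 [150,3,5,1] (.node (.node .nil 290352 [102,2,6,3] .nil) 298027 [102,5,2,0]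
  .nil)) 301236 [150,4,7,6] (.node (.node (.node .nil 304405 [102,3,5,0] .nil) 307594 [150,4,1,0,1]
  .nil) 314056 [102,1,1,2] (.node (.node .nil 334433 [150,1,1,2] .nil) 337856 [102,7,4,3] .nil)))
  346141 [102,6,0,2] (.node (.node (.node (.node .nil 351362 [150,6,6,0] .nil) 352547 [102,1,3,4]
  .nil) 361272 [102,7,1,0,0] (.node (.node .nil 371206 [102,3,5,0,2] .nil) 381252 [150,0,2,7] .nil))
  396116 [150,4,7,7,0] (.node (.node (.node .nil 402026 [150,3,6,7,0] .nil) 416040 [1254] .nil)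
  418953 [150,5] (.node (.node .nil 421910 [102,4,2,7] .nil) 427666 [150,1,2,2] .nil)))) 430605
  [102,4,7,1,0] (.node (.node (.node (.node (.node .nil 442481 [150,0] .nil) 459847 [150,7,5,4] .nil)
  463064 [102,0,6,0,1] (.node (.node .nil 475812 [150,7,4,0] .nil) 493953 [150,5,5] .nil)) 504864
  [102,7,2,3,0] (.node (.node (.node .nil 525274 [150,1,2,6] .nil) 530245 [102,4,1,7] .nil) 535268
  [150,6,5,1] (.node (.node .nil 542009 [150,3,7,6,0] .nil) 545190 [102,4,5,2] .nil))) 551943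
  [150,5,2,4] (.node (.node (.node (.node .nil 555160 [102,2,2,5,0] .nil) 560668 [150,7,6,0] .nil)
  563843 [102,5,1,3] (.node (.node .nil 567074 [150,1,7,3] .nil) 580704 [102,3,4] .nil)) 582081
  [150,4,1,7] (.node (.node (.node .nil 593097 [150,5,0,0,2] .nil) 596054 [102,1,5] .nil) 602472
  [102,2,1,1,0] (.node .nil 608810 [150,3,4,2] .nil)))))) 615188 [150,0,6] (.node (.node (.node
  (.node (.node (.node (.node .nil 622863 [150,3,6,1] .nil) 628112 [102,7,0,2] .nil) 632881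
  [150,5,2,6] (.node (.node .nil 657763 [102,0,3] .nil) 663645 [102,7,0,7] .nil)) 668866 [150,6,0,7]
  (.node (.node (.node .nil 675712 [102,1,5,7,0] .nil) 684577 [150,3,1] .nil) 689317 [102,4,6] (.node
  (.node .nil 692282 [150,3,0,3,1] .nil) 702724 [150,6] .nil))) 705094 [102,5,4,2] (.node (.node
  (.node (.node .nil 722544 [102,2,7,2] .nil) 737427 [102,1,7,5] .nil) 742412 [150,6,1,3,0] (.node
  (.node .nil 762504 [102,0,6,4,0] .nil) 786999 [150,2,6,0] .nil)) 792232 [102,1,2,4] (.node (.node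
  (.node .nil 797449 [150,2,4,0,1] .nil) 804052 [150,4,6] .nil) 806987 [102,0,0,5] (.node (.node .nil
  832080 [102,2,4,2,0] .nil) 837906 [150,7,3,1] .nil)))) 843820 [150,2,3,1] (.node (.node (.node
  (.node (.node .nil 855332 [150,3,3,2] .nil) 861210 [150,1,6,6,0] .nil) 864389 [102,3,5,1] (.node
  (.node .nil 884962 [150,4,3,3] .nil) 902657 [150,2,0,4] .nil)) 919694 [102,0,7,3] (.node (.node
  (.node .nil 924689 [150,5,1,3] .nil) 926128 [102,4,6,4] .nil) 951624 [102,1,2,1,0] (.node (.node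
  .nil 987906 [150,2,7,4] .nil) 1009728 [102,0,4] .nil))) 1050548 [150,0,3,1] (.node (.node (.node
  (.node .nil 1053483 [102,4,4,7,1] .nil) 1060490 [150,1,3,0] .nil) 1063445 [102,5,3,3] (.node (.node
  .nil 1065303 [150,6,6,1] .nil) 1070536 [102,0,0,0] .nil)) 1075305 [150,5,3,0] (.node (.node (.node
  .nil 1084018 [150,0,6,4] .nil) 1090380 [150,4,6,0] .nil) 1100945 [150,7,3,5] (.node (.node .nil
  1103886 [102,5,0,1] .nil) 1110320 [102,5,2] .nil))))) 1116327 [150,2,1,0] (.node (.node (.node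
  (.node (.node (.node .nil 1121336 [102,2,3,3] .nil) 1122713 [150,7,2,5,1] .nil) 1127686 [102,6]
  (.node (.node .nil 1134148 [150,0,3,4] .nil) 1148257 [150,6,6] .nil)) 1161408 [102,0,7,2] (.node
  (.node (.node .nil 1164162 [150,4,1,0] .nil) 1182989 [102,3,7] .nil) 1186194 [150,3,3] (.node
  (.node .nil 1188915 [102,1,0,1] .nil) 1192108 [150,0,6,0] .nil))) 1204944 [102,3,1,4,0] (.node
  (.node (.node (.node .nil 1212619 [102,6,6,4] .nil) 1217620 [150,3,3,3] .nil) 1230376 [1254,4,3]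
  (.node (.node .nil 1245726 [102,1,2,0] .nil) 1250945 [150,3,5,2,0] .nil)) 1256224 [102,0,0,3]
  (.node (.node (.node .nil 1265762 [150,5,6,0] .nil) 1302533 [102,0] .nil) 1312345 [150,7,3,0]
  (.node (.node .nil 1315526 [102,5,7,2] .nil) 1327290 [150,0,3,5] .nil)))) 1332261 [102,4,0] (.node
  (.node (.node (.node (.node .nil 1337732 [150,5,6,0,0] .nil) 1351424 [1254,5] .nil) 1352353
  [150,3,6,2] (.node (.node .nil 1369154 [150,0,2,0] .nil) 1378634 [150,5,0,2] .nil)) 1384564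
  [150,3,0,4,0] (.node (.node (.node .nil 1405448 [102,5] .nil) 1410188 [150,1] .nil) 1413139
  [102,1,4,0] (.node (.node .nil 1445088 [102,1,3,2] .nil) 1454401 [150,4,4,1] .nil))) 1460739
  [102,1,0,0] (.node (.node (.node (.node .nil 1474854 [102,3,6,4] .nil) 1484824 [102,0,5,0,0] .nil)
  1525008 [102,4,4,6] (.node (.node .nil 1573998 [102,5,1,0,2] .nil) 1577201 [150,3] .nil)) 1584464
  [102,0,3,4] (.node (.node (.node .nil 1589901 [102,5,4] .nil) 1594898 [150,5,1,7] .nil) 1608104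
  [102,0,2,0,0] (.node .nil 1613974 [102,5,5,5] .nil))))))) 1618953 [150,6,3,3] (.node (.node (.node
  (.node (.node (.node (.node (.node .nil 1647171 [102,5,0,7] .nil) 1661185 [150,4,1,3] .nil) 1664160
  [102,1,1,5] (.node (.node .nil 1675812 [150,5,7,0] .nil) 1687640 [102,1,3,5,1] .nil)) 1710664
  [102,7] (.node (.node (.node .nil 1722420 [150,5,7,3] .nil) 1728778 [150,7,6] .nil) 1737489
  [150,3,1,1] (.node (.node .nil 1769924 [150,6,2,7] .nil) 1805314 [150,4] .nil))) 1836419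
  [102,7,3,0] (.node (.node (.node (.node .nil 1839388 [150,1,1] .nil) 1849378 [150,6,1,0] .nil)
  1852256 [102,0,4,6] (.node (.node .nil 1869893 [102,2,1,2] .nil) 1903248 [102,2,0,7] .nil)) 1975812
  [150,4,5,3] (.node (.node (.node .nil 2019456 [102,5,5,2,0] .nil) 2031657 [150,0,1,0] .nil) 2101096
  [102,7,2] (.node (.node .nil 2106966 [102,3,2] .nil) 2110153 [150,7,7,0,0] .nil)))) 2115979
  [102,7,3,1] (.node (.node (.node (.node (.node .nil 2120980 [150,5,5,6,0] .nil) 2121909 [102,4,7,0]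
  .nil) 2126890 [150,2,5,6,0] (.node (.node .nil 2130606 [102,6,1,1] .nil) 2135601 [150,3,4,6,1]
  .nil)) 2141072 [102,0,7] (.node (.node (.node .nil 2147405 [102,6,7] .nil) 2150610 [150,2,4] .nil)
  2162811 [102,6,3,6] (.node (.node .nil 2168036 [150,5,1,2] .nil) 2173253 [102,2,5,3,1] .nil)))
  2180760 [102,5,6] (.node (.node (.node (.node .nil 2183687 [150,4,2,6] .nil) 2201890 [150,1,7]
  .nil) 2204803 [102,2,1,0] (.node (.node .nil 2207772 [150,1,5,2,0] .nil) 2220640 [102,2,6,4] .nil))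
  2229713 [150,6,3,2] (.node (.node (.node .nil 2232654 [102,7,5,0] .nil) 2242672 [102,6,3] .nil)
  2245426 [150,1,0,1] (.node (.node .nil 2255372 [150,0,2] .nil) 2263063 [150,6,6,4] .nil)))))
  2268296 [102,5,4,0] (.node (.node (.node (.node (.node (.node .nil 2269481 [150,3,7,2] .nil)
  2296514 [150,7,4,3] .nil) 2313249 [150,4,1] (.node (.node .nil 2322816 [102,3,7,1] .nil) 2328324
  [150,0,7,6] .nil)) 2363013 [102,5,0,0,0] (.node (.node (.node .nil 2365978 [150,0,2,1] .nil)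
  2372388 [150,2,7,1] .nil) 2377830 [102,0,1] (.node (.node .nil 2384216 [102,5,1,2,0] .nil) 2392899
  [102,4,2] .nil))) 2409888 [102,1,3] (.node (.node (.node (.node .nil 2422785 [150,1,0,0] .nil)
  2425238 [102,7,7,6] .nil) 2430217 [150,6,2] (.node (.node .nil 2435240 [102,2,5,2] .nil) 2460752
  [102,5,5] .nil)) 2491452 [150,2,5,3,0] (.node (.node (.node .nil 2494627 [102,1,0,4,0] .nil)
  2501890 [150,1,5,4,0] .nil) 2512448 [102,7,7,7] (.node (.node .nil 2531524 [150,0,1,3,0] .nil)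
  2564625 [150,0,3,3] .nil)))) 2605066 [150,6,1,2] (.node (.node (.node (.node (.node .nil 2624690
  [150,0,7] .nil) 2627629 [102,4,5] .nil) 2631052 [150,2,7] (.node (.node .nil 2634003 [102,4,7,5]
  .nil) 2640465 [150,3,1,5] .nil)) 2654580 [150,2,0,0] (.node (.node (.node .nil 2664522 [150,6,3]
  .nil) 2675464 [102,1,7,1] .nil) 2687905 [150,0,3,1,1] (.node (.node .nil 2702848 [102,4,2,0] .nil)
  2704706 [150,0,3,6] .nil))) 2738308 [150,7,7,1] (.node (.node (.node (.node .nil 2754059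
  [102,0,4,3] .nil) 2757268 [150,4,1,4] .nil) 2769128 [1254,0,3] (.node (.node .nil 2810896 [102,2,7]
  .nil) 2820376 [102,5,0] .nil)) 2826278 [102,7,7,0] (.node (.node (.node .nil 2854977 [150,1,7,1]
  .nil) 2890176 [1254,4] .nil) 2892897 [150,2,1,2] (.node .nil 2908802 [150,6,6,0,1] .nil))))))
  2916505 [150,5,1] (.node (.node (.node (.node (.node (.node (.node .nil 2921478 [102,5,1,1] .nil)
  2949708 [150,5,4,6,0] .nil) 2969648 [102,7,5] (.node (.node .nil 3031301 [102,2,0,2] .nil) 3050016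
  [102,3,2,1] .nil)) 3147996 [150,0,1,2] (.node (.node (.node .nil 3152963 [102,6,0,3] .nil) 3154402
  [150,0,0,0] .nil) 3168928 [102,6,4,2] (.node (.node .nil 3172097 [150,2,2,1] .nil) 3179802
  [150,5,4,5] .nil))) 3182981 [102,7,5,1] (.node (.node (.node (.node .nil 3189796 [150,2,3] .nil)
  3216208 [102,0,6,4] .nil) 3227948 [150,5,2] (.node (.node .nil 3237906 [150,4,5,1] .nil) 3246601
  [150,2,5,4] .nil)) 3277413 [102,1,2,4,0] (.node (.node (.node .nil 3294342 [102,6,7,2] .nil)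
  3297305 [150,2,3,7] .nil) 3322370 [150,4,2,2] (.node (.node .nil 3328320 [102,3,1,0] .nil) 3351624
  [102,2,0,0,0] .nil)))) 3375280 [102,4,7,3,0] (.node (.node (.node (.node (.node .nil 3410225
  [150,0,3] .nil) 3416079 [150,1,2,0] .nil) 3421328 [102,7,6,5] (.node (.node .nil 3444840 [102,1,1]
  .nil) 3457556 [150,0,0,6,0] .nil)) 3474978 [150,6,7,0] (.node (.node (.node .nil 3489985
  [150,6,0,4] .nil) 3539848 [102,6,2,1] .nil) 3610628 [150,4,5] (.node (.node .nil 3672838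
  [102,1,6,5] .nil) 3678776 [102,4,3,2,0] .nil))) 3698756 [150,0,2,3] (.node (.node (.node (.node
  .nil 3704512 [1254,1,1] .nil) 3719203 [102,4,1,4,0] .nil) 3736597 [102,0,5,2] (.node (.node .nil
  3739786 [150,5,2,3] .nil) 3806496 [102,6,4] .nil)) 3811457 [150,4,6,2] (.node (.node (.node .nil
  3951624 [102,7,1,7] .nil) 4038912 [102,7,0] .nil) 4063314 [150,7,0,6] (.node (.node .nil 4196943
  [150,2,2,2] .nil) 4202192 [102,2,5,5] .nil))))) 4203377 [150,1,7,0] (.node (.node (.node (.node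
  (.node (.node .nil 4213932 [150,2,0] .nil) 4216883 [102,2,2] .nil) 4220306 [150,4,2,0,0] (.node
  (.node .nil 4223245 [102,6,1,2,0] .nil) 4229001 [150,1,1,0] .nil)) 4231958 [102,0,2,5] (.node
  (.node (.node .nil 4241960 [102,2,7,5] .nil) 4243818 [150,6,5,7,0] .nil) 4253780 [150,4,6,3] (.node
  (.node .nil 4261212 [150,0,1,4] .nil) 4264387 [102,1,5,2] .nil))) 4271202 [150,5,4,0,1] (.node
  (.node (.node (.node .nil 4282144 [102,1,1,0] .nil) 4287105 [150,4,0,7,2] .nil) 4294810 [150,7,0,0]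
  (.node (.node .nil 4299781 [102,2,6,3,0] .nil) 4301220 [150,2,7,5] .nil)) 4325622 [102,0,6,2]
  (.node (.node (.node .nil 4330601 [150,6,4] .nil) 4336072 [102,4,7,2] .nil) 4343317 [102,1,3,0,0]
  (.node (.node .nil 4346506 [150,1,5,4] .nil) 4361520 [102,1,4,2] .nil)))) 4367374 [102,4,3,2]
  (.node (.node (.node (.node (.node .nil 4370577 [150,1,0,3] .nil) 4403780 [150,2,6,2] .nil) 4409606
  [102,7,6,4] (.node (.node .nil 4415544 [1254,2] .nil) 4424227 [102,3,1,4] .nil)) 4441280 [102,4,4]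
  (.node (.node (.node .nil 4459426 [150,4,4,0,0] .nil) 4465308 [150,4,0,4] .nil) 4470275 [102,6,2]
  (.node (.node .nil 4476225 [150,3,6,3] .nil) 4485344 [102,3,2,1,0] .nil))) 4490852 [150,4,2] (.node
  (.node (.node (.node .nil 4505735 [150,5,3,6,0] .nil) 4510744 [102,0,2,0] .nil) 4523185 [150,2,7,0]
  (.node (.node .nil 4526126 [102,1,0,0,0] .nil) 4536592 [1254,6,1] .nil)) 4538962 [150,1,1,4] (.node
  (.node (.node .nil 4563017 [150,2,1,4] .nil) 4587803 [102,6,4,1] .nil) 4593028 [150,4,3,4] (.node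
  .nil 4597797 [102,1,7,2] .nil)))))))) 4626498 [150,3,0,0,0] (.node (.node (.node (.node (.node
  (.node (.node (.node (.node .nil 4645632 [102,3,7,0] .nil) 4656648 [102,0,6,0,0] .nil) 4721045
  [102,6,5,1] (.node (.node .nil 4726026 [150,0,0,1] .nil) 4726955 [102,1,3,3] .nil)) 4731956
  [150,0,1,0,0] (.node (.node (.node .nil 4744776 [102,4,1,0,2] .nil) 4752467 [102,3] .nil) 4755660
  [150,5,4,2] (.node (.node .nil 4768432 [102,4,1,0] .nil) 4785798 [102,2,4,2] .nil))) 4788761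
  [150,7,1,3,0] (.node (.node (.node (.node .nil 4800613 [102,5,7,3] .nil) 4819776 [102,4,5,0,0]
  .nil) 4845570 [150,4,2,4] (.node (.node .nil 4850476 [150,6,1] .nil) 4860434 [150,4,3,3,0] .nil))
  4870480 [102,1,7,0] (.node (.node (.node .nil 4900873 [150,0,1,5] .nil) 4921504 [102,3,1] .nil)
  4924673 [150,1,1,7] (.node (.node .nil 4982904 [102,4,7] .nil) 4989254 [102,2,6,2] .nil)))) 5003780
  [150,1,7,2] (.node (.node (.node (.node (.node .nil 5017889 [150,7,5] .nil) 5024896 [102,5,0,2,0]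
  .nil) 5063048 [102,0,6,2,0] (.node (.node .nil 5112513 [150,5,1,1,0] .nil) 5129250 [150,3,2,3]
  .nil)) 5210132 [150,1,6,2] (.node (.node (.node .nil 5249380 [150,4,5,3,0] .nil) 5252293 [102,1]
  .nil) 5255258 [150,6,4,3] (.node (.node .nil 5262104 [102,4,2,0,0] .nil) 5268006 [102,7,5,1,1]
  .nil))) 5275709 [102,6,6,6] (.node (.node (.node (.node .nil 5280930 [150,6,1,7] .nil) 5286147
  [102,7,4,6] .nil) 5296705 [150,7] (.node (.node .nil 5309160 [102,6,7,0] .nil) 5325835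
  [102,2,6,0,0] .nil)) 5329044 [150,1,1,1] (.node (.node (.node .nil 5350928 [1254,0] .nil) 5375810
  [150,3,6,1,0] .nil) 5390753 [150,4,6,6] (.node (.node .nil 5405696 [102,0,0,1] .nil) 5409412
  [150,2,5,1] .nil))))) 5441617 [150,7,0,3,1] (.node (.node (.node (.node (.node (.node .nil 5476616
  [102,6,6] .nil) 5508118 [102,7,0,0] .nil) 5511305 [150,5,2,0] (.node (.node .nil 5514536 [102,1,4]
  .nil) 5538256 [102,4,0,3] .nil)) 5571333 [102,3,2,5] (.node (.node (.node .nil 5621792 [102,7,4,0]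
  .nil) 5640752 [102,5,6,0] .nil) 5652556 [150,2,5] (.node (.node .nil 5709954 [150,3,7,1] .nil)
  5770785 [150,0,0] .nil))) 5780352 [102,2,2,7,0] (.node (.node (.node (.node .nil 5785794
  [150,0,4,2] .nil) 5817604 [150,3,6] .nil) 5833010 [150,4,3] (.node (.node .nil 5842956 [150,0,7,0]
  .nil) 5899416 [102,6,7,4,1] .nil)) 5902343 [150,1,5,2] (.node (.node (.node .nil 5939296 [102,3,6]
  .nil) 6053905 [150,5,7,0,0] .nil) 6062602 [150,1,7,2,1] (.node (.node .nil 6100032 [102,1,6] .nil)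
  6292775 [150,5,2,1] .nil)))) 6295992 [102,5,4,1] (.node (.node (.node (.node (.node .nil 6302745
  [150,5,1,1,1] .nil) 6305926 [102,5,0,4,0] .nil) 6308804 [150,4,7,0] (.node (.node .nil 6326497
  [150,0,7,3,0] .nil) 6337856 [102,4,0,1] .nil)) 6344194 [150,5,4,0] (.node (.node (.node .nil
  6359604 [150,2,0,3] .nil) 6365962 [150,7,4] .nil) 6379592 [102,0,2,1] (.node (.node .nil 6406417
  [150,0,1,1] .nil) 6429441 [150,7,3,0,0] .nil))) 6432416 [102,2,1,1] (.node (.node (.node (.node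
  .nil 6447171 [102,4,5,5] .nil) 6455896 [102,6,1,6] .nil) 6475812 [150,7,6,2] (.node (.node .nil
  6488205 [102,5,1] .nil) 6493202 [150,0,4,0] .nil)) 6554826 [150,3,6,0] (.node (.node (.node .nil
  6557781 [102,4,0,4] .nil) 6570537 [150,4,3,4,0] .nil) 6588684 [150,7,4,1] (.node .nil 6594610
  [150,2,6,1,0] .nil)))))) 6644740 [150,1,0,0,1] (.node (.node (.node (.node (.node (.node (.node
  .nil 6656640 [102,2,7,0] .nil) 6703248 [102,7,1,1,0] .nil) 6750560 [102,5,0,2] (.node (.node .nil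
  6820450 [150,1,1,6] .nil) 6832158 [102,2,1,0,0] .nil)) 6837377 [150,1,4,3] (.node (.node (.node
  .nil 6842656 [102,4,1,1] .nil) 6857221 [102,1,6,0] .nil) 6889680 [1254,5,0] (.node (.node .nil
  6915112 [102,0,2,3,0] .nil) 6949956 [150,3,2] .nil))) 6979970 [150,1,0,1,1] (.node (.node (.node
  (.node .nil 7079696 [102,5,6,6] .nil) 7145475 [102,1,1,1,0] .nil) 7221256 [102,2,5] (.node (.node
  .nil 7340691 [102,4,6,3,0] .nil) 7345676 [150,1,3,3,1] .nil)) 7357552 [102,0,4,0] (.node (.node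
  (.node .nil 7397512 [102,4,4,2] .nil) 7409024 [102,7,4,1] .nil) 7417889 [150,7,1] (.node (.node
  .nil 7438406 [102,0,1,4] .nil) 7473194 [150,3,1,2] .nil)))) 7479572 [150,0,6,1,0] (.node (.node
  (.node (.node (.node .nil 7612992 [102,3,2,6] .nil) 7622914 [150,4,0] .nil) 7767041 [150,6,4,2,0]
  (.node (.node .nil 7864649 [150,5,2,5,1] .nil) 7903248 [102,0,1,1] .nil)) 8077824 [102,7,6] (.node
  (.node (.node .nil 8126628 [150,3,5,3] .nil) 8391797 [150,3,6,0,0] .nil) 8394986 [102,5,0,0] (.node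
  (.node .nil 8398155 [150,0,7,1,2] .nil) 8401364 [102,0,4,2,0] .nil))) 8407702 [150,3,0] (.node
  (.node (.node (.node .nil 8412681 [102,4,6,5] .nil) 8414120 [150,0,6,5] .nil) 8421811 [150,1,0]
  (.node (.node .nil 8426796 [102,6,5,0,1] .nil) 8431757 [150,4,7,4] .nil)) 8436754 [102,6,2,2]
  (.node (.node (.node .nil 8439632 [150,2,3,2] .nil) 8455014 [150,5,0,4] .nil) 8464984 [150,5,0,6]
  (.node (.node .nil 8471941 [150,7,2,1] .nil) 8474906 [102,7,7] .nil))))) 8484900 [102,1,7] (.node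
  (.node (.node (.node (.node (.node .nil 8490656 [150,5,1,4] .nil) 8499969 [102,0,5,0] .nil) 8505411
  [150,7,3] (.node (.node .nil 8521420 [102,2,6,7] .nil) 8524371 [150,0,0,4,0] .nil)) 8536111
  [1254,4,0] (.node (.node (.node .nil 8541360 [150,4,3,6] .nil) 8546577 [102,0,1,5] .nil) 8555274
  [102,6,4,0] (.node (.node .nil 8561204 [102,7,4,2] .nil) 8581192 [150,3,4,1,0] .nil))) 8592704
  [150,4,2,0] (.node (.node (.node (.node .nil 8593633 [102,5,1,2] .nil) 8611330 [102,7,1,0] .nil)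
  8619033 [102,0,7,7] (.node (.node .nil 8622214 [150,0,7,4] .nil) 8654232 [150,4,6,1] .nil)) 8657159
  [1254,2,1] (.node (.node (.node .nil 8660134 [150,7,0,1] .nil) 8663097 [102,6,4,3] .nil) 8675909
  [150,2,5,3] (.node (.node .nil 8683614 [150,1,5] .nil) 8688833 [102,0,5,6] .nil)))) 8694112
  [150,7,0] (.node (.node (.node (.node (.node .nil 8704546 [102,0,5,1] .nil) 8716939 [150,5,2,7]
  .nil) 8721940 [102,4,3,0] (.node (.node .nil 8733800 [150,2,3,4] .nil) 8773776 [150,2,6] .nil))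
  8783649 [102,4,4,1] (.node (.node (.node .nil 8796800 [150,6,2,2] .nil) 8798658 [102,6,0,0] .nil)
  8834052 [102,3,3,1,0] (.node (.node .nil 8849458 [102,2] .nil) 8855820 [102,3,7,6] .nil))) 8919856
  [150,3,4,6] (.node (.node (.node (.node .nil 8922769 [102,1,2] .nil) 8925710 [150,7,6,3] .nil)
  8931660 [102,7,6,3] (.node (.node .nil 8937586 [102,1,0,4] .nil) 8946281 [102,2,0,0] .nil)) 8963210
  [102,0,6,5] (.node (.node (.node .nil 8966165 [150,2,6,5] .nil) 8978620 [102,0,0,5,0] .nil) 8983587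
  [150,3,2,0] (.node .nil 8989058 [102,7,3,6] .nil))))))) 8999616 [150,7,6,4,3] (.node (.node (.node
  (.node (.node (.node (.node (.node .nil 9020484 [102,3,7,6,4] .nil) 9045270 [150,6,2,0] .nil)
  9048457 [102,3,5,4] (.node (.node .nil 9055272 [150,7,7,0] .nil) 9078992 [150,0,4,3,0] .nil))
  9112069 [150,6,5] (.node (.node (.node .nil 9158944 [150,2,6,1] .nil) 9178690 [102,3,0,1] .nil)
  9193633 [102,4,6,6] (.node (.node .nil 9204992 [150,1,4] .nil) 9208708 [102,6,2,0] .nil))) 9240913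
  [102,6,3,0] (.node (.node (.node (.node .nil 9279496 [150,2,0,6] .nil) 9310308 [102,5,2,0,0] .nil)
  9323032 [150,2,0,2] (.node (.node .nil 9347075 [150,1,4,1] .nil) 9440193 [102,4,6,0] .nil)) 9451104
  [150,1,2] (.node (.node (.node .nil 9456930 [102,3,3,4] .nil) 9462812 [102,5,1,5] .nil) 9465987
  [150,3,1,3] (.node (.node .nil 9471495 [1254,3] .nil) 9474712 [150,6,4,0] .nil)))) 9486564
  [102,2,4,6] (.node (.node (.node (.node (.node .nil 9503954 [102,2,4] .nil) 9506893 [150,6,7,6]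
  .nil) 9519665 [102,4,7,1] (.node (.node .nil 9537812 [102,5,0,4] .nil) 9543722 [102,0,6,0] .nil))
  9568632 [150,4,0,0] (.node (.node (.node .nil 9578566 [150,2] .nil) 9589508 [102,2,5,1] .nil)
  9607201 [102,3,0,0,0] (.node (.node .nil 9610624 [150,4,5,2,1] .nil) 9652360 [150,3,7] .nil)))
  9701932 [102,7,0,1] (.node (.node (.node (.node .nil 9708306 [102,5,5,0] .nil) 9721936 [150,3,2,4]
  .nil) 9748745 [102,2,3,0] (.node (.node .nil 9769376 [150,7,2,5] .nil) 9776129 [102,4,5,1] .nil))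
  9830549 [150,7,4,7,0] (.node (.node (.node .nil 9835530 [102,5,4,5] .nil) 9929280 [150,3,4,0] .nil)
  9963547 [150,2,3,0] (.node (.node .nil 9968772 [102,5,3,4] .nil) 9969957 [150,4,7,1] .nil)))))
  9998658 [102,1,0] (.node (.node (.node (.node (.node (.node .nil 10021376 [150,1,6,5] .nil)
  10028808 [150,7,2] .nil) 10093218 [102,3,4,0] (.node (.node .nil 10110017 [102,1,7,7,0] .nil)
  10170384 [150,1,4,5] .nil)) 10232008 [150,6,5,4] (.node (.node (.node .nil 10257456 [150,0,1,3]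
  .nil) 10305542 [150,5,6,3] .nil) 10486557 [150,6,2,5] (.node (.node .nil 10491778 [102,6,0,1] .nil)
  10496547 [150,6,0] .nil))) 10506593 [102,2,4,1] (.node (.node (.node (.node .nil 10513600
  [150,3,7,3] .nil) 10525252 [102,1,0,2] .nil) 10537016 [150,6,7] (.node (.node .nil 10543366
  [150,0,0,7,0] .nil) 10554382 [150,0,1,6] .nil)) 10557585 [102,1,5,6,0] (.node (.node (.node .nil
  10560816 [150,7,3,4,0] .nil) 10584520 [150,0,7,2] .nil) 10619300 [102,4,1,4] (.node (.node .nil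
  10625178 [102,6,0,4,0] .nil) 10630149 [150,5,3] .nil)))) 10650722 [102,6,3,4] (.node (.node (.node
  (.node (.node .nil 10666625 [102,0,1,2,0] .nil) 10687016 [150,1,2,1] .nil) 10698836 [102,0,6]
  (.node (.node .nil 10748656 [150,6,0,1] .nil) 10765331 [150,2,2] .nil)) 10768524 [102,2,0] (.node
  (.node (.node .nil 10790408 [150,5,1,1] .nil) 10825794 [102,2,6] .nil) 10832640 [150,3,0,1] (.node
  (.node .nil 10846245 [150,1,6,4] .nil) 10881097 [102,7,3,3] .nil))) 10916112 [150,3,5,4] (.node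
  (.node (.node (.node .nil 11010247 [1254,0,0] .nil) 11015256 [150,3,3,0] .nil) 11028004 [102,0,0]
  (.node (.node .nil 11046145 [102,7,5,1,2] .nil) 11055264 [150,4,4,0] .nil)) 11100169 [102,1,3,1]
  (.node (.node (.node .nil 11108882 [102,5,7,0] .nil) 11150144 [150,0,4] .nil) 11163650 [102,1,7,6]
  (.node .nil 11272490 [102,3,0,0] .nil)))))) 11282452 [102,4,2,5] (.node (.node (.node (.node (.node
  (.node (.node .nil 11469952 [150,7,1,6] .nil) 11535529 [102,6,3,1,0] .nil) 11538486 [150,0,7,1]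
  (.node (.node .nil 11548936 [150,2,1,1,1] .nil) 11551306 [102,1,3,0] .nil)) 11575377 [102,3,7,7]
  (.node (.node (.node .nil 11608708 [102,2,7,5,1] .nil) 11654144 [150,0,5,2] .nil) 11669008
  [150,0,5,6,0] (.node (.node .nil 11731203 [150,0,4,3] .nil) 11797828 [102,2,1] .nil))) 11831426
  [102,0,6,7,0] (.node (.node (.node (.node .nil 11952160 [150,1,3,2] .nil) 12075408 [150,5,4] .nil)
  12126304 [150,0,6,6] (.node (.node .nil 12222476 [102,1,5,1] .nil) 12325377 [102,3,2,0] .nil))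
  12584506 [102,2,0,1] (.node (.node (.node .nil 12587685 [150,3,5] .nil) 12594948 [102,0,0,4] .nil)
  12599513 [102,6,7,6] (.node (.node .nil 12604486 [150,1,7,6] .nil) 12624578 [102,7,3] .nil))))
  12638592 [150,7,6,4] (.node (.node (.node (.node (.node .nil 12641313 [102,1,0,3] .nil) 12650793
  [102,6,0] .nil) 12656663 [1254,1] (.node (.node .nil 12661896 [150,1,3,3] .nil) 12685424
  [150,0,6,2] .nil)) 12698124 [102,6,5] (.node (.node (.node .nil 12717187 [150,6,4,1] .nil) 12720156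
  [102,7,7,2] .nil) 12726562 [102,1,3,1,0] (.node (.node .nil 12733024 [150,1,0,4] .nil) 12747077
  [150,3,7,6] .nil))) 12780432 [150,2,7,4,1] (.node (.node (.node (.node .nil 12849992 [150,5,6,1]
  .nil) 12861748 [102,6,6,5] .nil) 12871690 [102,7,3,4] (.node (.node .nil 12880401 [102,1,4,4,1]
  .nil) 12912836 [102,1,4,0,0] .nil)) 12944642 [102,5,2,5] (.node (.node (.node .nil 12985424
  [150,4,3,2] .nil) 13009064 [150,3,2,2,1] .nil) 13062145 [102,4,4,4] (.node (.node .nil 13108704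
  [150,2,4,2] .nil) 13121601 [102,0,5,5] .nil))))) 13124355 [150,6,7,4,0] (.node (.node (.node (.node
  (.node (.node .nil 13142054 [150,5,0,1] .nil) 13148440 [150,1,5,5] .nil) 13192208 [150,7,1,2]
  (.node (.node .nil 13262980 [102,3,0] .nil) 13276672 [150,5,7,5] .nil)) 13303882 [102,2,0,3,0]
  (.node (.node (.node .nil 13370381 [150,3,0,2] .nil) 13373586 [102,4,1,7,0] .nil) 13443616
  [150,4,2,1] (.node (.node .nil 13631886 [150,3,3,1] .nil) 13636881 [102,5,3,1] .nil))) 13641904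
  [150,7,4,2] (.node (.node (.node (.node .nil 13667400 [150,2,4,6] .nil) 13703682 [102,5,4,1,1]
  .nil) 13721920 [150,1,6] (.node (.node .nil 13771273 [102,0,2] .nil) 13811730 [102,4,3] .nil))
  13829156 [102,4,1] (.node (.node (.node .nil 13893731 [150,1,3,4] .nil) 13911680 [150,3,1,0,0]
  .nil) 13938692 [102,1,3,7] (.node (.node .nil 14156372 [102,7,3,2] .nil) 14176296 [150,4,7]
  .nil)))) 14254209 [102,7,1] (.node (.node (.node (.node (.node .nil 14551296 [150,7,3,4] .nil)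
  14682450 [102,0,1,6] .nil) 14688364 [102,2,4,0] (.node (.node .nil 14709264 [150,4,0,1] .nil)
  14714004 [102,0,5] .nil)) 14716939 [150,6,5,6,0] (.node (.node (.node .nil 14747201 [102,2,2,1]
  .nil) 14762146 [102,7,1,6] .nil) 14828808 [150,4,4,2] (.node (.node .nil 14919680 [150,2,1,1] .nil)
  14949408 [150,6,7,3] .nil))) 14950785 [102,7,4,4] (.node (.node (.node (.node .nil 15073798
  [150,2,1,2,0] .nil) 15207048 [150,5,3,6] .nil) 15274244 [102,3,3,0] (.node (.node .nil 15335473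
  [102,5,7,1] .nil) 15515712 [150,0,1] .nil)) 15747077 [150,1,6,1] (.node (.node (.node .nil 15762208
  [150,3,1,4] .nil) 15864000 [150,2,1] .nil) 16056344 [150,6,1,6] (.node .nil 16262146 [102,6,3,3]
  .nil)))))))))

/-- Classes with representatives. -/
def repsS_O : List (ℕ × ℕ × List ℕ) :=
  [(1254,416040,[]),
  (102,10558,[]),
  (150,5279,[])]

theorem certS_O : ctAll (certNode tbsS treeS_O repsS_O (octClv famS) octSem) octTree = true := by
  decide +kernel

theorem hrepsS_O : ∀ p ∈ repsS_O, octTree.find p.2.1 = some p.2.2 := by decide +kernel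

theorem hcvS_O : ∀ p ∈ repsS_O, octClv famS p.2.1 p.2.2 = p.1 := by decide +kernel

theorem CS_O : Cert octads ofMask octTree octSem (famOf famS) (clO (famOf famS)) (octClv famS) (stabF famS) tbsS treeS_O repsS_O :=
  oct_cert famS_nodup famS_lt gensS_ok hrepsS_O certS_O

theorem nS_O0 : ctCount (fun m _ => Nat.beq (clsOf treeS_O m) 1254) octTree = 15 := by decide +kernel

theorem nS_O1 : ctCount (fun m _ => Nat.beq (clsOf treeS_O m) 102) octTree = 360 := by decide +kernel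

theorem nS_O2 : ctCount (fun m _ => Nat.beq (clsOf treeS_O m) 150) octTree = 384 := by decide +kernel

end Cfsg.Agent.Lib.Sporadic.M24SxOnOc
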