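import Cfsg.Agent.Lib.Sporadic.M24SxStab
import Cfsg.Agent.Lib.Sporadic.M24SextetTab

/-!
# The sextet stabiliser on sextets
-/

namespace Cfsg.Agent.Lib.Sporadic.M24SxOnSx

open Cfsg Cfsg.Agent.Lib.Sporadic.GolayCore Cfsg.Agent.Lib.Sporadic.M24Tbl
open Cfsg.Agent.Lib.Sporadic.M24Chain Cfsg.Agent.Lib.Sporadic.M24Basic
open Cfsg.Agent.Lib.Sporadic.M24Act Cfsg.Agent.Lib.Sporadic.M24Lists
open Cfsg.Agent.Lib.Sporadic.M24Orbit Cfsg.Agent.Lib.Sporadic.M24Count
open Cfsg.Agent.Lib.Sporadic.M24Sextet Cfsg.Agent.Lib.Sporadic.M24Fast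
open Cfsg.Agent.Lib.Sporadic.M24Classes Cfsg.Agent.Lib.Sporadic.M24Cert
open scoped Pointwise
open Cfsg.Agent.Lib.Sporadic.M24SxStab Cfsg.Agent.Lib.Sporadic.M24SextetTab
open Cfsg.Agent.Lib.Sporadic.M24SextetTree

set_option maxRecDepth 100000 in
/-- Classes and words. -/
def treeS_S : CT :=
  (.node (.node (.node (.node (.node (.node (.node (.node (.node (.node (.node .nil 8388615 [3780]
  .nil) 8388619 [356] (.node .nil 8388621 [356,7,5,0] .nil)) 8388622 [356,2,3,0] (.node (.node .nil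
  8388627 [356,1,5] .nil) 8388629 [356,1,1,0,0] .nil)) 8388630 [356,6,2,5] (.node (.node (.node .nil
  8388633 [196] .nil) 8388634 [196,0,4] (.node .nil 8388636 [196,6,7,2,1] .nil)) 8388643 [356,3,6,4]
  (.node (.node .nil 8388645 [356,5,2,1] .nil) 8388646 [356,2,6,0] .nil))) 8388649 [324] (.node
  (.node (.node (.node .nil 8388650 [324,4,3] .nil) 8388652 [324,3,0] (.node .nil 8388657
  [196,4,0,7,4] .nil)) 8388658 [196,2,6,0] (.node (.node .nil 8388660 [196,7,2,3,3] .nil) 8388664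
  [196,4,2,5,2] .nil)) 8388675 [356,7,0,7] (.node (.node (.node .nil 8388677 [356,6,4,7] .nil)
  8388678 [356,6,3,1] (.node .nil 8388681 [196,0,0,0,4] .nil)) 8388682 [196,7,0,7] (.node (.node .nil
  8388684 [196,6,2,1,6] .nil) 8388689 [196,1,5] .nil)))) 8388690 [196,5,1,4] (.node (.node (.node
  (.node (.node .nil 8388692 [196,2,5,2] .nil) 8388696 [196,1,5,6,1] (.node .nil 8388705
  [196,7,1,1,0] .nil)) 8388706 [196,4,4,5,1] (.node (.node .nil 8388708 [196,5,0] .nil) 8388712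
  [196,4,6,0,5] .nil)) 8388720 [196,5,2] (.node (.node (.node .nil 8388739 [356,6,5,1] .nil) 8388741
  [356,2,7,3] (.node .nil 8388742 [356,5,4,6] .nil)) 8388745 [196,5,3,2] (.node (.node .nil 8388746
  [196,4,0,5,0] .nil) 8388748 [196,7,0,4,2] .nil))) 8388753 [196,5,3,5] (.node (.node (.node (.node
  .nil 8388754 [196,2,5,6,0] .nil) 8388756 [196,6,5,0,2] (.node .nil 8388760 [356,0,0,1] .nil))
  8388769 [196,0,2,2,0] (.node (.node .nil 8388770 [196,5,4,1,2] .nil) 8388772 [196,2,4,4,3] .nil))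
  8388776 [196,7,2,1,0] (.node (.node (.node .nil 8388784 [196,2,3,3] .nil) 8388801 [324,4] (.node
  .nil 8388802 [324,3,0,0] .nil)) 8388804 [324,5,1,0] (.node (.node .nil 8388808 [196,4,7,7,1] .nil)
  8388816 [196,2,0,3,6] .nil))))) 8388832 [196,0,4,2,1,0] (.node (.node (.node (.node (.node (.node
  .nil 8388867 [356,6] .nil) 8388869 [356,1,0] (.node .nil 8388870 [356,6,1,5,1] .nil)) 8388873
  [196,5,7,7] (.node (.node .nil 8388874 [196,4,3,1,0] .nil) 8388876 [196,1,1,3] .nil)) 8388881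
  [196,5,3,2,7] (.node (.node (.node .nil 8388882 [196,0,4,2] .nil) 8388884 [196,2,5] (.node .nil
  8388888 [196,5,6,4] .nil)) 8388897 [196,5,0,6] (.node (.node .nil 8388898 [196,6,1,5,1] .nil)
  8388900 [196,7,2,2,2] .nil))) 8388904 [196,0,3,2,4] (.node (.node (.node (.node .nil 8388912
  [196,0,4,0] .nil) 8388929 [196,7,4,1,6] (.node .nil 8388930 [196,3,2,2,1] .nil)) 8388932
  [196,1,2,3,1] (.node (.node .nil 8388936 [196,5,2,2,5] .nil) 8388944 [356,1,6,2,0] .nil)) 8388960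
  [196,3,3,3,3] (.node (.node (.node .nil 8388993 [196,4,2,2,2] .nil) 8388994 [196,7,6,3,5] (.node
  .nil 8388996 [196,0,1,3] .nil)) 8389000 [196,0,2] (.node (.node .nil 8389008 [196,2,0,2,1] .nil)
  8389024 [196,5,5,2,2] .nil)))) 8389056 [196,2,6,5,3] (.node (.node (.node (.node (.node .nil
  8389123 [356,6,5] .nil) 8389125 [356,1,3,0] (.node .nil 8389126 [356,3,5] .nil)) 8389129
  [196,4,2,4,5] (.node (.node .nil 8389130 [196,5,4] .nil) 8389132 [196,6,1,3,2] .nil)) 8389137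
  [196,0,1,4,4] (.node (.node (.node .nil 8389138 [196,0,7,2] .nil) 8389140 [196,2,1,7,0] (.node .nil
  8389144 [196,5,4,6,2] .nil)) 8389153 [196,5,7,0,0] (.node (.node .nil 8389154 [196,2,6,4,4] .nil)
  8389156 [196,6,3,3,1] .nil))) 8389160 [196,0,7,6,4] (.node (.node (.node (.node .nil 8389168
  [356,3,3,2] .nil) 8389185 [196,0,4,3,2] (.node .nil 8389186 [196,4,7,3,0] .nil)) 8389188
  [196,0,5,2,3] (.node (.node .nil 8389192 [356,7,4,1] .nil) 8389200 [196,6,7,1] .nil)) 8389216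
  [196,5,1,6,1] (.node (.node (.node .nil 8389249 [196,0,2,3,0] .nil) 8389250 [196,5,5,0,1] .nil)
  8389252 [196,3,4] (.node (.node .nil 8389256 [196,3,4,6,1] .nil) 8389264 [196,4,7,2,6] .nil))))))
  8389280 [196,7,3,6,4] (.node (.node (.node (.node (.node (.node (.node .nil 8389312 [196,7,2,0]
  .nil) 8389377 [196,0,3,0] (.node .nil 8389378 [196,3,4,0,1] .nil)) 8389380 [196,7,4,0,2] (.node
  (.node .nil 8389384 [196,5,7,0] .nil) 8389392 [196,6,0,4,0] .nil)) 8389408 [196,4,3,1] (.node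
  (.node (.node .nil 8389440 [196,5,6,5,6] .nil) 8389504 [356,3,7,1] (.node .nil 8389635 [356,7,2,1]
  .nil)) 8389637 [356,4,1,5] (.node (.node .nil 8389638 [356,7,5,0,0] .nil) 8389641 [196,0,1,5,0]
  .nil))) 8389642 [196,3,1,0] (.node (.node (.node (.node .nil 8389644 [196,6,0,5,0] .nil) 8389649
  [196,7,7,2,0] (.node .nil 8389650 [196,7,0] .nil)) 8389652 [196,1,1,7,4] (.node (.node .nil 8389656
  [356,5,4,1] .nil) 8389665 [196,2,5,0] .nil)) 8389666 [196,4,0] (.node (.node (.node .nil 8389668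
  [196,1,3,0,6] .nil) 8389672 [196,4,0,5] (.node .nil 8389680 [196,4,6,7,1] .nil)) 8389697
  [196,4,3,0,0] (.node (.node .nil 8389698 [196,6,7] .nil) 8389700 [196,3,5,0,0] .nil)))) 8389704
  [196,1,7,0,3] (.node (.node (.node (.node (.node .nil 8389712 [196,3,3,4] .nil) 8389728
  [196,0,0,1,3] (.node .nil 8389761 [196,4,5,0,0] .nil)) 8389762 [196,1,6,0,4] (.node (.node .nil
  8389764 [196,2,7,3] .nil) 8389768 [356,7,0,2] .nil)) 8389776 [356,0,2,1] (.node (.node (.node .nil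
  8389792 [196,2,1,3,7] .nil) 8389824 [196,3,3,4,4] (.node .nil 8389889 [196,5,5,7,7] .nil)) 8389890
  [196,3,7] (.node (.node .nil 8389892 [196,2,0,1,0] .nil) 8389896 [196,5,4,1] .nil))) 8389904
  [196,0,7,2,0] (.node (.node (.node (.node .nil 8389920 [356,5,1,6] .nil) 8389952 [196,0,7,3,0]
  (.node .nil 8390016 [196,7,1,0] .nil)) 8390145 [324,0,4,2] (.node (.node .nil 8390146 [324,2,5,2]
  .nil) 8390148 [324,7,6,7] .nil)) 8390152 [196,1,0,3,2] (.node (.node (.node .nil 8390160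
  [196,2,6,5,1] .nil) 8390176 [196,3,6,6,4] (.node .nil 8390208 [196,2,4,6] .nil)) 8390272
  [196,2,5,6,1] (.node (.node .nil 8390400 [196,6,3,4,0] .nil) 8390659 [356,1,0,2] .nil))))) 8390661
  [356,5,0,1] (.node (.node (.node (.node (.node (.node .nil 8390662 [356,0,2,4] .nil) 8390665
  [196,2,2,2] (.node .nil 8390666 [196,4,4,0] .nil)) 8390668 [196,5,4,7,0] (.node (.node .nil 8390673
  [196,5,2,4,4,0] .nil) 8390674 [196,7,4,3,2] .nil)) 8390676 [196,3,5,6,5] (.node (.node (.node .nil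
  8390680 [196,3,5,5,0] .nil) 8390689 [196,0,1] (.node .nil 8390690 [196,4,4,4,3] .nil)) 8390692
  [196,6,4,6] (.node (.node .nil 8390696 [196,6,2,0,6] .nil) 8390704 [196,7,6,5,3] .nil))) 8390721
  [196,6,4,5] (.node (.node (.node (.node .nil 8390722 [196,3,2,7,1] .nil) 8390724 [196,7,3,7,0]
  (.node .nil 8390728 [356,3,7,0] .nil)) 8390736 [196,1,6,0,0] (.node (.node .nil 8390752
  [196,7,6,6,0] .nil) 8390785 [196,4,0,1] .nil)) 8390786 [196,7,7,1,0] (.node (.node (.node .nil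
  8390788 [196,4,3,1,3] .nil) 8390792 [196,5,1,1,0] (.node .nil 8390800 [196,0,1,3,0] .nil)) 8390816
  [356,7,1] (.node (.node .nil 8390848 [196,1,1,0,7,0] .nil) 8390913 [324,3,2,0] .nil)))) 8390914
  [324,3,7] (.node (.node (.node (.node (.node .nil 8390916 [324,2,0] .nil) 8390920 [196,4,7,0]
  (.node .nil 8390928 [196,3,5,6] .nil)) 8390944 [196,2,4,6,5] (.node (.node .nil 8390976
  [196,0,6,6,3] .nil) 8391040 [196,1,5,0,5] .nil)) 8391169 [196,6,4] (.node (.node (.node .nil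
  8391170 [196,7,6,1,1] .nil) 8391172 [196,7,3,4,0] (.node .nil 8391176 [356,4,6,3] .nil)) 8391184
  [196,3,3,2] (.node (.node .nil 8391200 [196,0,4,5,1] .nil) 8391232 [356,7,4] .nil))) 8391296
  [196,6,7,0] (.node (.node (.node (.node .nil 8391424 [196,0,3,0,2] .nil) 8391681 [196,1,2,1] (.node
  .nil 8391682 [196,0,6,1,3] .nil)) 8391684 [196,4,1,0,0] (.node (.node .nil 8391688 [196,4,2,7,0]
  .nil) 8391696 [196,5,7,2,0] .nil)) 8391712 [196,7,4,1] (.node (.node (.node .nil 8391744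
  [196,2,0,1] .nil) 8391808 [196,3,0,0,1] .nil) 8391936 [196,1,4,7,0] (.node (.node .nil 8392192
  [196,3,6,4,4] .nil) 8392707 [356,7,5,1] .nil))))))) 8392709 [356,2,2,1,0] (.node (.node (.node
  (.node (.node (.node (.node (.node .nil 8392710 [356,3,2,0] .nil) 8392713 [196,5,3,1,1] (.node .nil
  8392714 [196,4,1,1] .nil)) 8392716 [196,3,1,6] (.node (.node .nil 8392721 [196,0,4,0,1] .nil)
  8392722 [196,5,5,1,2] .nil)) 8392724 [196,4,6,7,3] (.node (.node (.node .nil 8392728 [356,4,6]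
  .nil) 8392737 [196,0,6,0,0] (.node .nil 8392738 [196,7,6,2,1] .nil)) 8392740 [196,1,0,4,0] (.node
  (.node .nil 8392744 [196,3,2,4,0] .nil) 8392752 [196,1,2,4] .nil))) 8392769 [196,0,3,7,3,0] (.node
  (.node (.node (.node .nil 8392770 [196,1,0,6,0] .nil) 8392772 [196,0,0,4,0] (.node .nil 8392776
  [196,5,4,3,0] .nil)) 8392784 [196,6,0,3,0] (.node (.node .nil 8392800 [356,2,4,4,0] .nil) 8392833
  [196,6,6,3,0] .nil)) 8392834 [196,1,4,2,0] (.node (.node (.node .nil 8392836 [196,5,2,3,0] .nil)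
  8392840 [356,0,4,0] (.node .nil 8392848 [356,0,3,0] .nil)) 8392864 [196,6,7,4,0] (.node (.node .nil
  8392896 [196,3,3,0] .nil) 8392961 [324,6] .nil)))) 8392962 [324,3,0,1] (.node (.node (.node (.node
  (.node .nil 8392964 [324,2,7] .nil) 8392968 [196,3,6,5,2] (.node .nil 8392976 [196,2,3,0,0] .nil))
  8392992 [196,5,1,2,2] (.node (.node .nil 8393024 [196,1,7,1,0] .nil) 8393088 [196,0,1,4] .nil))
  8393217 [196,0,2,1,1] (.node (.node (.node .nil 8393218 [196,6,6,5,1] .nil) 8393220 [196,4,7,7]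
  (.node .nil 8393224 [196,4,6,2,0] .nil)) 8393232 [196,7,5] (.node (.node .nil 8393248 [196,4,1,7,0]
  .nil) 8393280 [196,2,4,4,0] .nil))) 8393344 [196,2,3,7,3] (.node (.node (.node (.node .nil 8393472
  [196,3,0,1] .nil) 8393729 [196,6,5,0,0] (.node .nil 8393730 [196,2,4,3,1] .nil)) 8393732
  [196,4,0,6] (.node (.node .nil 8393736 [356,0,4,3,0] .nil) 8393744 [356,2,0] .nil)) 8393760
  [196,1,4,5,0] (.node (.node (.node .nil 8393792 [196,5,3,5,6] .nil) 8393856 [356,6,1,6] (.node .nil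
  8393984 [196,0,1,4,2] .nil)) 8394240 [196,5,3,3,2] (.node (.node .nil 8394753 [324,6,3,0] .nil)
  8394754 [324,4,4] .nil))))) 8394756 [324,5,7] (.node (.node (.node (.node (.node (.node .nil
  8394760 [196,1,0,2,1] .nil) 8394768 [196,5,0,1,0] (.node .nil 8394784 [196,4,7,2,1] .nil)) 8394816
  [196,7,1,6,6] (.node (.node .nil 8394880 [196,6,0,0] .nil) 8395008 [356,6,3,0] .nil)) 8395264
  [196,5,6,1] (.node (.node (.node .nil 8395776 [196,4,2,4] .nil) 8396803 [356,5,2,4] (.node .nil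
  8396805 [356,7,3,6] .nil)) 8396806 [356,6,4,0,0] (.node (.node .nil 8396809 [196,1,4,2] .nil)
  8396810 [196,6,2,4,2] .nil))) 8396812 [196,1,1,4,1] (.node (.node (.node (.node .nil 8396817
  [324,5,3,0] .nil) 8396818 [324,7] (.node .nil 8396820 [324,4,1] .nil)) 8396824 [196,0,3] (.node
  (.node .nil 8396833 [196,3,4,1] .nil) 8396834 [196,5,6] .nil)) 8396836 [196,5,0,5] (.node (.node
  (.node .nil 8396840 [196,1,3,1,3] .nil) 8396848 [196,0,6,5,3] (.node .nil 8396865 [196,1,7,7,4]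
  .nil)) 8396866 [196,5,0,0,1] (.node (.node .nil 8396868 [196,4,6,1] .nil) 8396872 [196,7,0,6]
  .nil)))) 8396880 [196,2,2,1] (.node (.node (.node (.node (.node .nil 8396896 [356,0,5,1] .nil)
  8396929 [196,5,5,5] (.node .nil 8396930 [196,2,0,5,0] .nil)) 8396932 [196,4,7] (.node (.node .nil
  8396936 [196,6,7,0,0] .nil) 8396944 [196,3,6,1,2,0] .nil)) 8396960 [196,4,5,1] (.node (.node (.node
  .nil 8396992 [196,7,6,4,2] .nil) 8397057 [196,2,1,5,2] (.node .nil 8397058 [196,3,0,1,0] .nil))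
  8397060 [196,7,4,0] (.node (.node .nil 8397064 [196,1,0,5] .nil) 8397072 [196,5,3,0] .nil)))
  8397088 [196,3,7,3,0] (.node (.node (.node (.node .nil 8397120 [196,1,1,5,6] .nil) 8397184
  [356,7,1,0] (.node .nil 8397313 [196,5,5] .nil)) 8397314 [196,5,1,3,7] (.node (.node .nil 8397316
  [196,5,1,0,0,0] .nil) 8397320 [196,3,2,0] .nil)) 8397328 [196,1,3,5,4] (.node (.node (.node .nil
  8397344 [196,2,2,4,6,0] .nil) 8397376 [196,0,1,7,1,0] .nil) 8397440 [356,4,4,1] (.node (.node .nil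
  8397568 [356,4,7,2] .nil) 8397825 [196,4,4,6,6] .nil)))))) 8397826 [196,1,5,0,0] (.node (.node
  (.node (.node (.node (.node (.node .nil 8397828 [196,7,7,1] .nil) 8397832 [196,0,5,5,2] (.node .nil
  8397840 [196,4,1,0,1] .nil)) 8397856 [196,1,5,0,7] (.node (.node .nil 8397888 [196,4,4,2,1] .nil)
  8397952 [196,6,4,3] .nil)) 8398080 [196,2,6,1,0] (.node (.node (.node .nil 8398336 [196,3,4,1,3]
  .nil) 8398849 [196,0,3,2,0] (.node .nil 8398850 [196,0,7,5,3] .nil)) 8398852 [196,4,5,0] (.node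
  (.node .nil 8398856 [196,7,6,2,2] .nil) 8398864 [196,4,6,7,0] .nil))) 8398880 [196,3,2,3] (.node
  (.node (.node (.node .nil 8398912 [196,7,4] .nil) 8398976 [196,0,0,3] (.node .nil 8399104
  [196,4,4,6,1] .nil)) 8399360 [196,3,4,0,5] (.node (.node .nil 8399872 [356,0,2,3] .nil) 8400897
  [196,6,6,0,4] .nil)) 8400898 [196,2,0,7] (.node (.node (.node .nil 8400900 [196,4,7,5] .nil)
  8400904 [196,2,3,2,3] (.node .nil 8400912 [196,6,0,1,2] .nil)) 8400928 [356,2,0,0] (.node (.node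
  .nil 8400960 [356,7,6,2] .nil) 8401024 [196,7,7,5,0] .nil)))) 8401152 [196,6,6,7,0] (.node (.node
  (.node (.node (.node .nil 8401408 [196,5,5,6,1] .nil) 8401920 [196,6,3,4] (.node .nil 8402944
  [196,7,4,4] .nil)) 8404995 [356,6,0,2] (.node (.node .nil 8404997 [356,7,4,4,0] .nil) 8404998
  [356,2,2] .nil)) 8405001 [324,0,1,1] (.node (.node (.node .nil 8405002 [324,2] .nil) 8405004
  [324,1,6] (.node .nil 8405009 [196,1,0,0,4,0] .nil)) 8405010 [196,5,4,3,3] (.node (.node .nil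
  8405012 [196,2,2] .nil) 8405016 [196,6,6,2,7] .nil))) 8405025 [324,4,5,2] (.node (.node (.node
  (.node .nil 8405026 [324,0,7] .nil) 8405028 [324,7,0] (.node .nil 8405032 [356,2] .nil)) 8405040
  [196,2,4,2,2] (.node (.node .nil 8405057 [196,7,7,4,0] .nil) 8405058 [196,0,1,1,5,0] .nil)) 8405060
  [196,2,1,1] (.node (.node (.node .nil 8405064 [196,3,4,1,4] .nil) 8405072 [356,6,6] .nil) 8405088
  [196,1,4,1,3] (.node (.node .nil 8405121 [196,3,4,6] .nil) 8405122 [196,7,0,3,2,0] .nil)))))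
  8405124 [196,5,3,6,0] (.node (.node (.node (.node (.node (.node .nil 8405128 [196,2,5,3,1] .nil)
  8405136 [196,0,0,0] (.node .nil 8405152 [196,4,1,1,0] .nil)) 8405184 [196,2,2,5,1] (.node (.node
  .nil 8405249 [196,2,6,4,1] .nil) 8405250 [196,7,7,6,0] .nil)) 8405252 [196,0,0,4,1] (.node (.node
  (.node .nil 8405256 [196,1,1,6,0,0] .nil) 8405264 [356,0,4,1] (.node .nil 8405280 [196,4,4,1,3]
  .nil)) 8405312 [356,4,3] (.node (.node .nil 8405376 [196,5,2,5] .nil) 8405505 [196,3,3,3,1] .nil)))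
  8405506 [196,5,2,3] (.node (.node (.node (.node .nil 8405508 [196,2,6,3,4] .nil) 8405512
  [196,1,0,6] (.node .nil 8405520 [196,4,6,0] .nil)) 8405536 [196,4,6,0,4] (.node (.node .nil 8405568
  [196,0,3,1] .nil) 8405632 [196,2,6,6] .nil)) 8405760 [196,0,6,4] (.node (.node (.node .nil 8406017
  [196,5,2,6] .nil) 8406018 [196,6,1,0] (.node .nil 8406020 [196,6,6,5,0,0] .nil)) 8406024
  [196,5,3,2,0] (.node (.node .nil 8406032 [196,5,2,5,0] .nil) 8406048 [196,0,7,1,0] .nil)))) 8406080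
  [196,6,1,2] (.node (.node (.node (.node (.node .nil 8406144 [196,7,2,7,5] .nil) 8406272 [196,5,2,7]
  (.node .nil 8406528 [196,2,1,5,0] .nil)) 8407041 [196,7,4,4,0] (.node (.node .nil 8407042
  [196,7,5,5,1] .nil) 8407044 [196,1,5,1,0] .nil)) 8407048 [196,6,7,6,1] (.node (.node (.node .nil
  8407056 [196,0,1,2,0] .nil) 8407072 [196,4,2,0,1] (.node .nil 8407104 [196,4,4,5] .nil)) 8407168
  [196,6,0,7] (.node (.node .nil 8407296 [196,6,0,5,1] .nil) 8407552 [196,6,4,6,1] .nil))) 8408064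
  [356,1,4,2,0] (.node (.node (.node (.node .nil 8409089 [196,2,3,1,4] .nil) 8409090 [196,2,4,4,4]
  (.node .nil 8409092 [196,4,2,5,0] .nil)) 8409096 [196,5,5,7,1] (.node (.node .nil 8409104
  [196,2,4,4] .nil) 8409120 [196,5,0,2,1] .nil)) 8409152 [196,2,3,1] (.node (.node (.node .nil
  8409216 [196,4,6,0,0] .nil) 8409344 [196,3,3,1,0] .nil) 8409600 [356,7,7,1] (.node (.node .nil
  8410112 [196,3,7,3,4] .nil) 8411136 [196,5,2,2,1] .nil)))))))) 8413185 [196,7,1,7,1] (.node (.node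
  (.node (.node (.node (.node (.node (.node (.node .nil 8413186 [196,5,2,4] .nil) 8413188
  [196,3,3,1,1,0] (.node .nil 8413192 [196,5,5,0,2] .nil)) 8413200 [196,6,1,1] (.node (.node .nil
  8413216 [196,4,4,3,1] .nil) 8413248 [196,7,7,4,2] .nil)) 8413312 [196,7,7,6,1] (.node (.node (.node
  .nil 8413440 [196,3,1,4,0] .nil) 8413696 [196,0,4,4] (.node .nil 8414208 [356,5,0] .nil)) 8415232
  [356,0,0] (.node (.node .nil 8417280 [196,0,3,1,0] .nil) 8421379 [356,2,3] .nil))) 8421381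
  [356,7,3] (.node (.node (.node (.node .nil 8421382 [356,3,6,1] .nil) 8421385 [196,4,3,2] (.node
  .nil 8421386 [196,7,4,5,3] .nil)) 8421388 [196,6,5,6,0] (.node (.node .nil 8421393 [196,4,1,0,4]
  .nil) 8421394 [196,1,4] .nil)) 8421396 [196,0,0,2,0] (.node (.node (.node .nil 8421400
  [196,6,6,5,0] .nil) 8421409 [196,0,3,4,0] (.node .nil 8421410 [196,2,5,7,1] .nil)) 8421412
  [196,1,0,7,0] (.node (.node .nil 8421416 [196,4,3] .nil) 8421424 [196,2,4,2,0] .nil)))) 8421441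
  [196,4,5,7,5] (.node (.node (.node (.node (.node .nil 8421442 [196,3,7,5,0] .nil) 8421444
  [196,6,3,1] (.node .nil 8421448 [196,2,1,1,0] .nil)) 8421456 [196,2,1,7] (.node (.node .nil 8421472
  [356,4,0,1] .nil) 8421505 [196,0,7,4] .nil)) 8421506 [196,5,0,5,0] (.node (.node (.node .nil
  8421508 [196,6,7,5,3] .nil) 8421512 [196,3,3,3] (.node .nil 8421520 [196,0,1,1,7] .nil)) 8421536
  [196,3,2,1,0] (.node (.node .nil 8421568 [196,3,5,0,3] .nil) 8421633 [196,1,3,2] .nil))) 8421634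
  [196,3,6,1] (.node (.node (.node (.node .nil 8421636 [196,1,0,0,4] .nil) 8421640 [356,1,1,7] (.node
  .nil 8421648 [196,6,6,7] .nil)) 8421664 [196,6,4,4,2] (.node (.node .nil 8421696 [196,3,1,1,4,0]
  .nil) 8421760 [196,6,6,5] .nil)) 8421889 [324,4,5,1] (.node (.node (.node .nil 8421890 [324,2,4]
  .nil) 8421892 [324,7,2,1] (.node .nil 8421896 [196,7,2,7,0] .nil)) 8421904 [196,4,3,3] (.node
  (.node .nil 8421920 [196,5,1] .nil) 8421952 [196,6,2,6,1,0] .nil))))) 8422016 [196,7,7,5,5] (.node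
  (.node (.node (.node (.node (.node .nil 8422144 [196,7,7,5] .nil) 8422401 [324,2,3] (.node .nil
  8422402 [324,3,1] .nil)) 8422404 [324,1,7,0] (.node (.node .nil 8422408 [196,4,3,5] .nil) 8422416
  [196,0,0,4,2] .nil)) 8422432 [196,4,0,2] (.node (.node (.node .nil 8422464 [196,0,4,1] .nil)
  8422528 [196,4,5,1,7] (.node .nil 8422656 [196,5,5,0] .nil)) 8422912 [356,3,4,0] (.node (.node .nil
  8423425 [196,5,0,1] .nil) 8423426 [196,2,5,0,2] .nil))) 8423428 [196,4,2,5,1] (.node (.node (.node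
  (.node .nil 8423432 [196,5,3,6,6] .nil) 8423440 [356,4,7,3,0] (.node .nil 8423456 [196,0,1,6,2]
  .nil)) 8423488 [196,2,4,5,4] (.node (.node .nil 8423552 [196,1,1,0,6,0] .nil) 8423680 [196,2,3,5,1]
  .nil)) 8423936 [196,0,3,3] (.node (.node (.node .nil 8424448 [196,2,7,7,6] .nil) 8425473
  [196,0,2,4,0] (.node .nil 8425474 [196,7,5,1] .nil)) 8425476 [196,0,4,5,2] (.node (.node .nil
  8425480 [196,7,3,5] .nil) 8425488 [196,4,0,3,0] .nil)))) 8425504 [356,0,4] (.node (.node (.node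
  (.node (.node .nil 8425536 [356,1,6,3] .nil) 8425600 [196,4,4,4] (.node .nil 8425728 [196,7,0,7,0]
  .nil)) 8425984 [196,6,5,1] (.node (.node .nil 8426496 [196,5,5,4,3] .nil) 8427520 [196,5,4,0,1]
  .nil)) 8429569 [196,4,4,1,1,0] (.node (.node (.node .nil 8429570 [196,2,3,2,0] .nil) 8429572
  [196,6,6,3] (.node .nil 8429576 [196,3,0,7,0] .nil)) 8429584 [196,0,5,3] (.node (.node .nil 8429600
  [356,0,5,7] .nil) 8429632 [356,7,5] .nil))) 8429696 [196,0,2,2,1] (.node (.node (.node (.node .nil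
  8429824 [196,1,7,1,4] .nil) 8430080 [196,6,5,1,2] (.node .nil 8430592 [196,1,0,2,0] .nil)) 8431616
  [196,7,0,6,1] (.node (.node .nil 8433664 [356,2,4,1] .nil) 8437761 [196,3,2,4,7] .nil)) 8437762
  [196,1,4,5] (.node (.node (.node .nil 8437764 [196,4,7,2,0] .nil) 8437768 [196,5,1,4,1] .nil)
  8437776 [196,2,2,4,2] (.node (.node .nil 8437792 [196,3,6,7,1] .nil) 8437824 [196,5,2,0,1]
  .nil)))))) 8437888 [356,2,7,0] (.node (.node (.node (.node (.node (.node (.node .nil 8438016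
  [196,7,0,7,2] .nil) 8438272 [196,3,1,2,0] (.node .nil 8438784 [196,2,4,1,4] .nil)) 8439808
  [196,2,3,7] (.node (.node .nil 8441856 [196,2,6,4] .nil) 8445952 [196,2,4,1] .nil)) 8454147
  [356,5,0,4] (.node (.node (.node .nil 8454149 [356,2,1,0] .nil) 8454150 [356,7,5,4] (.node .nil
  8454153 [196,7,0,3,0] .nil)) 8454154 [196,6,3,5] (.node (.node .nil 8454156 [196,0,6,6,4,0] .nil)
  8454161 [324,0,2] .nil))) 8454162 [324,6,2,3] (.node (.node (.node (.node .nil 8454164 [324,1,1]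
  .nil) 8454168 [196,3,1,1] (.node .nil 8454177 [196,1,0,5,1,0] .nil)) 8454178 [196,4,3,2,3] (.node
  (.node .nil 8454180 [196,1,2,4,1] .nil) 8454184 [196,2,2,6] .nil)) 8454192 [196,7,6,1] (.node
  (.node (.node .nil 8454209 [196,3,0,4,0,0] .nil) 8454210 [196,4,7,0,4] (.node .nil 8454212
  [196,6,7,7,0] .nil)) 8454216 [196,1,3,6,0] (.node (.node .nil 8454224 [196,5,1,3] .nil) 8454240
  [196,2,7,3,5] .nil)))) 8454273 [196,4,1,3,5] (.node (.node (.node (.node (.node .nil 8454274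
  [196,2,1,4,6] .nil) 8454276 [196,2,1,0] (.node .nil 8454280 [196,0,3,7,1] .nil)) 8454288
  [196,6,7,5] (.node (.node .nil 8454304 [356,1,6,5] .nil) 8454336 [196,0,6,6] .nil)) 8454401
  [196,7,4,6,2] (.node (.node (.node .nil 8454402 [196,6,3] .nil) 8454404 [196,3,4,7] (.node .nil
  8454408 [356,3,6] .nil)) 8454416 [196,6,0,6] (.node (.node .nil 8454432 [196,7,2,4] .nil) 8454464
  [196,3,0,3,0] .nil))) 8454528 [196,0,6,4,0] (.node (.node (.node (.node .nil 8454657 [196,2,4,2]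
  .nil) 8454658 [196,3,2,5] (.node .nil 8454660 [196,3,3,1,5] .nil)) 8454664 [196,5,3,6,4] (.node
  (.node .nil 8454672 [196,6,4,4,0] .nil) 8454688 [196,6,6,7,5] .nil)) 8454720 [196,4,7,7,0,0] (.node
  (.node (.node .nil 8454784 [196,4,2,3,0] .nil) 8454912 [196,3,7,1] (.node .nil 8455169
  [196,0,4,1,1] .nil)) 8455170 [196,5,3,2,1,0] (.node (.node .nil 8455172 [196,0,7,0,1] .nil) 8455176
  [196,5,5,4] .nil))))) 8455184 [196,0,0,4] (.node (.node (.node (.node (.node (.node .nil 8455200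
  [196,5,2,0,0] .nil) 8455232 [356,4,6,4] (.node .nil 8455296 [196,0,0,7,0] .nil)) 8455424
  [196,1,2,1,0] (.node (.node .nil 8455680 [196,7,6,6,1] .nil) 8456193 [196,2,2,5] .nil)) 8456194
  [196,2,5,2,2] (.node (.node (.node .nil 8456196 [196,5,2,6,0] .nil) 8456200 [196,2,1,3] (.node .nil
  8456208 [196,6,4,0,2] .nil)) 8456224 [356,5,4] (.node (.node .nil 8456256 [196,7,6,0,3] .nil)
  8456320 [356,0,2,6,0] .nil))) 8456448 [196,7,5,6,4] (.node (.node (.node (.node .nil 8456704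
  [196,3,6,2] .nil) 8457216 [196,1,1,5] (.node .nil 8458241 [196,3,1,5] .nil)) 8458242 [196,6,0,5]
  (.node (.node .nil 8458244 [196,7,5,2,3] .nil) 8458248 [196,5,3,3,1] .nil)) 8458256 [196,1,3,1,0]
  (.node (.node (.node .nil 8458272 [196,6,4,2] .nil) 8458304 [196,6,5,2] (.node .nil 8458368
  [196,0,2,5,1] .nil)) 8458496 [196,1,0,1] (.node (.node .nil 8458752 [356,0,1] .nil) 8459264
  [196,0,3,6,0] .nil)))) 8460288 [196,3] (.node (.node (.node (.node (.node .nil 8462337 [324,7,7,0]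
  .nil) 8462338 [324,0] (.node .nil 8462340 [324,2,1,0] .nil)) 8462344 [196,5,0,7,0] (.node (.node
  .nil 8462352 [356,6,0,6] .nil) 8462368 [196,5,2,7,1] .nil)) 8462400 [196,2,4,3] (.node (.node
  (.node .nil 8462464 [196,2,4,0,5] .nil) 8462592 [196,6,6,4,0] (.node .nil 8462848 [196,2,3,0,6]
  .nil)) 8463360 [196,7,2,3,2] (.node (.node .nil 8464384 [196,3,6,1,3] .nil) 8466432 [196,6,6,3,1,0]
  .nil))) 8470529 [196,7,6,2,3] (.node (.node (.node (.node .nil 8470530 [196,6,0,2] .nil) 8470532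
  [196,2,6,7,2,0] (.node .nil 8470536 [196,7,5,1,0] .nil)) 8470544 [196,1,5,0] (.node (.node .nil
  8470560 [196,1,7,6,0] .nil) 8470592 [196,7,2,5,1] .nil)) 8470656 [196,7,4,0,0,1] (.node (.node
  (.node .nil 8470784 [196,0,4,6,2] .nil) 8471040 [356,2,7,1] .nil) 8471552 [196,1,2,7] (.node (.node
  .nil 8472576 [196,5,5,2] .nil) 8474624 [356,5,6,6] .nil))))))) 8478720 [196,6,4,6,2] (.node (.node
  (.node (.node (.node (.node (.node (.node .nil 8486913 [196,1,6,1,0,0] .nil) 8486914 [196,0,0,1]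
  (.node .nil 8486916 [196,1,7,0,0] .nil)) 8486920 [356,4,7,5] (.node (.node .nil 8486928
  [196,3,7,6,0] .nil) 8486944 [196,1,0,7,2] .nil)) 8486976 [196,3,4,4] (.node (.node (.node .nil
  8487040 [196,2,3,7,0] .nil) 8487168 [356,5,2,3] (.node .nil 8487424 [196,2,4] .nil)) 8487936
  [196,1,6,7,1] (.node (.node .nil 8488960 [196,1,5,1,4] .nil) 8491008 [196,2,4,6,2] .nil))) 8495104
  [196,1,4,4,1] (.node (.node (.node (.node .nil 8503296 [196,2,7,0] .nil) 8519683 [356,1,5,1] (.node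
  .nil 8519685 [356,1,0,1] .nil)) 8519686 [356,7,3,3] (.node (.node .nil 8519689 [324,1,2,0] .nil)
  8519690 [324,0,5,1] .nil)) 8519692 [324,0,0] (.node (.node (.node .nil 8519697 [196,3,7,7,1] .nil)
  8519698 [196,3,2,4,2] (.node .nil 8519700 [196,3,4,2,0] .nil)) 8519704 [196,4,3,6] (.node (.node
  .nil 8519713 [324,2,3,0] .nil) 8519714 [324,4,6] .nil)))) 8519716 [324,1,0,1] (.node (.node (.node
  (.node (.node .nil 8519720 [356,3,0] .nil) 8519728 [196,6,3,4,1] (.node .nil 8519745 [196,0,1,5,1]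
  .nil)) 8519746 [196,1,7,5,5] (.node (.node .nil 8519748 [196,5,4,3] .nil) 8519752 [196,1,0,4]
  .nil)) 8519760 [196,1,2,2,0] (.node (.node (.node .nil 8519776 [196,5,4,4] .nil) 8519809
  [196,0,6,2] (.node .nil 8519810 [196,0,3,2] .nil)) 8519812 [196,6,7,3] (.node (.node .nil 8519816
  [196,4,4,5,0] .nil) 8519824 [196,6,6,0,3] .nil))) 8519840 [196,0,6,5] (.node (.node (.node (.node
  .nil 8519872 [196,0,2,7,3,0] .nil) 8519937 [196,1,6,7] (.node .nil 8519938 [196,4,5,4] .nil))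
  8519940 [196,2,2,7,2] (.node (.node .nil 8519944 [196,6,0,3] .nil) 8519952 [196,0,2,5,0] .nil))
  8519968 [196,1,4,0] (.node (.node (.node .nil 8520000 [196,6,1,1,0] .nil) 8520064 [356,4,2,1]
  (.node .nil 8520193 [196,3,1,3,2] .nil)) 8520194 [196,4,5,4,2] (.node (.node .nil 8520196
  [196,7,7,3,0] .nil) 8520200 [196,3,0,2,0] .nil))))) 8520208 [196,1,3,5] (.node (.node (.node (.node
  (.node (.node .nil 8520224 [196,4,4,0,1,0] .nil) 8520256 [196,0,0,4,4] (.node .nil 8520320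
  [356,0,5,0] .nil)) 8520448 [356,7,0,5] (.node (.node .nil 8520705 [196,3,0,5,0] .nil) 8520706
  [196,3,3,7] .nil)) 8520708 [196,7,6,4,7,0] (.node (.node (.node .nil 8520712 [196,1,0,3] .nil)
  8520720 [196,5,4,0] (.node .nil 8520736 [196,5,5,1,1] .nil)) 8520768 [356,0,3,3] (.node (.node .nil
  8520832 [196,7,3,5,2] .nil) 8520960 [196,5,0,2] .nil))) 8521216 [196,6,6,6,4] (.node (.node (.node
  (.node .nil 8521729 [196,5,4,5,5] .nil) 8521730 [196,7,0,2,0] (.node .nil 8521732 [196,6,5,6,1]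
  .nil)) 8521736 [196,4,2,6,0] (.node (.node .nil 8521744 [356,0,0,6,0] .nil) 8521760 [196,5,4,5,2]
  .nil)) 8521792 [196,4,2,3,2] (.node (.node (.node .nil 8521856 [196,1,7,5,0] .nil) 8521984
  [196,5,4,5] (.node .nil 8522240 [196,2,0,3,0] .nil)) 8522752 [196,1,4,0,0] (.node (.node .nil
  8523777 [196,5,2,5,1] .nil) 8523778 [196,3,6,3,1] .nil)))) 8523780 [196,3,2,1,3] (.node (.node
  (.node (.node (.node .nil 8523784 [196,5,6,1,3] .nil) 8523792 [196,0,0,5,1] (.node .nil 8523808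
  [196,3,4,1,0] .nil)) 8523840 [196,6,3,3,3] (.node (.node .nil 8523904 [196,2,6,2,0] .nil) 8524032
  [196,0,4,3,3] .nil)) 8524288 [196,0,3,3,1] (.node (.node (.node .nil 8524800 [196,2,5,7,2] .nil)
  8525824 [196,0,5,2,1,0] (.node .nil 8527873 [196,1,0,1,3] .nil)) 8527874 [196,0,5,7,5] (.node
  (.node .nil 8527876 [196,0,7,0,0] .nil) 8527880 [196,5,2,6,4] .nil))) 8527888 [196,4,2,6,1] (.node
  (.node (.node (.node .nil 8527904 [196,2,5,5,0] .nil) 8527936 [196,5,6,4,3] (.node .nil 8528000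
  [356,4,6,0] .nil)) 8528128 [356,3,6,2] (.node (.node .nil 8528384 [356,3,3] .nil) 8528896
  [196,2,5,6,3] .nil)) 8529920 [196,2,0,1,1] (.node (.node (.node .nil 8531968 [196,4,6,0,3] .nil)
  8536065 [324,6,0] .nil) 8536066 [324,1,4,4] (.node (.node .nil 8536068 [324,3,2,6] .nil) 8536072
  [356,6,0] .nil)))))) 8536080 [196,0,0,7] (.node (.node (.node (.node (.node (.node (.node .nil
  8536096 [356,7,6,3] .nil) 8536128 [196,7,4,7] (.node .nil 8536192 [196,5,6,4,2] .nil)) 8536320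
  [196,5,2,5,4] (.node (.node .nil 8536576 [196,5,6,2,0] .nil) 8537088 [196,0,1,3,1] .nil)) 8538112
  [196,0,4,3,1] (.node (.node (.node .nil 8540160 [196,3,5,0] .nil) 8544256 [196,2,7,3,0] (.node .nil
  8552449 [196,6,2,3,3] .nil)) 8552450 [196,5,5,7,5] (.node (.node .nil 8552452 [196,6,6,4] .nil)
  8552456 [196,0,6,3,5] .nil))) 8552464 [356,4,5] (.node (.node (.node (.node .nil 8552480
  [196,0,3,7,0] .nil) 8552512 [196,3,7,4,1] (.node .nil 8552576 [196,0,7] .nil)) 8552704 [196,0,1,0]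
  (.node (.node .nil 8552960 [196,2,0,1,2] .nil) 8553472 [196,3,4,0] .nil)) 8554496 [356,0,7] (.node
  (.node (.node .nil 8556544 [196,3,6] .nil) 8560640 [196,7,6,4,1] (.node .nil 8568832 [196,6,2,2,2]
  .nil)) 8585217 [196,7,6,4] (.node (.node .nil 8585218 [196,7,7,5,1] .nil) 8585220 [196,3,1,4]
  .nil)))) 8585224 [196,0,6,3] (.node (.node (.node (.node (.node .nil 8585232 [196,7,4,0,1] .nil)
  8585248 [196,3,3,7,0] (.node .nil 8585280 [356,7,3,0] .nil)) 8585344 [196,0,5,0] (.node (.node .nil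
  8585472 [196,0,0,0,3] .nil) 8585728 [196,4,0,2,0] .nil)) 8586240 [356,5,0,2] (.node (.node (.node
  .nil 8587264 [196,1,2,2,6] .nil) 8589312 [196,1,5,3,6] (.node .nil 8593408 [196,2,4,0,2] .nil))
  8601600 [196,7,3,2,6] (.node (.node .nil 8617984 [196,6,1] .nil) 8650755 [356,7,0,1] .nil)))
  8650757 [356,6,6,0] (.node (.node (.node (.node .nil 8650758 [356,6,2] .nil) 8650761 [196,3,6,6,1]
  (.node .nil 8650762 [196,6,2,2,0] .nil)) 8650764 [196,4,1,2,0] (.node (.node .nil 8650769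
  [196,1,0,3,0] .nil) 8650770 [196,4,5,2,1] .nil)) 8650772 [196,2,3,3,3] (.node (.node (.node .nil
  8650776 [196,6,1,7,0] .nil) 8650785 [196,3,7,3] .nil) 8650786 [196,1,2,3,4] (.node (.node .nil
  8650788 [196,7,6,0] .nil) 8650792 [196,2,3] .nil))))) 8650800 [356,1,2,6] (.node (.node (.node
  (.node (.node (.node .nil 8650817 [196,3,3,5,1] .nil) 8650818 [196,7,5,6] (.node .nil 8650820
  [196,3,6,3,0] .nil)) 8650824 [196,6,1,6,4] (.node (.node .nil 8650832 [196,4,4,6] .nil) 8650848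
  [196,4,1] .nil)) 8650881 [196,7] (.node (.node (.node .nil 8650882 [196,3,1,7,1,0] .nil) 8650884
  [196,7,5,3] (.node .nil 8650888 [196,6,5] .nil)) 8650896 [196,2,5,3,2] (.node (.node .nil 8650912
  [196,7,6,2] .nil) 8650944 [196,3,0,0] .nil))) 8651009 [324,5,6] (.node (.node (.node (.node .nil
  8651010 [324,6,7,0] .nil) 8651012 [324,7,1,1] (.node .nil 8651016 [196,2,0,6] .nil)) 8651024
  [196,0,0,3,1] (.node (.node .nil 8651040 [196,2,2,0,3] .nil) 8651072 [196,0,3,5] .nil)) 8651136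
  [196,0,2,3,1] (.node (.node (.node .nil 8651265 [196,2,7,0,2] .nil) 8651266 [196,0,6,0,4,0] (.node
  .nil 8651268 [196,1,1,0,3] .nil)) 8651272 [196,0,0,5,0] (.node (.node .nil 8651280 [356,4,7] .nil)
  8651296 [356,3,1,5] .nil)))) 8651328 [196,4,0,1,1] (.node (.node (.node (.node (.node .nil 8651392
  [196,3,7,0] .nil) 8651520 [196,1,3,4,0] (.node .nil 8651777 [196,1,7,1] .nil)) 8651778
  [196,5,3,3,4] (.node (.node .nil 8651780 [196,4,1,3,0] .nil) 8651784 [196,6,6,3,3] .nil)) 8651792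
  [196,0,0] (.node (.node (.node .nil 8651808 [196,6,2,3,7] .nil) 8651840 [356,0,1,0] (.node .nil
  8651904 [196,6,2,7] .nil)) 8652032 [196,1,1,0,0] (.node (.node .nil 8652288 [196,4,6,4,1] .nil)
  8652801 [324,0,1] .nil))) 8652802 [324,1,0] (.node (.node (.node (.node .nil 8652804 [324,7,6]
  .nil) 8652808 [196,2,6,4,0] (.node .nil 8652816 [196,7,0,1,1] .nil)) 8652832 [196,4,5,5] (.node
  (.node .nil 8652864 [196,1,6,0,2] .nil) 8652928 [196,4,4,3,0] .nil)) 8653056 [356,1,7,6] (.node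
  (.node (.node .nil 8653312 [196,3,6,0] .nil) 8653824 [196,5,3,1] .nil) 8654849 [324,5,1,1] (.node
  (.node .nil 8654850 [324,7,2,0] .nil) 8654852 [324,6,2] .nil))))))))) 8654856 [196,5,6,7,5] (.node
  (.node (.node (.node (.node (.node (.node (.node (.node (.node .nil 8654864 [196,4,4,7] .nil)
  8654880 [196,4,1,4] (.node .nil 8654912 [196,3,7,4,2] .nil)) 8654976 [196,6,4,6,4] (.node (.node
  .nil 8655104 [356,6,2,2] .nil) 8655360 [196,0,2,7,2] .nil)) 8655872 [196,5,1,7,0] (.node (.node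
  (.node .nil 8656896 [356,5,3,1] .nil) 8658945 [196,2,4,7,5] (.node .nil 8658946 [196,2,0,6,1]
  .nil)) 8658948 [196,3,2,5,2] (.node (.node .nil 8658952 [356,4,6,2] .nil) 8658960 [196,3,5,4,3]
  .nil))) 8658976 [196,4,3,3,0] (.node (.node (.node (.node .nil 8659008 [196,0,5,1] .nil) 8659072
  [196,2,2,4,0] (.node .nil 8659200 [196,6,2,2] .nil)) 8659456 [196,6,5,1,0] (.node (.node .nil
  8659968 [196,6,0,1,2,0] .nil) 8660992 [196,0,4,0,0] .nil)) 8663040 [196,5,2,1,0] (.node (.node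
  (.node .nil 8667137 [196,7,2] .nil) 8667138 [196,2,5,1,2] (.node .nil 8667140 [196,1,3,2,3] .nil))
  8667144 [196,0,2,1,0] (.node (.node .nil 8667152 [196,5,1,0] .nil) 8667168 [196,1,4,2,1] .nil))))
  8667200 [196,3,7,4,0] (.node (.node (.node (.node (.node .nil 8667264 [356,0,5] .nil) 8667392
  [196,4,6,5] (.node .nil 8667648 [196,5,0,6,0] .nil)) 8668160 [196,1,2,5] (.node (.node .nil 8669184
  [196,2,5,1] .nil) 8671232 [196,6,5,2,3] .nil)) 8675328 [196,6,4,6,0] (.node (.node (.node .nil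
  8683521 [196,6,3,5,0] .nil) 8683522 [196,0,6,3,4] (.node .nil 8683524 [196,5,6,2,1] .nil)) 8683528
  [196,3,1,6,0] (.node (.node .nil 8683536 [196,3,2,1] .nil) 8683552 [196,2,3,3,1] .nil))) 8683584
  [196,0,4,5,3] (.node (.node (.node (.node .nil 8683648 [356,4,2,0,0] .nil) 8683776 [196,5,4,6,0]
  (.node .nil 8684032 [196,3,3,6,2] .nil)) 8684544 [196,1,7,7,0,0] (.node (.node .nil 8685568
  [196,2,0,7,0] .nil) 8687616 [196,2,0,4,1] .nil)) 8691712 [196,2,5,4] (.node (.node (.node .nil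
  8699904 [356,0,4,2] .nil) 8716289 [196,1,0,0,0] (.node .nil 8716290 [196,4,3,7,1] .nil)) 8716292
  [196,7,5,4] (.node (.node .nil 8716296 [196,4,6,0,6] .nil) 8716304 [196,6,7,7] .nil))))) 8716320
  [196,6,2,4,1] (.node (.node (.node (.node (.node (.node .nil 8716352 [356,6,4] .nil) 8716416
  [196,2,4,6,4] (.node .nil 8716544 [196,5,7,4,1] .nil)) 8716800 [196,2,1,4,5] (.node (.node .nil
  8717312 [356,4,4] .nil) 8718336 [196,1,6,0] .nil)) 8720384 [196,6,5,2,4] (.node (.node (.node .nil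
  8724480 [196,6,6,1,1] .nil) 8732672 [196,4,2,3] (.node .nil 8749056 [196,0,7,1] .nil)) 8781825
  [196,0,4,5] (.node (.node .nil 8781826 [196,4,0,5,1] .nil) 8781828 [196,5,5,1] .nil))) 8781832
  [196,3,7,0,7] (.node (.node (.node (.node .nil 8781840 [196,3,7,0,0] .nil) 8781856 [196,7,0,3,2]
  (.node .nil 8781888 [356,2,0,0,0] .nil)) 8781952 [196,5,4,0,0] (.node (.node .nil 8782080
  [196,2,1,0,0] .nil) 8782336 [196,4,2,1,4] .nil)) 8782848 [356,0,7,2] (.node (.node (.node .nil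
  8783872 [196,3,5,4] .nil) 8785920 [196,6,6,1,0] (.node .nil 8790016 [196,1,2,1,4,0] .nil)) 8798208
  [196,0,3,6] (.node (.node .nil 8814592 [196,4,4,0,1] .nil) 8847360 [356,6,5,0] .nil)))) 8912899
  [356,6,2,0] (.node (.node (.node (.node (.node .nil 8912901 [356,0,0,5] .nil) 8912902 [356,3]
  (.node .nil 8912905 [196,7,4,3,0] .nil)) 8912906 [196,6,6,3,1] (.node (.node .nil 8912908
  [196,2,0,5,1] .nil) 8912913 [196,4,4,2] .nil)) 8912914 [196,0,5,2] (.node (.node (.node .nil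
  8912916 [196,6,1,5] .nil) 8912920 [196,4,3,4,0] (.node .nil 8912929 [196,7,6,6] .nil)) 8912930
  [196,0,2,1] (.node (.node .nil 8912932 [196,1,3,3] .nil) 8912936 [196,6,5,0] .nil))) 8912944
  [356,4,2] (.node (.node (.node (.node .nil 8912961 [324,1,4] .nil) 8912962 [324,4,0,0] (.node .nil
  8912964 [324,3] .nil)) 8912968 [196,4,3,6,6] (.node (.node .nil 8912976 [196,0,5] .nil) 8912992
  [196,6,3,1,0] .nil)) 8913025 [324,5,2] (.node (.node (.node .nil 8913026 [324,6,5,1] .nil) 8913028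
  [324,2,1] .nil) 8913032 [196,0,2,4] (.node (.node .nil 8913040 [196,5,4,6,1] .nil) 8913056
  [196,7,5,4,0] .nil)))))) 8913088 [356,2,1] (.node (.node (.node (.node (.node (.node (.node .nil
  8913153 [196,0,4,2,6] .nil) 8913154 [196,2,3,5] (.node .nil 8913156 [196,7,1,6,1] .nil)) 8913160
  [356,5,7,0] (.node (.node .nil 8913168 [196,1,3,5,1] .nil) 8913184 [196,3,1,1,0] .nil)) 8913216
  [196,0,4,6,1] (.node (.node (.node .nil 8913280 [196,7,0,0] .nil) 8913409 [196,4,4] (.node .nil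
  8913410 [196,5,1,2,1] .nil)) 8913412 [196,4,4,5,3] (.node (.node .nil 8913416 [196,0,6,1] .nil)
  8913424 [356,4,7,6] .nil))) 8913440 [356,4,3,1] (.node (.node (.node (.node .nil 8913472 [196,0]
  .nil) 8913536 [196,4,7,3,4] (.node .nil 8913664 [196,1,6,1] .nil)) 8913921 [196,4,2,0,5] (.node
  (.node .nil 8913922 [196,5,4,5,1] .nil) 8913924 [196,4,1,1,1] .nil)) 8913928 [196,7,7,4] (.node
  (.node (.node .nil 8913936 [196,2,0,2,6] .nil) 8913952 [196,2,6,3] (.node .nil 8913984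
  [196,7,2,2,1] .nil)) 8914048 [196,4,1,7,2] (.node (.node .nil 8914176 [196,0,1,4,0] .nil) 8914432
  [196,3,3,4,0] .nil)))) 8914945 [196,5,3,1,0] (.node (.node (.node (.node (.node .nil 8914946
  [196,0,1,2,4] .nil) 8914948 [196,2,1,2,3] (.node .nil 8914952 [196,0,3,4,4] .nil)) 8914960
  [196,4,2,2,0] (.node (.node .nil 8914976 [196,1,1,1,1] .nil) 8915008 [196,1,6,1,0] .nil)) 8915072
  [196,1,2,3,0] (.node (.node (.node .nil 8915200 [196,3,4,7,0] .nil) 8915456 [196,3,5,5] (.node .nil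
  8915968 [356,1,5,0] .nil)) 8916993 [196,5,1,1] (.node (.node .nil 8916994 [196,3,2,3,2] .nil)
  8916996 [196,0,0,1,1] .nil))) 8917000 [196,5,7,2,3,0] (.node (.node (.node (.node .nil 8917008
  [196,0,3,2,3,0] .nil) 8917024 [196,7,2,1] (.node .nil 8917056 [196,3,3,3,2] .nil)) 8917120
  [196,1,2,0,0] (.node (.node .nil 8917248 [196,4,6,6] .nil) 8917504 [196,4,7,6] .nil)) 8918016
  [196,4,6,7] (.node (.node (.node .nil 8919040 [196,6,3,0] .nil) 8921089 [196,2,4,7,7] (.node .nil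
  8921090 [196,4,0,4,4] .nil)) 8921092 [196,4,4,6,0] (.node (.node .nil 8921096 [196,4,6,1,1] .nil)
  8921104 [196,2,7,1] .nil))))) 8921120 [196,5,3,1,3] (.node (.node (.node (.node (.node (.node .nil
  8921152 [196,3,1,3,1] .nil) 8921216 [196,3,7,1,0] (.node .nil 8921344 [196,4,5,3,1] .nil)) 8921600
  [196,4,4,6,2] (.node (.node .nil 8922112 [356,6,3,5] .nil) 8923136 [356,4,2,3] .nil)) 8925184
  [196,2,0,0] (.node (.node (.node .nil 8929281 [196,4,5,2] .nil) 8929282 [196,3,1,5,1] (.node .nil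
  8929284 [196,3,5,3,1] .nil)) 8929288 [196,4,5,2,2] (.node (.node .nil 8929296 [196,3,5,1,1] .nil)
  8929312 [196,0,0,6,0] .nil))) 8929344 [196,6,6,5,2] (.node (.node (.node (.node .nil 8929408
  [196,1,3,0] .nil) 8929536 [196,4,5,1,3] (.node .nil 8929792 [196,7,4,4,3] .nil)) 8930304
  [356,4,5,1] (.node (.node .nil 8931328 [356,4,3,2] .nil) 8933376 [196,0,3,7,3] .nil)) 8937472
  [356,4] (.node (.node (.node .nil 8945665 [196,3,1,6,1,0] .nil) 8945666 [196,3,2,6] (.node .nil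
  8945668 [196,4,1,4,0] .nil)) 8945672 [356,7,7,6] (.node (.node .nil 8945680 [196,3,1,3] .nil)
  8945696 [196,5,5,3] .nil)))) 8945728 [196,5,0,1,3] (.node (.node (.node (.node (.node .nil 8945792
  [196,7,6,3,0] .nil) 8945920 [356,3,3,7,0] (.node .nil 8946176 [196,5,3,4] .nil)) 8946688
  [196,4,6,1,2] (.node (.node .nil 8947712 [196,4,1,6] .nil) 8949760 [196,7,3,7] .nil)) 8953856
  [196,4,4,3,2] (.node (.node (.node .nil 8962048 [196,0,6,2,0] .nil) 8978433 [196,3,2,4] (.node .nil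
  8978434 [196,7,6,5] .nil)) 8978436 [196,1,1,1,0] (.node (.node .nil 8978440 [356,4,5,2,1] .nil)
  8978448 [196,0,5,5] .nil))) 8978464 [196,7,0,2,4] (.node (.node (.node (.node .nil 8978496
  [196,7,1,6] .nil) 8978560 [196,6,2,0,1] (.node .nil 8978688 [356,6,7] .nil)) 8978944 [196,2] (.node
  (.node .nil 8979456 [196,0,1,2,2] .nil) 8980480 [196,0,6,5,4] .nil)) 8982528 [196,1,2,7,1] (.node
  (.node (.node .nil 8986624 [196,6,0,7,1] .nil) 8994816 [196,0,7,6,3] .nil) 9011200 [356,6,1] (.node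
  (.node .nil 9043969 [196,6,1,2,4] .nil) 9043970 [196,2,2,0,0] .nil))))))) 9043972 [196,3,3,0,1]
  (.node (.node (.node (.node (.node (.node (.node (.node .nil 9043976 [196,6,4,1,0] .nil) 9043984
  [196,0,6,7,3] (.node .nil 9044000 [196,1,2,2] .nil)) 9044032 [196,4,0,6,0] (.node (.node .nil
  9044096 [196,0,6] .nil) 9044224 [196,4,0,7,0] .nil)) 9044480 [196,3,7,6,5] (.node (.node (.node
  .nil 9044992 [196,5,2,2] .nil) 9046016 [196,2,1,6,5] (.node .nil 9048064 [356,1,6] .nil)) 9052160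
  [196,4,4,5,5] (.node (.node .nil 9060352 [196,6,2,4,0] .nil) 9076736 [196,7,3,1,0] .nil))) 9109504
  [196,6,1,1,2,0] (.node (.node (.node (.node .nil 9175041 [196,4,7,2] .nil) 9175042 [196,7,2,6,0]
  (.node .nil 9175044 [196,0,5,1,0] .nil)) 9175048 [196,3,2,6,3] (.node (.node .nil 9175056
  [356,6,5,5] .nil) 9175072 [356,2,4,5] .nil)) 9175104 [196,6,1,3,0] (.node (.node (.node .nil
  9175168 [196,4,5,6] .nil) 9175296 [196,1] (.node .nil 9175552 [356,7,4,2] .nil)) 9176064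
  [196,2,7,2] (.node (.node .nil 9177088 [196,7,0,5,2] .nil) 9179136 [196,7,3,6] .nil)))) 9183232
  [196,6,0,0,0] (.node (.node (.node (.node (.node .nil 9191424 [196,6,2,6,6] .nil) 9207808 [196,5,3]
  (.node .nil 9240576 [196,0,2,0,3] .nil)) 9306112 [196,4,5,3,4] (.node (.node .nil 9437187 [356,1]
  .nil) 9437189 [356,6,5,2] .nil)) 9437190 [356,2,5,0,0] (.node (.node (.node .nil 9437193
  [196,1,2,0] .nil) 9437194 [196,2,3,3,2] (.node .nil 9437196 [196,7,6,5,1] .nil)) 9437201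
  [196,3,6,3] (.node (.node .nil 9437202 [196,2,4,6,0] .nil) 9437204 [196,0,1,5,1,0] .nil))) 9437208
  [196,0,6,4,2] (.node (.node (.node (.node .nil 9437217 [196,3,6,4] .nil) 9437218 [196,0,4,7,0]
  (.node .nil 9437220 [196,3,2,3,3] .nil)) 9437224 [196,3,2,2,2] (.node (.node .nil 9437232
  [196,6,6,0,0] .nil) 9437249 [196,1,4,3,3] .nil)) 9437250 [196,6,6,1] (.node (.node (.node .nil
  9437252 [196,6,7,3,7,0] .nil) 9437256 [196,7,2,5,0] (.node .nil 9437264 [356,2,2,5] .nil)) 9437280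
  [196,5,3,5,5] (.node (.node .nil 9437313 [196,7,1,6,0] .nil) 9437314 [196,5,1,3,2] .nil)))))
  9437316 [196,6,2,1,4] (.node (.node (.node (.node (.node (.node .nil 9437320 [196,5,1,7] .nil)
  9437328 [196,2,1,4,2] (.node .nil 9437344 [356,4,2,0] .nil)) 9437376 [196,1,5,1] (.node (.node .nil
  9437441 [196,3,3,1] .nil) 9437442 [196,6,2,6] .nil)) 9437444 [196,0,4,1,0] (.node (.node (.node
  .nil 9437448 [196,7,2,6,1] .nil) 9437456 [356,3,7,3] (.node .nil 9437472 [196,7,7,2,1] .nil))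
  9437504 [356,4,3,6] (.node (.node .nil 9437568 [196,7,1,3,2] .nil) 9437697 [324,5,0] .nil)))
  9437698 [324,5,2,3] (.node (.node (.node (.node .nil 9437700 [324,0,4] .nil) 9437704 [196,6,4,3,2]
  (.node .nil 9437712 [196,2,1,4,0] .nil)) 9437728 [196,6,1,2,0] (.node (.node .nil 9437760
  [196,3,5,1] .nil) 9437824 [196,5,1,6] .nil)) 9437952 [196,5,2,4,0] (.node (.node (.node .nil
  9438209 [324,4,7] .nil) 9438210 [324,1] (.node .nil 9438212 [324,6,3] .nil)) 9438216 [196,6,4,0]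
  (.node (.node .nil 9438224 [196,0,4,5,0] .nil) 9438240 [196,4,2,7] .nil)))) 9438272 [196,4,5]
  (.node (.node (.node (.node (.node .nil 9438336 [196,2,2,2,0] .nil) 9438464 [196,0,0,1,0] (.node
  .nil 9438720 [356,6,4,0] .nil)) 9439233 [196,1,0,5,3] (.node (.node .nil 9439234 [196,3,1,6,5]
  .nil) 9439236 [196,6,1,1,1] .nil)) 9439240 [196,7,7,7,2,0] (.node (.node (.node .nil 9439248
  [196,7,6,3] .nil) 9439264 [356,4,3,3] (.node .nil 9439296 [196,5,1,2] .nil)) 9439360 [356,2,5,2]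
  (.node (.node .nil 9439488 [196,5,1,1,4] .nil) 9439744 [196,7,3,7,1] .nil))) 9440256 [196,7,5,0]
  (.node (.node (.node (.node .nil 9441281 [196,5,7,2] .nil) 9441282 [196,2,3,6] (.node .nil 9441284
  [196,1,6,2] .nil)) 9441288 [196,5,4,2,0] (.node (.node .nil 9441296 [196,6,4,4] .nil) 9441312
  [196,7,1,4] .nil)) 9441344 [196,0,5,3,0] (.node (.node (.node .nil 9441408 [196,1,7] .nil) 9441536
  [196,0,5,1,2] .nil) 9441792 [196,5,7,5] (.node (.node .nil 9442304 [196,1,7,4] .nil) 9443328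
  [196,3,2] .nil)))))) 9445377 [196,7,2,2,0] (.node (.node (.node (.node (.node (.node (.node .nil
  9445378 [196,2,6,1] .nil) 9445380 [196,5,0,7] (.node .nil 9445384 [356,3,2,1] .nil)) 9445392
  [196,6,7,6,0] (.node (.node .nil 9445408 [196,7,0,4] .nil) 9445440 [196,1,6,6,1] .nil)) 9445504
  [196,6,2,1] (.node (.node (.node .nil 9445632 [196,6,1,3] .nil) 9445888 [196,2,0,2,1,0] (.node .nil
  9446400 [196,2,5,3,0] .nil)) 9447424 [196,4,7,5,1] (.node (.node .nil 9449472 [196,3,0] .nil)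
  9453569 [196,4,2,1] .nil))) 9453570 [196,5,3,5,0] (.node (.node (.node (.node .nil 9453572
  [196,6,4,5,1] .nil) 9453576 [196,1,7,7] (.node .nil 9453584 [356,0,0,0] .nil)) 9453600 [196,2,2,0]
  (.node (.node .nil 9453632 [356,1,5,5] .nil) 9453696 [196,1,3,7] .nil)) 9453824 [356,2,4] (.node
  (.node (.node .nil 9454080 [196,6,0,7,7] .nil) 9454592 [196,3,2,3,0] (.node .nil 9455616
  [196,6,3,3] .nil)) 9457664 [196,2,7,5,1] (.node (.node .nil 9461760 [196,5,1,2,0] .nil) 9469953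
  [324,1,2] .nil)))) 9469954 [324,5,4,1] (.node (.node (.node (.node (.node .nil 9469956 [324,4,1,1]
  .nil) 9469960 [196,0,2,2,6] (.node .nil 9469968 [196,4,0,6,4] .nil)) 9469984 [196,4,4,1] (.node
  (.node .nil 9470016 [196,2,3,2] .nil) 9470080 [196,3,1,0,0] .nil)) 9470208 [196,1,3,5,2] (.node
  (.node (.node .nil 9470464 [356,0,0,6] .nil) 9470976 [356,1,2] (.node .nil 9472000 [196,6,1,0,0]
  .nil)) 9474048 [196,6,3,1,1] (.node (.node .nil 9478144 [196,1,2] .nil) 9486336 [196,2,7,7] .nil)))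
  9502721 [196,5,6,3] (.node (.node (.node (.node .nil 9502722 [196,3,6,6] .nil) 9502724
  [196,1,7,3,0] (.node .nil 9502728 [196,1,0,0,1] .nil)) 9502736 [196,3,6,3,2] (.node (.node .nil
  9502752 [356,4,6,1] .nil) 9502784 [196,7,5,0,3] .nil)) 9502848 [356,5,3,0] (.node (.node (.node
  .nil 9502976 [196,5,4,0,5] .nil) 9503232 [196,3,7,6,4] .nil) 9503744 [196,3,6,6,5] (.node (.node
  .nil 9504768 [356,1,2,4] .nil) 9506816 [196,5,1,0,3] .nil))))) 9510912 [196,2,2,2,1] (.node (.node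
  (.node (.node (.node (.node .nil 9519104 [196,1,4,1] .nil) 9535488 [196,6,2,7,2] (.node .nil
  9568257 [196,3,5,6,0] .nil)) 9568258 [196,5,5,5,0] (.node (.node .nil 9568260 [196,6,6,2,3] .nil)
  9568264 [196,2,5,7,6] .nil)) 9568272 [196,4,4,1,2,0] (.node (.node (.node .nil 9568288
  [196,1,1,5,0] .nil) 9568320 [196,0,5,1,1] (.node .nil 9568384 [196,4,6,4,4] .nil)) 9568512
  [196,1,6,6] (.node (.node .nil 9568768 [196,6,2,0,0] .nil) 9569280 [196,1,4,1,0] .nil))) 9570304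
  [196,6,2,1,0] (.node (.node (.node (.node .nil 9572352 [356,2,4,2] .nil) 9576448 [196,0,3,7,0,0]
  (.node .nil 9584640 [196,2,2,4,6] .nil)) 9601024 [196,0,1,2] (.node (.node .nil 9633792
  [196,3,6,5,0] .nil) 9699329 [196,2,4,7] .nil)) 9699330 [196,7,4,7,0] (.node (.node (.node .nil
  9699332 [196,1,7,2,0] .nil) 9699336 [356,2,7] (.node .nil 9699344 [196,0,4,6] .nil)) 9699360
  [196,7,5,5] (.node (.node .nil 9699392 [196,0,0,3,3] .nil) 9699456 [196,4,6,3,1] .nil)))) 9699584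
  [196,4,6] (.node (.node (.node (.node (.node .nil 9699840 [196,5,2,1,1] .nil) 9700352 [196,7,2,1,1]
  (.node .nil 9701376 [196,3,5,0,6] .nil)) 9703424 [196,1,7,4,2] (.node (.node .nil 9707520 [356,5,1]
  .nil) 9715712 [196,1,0,4,2] .nil)) 9732096 [196,1,1,1] (.node (.node (.node .nil 9764864
  [196,7,3,2,1,0] .nil) 9830400 [196,2,5,0,1] (.node .nil 9961473 [196,2,3,4] .nil)) 9961474
  [196,6,3,2,0] (.node (.node .nil 9961476 [196,1,6,2,2] .nil) 9961480 [196,6,6] .nil))) 9961488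
  [196,7,7,2] (.node (.node (.node (.node .nil 9961504 [196,3,3,0,5] .nil) 9961536 [196,0,6,7,0]
  (.node .nil 9961600 [196,2,1] .nil)) 9961728 [196,4,3,4] (.node (.node .nil 9961984 [196,1,3,1,4]
  .nil) 9962496 [196,7,4,6,1] .nil)) 9963520 [196,3,1,3,0,0] (.node (.node (.node .nil 9965568
  [356,2,5] .nil) 9969664 [196,1,4,4] .nil) 9977856 [196,1,6,4] (.node (.node .nil 9994240
  [196,0,2,6,1] .nil) 10027008 [196,2,5,3] .nil)))))))) 10092544 [356,1,6,6] (.node (.node (.node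
  (.node (.node (.node (.node (.node (.node .nil 10223616 [196,1,3,1] .nil) 10485763 [356,3,2] (.node
  .nil 10485765 [356,3,6,0] .nil)) 10485766 [356,0,4,3] (.node (.node .nil 10485769 [196,7,4,0,0]
  .nil) 10485770 [196,4,5,0,1] .nil)) 10485772 [196,6,4,2,6] (.node (.node (.node .nil 10485777
  [196,1,3,3,3] .nil) 10485778 [196,1,3,1,5] (.node .nil 10485780 [196,6,5,3,5] .nil)) 10485784
  [196,7,0,3] (.node (.node .nil 10485793 [196,5,2,1] .nil) 10485794 [196,2,4,7,1] .nil))) 10485796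
  [196,0,5,3,1] (.node (.node (.node (.node .nil 10485800 [196,0,5,6,3] .nil) 10485808 [196,7,0,1,2]
  (.node .nil 10485825 [324,7,1] .nil)) 10485826 [324,6,7] (.node (.node .nil 10485828 [324,4,2]
  .nil) 10485832 [196,2,0,3] .nil)) 10485840 [196,5,5,4,1] (.node (.node (.node .nil 10485856
  [196,1,0,0] .nil) 10485889 [324,6,1,1] (.node .nil 10485890 [324,6,6] .nil)) 10485892 [324,3,6,0]
  (.node (.node .nil 10485896 [196,6,5,4] .nil) 10485904 [196,6,5,3] .nil)))) 10485920 [196,3,5,2,6]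
  (.node (.node (.node (.node (.node .nil 10485952 [356,7,0,4] .nil) 10486017 [196,1,6,5] (.node .nil
  10486018 [196,2,0,2] .nil)) 10486020 [196,4,2] (.node (.node .nil 10486024 [196,1,2,3] .nil)
  10486032 [196,7,1,1,1] .nil)) 10486048 [356,1,1,0] (.node (.node (.node .nil 10486080 [196,6,4,7,0]
  .nil) 10486144 [196,4,2,2] (.node .nil 10486273 [196,0,2,0,0] .nil)) 10486274 [196,4,2,6] (.node
  (.node .nil 10486276 [196,5,7,5,1] .nil) 10486280 [196,4,4,1,0] .nil))) 10486288 [196,6,6,2] (.node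
  (.node (.node (.node .nil 10486304 [196,1,1,0] .nil) 10486336 [196,5,5,5,4] (.node .nil 10486400
  [196,6,6,0] .nil)) 10486528 [196,4,1,3] (.node (.node .nil 10486785 [196,7,0,6,6] .nil) 10486786
  [196,7,7,1,6] .nil)) 10486788 [196,5,3,6,1] (.node (.node (.node .nil 10486792 [196,1,1,2,1] .nil)
  10486800 [196,3,0,1,2,0] (.node .nil 10486816 [356,7,6,4] .nil)) 10486848 [196,6,1,1,3] (.node
  (.node .nil 10486912 [196,6,6,4,3] .nil) 10487040 [356,0,6,2] .nil))))) 10487296 [196,4,4,0,0]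
  (.node (.node (.node (.node (.node (.node .nil 10487809 [196,1,4,4,5] .nil) 10487810 [196,6,7,3,3]
  (.node .nil 10487812 [196,3,7,4,7] .nil)) 10487816 [196,3,0,3,1] (.node (.node .nil 10487824
  [356,5,6,2] .nil) 10487840 [196,3,6,1,2] .nil)) 10487872 [196,1,1,2,0] (.node (.node (.node .nil
  10487936 [196,7,4,0,3,0] .nil) 10488064 [196,2,0] (.node .nil 10488320 [196,4,1,1,2] .nil))
  10488832 [196,6,0,0,1] (.node (.node .nil 10489857 [196,0,1,1,2] .nil) 10489858 [196,1,1,4] .nil)))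
  10489860 [196,0,3,4] (.node (.node (.node (.node .nil 10489864 [196,3,2,6,6] .nil) 10489872
  [196,4,7,1] (.node .nil 10489888 [196,2,2,1,4] .nil)) 10489920 [196,5,0,3,2] (.node (.node .nil
  10489984 [196,0,4,7] .nil) 10490112 [196,7,3,3] .nil)) 10490368 [356,0,6] (.node (.node (.node .nil
  10490880 [196,4,0,4,0] .nil) 10491904 [196,1,1,4,2] (.node .nil 10493953 [196,1,0,3,1] .nil))
  10493954 [196,7,7,7,1] (.node (.node .nil 10493956 [196,7,0,2] .nil) 10493960 [356,1,7,2,1]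
  .nil)))) 10493968 [196,3,1,5,0] (.node (.node (.node (.node (.node .nil 10493984 [196,4,3,1,1]
  .nil) 10494016 [196,6,5,6] (.node .nil 10494080 [196,6,3,1,4] .nil)) 10494208 [196,0,1,0,0] (.node
  (.node .nil 10494464 [196,6,3,2] .nil) 10494976 [196,3,5,5,2] .nil)) 10496000 [196,5,4,2,2] (.node
  (.node (.node .nil 10498048 [196,1,1] .nil) 10502145 [196,4,3,7] (.node .nil 10502146 [196,4,6,4]
  .nil)) 10502148 [196,0,6,6,0] (.node (.node .nil 10502152 [196,2,3,0,1] .nil) 10502160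
  [196,7,1,3,0] .nil))) 10502176 [196,1,6,3,5] (.node (.node (.node (.node .nil 10502208
  [196,2,7,4,2] .nil) 10502272 [196,1,5,2,1] (.node .nil 10502400 [196,2,5,2,0,0] .nil)) 10502656
  [356,1,7] (.node (.node .nil 10503168 [196,4,3,0] .nil) 10504192 [196,2,7] .nil)) 10506240
  [356,6,7,0] (.node (.node (.node .nil 10510336 [196,1,4,6] .nil) 10518529 [196,1,6] .nil) 10518530
  [196,2,4,2,3] (.node (.node .nil 10518532 [196,7,7,6,7] .nil) 10518536 [196,5,6,0,2] .nil))))))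
  10518544 [356,5,2,2] (.node (.node (.node (.node (.node (.node (.node .nil 10518560 [196,5,1,3,1]
  .nil) 10518592 [196,7,1] (.node .nil 10518656 [196,6,5,0,6] .nil)) 10518784 [196,7,4,5,1] (.node
  (.node .nil 10519040 [196,5,0,1,1] .nil) 10519552 [196,6,0,4,6] .nil)) 10520576 [356,4,0,0] (.node
  (.node (.node .nil 10522624 [196,0,2,6] .nil) 10526720 [196,5,4,0,2] (.node .nil 10534912
  [196,4,1,2,1,0] .nil)) 10551297 [196,7,7,0] (.node (.node .nil 10551298 [196,6,0,5,2] .nil)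
  10551300 [196,5,6,5] .nil))) 10551304 [196,3,6,2,0] (.node (.node (.node (.node .nil 10551312
  [196,0,7,6,2] .nil) 10551328 [196,5,1,4,4] (.node .nil 10551360 [196,6,2,6,0] .nil)) 10551424
  [196,0,7,7,4] (.node (.node .nil 10551552 [196,5,1,3,1,0] .nil) 10551808 [356,4,0] .nil)) 10552320
  [196,2,3,2,7] (.node (.node (.node .nil 10553344 [196,0,7,7] .nil) 10555392 [356,5,1,0] (.node .nil
  10559488 [196,6,0,2,1] .nil)) 10567680 [356,4,3,0] (.node (.node .nil 10584064 [196,2,3,4,1] .nil)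
  10616833 [196,4,3,6,1] .nil)))) 10616834 [196,3,2,2,0] (.node (.node (.node (.node (.node .nil
  10616836 [196,0,4,3] .nil) 10616840 [196,0,3,6,6] (.node .nil 10616848 [356,1,3,5] .nil)) 10616864
  [196,1,1,7] (.node (.node .nil 10616896 [196,2,6,1,1] .nil) 10616960 [196,4,0,0,1] .nil)) 10617088
  [196,5,6,1,2] (.node (.node (.node .nil 10617344 [196,1,6,2,3] .nil) 10617856 [196,3,6,3,3] (.node
  .nil 10618880 [356,2,5,0] .nil)) 10620928 [196,1,3,3,0] (.node (.node .nil 10625024 [196,5,4,4,0]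
  .nil) 10633216 [196,2,6,2] .nil))) 10649600 [356,1,4,2] (.node (.node (.node (.node .nil 10682368
  [196,7,7,7] .nil) 10747905 [196,0,6,7] (.node .nil 10747906 [196,1,1,2,3] .nil)) 10747908
  [196,3,2,6,2] (.node (.node .nil 10747912 [356,7,2,3] .nil) 10747920 [196,1,2,2,1] .nil)) 10747936
  [196,0,6,0] (.node (.node (.node .nil 10747968 [196,7,0,4,3] .nil) 10748032 [196,1,0,5,1] (.node
  .nil 10748160 [196,6,2,1,1] .nil)) 10748416 [196,7,5,0,1] (.node (.node .nil 10748928 [196,3,2,7]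
  .nil) 10749952 [196,0,7,0] .nil))))) 10752000 [196,5,7,6] (.node (.node (.node (.node (.node (.node
  .nil 10756096 [356,0,6,0] .nil) 10764288 [196,6,0,3,1] (.node .nil 10780672 [196,6,2,3,1] .nil))
  10813440 [196,4,4,3] (.node (.node .nil 10878976 [196,3,5] .nil) 11010049 [324,0,2,0] .nil))
  11010050 [324,5,0,0] (.node (.node (.node .nil 11010052 [324,2,3,1] .nil) 11010056 [196,1,6,0,4,0]
  (.node .nil 11010064 [196,6] .nil)) 11010080 [196,4,6,6,3] (.node (.node .nil 11010112 [356,5,0,0]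
  .nil) 11010176 [356,7,2,4] .nil))) 11010304 [196,2,0,5] (.node (.node (.node (.node .nil 11010560
  [196,6,4,5,4] .nil) 11011072 [196,4,1,2] (.node .nil 11012096 [196,3,2,1,1] .nil)) 11014144
  [196,5,0,0] (.node (.node .nil 11018240 [196,0,2,5] .nil) 11026432 [196,0,3,5,6] .nil)) 11042816
  [196,6,2] (.node (.node (.node .nil 11075584 [196,1,7,2] .nil) 11141120 [196,7,1,7,0] (.node .nil
  11272192 [196,5,0,4,3] .nil)) 11534337 [196,4,3,5,0] (.node (.node .nil 11534338 [196,4,0,3,3]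
  .nil) 11534340 [196,3,3,5,0] .nil)))) 11534344 [356,7,0] (.node (.node (.node (.node (.node .nil
  11534352 [196,5,1,0,0] .nil) 11534368 [196,0,4,6,0] (.node .nil 11534400 [196,1,1,3,0] .nil))
  11534464 [196,6,0,6,0,0] (.node (.node .nil 11534592 [196,4,6,6,1] .nil) 11534848 [196,7,4,3,1]
  .nil)) 11535360 [196,5,2,7,3] (.node (.node (.node .nil 11536384 [196,3,2,3,1] .nil) 11538432
  [196,2,6,3,2] (.node .nil 11542528 [356,5] .nil)) 11550720 [196,5] (.node (.node .nil 11567104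
  [196,5,7,3] .nil) 11599872 [196,3,7,6] .nil))) 11665408 [196,5,0,4] (.node (.node (.node (.node
  .nil 11796480 [356,2,4,0] .nil) 12058624 [196,5,0,4,4] (.node .nil 12582915 [356,0,7,0] .nil))
  12582917 [356,7,0,0] (.node (.node .nil 12582918 [356,1,5,2] .nil) 12582921 [196,7,1,4,6] .nil))
  12582922 [196,3,0,2] (.node (.node (.node .nil 12582924 [196,1,5,1,1] .nil) 12582929 [324,7,0,0]
  .nil) 12582930 [324,2,6] (.node (.node .nil 12582932 [324,0,6,7] .nil) 12582936 [196,2,3,4,0]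
  .nil))))))) 12582945 [196,2,7,6,0] (.node (.node (.node (.node (.node (.node (.node (.node .nil
  12582946 [196,0,3,5,0] .nil) 12582948 [196,0,7,5,0] (.node .nil 12582952 [196,4,6,1,5] .nil))
  12582960 [196,5,3,0,6] (.node (.node .nil 12582977 [196,4,7,5,3] .nil) 12582978 [196,3,0,5] .nil))
  12582980 [196,4,5,1,1] (.node (.node (.node .nil 12582984 [356,1,1,2] .nil) 12582992
  [196,3,6,3,1,0] (.node .nil 12583008 [196,6,1,4,0] .nil)) 12583041 [196,6,2,5,2] (.node (.node .nil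
  12583042 [196,5,2,6,1] .nil) 12583044 [196,0,5,6,0] .nil))) 12583048 [196,1,2,4,5] (.node (.node
  (.node (.node .nil 12583056 [196,7,7,7,0] .nil) 12583072 [196,2,7,7,0] (.node .nil 12583104
  [196,5,3,6] .nil)) 12583169 [196,2,4,0,0] (.node (.node .nil 12583170 [196,7,4,2,1] .nil) 12583172
  [196,2,7,7,4] .nil)) 12583176 [196,2,0,4,0] (.node (.node (.node .nil 12583184 [196,4,7,1,0] .nil)
  12583200 [356,5,7] (.node .nil 12583232 [196,3,5,2] .nil)) 12583296 [196,2,3,0] (.node (.node .nil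
  12583425 [196,1,1,4,0] .nil) 12583426 [196,7,3,6,0] .nil)))) 12583428 [196,1,6,0,3] (.node (.node
  (.node (.node (.node .nil 12583432 [356,6,3] .nil) 12583440 [196,2,2,7,1] (.node .nil 12583456
  [196,0,7,6] .nil)) 12583488 [356,4,0,2] (.node (.node .nil 12583552 [196,0,2,3,2] .nil) 12583680
  [196,1,0,1,0] .nil)) 12583937 [196,1,4,5,3] (.node (.node (.node .nil 12583938 [196,1,3,0,0] .nil)
  12583940 [196,1,0,3,3] (.node .nil 12583944 [196,2,5,5] .nil)) 12583952 [196,5,4,2] (.node (.node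
  .nil 12583968 [356,1,0,5] .nil) 12584000 [196,5,3,4,0] .nil))) 12584064 [196,0,2,0] (.node (.node
  (.node (.node .nil 12584192 [356,6,2,0,0] .nil) 12584448 [196,7,6,7] (.node .nil 12584961
  [196,3,3,6] .nil)) 12584962 [196,7,2,3,0] (.node (.node .nil 12584964 [196,0,1,1,4] .nil) 12584968
  [356,0,6,4] .nil)) 12584976 [196,7,3,0] (.node (.node (.node .nil 12584992 [196,1,0,2,5] .nil)
  12585024 [356,0,2] (.node .nil 12585088 [196,7,7,0,0] .nil)) 12585216 [196,5,4,7] (.node (.node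
  .nil 12585472 [356,5,6,5] .nil) 12585984 [196,0,4,0,5] .nil))))) 12587009 [196,3,4,3,1] (.node
  (.node (.node (.node (.node (.node .nil 12587010 [196,3,5,7,0] .nil) 12587012 [196,1,5,2] (.node
  .nil 12587016 [196,0,4,4,3] .nil)) 12587024 [196,3,0,7,1] (.node (.node .nil 12587040 [196,2,1,6]
  .nil) 12587072 [196,2,7,5] .nil)) 12587136 [196,2,5,2,1] (.node (.node (.node .nil 12587264
  [196,7,3,4] .nil) 12587520 [196,4,3,4,2] (.node .nil 12588032 [196,1,7,7,0] .nil)) 12589056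
  [196,7,4,2,3] (.node (.node .nil 12591105 [324,6,4,2] .nil) 12591106 [324,6,5,0] .nil))) 12591108
  [324,4,3,0] (.node (.node (.node (.node .nil 12591112 [196,0,1,6,0] .nil) 12591120 [356,2,6] (.node
  .nil 12591136 [196,4,2,6,2,0] .nil)) 12591168 [196,4,0,4,2] (.node (.node .nil 12591232
  [196,5,5,5,2] .nil) 12591360 [196,2,1,2] .nil)) 12591616 [196,0,2,6,0] (.node (.node (.node .nil
  12592128 [196,7,0,4,1] .nil) 12593152 [196,4,5,0,5] (.node .nil 12595200 [196,4,5,3] .nil))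
  12599297 [196,1,2,7,0] (.node (.node .nil 12599298 [196,4,6,4,2] .nil) 12599300 [196,0,6,0,3]
  .nil)))) 12599304 [196,0,7,5,4] (.node (.node (.node (.node (.node .nil 12599312 [196,5,1,0,4]
  .nil) 12599328 [196,5,3,3] (.node .nil 12599360 [196,3,4,2] .nil)) 12599424 [356,5,5] (.node (.node
  .nil 12599552 [196,2,4,2,6] .nil) 12599808 [196,6,2,0] .nil)) 12600320 [196,2,7,2,1] (.node (.node
  (.node .nil 12601344 [196,5,0,3,0] .nil) 12603392 [196,7,6] (.node .nil 12607488 [196,7,7] .nil))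
  12615681 [196,4,6,4,1,0] (.node (.node .nil 12615682 [196,4,2,0] .nil) 12615684 [196,6,0,4,2]
  .nil))) 12615688 [196,2,3,6,6] (.node (.node (.node (.node .nil 12615696 [196,4,0,6,3] .nil)
  12615712 [196,4,3,7,3] (.node .nil 12615744 [196,6,7,2,0] .nil)) 12615808 [356,1,0,0] (.node (.node
  .nil 12615936 [196,6,3,2,3] .nil) 12616192 [196,0,7,4,0] .nil)) 12616704 [196,6,5,0,5] (.node
  (.node (.node .nil 12617728 [196,5,7,1] .nil) 12619776 [196,6,5,6,4] .nil) 12623872 [196,3,7,0,1]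
  (.node (.node .nil 12632064 [356,6,2,1] .nil) 12648449 [324,3,1,0] .nil)))))) 12648450 [324,5,1]
  (.node (.node (.node (.node (.node (.node (.node .nil 12648452 [324,0,0,0] .nil) 12648456
  [196,3,4,7,1] (.node .nil 12648464 [356,3,0,6] .nil)) 12648480 [196,7,4,2] (.node (.node .nil
  12648512 [196,0,4,2,0] .nil) 12648576 [196,0,2,7] .nil)) 12648704 [196,0,1,5] (.node (.node (.node
  .nil 12648960 [196,2,4,5] .nil) 12649472 [196,7,4,5] (.node .nil 12650496 [196,0,4,4,2] .nil))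
  12652544 [196,4] (.node (.node .nil 12656640 [356,0,1,7] .nil) 12664832 [196,3,2,5,0] .nil)))
  12681216 [196,1,0,2,4] (.node (.node (.node (.node .nil 12713985 [196,7,5,6,0] .nil) 12713986
  [196,3,3,5] (.node .nil 12713988 [196,6,4,1] .nil)) 12713992 [196,4,7,7,0] (.node (.node .nil
  12714000 [196,0,6,5,6] .nil) 12714016 [196,5,7,2,7] .nil)) 12714048 [196,1,0] (.node (.node (.node
  .nil 12714112 [196,0,5,3,2] .nil) 12714240 [196,7,3] (.node .nil 12714496 [196,7,1,4,2] .nil))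
  12715008 [196,2,1,4] (.node (.node .nil 12716032 [196,0,1,1] .nil) 12718080 [356,6,3,3] .nil))))
  12722176 [196,7,4,6,0] (.node (.node (.node (.node (.node .nil 12730368 [196,5,0,6,4] .nil)
  12746752 [196,6,5,7,3] (.node .nil 12779520 [196,1,3,2,1] .nil)) 12845057 [196,0,2,4,1] (.node
  (.node .nil 12845058 [196,5,6,7,0] .nil) 12845060 [196,4,0,0] .nil)) 12845064 [196,1,1,2] (.node
  (.node (.node .nil 12845072 [196,2,6] .nil) 12845088 [196,1,3] (.node .nil 12845120 [196,7,7,7,5]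
  .nil)) 12845184 [356,0] (.node (.node .nil 12845312 [196,1,6,2,1] .nil) 12845568 [196,4,1,0]
  .nil))) 12846080 [196,5,2,2,0] (.node (.node (.node (.node .nil 12847104 [196,1,3,7,3] .nil)
  12849152 [196,3,2,0,1] (.node .nil 12853248 [196,4,1,7] .nil)) 12861440 [356,4,1,0] (.node (.node
  .nil 12877824 [356,0,6,5] .nil) 12910592 [196,3,7,5] .nil)) 12976128 [196,7,4,3,3] (.node (.node
  (.node .nil 13107201 [196,7,2,7] .nil) 13107202 [196,3,3] .nil) 13107204 [196,0,0,0,0] (.node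
  (.node .nil 13107208 [196,0,0,7,1] .nil) 13107216 [196,3,6,4,0] .nil))))) 13107232 [196,5,6,0]
  (.node (.node (.node (.node (.node (.node .nil 13107264 [196,2,1,3,1,0] .nil) 13107328
  [196,2,7,0,0] (.node .nil 13107456 [196,7,2,6] .nil)) 13107712 [196,5,0,3] (.node (.node .nil
  13108224 [196,4,6,1,0] .nil) 13109248 [196,7,5,7,5] .nil)) 13111296 [356,7,6] (.node (.node (.node
  .nil 13115392 [196,2,0,0,4] .nil) 13123584 [196,0,5,2,1] (.node .nil 13139968 [196,6,0] .nil))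
  13172736 [196,3,0,6] (.node (.node .nil 13238272 [356,7] .nil) 13369344 [196,5,5,3,0] .nil)))
  13631489 [196,6,5,5,3] (.node (.node (.node (.node .nil 13631490 [196,1,5,7,5] .nil) 13631492
  [196,7,4,6] (.node .nil 13631496 [196,3,3,6,1,1] .nil)) 13631504 [196,3,1,7,3] (.node (.node .nil
  13631520 [196,3,1] .nil) 13631552 [196,7,0,1] .nil)) 13631616 [196,5,1,5,0] (.node (.node (.node
  .nil 13631744 [196,5,4,6] .nil) 13632000 [196,7,7,6] (.node .nil 13632512 [196,4,0,1,0] .nil))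
  13633536 [196,4,0,0,0] (.node (.node .nil 13635584 [356,3,1] .nil) 13639680 [196,6,4,1,1] .nil))))
  13647872 [196,1,7,0] (.node (.node (.node (.node (.node .nil 13664256 [196,6,0,4] .nil) 13697024
  [196,0,1,7] (.node .nil 13762560 [356,4,4,0] .nil)) 13893632 [196,2,4,0] (.node (.node .nil
  14155776 [356,7,6,1] .nil) 14680065 [196,1,2,0,7] .nil)) 14680066 [196,0,7,0,3] (.node (.node
  (.node .nil 14680068 [196,1,4,3,0] .nil) 14680072 [196,5,6,7,1] (.node .nil 14680080 [196,3,6,1,1]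
  .nil)) 14680096 [356,7,2] (.node (.node .nil 14680128 [196,4,2,1,0] .nil) 14680192 [196,2,4,5,3]
  .nil))) 14680320 [356,4,1] (.node (.node (.node (.node .nil 14680576 [196,1,7,3] .nil) 14681088
  [356,5,2] (.node .nil 14682112 [196,4,3,0,1] .nil)) 14684160 [196,4,6,2] (.node (.node .nil
  14688256 [196,1,1,3,1] .nil) 14696448 [196,3,2,4,1] .nil)) 14712832 [196,1,6,3,1] (.node (.node
  (.node .nil 14745600 [196,1,5,6] .nil) 14811136 [196,6,2,3] .nil) 14942208 [196,7,2,3] (.node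
  (.node .nil 15204352 [196,4,5,7,0] .nil) 15728640 [196,0,0,1,4] .nil))))))))))

/-- Classes with representatives. -/
def repsS_S : List (ℕ × ℕ × List ℕ) :=
  [(3780,8388615,[8388615,147496,268544,1082880,2621632,4268048]),
  (324,8388649,[8388649,147462,274448,557632,3146880,4262144]),
  (356,8388619,[8388619,9536,147492,328320,1574928,6328320]),
  (196,8388633,[8388633,230400,274464,1574914,2097924,4210880])]

theorem certS_S : ctAll (certNode tbsS treeS_S repsS_S (sxClv famS) sxSem) sxTree = true := by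
  decide +kernel

theorem hrepsS_S : ∀ p ∈ repsS_S, sxTree.find p.2.1 = some p.2.2 := by decide +kernel

theorem hcvS_S : ∀ p ∈ repsS_S, sxClv famS p.2.1 p.2.2 = p.1 := by decide +kernel

theorem CS_S : Cert sextets sxObj sxTree sxSem (famOf famS) (clF (famOf famS)) (sxClv famS) (stabF famS) tbsS treeS_S repsS_S :=
  sx_cert famS_nodup famS_lt gensS_ok hrepsS_S certS_S

theorem n0 : ctCount (fun m _ => Nat.beq (clsOf treeS_S m) 3780) sxTree = 1 := by decide +kernel

theorem n1 : ctCount (fun m _ => Nat.beq (clsOf treeS_S m) 324) sxTree = 90 := by decide +kernel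

theorem n2 : ctCount (fun m _ => Nat.beq (clsOf treeS_S m) 356) sxTree = 240 := by decide +kernel

theorem n3 : ctCount (fun m _ => Nat.beq (clsOf treeS_S m) 196) sxTree = 1440 := by decide +kernel

end Cfsg.Agent.Lib.Sporadic.M24SxOnSx
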