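import Cfsg.Agent.Lib.Sporadic.M24TrStab
import Cfsg.Agent.Lib.Sporadic.M24OctTab

/-!
# The trio stabiliser on octads
-/

namespace Cfsg.Agent.Lib.Sporadic.M24TrOnOc

open Cfsg Cfsg.Agent.Lib.Sporadic.GolayCore Cfsg.Agent.Lib.Sporadic.M24Tbl
open Cfsg.Agent.Lib.Sporadic.M24Chain Cfsg.Agent.Lib.Sporadic.M24Basic
open Cfsg.Agent.Lib.Sporadic.M24Act Cfsg.Agent.Lib.Sporadic.M24Lists
open Cfsg.Agent.Lib.Sporadic.M24Orbit Cfsg.Agent.Lib.Sporadic.M24Count
open Cfsg.Agent.Lib.Sporadic.M24Sextet Cfsg.Agent.Lib.Sporadic.M24Fast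
open Cfsg.Agent.Lib.Sporadic.M24Classes Cfsg.Agent.Lib.Sporadic.M24Cert
open scoped Pointwise
open Cfsg.Agent.Lib.Sporadic.M24TrStab Cfsg.Agent.Lib.Sporadic.M24OctTab


set_option maxRecDepth 100000 in
set_option maxHeartbeats 0 in
/-- Classes and words. -/
def treeT_O : CT :=
  (.node (.node (.node (.node (.node (.node (.node (.node (.node (.node .nil 5279 [1251] .nil) 10558
  [675] .nil) 15777 [675,7] (.node (.node .nil 18147 [1251,4,1,0] .nil) 21116 [1251,2,3] .nil)) 31554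
  [675,3,1,5] (.node (.node (.node .nil 36294 [675,3,7,3,0] .nil) 39257 [675,4,7,6] .nil) 42232
  [675,3,3,4,0] (.node (.node .nil 45159 [675,5,0,5,2] .nil) 52005 [675,7,5] .nil))) 57883
  [675,7,3,6,1] (.node (.node (.node (.node .nil 63108 [675,5,6,4,0] .nil) 69395 [675,3,4,3] .nil)
  72588 [675,6,0,4,0] (.node (.node .nil 75309 [675,0,2,3,3] .nil) 78514 [675,3,3,1] .nil)) 84464
  [675,1,5,2,0] (.node (.node (.node .nil 90318 [675,1,5,0] .nil) 95313 [675,5,3,5,1] .nil) 99029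
  [675,1,0,3] (.node (.node .nil 104010 [675,7,1,0,2] .nil) 115766 [675,3,7,2] .nil)))) 118953
  [675,2,4,0] (.node (.node (.node (.node (.node .nil 126216 [675,6,2,1,0] .nil) 133817 [1251,0,4]
  .nil) 138790 [1251,3,0] (.node (.node .nil 140167 [675,0,6,1] .nil) 145176 [675,6,7,0] .nil))
  150618 [1251,5] (.node (.node (.node .nil 153797 [1251,0,1] .nil) 157028 [675,3,2,0,0] .nil) 168928
  [675,7,2,1] (.node (.node .nil 175681 [675,4,2,0] .nil) 180636 [675,4,6,7,0] .nil))) 185603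
  [675,4,7,0] (.node (.node (.node (.node .nil 190626 [675,4,5] .nil) 198058 [675,3,1,0] .nil) 201013
  [675,3,1,3,2] (.node (.node .nil 208020 [675,7,6,4] .nil) 210955 [675,1,2,0,1] .nil)) 213833
  [675,5,1,2,0] (.node (.node (.node .nil 231532 [675,5,0,2] .nil) 237906 [675,0,4,6] .nil) 252432
  [675,2,5,6,2] (.node (.node .nil 262637 [675,6,6,1,3] .nil) 267634 [675,1,2,0] .nil))))) 272595
  [675,3,3,2] (.node (.node (.node (.node (.node (.node .nil 277580 [675,5,2,6] .nil) 280334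
  [675,0,6,2] .nil) 283537 [675,2,0,1,0] (.node (.node .nil 290352 [675,0,6,3,1] .nil) 298027
  [675,1,4,1] .nil)) 301236 [675,7,5,0,2] (.node (.node (.node .nil 304405 [675,2,4,1,1] .nil) 307594
  [675,6,4,0,2] .nil) 314056 [675,0,4] (.node (.node .nil 334433 [675,0,6,4,3] .nil) 337856
  [1251,7,2,1] .nil))) 346141 [675,7,7,0] (.node (.node (.node (.node .nil 351362 [675,6,1,6] .nil)
  352547 [1251,1,3,4] .nil) 361272 [675,4,2,6,0] (.node (.node .nil 371206 [675,7,3,3] .nil) 381252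
  [675,2,4,5,0] .nil)) 396116 [675,6,6,3,0] (.node (.node (.node .nil 402026 [675,5,3,3,1] .nil)
  416040 [675,2,6,0] .nil) 418953 [675,7,0,2] (.node (.node .nil 421910 [675,3,6,0] .nil) 427666
  [675,5,2,4,0] .nil)))) 430605 [675,1,0,5,1] (.node (.node (.node (.node (.node .nil 442481
  [675,6,2] .nil) 459847 [675,4,3] .nil) 463064 [675,6,0,1] (.node (.node .nil 475812 [675,3,2] .nil)
  493953 [675,3,6,3,0] .nil)) 504864 [675,2,3,6] (.node (.node (.node .nil 525274 [675,5,7,1,2] .nil)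
  530245 [675,2,2,3] .nil) 535268 [675,5,3,4,0] (.node (.node .nil 542009 [675,2,7,2] .nil) 545190
  [675,4,4,2,0] .nil))) 551943 [675,1,2,3,0] (.node (.node (.node (.node .nil 555160 [675,2,2,1,1]
  .nil) 560668 [675,5,5,7,0] .nil) 563843 [675,3,0] (.node (.node .nil 567074 [675,2,0,0] .nil)
  580704 [675,3,7,7] .nil)) 582081 [675,2] (.node (.node (.node .nil 593097 [675,4,6] .nil) 596054
  [675,1,6,2,1] .nil) 602472 [675,0,4,4] (.node .nil 608810 [675,1,1,4] .nil)))))) 615188 [675,4,1,5]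
  (.node (.node (.node (.node (.node (.node (.node .nil 622863 [1251,0,0,1] .nil) 628112 [1251,1,1]
  .nil) 632881 [675,0,1,1] (.node (.node .nil 657763 [675,0,7,3] .nil) 663645 [675,6,3,3] .nil))
  668866 [675,1,0,5] (.node (.node (.node .nil 675712 [675,7,6,2,0] .nil) 684577 [675,2,2,0,0] .nil)
  689317 [675,3,7,1] (.node (.node .nil 692282 [675,1,3] .nil) 702724 [675,2,6,6] .nil))) 705094
  [675,0,2,4,0] (.node (.node (.node (.node .nil 722544 [675,7,5,1,1] .nil) 737427 [675,4,2,1,4]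
  .nil) 742412 [675,6,0,3,0] (.node (.node .nil 762504 [675,4,5,5] .nil) 786999 [675,4,5,4,3] .nil))
  792232 [675,1,5,4,0] (.node (.node (.node .nil 797449 [675,4,0] .nil) 804052 [675,6,6,4,2] .nil)
  806987 [675,7,4,4,0] (.node (.node .nil 832080 [1251,2,0,0] .nil) 837906 [675,3,5,0] .nil))))
  843820 [1251,7,2] (.node (.node (.node (.node (.node .nil 855332 [675,4,2,2] .nil) 861210
  [675,3,4,1,0] .nil) 864389 [675,4,6,4,0] (.node (.node .nil 884962 [675,4,5,2,3] .nil) 902657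
  [675,1,2,1] .nil)) 919694 [675,6,7,5,1] (.node (.node (.node .nil 924689 [675,7,1,3] .nil) 926128
  [675,4,0,0,0] .nil) 951624 [675,7,7,1] (.node (.node .nil 987906 [675,4,6,2] .nil) 1009728
  [675,3,7,2,1] .nil))) 1050548 [675,7,2,4] (.node (.node (.node (.node .nil 1053483 [675,2,5,6]
  .nil) 1060490 [675,2,0,2,0] .nil) 1063445 [675,6,3,0,0] (.node (.node .nil 1065303 [675,0,0,2,1]
  .nil) 1070536 [675,0,0,5] .nil)) 1075305 [675,5,2,3] (.node (.node (.node .nil 1084018 [675,5,6,6]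
  .nil) 1090380 [675,0,6,3,0] .nil) 1100945 [675,5,6,1] (.node (.node .nil 1103886 [675,2,0,7,0]
  .nil) 1110320 [675,3,0,1,0] .nil))))) 1116327 [675,0,1,3,0] (.node (.node (.node (.node (.node
  (.node .nil 1121336 [675,6,2,3] .nil) 1122713 [675,6,6,4] .nil) 1127686 [675,4,5,3,0] (.node (.node
  .nil 1134148 [675,4,5,1] .nil) 1148257 [675,7,6,0,0] .nil)) 1161408 [1251,6] (.node (.node (.node
  .nil 1164162 [675,0,6,7] .nil) 1182989 [675,1,4,6] .nil) 1186194 [675,2,1,2] (.node (.node .nil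
  1188915 [675,7,2,1,2] .nil) 1192108 [675,5,4,6,0] .nil))) 1204944 [675,3,7,5] (.node (.node (.node
  (.node .nil 1212619 [675,5,0,1] .nil) 1217620 [675,2,7,0] .nil) 1230376 [675,4,6,3] (.node (.node
  .nil 1245726 [675,6,4,0,0] .nil) 1250945 [675,6,0,2] .nil)) 1256224 [675,4,6,1,0] (.node (.node
  (.node .nil 1265762 [675,1,7,6,2] .nil) 1302533 [1251,3,2] .nil) 1312345 [675,6,7,3,1] (.node
  (.node .nil 1315526 [675,4,1,0] .nil) 1327290 [675,7,1,2] .nil)))) 1332261 [675,4,1,7,1] (.node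
  (.node (.node (.node (.node .nil 1337732 [675,0,3] .nil) 1351424 [1251,3,7] .nil) 1352353
  [675,3,2,7] (.node (.node .nil 1369154 [675,1,0] .nil) 1378634 [675,3,0,2,0] .nil)) 1384564
  [675,0,4,1] (.node (.node (.node .nil 1405448 [675,2,1,5] .nil) 1410188 [675,2,3,4] .nil) 1413139
  [675,7,4] (.node (.node .nil 1445088 [675,0,2,0] .nil) 1454401 [675,1,3,4] .nil))) 1460739
  [675,0,5,7,0] (.node (.node (.node (.node .nil 1474854 [1251,2,4] .nil) 1484824 [675,6,6,1] .nil)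
  1525008 [675,1,7,3] (.node (.node .nil 1573998 [675,0,0] .nil) 1577201 [675,3,2,1] .nil)) 1584464
  [1251,1,2,0] (.node (.node (.node .nil 1589901 [675,5,3] .nil) 1594898 [675,1,6] .nil) 1608104
  [675,1,2,7,2] (.node .nil 1613974 [675,6,7,3] .nil))))))) 1618953 [675,0,5,0] (.node (.node (.node
  (.node (.node (.node (.node (.node .nil 1647171 [675,1,4,4,1] .nil) 1661185 [675,3,4,4] .nil)
  1664160 [675,6,6,2,0] (.node (.node .nil 1675812 [675,6,2,6] .nil) 1687640 [675,0,2,3,0] .nil))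
  1710664 [675,4,7,4] (.node (.node (.node .nil 1722420 [675,0,4,3,0] .nil) 1728778 [1251,6,4] .nil)
  1737489 [675,3,0,0,3] (.node (.node .nil 1769924 [675,2,0,5,3] .nil) 1805314 [675,2,5,0,1] .nil)))
  1836419 [675,2,2,4] (.node (.node (.node (.node .nil 1839388 [675,5,2,0] .nil) 1849378
  [675,2,7,1,1] .nil) 1852256 [675,3,7] (.node (.node .nil 1869893 [675,5,4,0,0] .nil) 1903248
  [1251,5,1] .nil)) 1975812 [675,5,6] (.node (.node (.node .nil 2019456 [675,5,7,5,1] .nil) 2031657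
  [1251,2,0] .nil) 2101096 [675,0,1,3,1] (.node (.node .nil 2106966 [675,2,3] .nil) 2110153
  [675,0,2,6,1] .nil)))) 2115979 [675,2,0,3] (.node (.node (.node (.node (.node .nil 2120980
  [675,0,3,7] .nil) 2121909 [675,4,0,1,0] .nil) 2126890 [675,0,1,5] (.node (.node .nil 2130606
  [675,6,6] .nil) 2135601 [675,0,6,0] .nil)) 2141072 [1251,3,6,2] (.node (.node (.node .nil 2147405
  [675,6,1] .nil) 2150610 [675,0,1] .nil) 2162811 [675,3,0,4,1] (.node (.node .nil 2168036
  [675,2,5,0,0] .nil) 2173253 [675,5,7,2] .nil))) 2180760 [675,5,2,7,2] (.node (.node (.node (.node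
  .nil 2183687 [675,0,7,5] .nil) 2201890 [675,5,6,0] .nil) 2204803 [675,5,2] (.node (.node .nil
  2207772 [675,7,0,5] .nil) 2220640 [675,5,2,0,0] .nil)) 2229713 [675,7,3,6,0] (.node (.node (.node
  .nil 2232654 [675,6,4] .nil) 2242672 [675,5,6,2,0] .nil) 2245426 [675,0,3,6] (.node (.node .nil
  2255372 [675,5,1,4] .nil) 2263063 [675,0,5,3] .nil))))) 2268296 [675,2,0,4] (.node (.node (.node
  (.node (.node (.node .nil 2269481 [1251,1,5] .nil) 2296514 [675,3,6,2] .nil) 2313249 [675,2,2]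
  (.node (.node .nil 2322816 [675,6,1,3] .nil) 2328324 [675,2,6,1] .nil)) 2363013 [675,7,2,2,0]
  (.node (.node (.node .nil 2365978 [675,6,3] .nil) 2372388 [675,1,7,5,0] .nil) 2377830 [675,1,4,2]
  (.node (.node .nil 2384216 [675,1,4,0,1] .nil) 2392899 [675,0,1,0,3] .nil))) 2409888 [675,5,1,2,1]
  (.node (.node (.node (.node .nil 2422785 [675,1,5,1,1] .nil) 2425238 [675,0,5,0,0] .nil) 2430217
  [675,2,3,1] (.node (.node .nil 2435240 [675,4,2,1] .nil) 2460752 [1251,4,1] .nil)) 2491452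
  [675,0,0,1,3] (.node (.node (.node .nil 2494627 [675,0,4,5,0] .nil) 2501890 [675,6,4,6,3] .nil)
  2512448 [675,6,4,4,0] (.node (.node .nil 2531524 [675,5,7,1] .nil) 2564625 [675,1,2,4] .nil))))
  2605066 [1251,5,1,1] (.node (.node (.node (.node (.node .nil 2624690 [675,5,5,3] .nil) 2627629
  [675,6,5,4,0] .nil) 2631052 [675,7,7,2] (.node (.node .nil 2634003 [675,2,3,4,0] .nil) 2640465
  [675,5,0,0] .nil)) 2654580 [675,3,1,4] (.node (.node (.node .nil 2664522 [675,4,7,3] .nil) 2675464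
  [675,0,7,2,1] .nil) 2687905 [675,1] (.node (.node .nil 2702848 [1251,6,0,0] .nil) 2704706
  [675,3,1,2,0] .nil))) 2738308 [675,3,2,0,2] (.node (.node (.node (.node .nil 2754059 [675,2,1,0]
  .nil) 2757268 [675,5,4,3,0] .nil) 2769128 [675,5,1,6] (.node (.node .nil 2810896 [675,3,0,2] .nil)
  2820376 [675,1,0,0] .nil)) 2826278 [1251,5,4,0] (.node (.node (.node .nil 2854977 [675,4,5,7,0]
  .nil) 2890176 [1251,0,0,2] .nil) 2892897 [675,1,6,1,0] (.node .nil 2908802 [675,7,6,0] .nil))))))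
  2916505 [675,6,4,1,2] (.node (.node (.node (.node (.node (.node (.node .nil 2921478 [675,4,6,1]
  .nil) 2949708 [675,3,3,2,1] .nil) 2969648 [675,4,7,5] (.node (.node .nil 3031301 [1251,6,6,0] .nil)
  3050016 [675,6,6,4,0] .nil)) 3147996 [675,1,2,2,4] (.node (.node (.node .nil 3152963 [675,4,4,0,0]
  .nil) 3154402 [675,7,0,3] .nil) 3168928 [675,6,1,4] (.node (.node .nil 3172097 [675,3,3,4,3] .nil)
  3179802 [675,4,6,4] .nil))) 3182981 [675,3,4,1] (.node (.node (.node (.node .nil 3189796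
  [675,4,6,5,1] .nil) 3216208 [1251,0,2] .nil) 3227948 [1251,1] (.node (.node .nil 3237906
  [675,6,0,0] .nil) 3246601 [675,7,2,0] .nil)) 3277413 [675,3,0,1,1] (.node (.node (.node .nil
  3294342 [675,4,2,3] .nil) 3297305 [675,4,0,2] .nil) 3322370 [675,4,2,2,0] (.node (.node .nil
  3328320 [675,5,4,6,1] .nil) 3351624 [675,2,6,2] .nil)))) 3375280 [675,4] (.node (.node (.node
  (.node (.node .nil 3410225 [675,4,5,5,0] .nil) 3416079 [1251,6,1] .nil) 3421328 [1251,0,3] (.node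
  (.node .nil 3444840 [675,5,0,3,0] .nil) 3457556 [675,0,4,4,0] .nil)) 3474978 [675,5,1] (.node
  (.node (.node .nil 3489985 [675,2,0,0,0] .nil) 3539848 [675,0,7,0] .nil) 3610628 [675,0,2,5,0]
  (.node (.node .nil 3672838 [675,4,4,3] .nil) 3678776 [675,2,7,3,0] .nil))) 3698756 [675,7,3,7]
  (.node (.node (.node (.node .nil 3704512 [1251,2,5] .nil) 3719203 [1251,7,5,1] .nil) 3736597
  [675,4,0,3,1] (.node (.node .nil 3739786 [675,7,6,2,1] .nil) 3806496 [675,5,0,0,2] .nil)) 3811457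
  [675,2,4,5] (.node (.node (.node .nil 3951624 [675,7,5,4] .nil) 4038912 [390627] .nil) 4063314
  [675,1,6,0,3] (.node (.node .nil 4196943 [1251,3,2,0] .nil) 4202192 [390627,0] .nil))))) 4203377
  [675,2,1,4] (.node (.node (.node (.node (.node (.node .nil 4213932 [1251,1,1,1] .nil) 4216883
  [1251,4,2] .nil) 4220306 [675,1,7,6] (.node (.node .nil 4223245 [675,6,1,0,0] .nil) 4229001
  [675,5,6,2] .nil)) 4231958 [675,0,2] (.node (.node (.node .nil 4241960 [675,1,3,0,2] .nil) 4243818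
  [675,7,2,7] .nil) 4253780 [675,6,4,6] (.node (.node .nil 4261212 [675,3,0,0] .nil) 4264387
  [675,6,2,1,2] .nil))) 4271202 [675,2,3,2,1] (.node (.node (.node (.node .nil 4282144 [675,5,1,5]
  .nil) 4287105 [675,2,7] .nil) 4294810 [675,2,4,7,1] (.node (.node .nil 4299781 [675,0,0,3] .nil)
  4301220 [675,0,0,5,1] .nil)) 4325622 [1251,6,6] (.node (.node (.node .nil 4330601 [1251,1,4,1]
  .nil) 4336072 [675,5,3,6,0] .nil) 4343317 [1251,6,2] (.node (.node .nil 4346506 [1251,1,5,0] .nil)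
  4361520 [675,4,1,0,0] .nil)))) 4367374 [675,3,5,4] (.node (.node (.node (.node (.node .nil 4370577
  [675,0,7,7,2] .nil) 4403780 [675,3,3,6] .nil) 4409606 [675,5,5,0] (.node (.node .nil 4415544
  [675,1,2,7,0] .nil) 4424227 [675,2,0,5,0] .nil)) 4441280 [675,6,3,0] (.node (.node (.node .nil
  4459426 [675,2,1,1] .nil) 4465308 [675,3,5,3] .nil) 4470275 [675,6,2,5,0] (.node (.node .nil
  4476225 [675,5,4,3] .nil) 4485344 [675,7,7,5] .nil))) 4490852 [675,6,2,7] (.node (.node (.node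
  (.node .nil 4505735 [675,5,6,3,0] .nil) 4510744 [675,6,5,0,0] .nil) 4523185 [675,4,7,4,0] (.node
  (.node .nil 4526126 [675,7,6,7] .nil) 4536592 [1251,1,4] .nil)) 4538962 [675,6,0,6] (.node (.node
  (.node .nil 4563017 [675,2,5,5] .nil) 4587803 [675,5,6,0,1] .nil) 4593028 [675,5,0] (.node .nil
  4597797 [675,4,4,1] .nil)))))))) 4626498 [675,7,2,4,0] (.node (.node (.node (.node (.node (.node
  (.node (.node (.node .nil 4645632 [675,3,5,6,2] .nil) 4656648 [675,2,2,5] .nil) 4721045 [675,6,4,4]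
  (.node (.node .nil 4726026 [675,2,4,1,0] .nil) 4726955 [675,6,2,3,2] .nil)) 4731956 [675,1,4]
  (.node (.node (.node .nil 4744776 [675,2,1,2,0] .nil) 4752467 [675,6,1,4,0] .nil) 4755660
  [675,2,6,3] (.node (.node .nil 4768432 [675,4,4,0] .nil) 4785798 [675,6,3,3,4] .nil))) 4788761
  [675,3,7,3] (.node (.node (.node (.node .nil 4800613 [675,0,2,1] .nil) 4819776 [1251,2] .nil)
  4845570 [675,7,1] (.node (.node .nil 4850476 [675,3,0,5,0] .nil) 4860434 [675,0,0,5,0] .nil))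
  4870480 [675,2,0,2] (.node (.node (.node .nil 4900873 [675,3,7,6] .nil) 4921504 [675,2,3,0] .nil)
  4924673 [675,4,2,7,1] (.node (.node .nil 4982904 [675,2,4,2] .nil) 4989254 [675,7,2] .nil))))
  5003780 [675,6,4,1] (.node (.node (.node (.node (.node .nil 5017889 [675,6,0,0,0] .nil) 5024896
  [1251,1,6,0] .nil) 5063048 [675,6,5,1,1] (.node (.node .nil 5112513 [675,3,2,4,0] .nil) 5129250
  [675,7,3,0] .nil)) 5210132 [675,5,7,6] (.node (.node (.node .nil 5249380 [675,7,5,2,3] .nil)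
  5252293 [675,4,3,6,3] .nil) 5255258 [675,5,7,5,0] (.node (.node .nil 5262104 [675,2,5,0] .nil)
  5268006 [675,3,4,0] .nil))) 5275709 [675,5,7,0] (.node (.node (.node (.node .nil 5280930
  [675,0,2,2,1] .nil) 5286147 [675,5,5,7,1] .nil) 5296705 [675,4,5,4] (.node (.node .nil 5309160
  [675,7,1,3,0] .nil) 5325835 [675,0,4,4,1] .nil)) 5329044 [675,4,2,0,0] (.node (.node (.node .nil
  5350928 [1251,1,3,2] .nil) 5375810 [675,6,1,2] .nil) 5390753 [675,0,4,1,1] (.node (.node .nil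
  5405696 [675,4,0,3,0] .nil) 5409412 [675,1,2] .nil))))) 5441617 [675,5,6,4] (.node (.node (.node
  (.node (.node (.node .nil 5476616 [675,7,6] .nil) 5508118 [675,7,5,0,1] .nil) 5511305 [675,4,7,1]
  (.node (.node .nil 5514536 [675,4,5,1,1] .nil) 5538256 [1251,6,0,1] .nil)) 5571333 [675,5,0,5]
  (.node (.node (.node .nil 5621792 [675,7,7,2,0] .nil) 5640752 [675,4,3,5,0] .nil) 5652556
  [675,1,2,5] (.node (.node .nil 5709954 [675,3,0,4] .nil) 5770785 [675,6,0,1,0] .nil))) 5780352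
  [1251,4,0] (.node (.node (.node (.node .nil 5785794 [675,0,6] .nil) 5817604 [675,2,6,4] .nil)
  5833010 [675,6,2,4] (.node (.node .nil 5842956 [675,6,6,5,1] .nil) 5899416 [675,5,4,0,2] .nil))
  5902343 [675,1,6,7] (.node (.node (.node .nil 5939296 [675,1,6,2] .nil) 6053905 [675,0,1,4] .nil)
  6062602 [675,5,4] (.node (.node .nil 6100032 [1251,1,5,2] .nil) 6292775 [675,0,3,1] .nil))))
  6295992 [675,7,4,4,1] (.node (.node (.node (.node (.node .nil 6302745 [675,0,5,6] .nil) 6305926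
  [675,4,1,3,2] .nil) 6308804 [675,7,3,1] (.node (.node .nil 6326497 [675,6,7] .nil) 6337856
  [1251,5,0] .nil)) 6344194 [675,1,7,1] (.node (.node (.node .nil 6359604 [675,7,3,4] .nil) 6365962
  [675,0,4,2,0] .nil) 6379592 [675,1,4,6,1] (.node (.node .nil 6406417 [675,3,3,0,0] .nil) 6429441
  [675,7,5,5] .nil))) 6432416 [675,4,0,1,6] (.node (.node (.node (.node .nil 6447171 [675,4,0,7,1]
  .nil) 6455896 [675,7,0] .nil) 6475812 [675,1,0,1] (.node (.node .nil 6488205 [675,4,1,4] .nil)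
  6493202 [675,0,4,0] .nil)) 6554826 [675,3,7,1,2] (.node (.node (.node .nil 6557781 [675,7,6,2]
  .nil) 6570537 [675,6,7,4,0] .nil) 6588684 [675,6,2,2] (.node .nil 6594610 [675,2,4,3,0] .nil))))))
  6644740 [675,2,4,1,2] (.node (.node (.node (.node (.node (.node (.node .nil 6656640 [1251,5,6,0]
  .nil) 6703248 [675,4,4,1,5] .nil) 6750560 [675,0,5] (.node (.node .nil 6820450 [675,3,5,5] .nil)
  6832158 [675,3,5,2,0] .nil)) 6837377 [675,1,5,6,0] (.node (.node (.node .nil 6842656 [675,7,4,0]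
  .nil) 6857221 [675,1,4,5] .nil) 6889680 [1251,2,4,2] (.node (.node .nil 6915112 [675,0,5,2,1] .nil)
  6949956 [675,2,0,1] .nil))) 6979970 [675,4,6,3,3] (.node (.node (.node (.node .nil 7079696 [1251,3]
  .nil) 7145475 [675,3,6,0,1] .nil) 7221256 [675,1,5,3,0] (.node (.node .nil 7340691 [675,4,7,2]
  .nil) 7345676 [675,1,5,2] .nil)) 7357552 [675,3] (.node (.node (.node .nil 7397512 [675,4,6,2,0]
  .nil) 7409024 [1251,3,5] .nil) 7417889 [675,6] (.node (.node .nil 7438406 [675,4,0,0] .nil) 7473194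
  [675,3,6,6,1] .nil)))) 7479572 [675,2,1,0,1] (.node (.node (.node (.node (.node .nil 7612992
  [1251,1,0] .nil) 7622914 [675,1,3,2,0] .nil) 7767041 [675,7,7,4] (.node (.node .nil 7864649
  [675,2,3,6,0] .nil) 7903248 [1251,5,4] .nil)) 8077824 [675,2,4,7,0] (.node (.node (.node .nil
  8126628 [675,6,2,1] .nil) 8391797 [1251,7,5] .nil) 8394986 [1251,1,3] (.node (.node .nil 8398155
  [675,3,5,1] .nil) 8401364 [675,1,0,7,0] .nil))) 8407702 [1251,1,4,0] (.node (.node (.node (.node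
  .nil 8412681 [1251,6,3] .nil) 8414120 [675,7,0,1,0] .nil) 8421811 [675,5,0,4] (.node (.node .nil
  8426796 [675,3,3,6,3] .nil) 8431757 [675,7,3,0,0] .nil)) 8436754 [675,4,3,3] (.node (.node (.node
  .nil 8439632 [675,7,5,7] .nil) 8455014 [675,4,0,2,0] .nil) 8464984 [675,5] (.node (.node .nil
  8471941 [675,7,2,3] .nil) 8474906 [675,3,7,1,0] .nil))))) 8484900 [675,2,1] (.node (.node (.node
  (.node (.node (.node .nil 8490656 [675,5,7,5] .nil) 8499969 [675,7,5,4,0] .nil) 8505411 [675,3,0,5]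
  (.node (.node .nil 8521420 [1251,2,4,1] .nil) 8524371 [1251,1,1,0] .nil)) 8536111 [390627,2] (.node
  (.node (.node .nil 8541360 [1251,2,2] .nil) 8546577 [675,0,0,0] .nil) 8555274 [675,0,5,0,1] (.node
  (.node .nil 8561204 [675,7,4,4] .nil) 8581192 [675,0,3,1,0] .nil))) 8592704 [675,4,4] (.node (.node
  (.node (.node .nil 8593633 [675,2,0,1,1] .nil) 8611330 [675,5,7] .nil) 8619033 [675,3,4,0,0] (.node
  (.node .nil 8622214 [675,6,7,4] .nil) 8654232 [675,2,1,6,0] .nil)) 8657159 [675,4,6,3,0] (.node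
  (.node (.node .nil 8660134 [675,5,2,7] .nil) 8663097 [675,5,5] .nil) 8675909 [675,3,1] (.node
  (.node .nil 8683614 [675,2,2,0] .nil) 8688833 [675,2,5] .nil)))) 8694112 [675,2,4,7] (.node (.node
  (.node (.node (.node .nil 8704546 [675,4,0,4] .nil) 8716939 [675,1,0,1,0] .nil) 8721940
  [675,7,5,3,0] (.node (.node .nil 8733800 [675,0,6,1,0] .nil) 8773776 [675,3,7,3,1] .nil)) 8783649
  [675,1,5] (.node (.node (.node .nil 8796800 [675,5,2,1] .nil) 8798658 [675,2,6,4,3] .nil) 8834052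
  [675,2,3,3] (.node (.node .nil 8849458 [675,6,1,0] .nil) 8855820 [1251,0,5] .nil))) 8919856
  [675,6,6,0,4] (.node (.node (.node (.node .nil 8922769 [675,4,2,2,1] .nil) 8925710 [675,6,2,0]
  .nil) 8931660 [675,6,3,0,1] (.node (.node .nil 8937586 [675,4,1,4,0] .nil) 8946281 [675,3,6] .nil))
  8963210 [675,5,5,6,1] (.node (.node (.node .nil 8966165 [675,4,5,6,2] .nil) 8978620 [675,4,7] .nil)
  8983587 [675,4,6,7] (.node .nil 8989058 [675,5,0,3] .nil))))))) 8999616 [675,6,4,2] (.node (.node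
  (.node (.node (.node (.node (.node (.node .nil 9020484 [675,1,3,2] .nil) 9045270 [675,2,4,0,0]
  .nil) 9048457 [675,7,1,4] (.node (.node .nil 9055272 [675,0,4,0,1] .nil) 9078992 [675,6,2,5] .nil))
  9112069 [675,2,5,2] (.node (.node (.node .nil 9158944 [1251,6,0] .nil) 9178690 [675,0,7,4] .nil)
  9193633 [675,4,2,7] (.node (.node .nil 9204992 [675,7,2,0,0] .nil) 9208708 [675,6,0] .nil)))
  9240913 [675,2,2,6] (.node (.node (.node (.node .nil 9279496 [675,4,2,4,0] .nil) 9310308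
  [675,2,0,3,0] .nil) 9323032 [675,0,1,3] (.node (.node .nil 9347075 [1251,0] .nil) 9440193
  [675,1,4,0] .nil)) 9451104 [675,0,7,5,2] (.node (.node (.node .nil 9456930 [675,6,5,6] .nil)
  9462812 [675,2,0,5] .nil) 9465987 [675,6,5,2,0] (.node (.node .nil 9471495 [675,1,2,7] .nil)
  9474712 [675,3,1,3,0] .nil)))) 9486564 [675,2,1,0,0] (.node (.node (.node (.node (.node .nil
  9503954 [675,6,4,1,0] .nil) 9506893 [675,7,3] .nil) 9519665 [675,6,7,2] (.node (.node .nil 9537812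
  [675,6,4,3] .nil) 9543722 [1251,0,7] .nil)) 9568632 [675,5,6,3] (.node (.node (.node .nil 9578566
  [675,2,4] .nil) 9589508 [675,2,2,6,1] .nil) 9607201 [675,1,5,0,0] (.node (.node .nil 9610624
  [675,4,7,5,0] .nil) 9652360 [675,4,3,3,1] .nil))) 9701932 [675,2,3,0,1] (.node (.node (.node (.node
  .nil 9708306 [675,5,4,2,1] .nil) 9721936 [675,5,6,5,1] .nil) 9748745 [1251,5,4,1] (.node (.node
  .nil 9769376 [675,4,4,5] .nil) 9776129 [675,4,1,0,2] .nil)) 9830549 [675,1,1,4,0] (.node (.node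
  (.node .nil 9835530 [675,4,0,1] .nil) 9929280 [675,1,3,1] .nil) 9963547 [675,6,7,1,0] (.node (.node
  .nil 9968772 [675,1,1] .nil) 9969957 [1251,4,7] .nil))))) 9998658 [675,4,5,0,1] (.node (.node
  (.node (.node (.node (.node .nil 10021376 [675,2,3,1,0] .nil) 10028808 [675,2,4,3] .nil) 10093218
  [675,7,1,1] (.node (.node .nil 10110017 [675,6,6,0] .nil) 10170384 [675,6,2,2,0] .nil)) 10232008
  [675,1,1,5] (.node (.node (.node .nil 10257456 [675,6,3,1] .nil) 10305542 [1251,0,4,2] .nil)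
  10486557 [675,4,5,0] (.node (.node .nil 10491778 [675,2,4,5,1] .nil) 10496547 [675,4,1,6,0] .nil)))
  10506593 [675,4,1,2] (.node (.node (.node (.node .nil 10513600 [675,0,5,1] .nil) 10525252
  [675,1,7,6,0] .nil) 10537016 [675,1,1,6] (.node (.node .nil 10543366 [1251,2,1] .nil) 10554382
  [675,6,5,1] .nil)) 10557585 [675,2,2,7] (.node (.node (.node .nil 10560816 [675,5,4,0] .nil)
  10584520 [675,3,3] .nil) 10619300 [675,5,6,4,1] (.node (.node .nil 10625178 [675,7,5,0] .nil)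
  10630149 [675,7,1,2,0] .nil)))) 10650722 [675,5,3,0] (.node (.node (.node (.node (.node .nil
  10666625 [675,0,6,6] .nil) 10687016 [675,1,2,3] .nil) 10698836 [675,1,4,1,0] (.node (.node .nil
  10748656 [675,2,4,1] .nil) 10765331 [675,5,4,6] .nil)) 10768524 [675,5,4,1] (.node (.node (.node
  .nil 10790408 [675,1,5,7] .nil) 10825794 [675,3,2,4,1] .nil) 10832640 [675,4,3,2] (.node (.node
  .nil 10846245 [1251,5,2] .nil) 10881097 [675,3,4] .nil))) 10916112 [675,6,6,2] (.node (.node (.node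
  (.node .nil 11010247 [675,5,0,6] .nil) 11015256 [675,1,5,1] .nil) 11028004 [675,1,3,3,1] (.node
  (.node .nil 11046145 [675,6,1,5] .nil) 11055264 [675,6,5,5] .nil)) 11100169 [1251,7,3] (.node
  (.node (.node .nil 11108882 [675,0,3,0] .nil) 11150144 [675,3,0,6,0] .nil) 11163650 [675,5,1,1]
  (.node .nil 11272490 [1251,1,0,0] .nil)))))) 11282452 [675,0,1,6] (.node (.node (.node (.node
  (.node (.node (.node .nil 11469952 [675,3,0,1] .nil) 11535529 [675,5,5,0,0] .nil) 11538486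
  [675,7,0,2,0] (.node (.node .nil 11548936 [675,2,3,2] .nil) 11551306 [675,4,4,1,0] .nil)) 11575377
  [675,7,1,7,3] (.node (.node (.node .nil 11608708 [675,2,2,2] .nil) 11654144 [675,7,5,1] .nil)
  11669008 [675,0,5,4] (.node (.node .nil 11731203 [1251,3,4,1] .nil) 11797828 [675,7,1,0] .nil)))
  11831426 [675,4,1,5,0] (.node (.node (.node (.node .nil 11952160 [1251,0,0,0] .nil) 12075408
  [675,7,5,6] .nil) 12126304 [675,5,4,4,3] (.node (.node .nil 12222476 [1251,4] .nil) 12325377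
  [675,0,0,2] .nil)) 12584506 [1251,0,0] (.node (.node (.node .nil 12587685 [1251,0,2,1] .nil)
  12594948 [675,0,1,0] .nil) 12599513 [1251,3,1] (.node (.node .nil 12604486 [1251,5,7] .nil)
  12624578 [675,0,5,2] .nil)))) 12638592 [675,0,7,0,3] (.node (.node (.node (.node (.node .nil
  12641313 [675,6,4,0] .nil) 12650793 [675,0,2,4] .nil) 12656663 [675,2,6] (.node (.node .nil
  12661896 [675,6,6,3] .nil) 12685424 [675,7,2,2] .nil)) 12698124 [675,0,4,5] (.node (.node (.node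
  .nil 12717187 [1251,7] .nil) 12720156 [1251,3,4] .nil) 12726562 [675,7,7] (.node (.node .nil
  12733024 [1251,5,3,0] .nil) 12747077 [675,1,0,4] .nil))) 12780432 [675,3,6,1] (.node (.node (.node
  (.node .nil 12849992 [675,5,6,1,0] .nil) 12861748 [675,7,4,2,0] .nil) 12871690 [675,3,0,7,0] (.node
  (.node .nil 12880401 [675,5,5,0,2] .nil) 12912836 [675,1,6,0] .nil)) 12944642 [675,7,5,2] (.node
  (.node (.node .nil 12985424 [675,6,0,4] .nil) 13009064 [675,0,7,5,0] .nil) 13062145 [675,0] (.node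
  (.node .nil 13108704 [675,6,5,2,1] .nil) 13121601 [675,5,2,4] .nil))))) 13124355 [675,5,0,2,0]
  (.node (.node (.node (.node (.node (.node .nil 13142054 [675,5,1,2] .nil) 13148440 [675,6,3,4]
  .nil) 13192208 [675,4,1] (.node (.node .nil 13262980 [675,2,5,6,0] .nil) 13276672 [675,3,3,2,0]
  .nil)) 13303882 [675,2,7,4] (.node (.node (.node .nil 13370381 [675,0,3,6,0] .nil) 13373586
  [675,4,2] .nil) 13443616 [675,0,4,3,3] (.node (.node .nil 13631886 [675,1,5,6,2] .nil) 13636881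
  [675,0,7,2] .nil))) 13641904 [675,2,2,3,0] (.node (.node (.node (.node .nil 13667400 [675,2,6,0,1]
  .nil) 13703682 [675,3,3,4] .nil) 13721920 [675,4,7,1,1] (.node (.node .nil 13771273 [675,4,4,2]
  .nil) 13811730 [675,2,7,6] .nil)) 13829156 [675,1,1,0,3] (.node (.node (.node .nil 13893731
  [675,6,0,3] .nil) 13911680 [675,5,2,2] .nil) 13938692 [675,5,3,7,0] (.node (.node .nil 14156372
  [675,0,7,1] .nil) 14176296 [675,4,3,0] .nil)))) 14254209 [675,1,7,5] (.node (.node (.node (.node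
  (.node .nil 14551296 [675,1,3,6] .nil) 14682450 [675,1,5,4] .nil) 14688364 [675,4,1,1] (.node
  (.node .nil 14709264 [675,4,6,0] .nil) 14714004 [675,7,4,3] .nil)) 14716939 [675,3,2,0] (.node
  (.node (.node .nil 14747201 [675,6,2,1,1] .nil) 14762146 [675,1,0,2] .nil) 14828808 [675,5,7,1,3]
  (.node (.node .nil 14919680 [675,3,7,0] .nil) 14949408 [675,1,0,3,0] .nil))) 14950785 [675,2,2,1]
  (.node (.node (.node (.node .nil 15073798 [675,7,2,5] .nil) 15207048 [675,1,2,0,0] .nil) 15274244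
  [675,1,6,6] (.node (.node .nil 15335473 [675,2,7,1] .nil) 15515712 [675,4,5,3] .nil)) 15747077
  [675,1,3,0] (.node (.node (.node .nil 15762208 [675,6,4,4,1] .nil) 15864000 [675,5,5,1,1] .nil)
  16056344 [675,2,0] (.node .nil 16262146 [675,3,6,3] .nil)))))))))

/-- Classes with representatives. -/
def repsT_O : List (ℕ × ℕ × List ℕ) :=
  [(390627,4038912,[]),
  (1251,5279,[]),
  (675,10558,[])]

theorem certT_O : ctAll (certNode tbsT treeT_O repsT_O (octClv famT) octSem) octTree = true := by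
  decide +kernel

theorem hrepsT_O : ∀ p ∈ repsT_O, octTree.find p.2.1 = some p.2.2 := by decide +kernel

theorem hcvT_O : ∀ p ∈ repsT_O, octClv famT p.2.1 p.2.2 = p.1 := by decide +kernel

theorem CT_O : Cert octads ofMask octTree octSem (famOf famT) (clO (famOf famT)) (octClv famT) (stabF famT) tbsT treeT_O repsT_O :=
  oct_cert famT_nodup famT_lt gensT_ok hrepsT_O certT_O

theorem nT_O0 : ctCount (fun m _ => Nat.beq (clsOf treeT_O m) 390627) octTree = 3 := by decide +kernel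

theorem nT_O1 : ctCount (fun m _ => Nat.beq (clsOf treeT_O m) 1251) octTree = 84 := by decide +kernel

theorem nT_O2 : ctCount (fun m _ => Nat.beq (clsOf treeT_O m) 675) octTree = 672 := by decide +kernel

end Cfsg.Agent.Lib.Sporadic.M24TrOnOc
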