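import Cfsg.Agent.Lib.Sporadic.M24TrStab
import Cfsg.Agent.Lib.Sporadic.M24SextetTab

/-!
# The trio stabiliser on sextets
-/

namespace Cfsg.Agent.Lib.Sporadic.M24TrOnSx

open Cfsg Cfsg.Agent.Lib.Sporadic.GolayCore Cfsg.Agent.Lib.Sporadic.M24Tbl
open Cfsg.Agent.Lib.Sporadic.M24Chain Cfsg.Agent.Lib.Sporadic.M24Basic
open Cfsg.Agent.Lib.Sporadic.M24Act Cfsg.Agent.Lib.Sporadic.M24Lists
open Cfsg.Agent.Lib.Sporadic.M24Orbit Cfsg.Agent.Lib.Sporadic.M24Count
open Cfsg.Agent.Lib.Sporadic.M24Sextet Cfsg.Agent.Lib.Sporadic.M24Fast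
open Cfsg.Agent.Lib.Sporadic.M24Classes Cfsg.Agent.Lib.Sporadic.M24Cert
open scoped Pointwise
open Cfsg.Agent.Lib.Sporadic.M24TrStab Cfsg.Agent.Lib.Sporadic.M24SextetTab
open Cfsg.Agent.Lib.Sporadic.M24SextetTree

set_option maxRecDepth 100000 in
set_option maxHeartbeats 0 in
/-- Classes and words. -/
def treeT_S : CT :=
  (.node (.node (.node (.node (.node (.node (.node (.node (.node (.node (.node .nil 8388615 [1458]
  .nil) 8388619 [1458,3,1] (.node .nil 8388621 [1458,6,5,2] .nil)) 8388622 [1458,2,1] (.node (.node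
  .nil 8388627 [402] .nil) 8388629 [402,3,7,1,0] .nil)) 8388630 [402,5,5,7] (.node (.node (.node .nil
  8388633 [402,7,0,2,0] .nil) 8388634 [402,4,3,0,0] (.node .nil 8388636 [402,5,0,4] .nil)) 8388643
  [1458,0] (.node (.node .nil 8388645 [3762,4] .nil) 8388646 [1458,1,5] .nil))) 8388649 [1458,6,6]
  (.node (.node (.node (.node .nil 8388650 [3762,0] .nil) 8388652 [1458,3,4] (.node .nil 8388657
  [402,4,1,3,2] .nil)) 8388658 [402,0,4,6,1,0] (.node (.node .nil 8388660 [402,7,1,2] .nil) 8388664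
  [402,4,1,0] .nil)) 8388675 [402,0,3,2] (.node (.node (.node .nil 8388677 [402,3,5,5,1] .nil)
  8388678 [402,2,5,0] (.node .nil 8388681 [402,4,7,3,3] .nil)) 8388682 [402,3,1] (.node (.node .nil
  8388684 [402,2,7,5,6] .nil) 8388689 [1458,2] .nil)))) 8388690 [306,7,5,1] (.node (.node (.node
  (.node (.node .nil 8388692 [306,7,3] .nil) 8388696 [306,5,3] (.node .nil 8388705 [402,6,4,1] .nil))
  8388706 [402,7,0,1] (.node (.node .nil 8388708 [402,5,4,2] .nil) 8388712 [402,7,1,6] .nil)) 8388720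
  [306,7,3,1] (.node (.node (.node .nil 8388739 [402,6,6,7] .nil) 8388741 [402,2,3,2,4,0] (.node .nil
  8388742 [402,5,2,1,0] .nil)) 8388745 [402,4,5,1] (.node (.node .nil 8388746 [402,6,5,6,0] .nil)
  8388748 [402,6,4,2,0] .nil))) 8388753 [306] (.node (.node (.node (.node .nil 8388754 [306,1,3,0]
  .nil) 8388756 [306,0,0,2] (.node .nil 8388760 [306,5,3,0] .nil)) 8388769 [402,2,3] (.node (.node
  .nil 8388770 [402,0,1,4,2] .nil) 8388772 [402,6,6,1,2] .nil)) 8388776 [402,1,4,4,7] (.node (.node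
  (.node .nil 8388784 [306,7,1,0] .nil) 8388801 [306,6,0,4,0] (.node .nil 8388802 [306,3,2,7] .nil))
  8388804 [306,7,2,4,0] (.node (.node .nil 8388808 [1458,2,2,6] .nil) 8388816 [402,6,7,2,0] .nil)))))
  8388832 [306,3,5] (.node (.node (.node (.node (.node (.node .nil 8388867 [402,5,0,5,0] .nil)
  8388869 [402,5,6,0,1] (.node .nil 8388870 [402,6,0,0,4] .nil)) 8388873 [402,6,4,7] (.node (.node
  .nil 8388874 [402,6,6,2,0] .nil) 8388876 [402,4,2,3,5] .nil)) 8388881 [402,2] (.node (.node (.node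
  .nil 8388882 [402,0,4,0] .nil) 8388884 [402,1,4,7] (.node .nil 8388888 [402,7,4,5] .nil)) 8388897
  [402,0,2,5,0] (.node (.node .nil 8388898 [402,0,0,3,2] .nil) 8388900 [402,7,7,4] .nil))) 8388904
  [402,7,4,6,0] (.node (.node (.node (.node .nil 8388912 [402,7,6,5,3] .nil) 8388929 [402,0,3,0,4]
  (.node .nil 8388930 [402,3,5,7,5] .nil)) 8388932 [402,7,2,7,2] (.node (.node .nil 8388936
  [402,0,2,0,1] .nil) 8388944 [402,2,7,6] .nil)) 8388960 [402,5,0,0,1] (.node (.node (.node .nil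
  8388993 [402,2,4,5,2,0] .nil) 8388994 [402,3] (.node .nil 8388996 [402,1,6,2,0] .nil)) 8389000
  [402,6,2,0,2] (.node (.node .nil 8389008 [402,7,6,3,0] .nil) 8389024 [402,0,6,1,2] .nil)))) 8389056
  [402,7,0,1,4] (.node (.node (.node (.node (.node .nil 8389123 [402,6,3,6,3] .nil) 8389125
  [402,7,2,0,3] (.node .nil 8389126 [402,5,4,3] .nil)) 8389129 [402,6,4,5,2] (.node (.node .nil
  8389130 [402,3,2,1] .nil) 8389132 [402,3,0,2,3] .nil)) 8389137 [306,0,7,0] (.node (.node (.node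
  .nil 8389138 [1458,6,0] .nil) 8389140 [306,0,2,2] (.node .nil 8389144 [306,7,1,5] .nil)) 8389153
  [402,1,1,4] (.node (.node .nil 8389154 [402,3,4,3,0] .nil) 8389156 [402,7,2,5,4] .nil))) 8389160
  [402,3,0,5,5] (.node (.node (.node (.node .nil 8389168 [306,3,2,5] .nil) 8389185 [306,4,0,0] (.node
  .nil 8389186 [306,6,0,0] .nil)) 8389188 [306,1,0,2] (.node (.node .nil 8389192 [306,3,2,2] .nil)
  8389200 [402,1,0,4,0] .nil)) 8389216 [306,1,6] (.node (.node (.node .nil 8389249 [306,1,1,2,0]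
  .nil) 8389250 [306,6,5,6,0] .nil) 8389252 [1458,2,2,1] (.node (.node .nil 8389256 [306,6,2,0] .nil)
  8389264 [402,4,4,1] .nil)))))) 8389280 [306,5,7,1] (.node (.node (.node (.node (.node (.node (.node
  .nil 8389312 [402,6,5,7,3] .nil) 8389377 [402,3,1,1,1] (.node .nil 8389378 [402,2,2,6] .nil))
  8389380 [402,4,6,0] (.node (.node .nil 8389384 [402,5,5,1,0] .nil) 8389392 [402,1,0,2,1] .nil))
  8389408 [402,3,0,4] (.node (.node (.node .nil 8389440 [402,2,0,2,3] .nil) 8389504 [402,2,6,1]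
  (.node .nil 8389635 [402,4,6,3,1] .nil)) 8389637 [402,4,3,1,2] (.node (.node .nil 8389638
  [402,2,2,5,5] .nil) 8389641 [402,1,7,6,1] .nil))) 8389642 [402,1,6,4,2] (.node (.node (.node (.node
  .nil 8389644 [402,5,2,5,1] .nil) 8389649 [306,1,2,4,0] (.node .nil 8389650 [306,6,6,4] .nil))
  8389652 [306,7,3,0] (.node (.node .nil 8389656 [306,3,5,1] .nil) 8389665 [402,4,5,5,2] .nil))
  8389666 [402,6,0,4,0] (.node (.node (.node .nil 8389668 [402,2,4,3,3] .nil) 8389672 [402,2,2]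
  (.node .nil 8389680 [1458,7,6] .nil)) 8389697 [306,2,1] (.node (.node .nil 8389698 [306,5,1,5]
  .nil) 8389700 [1458,1,3,1] .nil)))) 8389704 [306,4,7,1] (.node (.node (.node (.node (.node .nil
  8389712 [402,2,0,3] .nil) 8389728 [306,2,1,1] (.node .nil 8389761 [306,4,1,1] .nil)) 8389762
  [306,0,5,0] (.node (.node .nil 8389764 [306,3,0,2] .nil) 8389768 [306,2,2] .nil)) 8389776
  [402,5,2,4,1] (.node (.node (.node .nil 8389792 [306,6,4,1,0] .nil) 8389824 [402,5,0,3,3] (.node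
  .nil 8389889 [402,4,2,4,3,0] .nil)) 8389890 [402,0,6,5] (.node (.node .nil 8389892 [402,0,4,6,1]
  .nil) 8389896 [402,3,6,6] .nil))) 8389904 [402,1,4,0,2] (.node (.node (.node (.node .nil 8389920
  [402,7,4,7] .nil) 8389952 [402,7,3,4,3] (.node .nil 8390016 [402,1,5,3,0] .nil)) 8390145
  [306,0,5,3] (.node (.node .nil 8390146 [306,0,4] .nil) 8390148 [306,0,7,2,0] .nil)) 8390152
  [1458,7,4] (.node (.node (.node .nil 8390160 [402,1,4,0] .nil) 8390176 [306,2,5,6,0] (.node .nil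
  8390208 [402,0,1,3,0] .nil)) 8390272 [402,2,2,7,7] (.node (.node .nil 8390400 [402,0,5,0,4] .nil)
  8390659 [402,2,3,2,6] .nil))))) 8390661 [402,1,4,6,4] (.node (.node (.node (.node (.node (.node
  .nil 8390662 [402,5,7,4,2] .nil) 8390665 [402,1,5,3,3] (.node .nil 8390666 [402,3,6,2,0] .nil))
  8390668 [402,6,5,4,5] (.node (.node .nil 8390673 [306,5,7] .nil) 8390674 [306,1,7,3] .nil)) 8390676
  [1458,0,3] (.node (.node (.node .nil 8390680 [306,1,2,3,0] .nil) 8390689 [402,6,5,6,4] (.node .nil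
  8390690 [402,7,6,3] .nil)) 8390692 [402,7,4,7,1] (.node (.node .nil 8390696 [402,5,5,0,1] .nil)
  8390704 [306,4,3,3] .nil))) 8390721 [306,2,1,0] (.node (.node (.node (.node .nil 8390722
  [306,0,3,2] .nil) 8390724 [306,2,4,3] (.node .nil 8390728 [306,7,3,2] .nil)) 8390736 [402,1,6,3,0]
  (.node (.node .nil 8390752 [1458,3,7] .nil) 8390785 [306,0,5,1] .nil)) 8390786 [1458,0,5] (.node
  (.node (.node .nil 8390788 [306,1,3,1] .nil) 8390792 [306,6,7,0] (.node .nil 8390800 [402,1,5,1]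
  .nil)) 8390816 [306,6,7] (.node (.node .nil 8390848 [402,7,4,3] .nil) 8390913 [402,6,1,1,4]
  .nil)))) 8390914 [402,1,2,7,2] (.node (.node (.node (.node (.node .nil 8390916 [402,1,0,6,3] .nil)
  8390920 [402,5,5,0,2] (.node .nil 8390928 [402,6,3,2] .nil)) 8390944 [402,2,4,1,0] (.node (.node
  .nil 8390976 [402,6,6,0] .nil) 8391040 [402,2,2,4] .nil)) 8391169 [306,3,6] (.node (.node (.node
  .nil 8391170 [306,7,2,2] .nil) 8391172 [306,4,4,5] (.node .nil 8391176 [306,1] .nil)) 8391184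
  [402,5,3,4] (.node (.node .nil 8391200 [306,1,4,1,1] .nil) 8391232 [402,0,5,1,4] .nil))) 8391296
  [402,0,6,3,3] (.node (.node (.node (.node .nil 8391424 [402,5,3,3,0] .nil) 8391681 [1458,4,0,0]
  (.node .nil 8391682 [306,1,6,4,0] .nil)) 8391684 [306,1,1,3] (.node (.node .nil 8391688 [306,4,5,7]
  .nil) 8391696 [402,1,3,6,6] .nil)) 8391712 [306,2,0] (.node (.node (.node .nil 8391744 [402,2,5,4]
  .nil) 8391808 [402,5,6,3,3,0] .nil) 8391936 [402,3,4,7,3] (.node (.node .nil 8392192 [402,0,2,7,2]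
  .nil) 8392707 [402,2,4,0] .nil))))))) 8392709 [402,3,6,0] (.node (.node (.node (.node (.node (.node
  (.node (.node .nil 8392710 [402,6,4,6,4] .nil) 8392713 [402,6,2,3,0] (.node .nil 8392714
  [402,1,0,1,1] .nil)) 8392716 [402,7,2,1,1] (.node (.node .nil 8392721 [306,3,5,5] .nil) 8392722
  [306,6,4,2,0] .nil)) 8392724 [306,2,2,1] (.node (.node (.node .nil 8392728 [306,1,2,3] .nil)
  8392737 [402,6,1,7,2] (.node .nil 8392738 [402,3,5,3] .nil)) 8392740 [402,3,5,0,2] (.node (.node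
  .nil 8392744 [402,5,5,3,4] .nil) 8392752 [306,5,1] .nil))) 8392769 [306,7,1,4] (.node (.node (.node
  (.node .nil 8392770 [1458,7,4,0] .nil) 8392772 [306,5,4,0] (.node .nil 8392776 [306,6,1,6] .nil))
  8392784 [402,0,1,0,1] (.node (.node .nil 8392800 [306,7,6] .nil) 8392833 [306,2,5,3] .nil)) 8392834
  [306,2,2,4,0] (.node (.node (.node .nil 8392836 [306,7,5,7] .nil) 8392840 [306,6,1,6,1] (.node .nil
  8392848 [402,4,2,3,4] .nil)) 8392864 [1458,7,2] (.node (.node .nil 8392896 [402,7,5,7] .nil)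
  8392961 [402,1,7,5,0] .nil)))) 8392962 [402,1,5,4,1] (.node (.node (.node (.node (.node .nil
  8392964 [402,6,7,6,3] .nil) 8392968 [402,6,2,1,0] (.node .nil 8392976 [402,5,6] .nil)) 8392992
  [402,3,4,4,0] (.node (.node .nil 8393024 [402,5,4,2,1] .nil) 8393088 [402,5,1,2,1] .nil)) 8393217
  [1458,1,0] (.node (.node (.node .nil 8393218 [306,3,4,4] .nil) 8393220 [306,5,7,0] (.node .nil
  8393224 [306,0,1] .nil)) 8393232 [402,1,6,0,1] (.node (.node .nil 8393248 [306,7,2,0] .nil) 8393280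
  [402,7,0,0] .nil))) 8393344 [402,3,6,6,1] (.node (.node (.node (.node .nil 8393472 [402,2,3,4,0]
  .nil) 8393729 [306,0,4,3] (.node .nil 8393730 [306,1,2,1] .nil)) 8393732 [306,2,4,1] (.node (.node
  .nil 8393736 [306,3,6,1] .nil) 8393744 [402,4,1,4] .nil)) 8393760 [306,6,6] (.node (.node (.node
  .nil 8393792 [402,4,4,2,1] .nil) 8393856 [402,7,6,4,0] (.node .nil 8393984 [402,0,1,5,0] .nil))
  8394240 [402,2,4,1] (.node (.node .nil 8394753 [306,4,3] .nil) 8394754 [306,0,6,0] .nil)))))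
  8394756 [306,0,2,0] (.node (.node (.node (.node (.node (.node .nil 8394760 [1458,7,6,0] .nil)
  8394768 [402,2,4,5,4,0] (.node .nil 8394784 [306,7,4] .nil)) 8394816 [402,7,7,4,2] (.node (.node
  .nil 8394880 [402,7,2,1,0] .nil) 8395008 [402,3,7,7,2] .nil)) 8395264 [402,7,2,2] (.node (.node
  (.node .nil 8395776 [402,2,5,6,4] .nil) 8396803 [402,7,6] (.node .nil 8396805 [402,7,0,2] .nil))
  8396806 [402,5,2,3,1] (.node (.node .nil 8396809 [402,5,5,2,1] .nil) 8396810 [402,5,6,5] .nil)))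
  8396812 [402,4,7,6,4,0] (.node (.node (.node (.node .nil 8396817 [402,4,4,3,0] .nil) 8396818
  [402,2,7,3,0] (.node .nil 8396820 [402,3,0,0] .nil)) 8396824 [402,2,6,5,0] (.node (.node .nil
  8396833 [402,4,0,0,7] .nil) 8396834 [402,3,2,0,0] .nil)) 8396836 [402,2,5,5,1] (.node (.node (.node
  .nil 8396840 [402,5,1,4] .nil) 8396848 [402,1,2,2,1] (.node .nil 8396865 [402,0,5,5,3] .nil))
  8396866 [402,4,2,0] (.node (.node .nil 8396868 [402,4,3,2,5] .nil) 8396872 [402,2,4,5,4] .nil))))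
  8396880 [402,3,0,0,2] (.node (.node (.node (.node (.node .nil 8396896 [402,2,6,4,2,0] .nil) 8396929
  [402,4,5,2] (.node .nil 8396930 [402,4,5,5,0] .nil)) 8396932 [402,6,3,2,0] (.node (.node .nil
  8396936 [402,3,3,1] .nil) 8396944 [402,3,4,4] .nil)) 8396960 [402,4,1,0,1] (.node (.node (.node
  .nil 8396992 [402,5,5,0] .nil) 8397057 [306,2,4,2,0] (.node .nil 8397058 [306,2,1,5] .nil)) 8397060
  [1458,7,3,1] (.node (.node .nil 8397064 [306,0,3,0] .nil) 8397072 [402,4,4,6,1] .nil))) 8397088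
  [306,5,1,4] (.node (.node (.node (.node .nil 8397120 [402,5,7,7] .nil) 8397184 [402,6,5,4] (.node
  .nil 8397313 [402,6,7,0,0] .nil)) 8397314 [402,1,1,1,3] (.node (.node .nil 8397316 [402,6,6,2,5]
  .nil) 8397320 [402,7,1,3,0] .nil)) 8397328 [402,3,7,4,5] (.node (.node (.node .nil 8397344
  [402,2,2,4,0] .nil) 8397376 [402,5,6,6,2] .nil) 8397440 [402,4,6,4,0] (.node (.node .nil 8397568
  [402,6,7,6,1] .nil) 8397825 [402,4,6,1,5] .nil)))))) 8397826 [402,4,1,4,3] (.node (.node (.node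
  (.node (.node (.node (.node .nil 8397828 [402,1,7,3,5] .nil) 8397832 [402,5,6,7,6] (.node .nil
  8397840 [402,2,4,7] .nil)) 8397856 [402,1,4,3,0] (.node (.node .nil 8397888 [402,7,4,3,3] .nil)
  8397952 [402,3,6,1,3] .nil)) 8398080 [402,2,2,2,6] (.node (.node (.node .nil 8398336 [402,0,7,0,4]
  .nil) 8398849 [402,6,1,5,1] (.node .nil 8398850 [402,3,2,7,1] .nil)) 8398852 [402,7,7,6] (.node
  (.node .nil 8398856 [402,2,7,7,0,0] .nil) 8398864 [402,0,5,2,2] .nil))) 8398880 [402,0,5,4] (.node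
  (.node (.node (.node .nil 8398912 [402,1,6,1,0] .nil) 8398976 [402,1,0,1] (.node .nil 8399104
  [402,5,5] .nil)) 8399360 [402,2,7,5,1] (.node (.node .nil 8399872 [402,4,6,0,2] .nil) 8400897
  [402,1,3,5,1] .nil)) 8400898 [402,3,0,6,0] (.node (.node (.node .nil 8400900 [402,3,5,7] .nil)
  8400904 [402,2,6,6] (.node .nil 8400912 [402,0,4,6] .nil)) 8400928 [402,1,6,4] (.node (.node .nil
  8400960 [402,1,2,7,1] .nil) 8401024 [402,2,3,6,7] .nil)))) 8401152 [402,1,3,0,1] (.node (.node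
  (.node (.node (.node .nil 8401408 [402,6,0,4,2] .nil) 8401920 [402,7,4,7,4,0] (.node .nil 8402944
  [402,6,2,2,4] .nil)) 8404995 [1458,5,0,1] (.node (.node .nil 8404997 [1458,6,2] .nil) 8404998
  [3762,2] .nil)) 8405001 [3762,3] (.node (.node (.node .nil 8405002 [1458,7,7] .nil) 8405004
  [1458,2,5,2] (.node .nil 8405009 [402,5,4,7,1] .nil)) 8405010 [402,5,6,3] (.node (.node .nil
  8405012 [402,6,2] .nil) 8405016 [402,6,1,0] .nil))) 8405025 [1458,4,1,1] (.node (.node (.node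
  (.node .nil 8405026 [1458,0,0] .nil) 8405028 [1458,0,0,0] (.node .nil 8405032 [1458,2,2] .nil))
  8405040 [402,2,3,5] (.node (.node .nil 8405057 [402,3,2,4,7] .nil) 8405058 [402,5,0,2,1] .nil))
  8405060 [402,7,2,0,2] (.node (.node (.node .nil 8405064 [402,3,2,5,2] .nil) 8405072 [306,5,5,5]
  .nil) 8405088 [402,6,6,1,3] (.node (.node .nil 8405121 [402,3,3,0,2] .nil) 8405122 [402,5,0,1]
  .nil))))) 8405124 [402,5,1,6] (.node (.node (.node (.node (.node (.node .nil 8405128 [402,7,5,5]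
  .nil) 8405136 [1458,5,1,0] (.node .nil 8405152 [402,7,7,3,1] .nil)) 8405184 [306,4,5,5] (.node
  (.node .nil 8405249 [402,5,5,3,2] .nil) 8405250 [402,6,5,7,1] .nil)) 8405252 [402,0,2,7,4] (.node
  (.node (.node .nil 8405256 [402,4,2,6,7] .nil) 8405264 [402,7,1,2,3] (.node .nil 8405280
  [402,0,7,0,1] .nil)) 8405312 [402,7,5,1,0] (.node (.node .nil 8405376 [402,1,2,4] .nil) 8405505
  [402,7,1,4,0] .nil))) 8405506 [402,3,5,2] (.node (.node (.node (.node .nil 8405508 [402,0,0,2,3]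
  .nil) 8405512 [402,3,5,1,0] (.node .nil 8405520 [306,5,4] .nil)) 8405536 [402,2,3,3,0] (.node
  (.node .nil 8405568 [306,7,0,0] .nil) 8405632 [306,5,6] .nil)) 8405760 [402,3,3,2,0] (.node (.node
  (.node .nil 8406017 [402,5,7,1,2] .nil) 8406018 [402,6,6,3,0] (.node .nil 8406020 [402,0,3,4,1]
  .nil)) 8406024 [402,7,4,1,0] (.node (.node .nil 8406032 [306,5,0] .nil) 8406048 [402,0,0] .nil))))
  8406080 [306,0,2,3] (.node (.node (.node (.node (.node .nil 8406144 [306,5,0,1] .nil) 8406272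
  [402,7,7,3] (.node .nil 8406528 [306,0,0] .nil)) 8407041 [402,7,0,7,6] (.node (.node .nil 8407042
  [402,0,2,4] .nil) 8407044 [402,7,3,2,4] .nil)) 8407048 [402,5,6,4,1] (.node (.node (.node .nil
  8407056 [306,1,4,4] .nil) 8407072 [402,3,2,2,0] (.node .nil 8407104 [306,6,6,0] .nil)) 8407168
  [306,2,3,3] (.node (.node .nil 8407296 [402,3,7,7] .nil) 8407552 [1458,5,2] .nil))) 8408064
  [306,4,2,0,1] (.node (.node (.node (.node .nil 8409089 [402,4,4,2,0] .nil) 8409090 [402,0,1,0,4]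
  (.node .nil 8409092 [402,0,6,4] .nil)) 8409096 [402,1,3] (.node (.node .nil 8409104 [306,7,1,1]
  .nil) 8409120 [402,4,5,2,0] .nil)) 8409152 [306,1,3] (.node (.node (.node .nil 8409216 [306,4,2,4]
  .nil) 8409344 [402,2,7,0,1] .nil) 8409600 [306,0] (.node (.node .nil 8410112 [1458,7,1] .nil)
  8411136 [306,4,2,0] .nil)))))))) 8413185 [402,5,7,4] (.node (.node (.node (.node (.node (.node
  (.node (.node (.node .nil 8413186 [402,6,5,5,0] .nil) 8413188 [402,5,4,6,0] (.node .nil 8413192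
  [402,0,1,0,3] .nil)) 8413200 [402,0,3,7] (.node (.node .nil 8413216 [402,6,2,0] .nil) 8413248
  [402,5,4,7] .nil)) 8413312 [402,5,1,4,3] (.node (.node (.node .nil 8413440 [306,6,5,4] .nil)
  8413696 [402,1,6,3,3] (.node .nil 8414208 [402,2,5,4,3] .nil)) 8415232 [402,4,5,5,4] (.node (.node
  .nil 8417280 [402,2,2,5,0] .nil) 8421379 [402,3,0,1,4] .nil))) 8421381 [402,0,5,3,4] (.node (.node
  (.node (.node .nil 8421382 [402,3,4,4,7] .nil) 8421385 [402,6,5,2] (.node .nil 8421386 [402,6,2,1]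
  .nil)) 8421388 [402,7,6,6,2] (.node (.node .nil 8421393 [402,6,1,6] .nil) 8421394 [402,3,5,3,1]
  .nil)) 8421396 [402,3,1,2] (.node (.node (.node .nil 8421400 [402,0,7,6,4] .nil) 8421409
  [402,5,3,5] (.node .nil 8421410 [402,5,5,2,0] .nil)) 8421412 [402,4,6,3] (.node (.node .nil 8421416
  [402,6,4,3,0] .nil) 8421424 [402,1,4,4,3] .nil)))) 8421441 [402,0,2,3,0] (.node (.node (.node
  (.node (.node .nil 8421442 [402,6,4,6] .nil) 8421444 [402,0,1,6,0] (.node .nil 8421448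
  [402,6,7,3,1] .nil)) 8421456 [402,0,5,5] (.node (.node .nil 8421472 [402,4,7,3] .nil) 8421505
  [402,7,0,2,3] .nil)) 8421506 [402,6,5,7] (.node (.node (.node .nil 8421508 [402,1,5,1,4] .nil)
  8421512 [402,1,0,5,5] (.node .nil 8421520 [402,1,0,4] .nil)) 8421536 [402,7,6,1] (.node (.node .nil
  8421568 [402,5,0,1,1] .nil) 8421633 [306,3,4,0,0] .nil))) 8421634 [306,5,6,1] (.node (.node (.node
  (.node .nil 8421636 [306,5,0,7,0] .nil) 8421640 [306,3,3,3] (.node .nil 8421648 [402,2,0,2] .nil))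
  8421664 [306,1,6,1,0] (.node (.node .nil 8421696 [402,7,5,3,1] .nil) 8421760 [402,3,4,0,0] .nil))
  8421889 [402,2,1,6,5] (.node (.node (.node .nil 8421890 [402,6,7,0,1] .nil) 8421892 [402,4,6,3,2]
  (.node .nil 8421896 [402,1,5,1,0] .nil)) 8421904 [402,1,3,2,0] (.node (.node .nil 8421920
  [402,6,5,2,3] .nil) 8421952 [402,0,0,4] .nil))))) 8422016 [402,6,7,3] (.node (.node (.node (.node
  (.node (.node .nil 8422144 [402,3,4,1,2] .nil) 8422401 [402,7,2,0] (.node .nil 8422402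
  [402,2,3,6,0] .nil)) 8422404 [402,2,3,4,0,0] (.node (.node .nil 8422408 [402,2,0,0] .nil) 8422416
  [402,4,0,3,3] .nil)) 8422432 [402,3,5,3,0] (.node (.node (.node .nil 8422464 [402,6,1,5,5] .nil)
  8422528 [402,3,6,7] (.node .nil 8422656 [402,0,6,7,6] .nil)) 8422912 [402,5,6,3,1] (.node (.node
  .nil 8423425 [402,2,3,6,1] .nil) 8423426 [402,6,3,3,3] .nil))) 8423428 [402,7,7,6,7] (.node (.node
  (.node (.node .nil 8423432 [402,6,5,6,3] .nil) 8423440 [402,5,4,5,2] (.node .nil 8423456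
  [402,2,7,1,2] .nil)) 8423488 [402,0,2,0,3] (.node (.node .nil 8423552 [402,4,3,6,1] .nil) 8423680
  [402,6,3,0,4] .nil)) 8423936 [402,7,5,1] (.node (.node (.node .nil 8424448 [402,6,0,3,1] .nil)
  8425473 [402,6,5,0,0] (.node .nil 8425474 [402,7,7,5,1] .nil)) 8425476 [402,6,0,5,3] (.node (.node
  .nil 8425480 [402,0,3,7,5] .nil) 8425488 [402,4,7] .nil)))) 8425504 [402,0,3] (.node (.node (.node
  (.node (.node .nil 8425536 [402,3,1,6,0] .nil) 8425600 [402,0,2,4,1] (.node .nil 8425728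
  [402,2,1,0] .nil)) 8425984 [402,3,4,1] (.node (.node .nil 8426496 [402,7,6,6,3] .nil) 8427520
  [402,3,1,5,2] .nil)) 8429569 [306,3,2,1] (.node (.node (.node .nil 8429570 [1458,0,5,1] .nil)
  8429572 [306,5,6,0] (.node .nil 8429576 [306,6,5,1,1] .nil)) 8429584 [402,3,1,1,1,1] (.node (.node
  .nil 8429600 [306,6,5,1] .nil) 8429632 [402,5,4,1,4] .nil))) 8429696 [402,4,3,3,1] (.node (.node
  (.node (.node .nil 8429824 [402,3,0,1,1] .nil) 8430080 [402,7,1,1,0] (.node .nil 8430592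
  [402,7,1,0,2] .nil)) 8431616 [402,1,7,2,1] (.node (.node .nil 8433664 [402,6,1,6,4] .nil) 8437761
  [402,2,0,1,2] .nil)) 8437762 [402,4,7,3,0] (.node (.node (.node .nil 8437764 [402,7,4,1] .nil)
  8437768 [402,7,6,4,2] .nil) 8437776 [402,4,6,2,0] (.node (.node .nil 8437792 [402,5,6,7] .nil)
  8437824 [402,4,4,7] .nil)))))) 8437888 [402,7,3,4,0] (.node (.node (.node (.node (.node (.node
  (.node .nil 8438016 [1458,3,2,4] .nil) 8438272 [402,0,2] (.node .nil 8438784 [402,7,1] .nil))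
  8439808 [402,0,0,4,1] (.node (.node .nil 8441856 [402,1,3,2] .nil) 8445952 [306,6,1,2,0] .nil))
  8454147 [402,4,4,0,2] (.node (.node (.node .nil 8454149 [402,5,7,6,0] .nil) 8454150 [402,3,1,0]
  (.node .nil 8454153 [402,2,6,4] .nil)) 8454154 [402,1,5,5] (.node (.node .nil 8454156 [402,5,6,1,2]
  .nil) 8454161 [402,6,1,5,0] .nil))) 8454162 [402,4,0,7] (.node (.node (.node (.node .nil 8454164
  [402,5,4,4,3] .nil) 8454168 [402,6,3,0,5] (.node .nil 8454177 [402,4,4,3] .nil)) 8454178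
  [402,2,5,2,7] (.node (.node .nil 8454180 [402,6,7,1,4] .nil) 8454184 [402,4,3,1] .nil)) 8454192
  [402,2,7,2,6] (.node (.node (.node .nil 8454209 [402,0,1,1] .nil) 8454210 [402,3,4,4,1] (.node .nil
  8454212 [402,4,3,5,0] .nil)) 8454216 [402,1,4] (.node (.node .nil 8454224 [402,7,3,2,3] .nil)
  8454240 [402,4,3,2] .nil)))) 8454273 [402,0,5,1] (.node (.node (.node (.node (.node .nil 8454274
  [402,6,1,4,1] .nil) 8454276 [402,6,0,1] (.node .nil 8454280 [402,3,3,2,1] .nil)) 8454288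
  [402,4,3,5,1,0] (.node (.node .nil 8454304 [402,6,7] .nil) 8454336 [402,4,0,1,5] .nil)) 8454401
  [306,0,2,7] (.node (.node (.node .nil 8454402 [306,7,6,6,0] .nil) 8454404 [306,1,4,7] (.node .nil
  8454408 [306,2,3,0] .nil)) 8454416 [402,7,3,6,0] (.node (.node .nil 8454432 [306,5,3,4,0] .nil)
  8454464 [402,5,3,6,0] .nil))) 8454528 [402,3,1,0,1] (.node (.node (.node (.node .nil 8454657
  [402,1,1,3,0] .nil) 8454658 [402,6,6,4,1] (.node .nil 8454660 [402,0,0,1,1] .nil)) 8454664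
  [402,5,2,1] (.node (.node .nil 8454672 [402,4,4,2] .nil) 8454688 [402,7,2,2,1] .nil)) 8454720
  [402,4,1,2] (.node (.node (.node .nil 8454784 [402,5,5,4] .nil) 8454912 [402,7,4,4,0] (.node .nil
  8455169 [402,6,4,3] .nil)) 8455170 [402,3,3,0,5] (.node (.node .nil 8455172 [402,5,4,3,1] .nil)
  8455176 [402,5,1] .nil))))) 8455184 [402,4,7,5] (.node (.node (.node (.node (.node (.node .nil
  8455200 [402,5,2,0] .nil) 8455232 [402,1,4,1,4] (.node .nil 8455296 [402,3,3,3,0] .nil)) 8455424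
  [402,1,1,0] (.node (.node .nil 8455680 [402,4,1,0,4,0] .nil) 8456193 [402,3,6,2] .nil)) 8456194
  [402,4,2,1,7] (.node (.node (.node .nil 8456196 [402,4,7,5,1] .nil) 8456200 [402,2,3,2,1] (.node
  .nil 8456208 [402,5,2,1,3] .nil)) 8456224 [402,7,3,1,0] (.node (.node .nil 8456256 [402,1,3,4,0,0]
  .nil) 8456320 [402,6,7,2] .nil))) 8456448 [402,5,2,4,0] (.node (.node (.node (.node .nil 8456704
  [402,3,6] .nil) 8457216 [402,5,7,3,6] (.node .nil 8458241 [402,3,7] .nil)) 8458242 [402,7,1,1,3]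
  (.node (.node .nil 8458244 [402,4,3,6] .nil) 8458248 [402,4,5,0,2] .nil)) 8458256 [402,4] (.node
  (.node (.node .nil 8458272 [402,3,0,1] .nil) 8458304 [402,0,3,3,2] (.node .nil 8458368
  [402,6,7,5,0] .nil)) 8458496 [402,1,2] (.node (.node .nil 8458752 [402,3,6,4,2] .nil) 8459264
  [402,2,1,5] .nil)))) 8460288 [402,0,0,0] (.node (.node (.node (.node (.node .nil 8462337
  [306,3,4,1] .nil) 8462338 [306,2,5,4] (.node .nil 8462340 [306,2,3,1] .nil)) 8462344 [1458,0,6]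
  (.node (.node .nil 8462352 [402,7,7,7] .nil) 8462368 [306,4,6,7] .nil)) 8462400 [402,6,1,1,3,0]
  (.node (.node (.node .nil 8462464 [402,3,1,7] .nil) 8462592 [402,4,0,6,1] (.node .nil 8462848
  [402,0,0,4,6] .nil)) 8463360 [402,0,2,2,0] (.node (.node .nil 8464384 [402,3,3,3] .nil) 8466432
  [402,3,0,5] .nil))) 8470529 [402,4,3,6,0] (.node (.node (.node (.node .nil 8470530 [402,1,2,3]
  .nil) 8470532 [402,6,3,7,2,0] (.node .nil 8470536 [402,3,2,7] .nil)) 8470544 [402,1,6,7,6] (.node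
  (.node .nil 8470560 [402,2,4,5] .nil) 8470592 [402,5,4,6,2] .nil)) 8470656 [402,0,6,7,0,0] (.node
  (.node (.node .nil 8470784 [306,1,3,3] .nil) 8471040 [402,7,4,1,3] .nil) 8471552 [402,4,4,5] (.node
  (.node .nil 8472576 [402,3,6,5,0] .nil) 8474624 [402,6,1,6,5] .nil))))))) 8478720 [306,3,4] (.node
  (.node (.node (.node (.node (.node (.node (.node .nil 8486913 [306,0,5,4] .nil) 8486914 [306,0,1,5]
  (.node .nil 8486916 [306,3,1,0] .nil)) 8486920 [306,6,5,0] (.node (.node .nil 8486928 [402,6,6,5]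
  .nil) 8486944 [1458,6,7,0] .nil)) 8486976 [402,0,3,3] (.node (.node (.node .nil 8487040
  [402,1,6,3,1] .nil) 8487168 [402,4,1,0,2] (.node .nil 8487424 [402,5,0,2,0] .nil)) 8487936
  [402,3,6,3,2] (.node (.node .nil 8488960 [402,6,6,0,4] .nil) 8491008 [402,1,4,4] .nil))) 8495104
  [402,0,0,2,1] (.node (.node (.node (.node .nil 8503296 [306,2,7,0] .nil) 8519683 [3762] (.node .nil
  8519685 [1458,6,4] .nil)) 8519686 [1458,2,7,1] (.node (.node .nil 8519689 [1458,5,7] .nil) 8519690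
  [1458,2,3,3] .nil)) 8519692 [3762,4,1] (.node (.node (.node .nil 8519697 [402,4,3,4,3] .nil)
  8519698 [402,5,7,0,1] (.node .nil 8519700 [402,4,6] .nil)) 8519704 [402,1,1,6,4] (.node (.node .nil
  8519713 [1458,4,3,0] .nil) 8519714 [1458,2,6] .nil)))) 8519716 [1458,7,5] (.node (.node (.node
  (.node (.node .nil 8519720 [1458,3,2] .nil) 8519728 [402,2,1,2,0] (.node .nil 8519745 [402,0,2,2,1]
  .nil)) 8519746 [402,5,7,1,6] (.node (.node .nil 8519748 [402,0,5,6] .nil) 8519752 [402,7,2,5,0]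
  .nil)) 8519760 [306,0,7,1] (.node (.node (.node .nil 8519776 [402,5,1,5,4] .nil) 8519809
  [402,1,1,2,0] (.node .nil 8519810 [402,7,0,3,6] .nil)) 8519812 [402,3,2,4] (.node (.node .nil
  8519816 [402,0,3,4,4] .nil) 8519824 [306,7,4,2] .nil))) 8519840 [402,0,6,1] (.node (.node (.node
  (.node .nil 8519872 [306,4,7,0] .nil) 8519937 [402,2,0,0,1] (.node .nil 8519938 [402,4,3,2,0]
  .nil)) 8519940 [402,1,7,3,0] (.node (.node .nil 8519944 [402,4,0,0] .nil) 8519952 [402,4,5,4,0]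
  .nil)) 8519968 [402,0,3,1] (.node (.node (.node .nil 8520000 [402,1,7,1,0] .nil) 8520064
  [402,4,6,1] (.node .nil 8520193 [402,0,4,5] .nil)) 8520194 [402,5,3,1] (.node (.node .nil 8520196
  [402,6,0,6,5] .nil) 8520200 [402,7,3,6,1] .nil))))) 8520208 [306,7,2,5] (.node (.node (.node (.node
  (.node (.node .nil 8520224 [402,0,6,2,1] .nil) 8520256 [1458,3,3] (.node .nil 8520320 [306,1,4,5]
  .nil)) 8520448 [402,5,1,5] (.node (.node .nil 8520705 [402,5,6,6] .nil) 8520706 [402,7,0,5,2]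
  .nil)) 8520708 [402,7,3,0] (.node (.node (.node .nil 8520712 [402,1,4,1] .nil) 8520720 [306,5,0,0]
  (.node .nil 8520736 [402,6,1,1] .nil)) 8520768 [306,4,7] (.node (.node .nil 8520832 [1458,6,0,0]
  .nil) 8520960 [402,0,3,1,2] .nil))) 8521216 [306,0,7,3] (.node (.node (.node (.node .nil 8521729
  [402,0,4,3,0] .nil) 8521730 [402,4,5,4] (.node .nil 8521732 [402,7,5] .nil)) 8521736 [402,1,4,2,1]
  (.node (.node .nil 8521744 [306,2,3] .nil) 8521760 [402,1,0,6] .nil)) 8521792 [306,5,1,1] (.node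
  (.node (.node .nil 8521856 [306,4,1,0] .nil) 8521984 [402,3,7,0,1] (.node .nil 8522240 [306,1,3,2]
  .nil)) 8522752 [306,7,5] (.node (.node .nil 8523777 [402,7,1,5,0] .nil) 8523778 [402,6,4,4]
  .nil)))) 8523780 [402,0,4] (.node (.node (.node (.node (.node .nil 8523784 [402,4,3,3,0] .nil)
  8523792 [1458,4,0] (.node .nil 8523808 [402,2,7,6,0] .nil)) 8523840 [306,3,3,0] (.node (.node .nil
  8523904 [306,1,4] .nil) 8524032 [402,2,7,7] .nil)) 8524288 [306,4,3,4] (.node (.node (.node .nil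
  8524800 [306,2,5] .nil) 8525824 [306,0,2] (.node .nil 8527873 [402,2,1,7] .nil)) 8527874
  [402,2,5,6,5] (.node (.node .nil 8527876 [402,2,4,3,4] .nil) 8527880 [402,2,1,6,2] .nil))) 8527888
  [402,6,5,5,7] (.node (.node (.node (.node .nil 8527904 [402,1,2,4,0] .nil) 8527936 [402,6,2,6]
  (.node .nil 8528000 [402,1,5,0,2] .nil)) 8528128 [306,2,4,4] (.node (.node .nil 8528384
  [402,3,1,5,0] .nil) 8528896 [402,3,1,6] .nil)) 8529920 [402,7,4,6,3] (.node (.node (.node .nil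
  8531968 [402,1,3,3] .nil) 8536065 [1458,7,3] .nil) 8536066 [1458,3,4,0] (.node (.node .nil 8536068
  [1458,7,3,0] .nil) 8536072 [1458,2,4] .nil)))))) 8536080 [402,0,4,6,6] (.node (.node (.node (.node
  (.node (.node (.node .nil 8536096 [3762,1] .nil) 8536128 [402,6,4,6,0] (.node .nil 8536192
  [402,1,5,0] .nil)) 8536320 [402,6,7,6] (.node (.node .nil 8536576 [402,7,2,4,1] .nil) 8537088
  [402,7,5,2,3] .nil)) 8538112 [402,3,3,4,0] (.node (.node (.node .nil 8540160 [402,7,3,7,6] .nil)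
  8544256 [402,1] (.node .nil 8552449 [402,1,2,6] .nil)) 8552450 [402,4,5,1,2] (.node (.node .nil
  8552452 [402,5,1,2,4] .nil) 8552456 [402,7,3,3,1] .nil))) 8552464 [402,1,6,1] (.node (.node (.node
  (.node .nil 8552480 [402,2,1,5,7] .nil) 8552512 [402,4,3,4,1] (.node .nil 8552576 [402,5,4,3,0]
  .nil)) 8552704 [306,1,6,1] (.node (.node .nil 8552960 [402,0,0,0,2] .nil) 8553472 [402,2,5,2,3]
  .nil)) 8554496 [402,7,5,2] (.node (.node (.node .nil 8556544 [402,2,3,0] .nil) 8560640 [306,1,7,0]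
  (.node .nil 8568832 [402,7,6,2,2] .nil)) 8585217 [402,6,0,7,7] (.node (.node .nil 8585218
  [402,5,1,0] .nil) 8585220 [402,6,1,3,0] .nil)))) 8585224 [402,7,4,7,2] (.node (.node (.node (.node
  (.node .nil 8585232 [402,7,7,0,2] .nil) 8585248 [402,4,1,7,4] (.node .nil 8585280 [402,2,1,4,1]
  .nil)) 8585344 [402,4,4,5,5] (.node (.node .nil 8585472 [1458,5] .nil) 8585728 [402,3,4,3] .nil))
  8586240 [402,3,6,1,1] (.node (.node (.node .nil 8587264 [402,0,4,5,3] .nil) 8589312 [402,3,1,0,3]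
  (.node .nil 8593408 [306,1,2,2] .nil)) 8601600 [402,7,3] (.node (.node .nil 8617984 [306,6,4] .nil)
  8650755 [402,6,6,5,2] .nil))) 8650757 [402,4,3,4] (.node (.node (.node (.node .nil 8650758
  [402,2,0,4,2] .nil) 8650761 [402,7,4,0] (.node .nil 8650762 [402,0,7,0,0] .nil)) 8650764
  [402,0,4,7,1] (.node (.node .nil 8650769 [402,7,2,6,4] .nil) 8650770 [402,3,1,3] .nil)) 8650772
  [402,6,2,2] (.node (.node (.node .nil 8650776 [402,7,2,1] .nil) 8650785 [402,4,2,1,0] .nil) 8650786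
  [402,0] (.node (.node .nil 8650788 [402,2,6,0] .nil) 8650792 [402,1,1,4,0] .nil))))) 8650800
  [402,0,5,7,3] (.node (.node (.node (.node (.node (.node .nil 8650817 [402,1,3,0,2] .nil) 8650818
  [402,5,3,3] (.node .nil 8650820 [402,2,3,7,3] .nil)) 8650824 [402,4,7,6] (.node (.node .nil 8650832
  [402,4,5] .nil) 8650848 [402,2,1,6] .nil)) 8650881 [402,6,0,7,2] (.node (.node (.node .nil 8650882
  [402,5,7,2] .nil) 8650884 [402,6,0,2,1] (.node .nil 8650888 [402,5,0,7] .nil)) 8650896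
  [402,7,1,2,1] (.node (.node .nil 8650912 [402,0,7,6,0] .nil) 8650944 [402,4,2,4,0] .nil))) 8651009
  [306,1,1] (.node (.node (.node (.node .nil 8651010 [306,2,2,6] .nil) 8651012 [306,4,5,1] (.node
  .nil 8651016 [1458,2,3] .nil)) 8651024 [402,6,3] (.node (.node .nil 8651040 [306,3,6,6,0] .nil)
  8651072 [402,1,3,2,2] .nil)) 8651136 [402,7,5,0,0] (.node (.node (.node .nil 8651265 [402,6,7,1,2]
  .nil) 8651266 [402,3,7,3,1] (.node .nil 8651268 [402,3,2,5,0] .nil)) 8651272 [402,3,2,2] (.node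
  (.node .nil 8651280 [402,3,0,4,4] .nil) 8651296 [402,5,3,6,7] .nil)))) 8651328 [402,7,7,1] (.node
  (.node (.node (.node (.node .nil 8651392 [402,4,6,6,5] .nil) 8651520 [402,6,3,7] (.node .nil
  8651777 [402,1,3,6] .nil)) 8651778 [402,1,5,4,0] (.node (.node .nil 8651780 [402,2,7] .nil) 8651784
  [402,2,7,4,2] .nil)) 8651792 [402,6,7,0,2] (.node (.node (.node .nil 8651808 [402,2,5,0,0] .nil)
  8651840 [402,0,1,0,6] (.node .nil 8651904 [402,4,2,5,4] .nil)) 8652032 [402,1,5,2,1] (.node (.node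
  .nil 8652288 [402,5,3,2,3] .nil) 8652801 [402,4,1,2,2] .nil))) 8652802 [402,4,2,1] (.node (.node
  (.node (.node .nil 8652804 [402,2,6,0,2] .nil) 8652808 [402,6] (.node .nil 8652816 [402,6,4,3,1]
  .nil)) 8652832 [402,4,7,2] (.node (.node .nil 8652864 [402,5,1,1] .nil) 8652928 [402,6,3,3] .nil))
  8653056 [402,7,0,6,0] (.node (.node (.node .nil 8653312 [402,3,0,2] .nil) 8653824 [402,5,0,4,1]
  .nil) 8654849 [402,3,6,0,2] (.node (.node .nil 8654850 [402,7,3,6] .nil) 8654852 [402,1,0,1,6]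
  .nil))))))))) 8654856 [402,4,5,7,1] (.node (.node (.node (.node (.node (.node (.node (.node (.node
  (.node .nil 8654864 [402,3,4,0] .nil) 8654880 [402,5,3,6] (.node .nil 8654912 [402,0,1,3] .nil))
  8654976 [402,3,7,4] (.node (.node .nil 8655104 [402,7,5,1,2] .nil) 8655360 [402,0,2,3] .nil))
  8655872 [402,2,4,1,2] (.node (.node (.node .nil 8656896 [402,1,5,7] .nil) 8658945 [306,7,7,0,0]
  (.node .nil 8658946 [306,5,6,5] .nil)) 8658948 [306,0,4,4] (.node (.node .nil 8658952 [306,0,4,4,0]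
  .nil) 8658960 [402,6,5,2,0] .nil))) 8658976 [306,6,4,0] (.node (.node (.node (.node .nil 8659008
  [402,0,2,0] .nil) 8659072 [402,6,4,0] (.node .nil 8659200 [402,4,1,5,0] .nil)) 8659456
  [402,2,5,2,0] (.node (.node .nil 8659968 [402,4,7,4] .nil) 8660992 [402,2,6,7] .nil)) 8663040
  [402,6,0,4,1] (.node (.node (.node .nil 8667137 [402,1,7,2,2] .nil) 8667138 [402,6,3,1,0] (.node
  .nil 8667140 [402,4,4,2,0,0] .nil)) 8667144 [402,7,2,5] (.node (.node .nil 8667152 [402,2,7,0,4]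
  .nil) 8667168 [402,7,6,7] .nil)))) 8667200 [402,3,7,5] (.node (.node (.node (.node (.node .nil
  8667264 [402,2,5,2,4,0] .nil) 8667392 [306,1,0,1] (.node .nil 8667648 [402,2,1,1,0] .nil)) 8668160
  [402,3,2,4,1] (.node (.node .nil 8669184 [402,1,2,1] .nil) 8671232 [402,7,6,7,2] .nil)) 8675328
  [306,4,5,6] (.node (.node (.node .nil 8683521 [1458,4,2] .nil) 8683522 [306,4,0,0,1] (.node .nil
  8683524 [306,3,1] .nil)) 8683528 [306,1,0,0] (.node (.node .nil 8683536 [402,0,0,3,4] .nil) 8683552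
  [306,3,1,1] .nil))) 8683584 [402,3,1,2,3] (.node (.node (.node (.node .nil 8683648 [402,5,0,3,2]
  .nil) 8683776 [402,3,3,1,2] (.node .nil 8684032 [402,2,5,1] .nil)) 8684544 [402,2,1,4] (.node
  (.node .nil 8685568 [402,6,7,6,0] .nil) 8687616 [402,2,5,2,1] .nil)) 8691712 [402,2,4,3,1] (.node
  (.node (.node .nil 8699904 [306,1,0] .nil) 8716289 [306,7,2] (.node .nil 8716290 [306,7,6,2] .nil))
  8716292 [1458,3] (.node (.node .nil 8716296 [306,2,7,2] .nil) 8716304 [402,7,7,0,1] .nil)))))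
  8716320 [306,2,0,1,1] (.node (.node (.node (.node (.node (.node .nil 8716352 [402,7,4,2] .nil)
  8716416 [402,5,0,6,0] (.node .nil 8716544 [402,7,3,2,2] .nil)) 8716800 [402,2,6,4,3] (.node (.node
  .nil 8717312 [402,6,0,3] .nil) 8718336 [402,2,0,5,1] .nil)) 8720384 [402,3,1,4,3] (.node (.node
  (.node .nil 8724480 [402,2,4,4,3] .nil) 8732672 [306,0,0,3] (.node .nil 8749056 [402,3,6,3,1]
  .nil)) 8781825 [402,6,1,1,3] (.node (.node .nil 8781826 [402,1,1,1,1] .nil) 8781828 [402,0,1,2]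
  .nil))) 8781832 [402,4,6,1,1] (.node (.node (.node (.node .nil 8781840 [402,7,1,4,6] .nil) 8781856
  [402,4,5,4,3] (.node .nil 8781888 [402,1,7,7,1] .nil)) 8781952 [402,3,0,4,5] (.node (.node .nil
  8782080 [306,0,3,1] .nil) 8782336 [402,5,5,4,6,0] .nil)) 8782848 [402,1,4,1,2] (.node (.node (.node
  .nil 8783872 [402,6,7,5] .nil) 8785920 [402,1,0,5] (.node .nil 8790016 [1458,0,2,0] .nil)) 8798208
  [402,3,1,4] (.node (.node .nil 8814592 [306,1,7,0,0] .nil) 8847360 [306,0,3] .nil)))) 8912899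
  [402,4,6,1,0] (.node (.node (.node (.node (.node .nil 8912901 [402,5,2,0,0] .nil) 8912902
  [402,1,3,6,0] (.node .nil 8912905 [402,3,7,1] .nil)) 8912906 [402,3,5,6,0] (.node (.node .nil
  8912908 [402,0,2,1,6,0] .nil) 8912913 [402,4,5,3] .nil)) 8912914 [402,5,7,3] (.node (.node (.node
  .nil 8912916 [402,6,7,4,2] .nil) 8912920 [402,7,3,4,1] (.node .nil 8912929 [402,3,5,3,3] .nil))
  8912930 [402,0,2,4,0] (.node (.node .nil 8912932 [402,3,7,6,1] .nil) 8912936 [402,6,5,3] .nil)))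
  8912944 [402,6,0,2,0] (.node (.node (.node (.node .nil 8912961 [402,6,7,5,0,0] .nil) 8912962
  [402,0,4,4] (.node .nil 8912964 [402,0,7,4,5] .nil)) 8912968 [402,5,3,7,1] (.node (.node .nil
  8912976 [402,2,7,0,2] .nil) 8912992 [402,6,6,4,0] .nil)) 8913025 [402,5,3,4,0] (.node (.node (.node
  .nil 8913026 [402,7,4,0,4] .nil) 8913028 [402,5,1,6,2] .nil) 8913032 [402,7,7,4,0] (.node (.node
  .nil 8913040 [402,7,0,4,0] .nil) 8913056 [402,2,6,5,4] .nil)))))) 8913088 [402,0,0,2,0] (.node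
  (.node (.node (.node (.node (.node (.node .nil 8913153 [306,1,2,6,0] .nil) 8913154 [306,6,5] (.node
  .nil 8913156 [306,4,4,0] .nil)) 8913160 [306,7,6,1] (.node (.node .nil 8913168 [402,3,2,1,7] .nil)
  8913184 [1458,1,4] .nil)) 8913216 [402,0,5,3] (.node (.node (.node .nil 8913280 [402,2,1,1] .nil)
  8913409 [402,5,6,0] (.node .nil 8913410 [402,5,3,2] .nil)) 8913412 [402,3,3,4] (.node (.node .nil
  8913416 [402,5,5,2] .nil) 8913424 [402,6,2,4] .nil))) 8913440 [402,3,7,3,0] (.node (.node (.node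
  (.node .nil 8913472 [402,2,2,0] .nil) 8913536 [402,6,0,3,4] (.node .nil 8913664 [402,7,0,7,2]
  .nil)) 8913921 [402,3,0,2,0] (.node (.node .nil 8913922 [402,6,3,4] .nil) 8913924 [402,7,3,0,2]
  .nil)) 8913928 [402,6,0,6,0] (.node (.node (.node .nil 8913936 [402,3,2,3,1] .nil) 8913952
  [402,4,4] (.node .nil 8913984 [402,0,0,1] .nil)) 8914048 [402,1,2,5,0] (.node (.node .nil 8914176
  [402,4,0,2] .nil) 8914432 [402,5,2,3,0] .nil)))) 8914945 [402,1,5,6] (.node (.node (.node (.node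
  (.node .nil 8914946 [402,3,2,0,2] .nil) 8914948 [402,5,6,6,1] (.node .nil 8914952 [402,7,4,3,4]
  .nil)) 8914960 [402,7,0,5,4] (.node (.node .nil 8914976 [402,2,5,5] .nil) 8915008 [402,3,5,2,1]
  .nil)) 8915072 [402,5,4,1] (.node (.node (.node .nil 8915200 [402,2,2,3,0] .nil) 8915456
  [402,4,3,2,1] (.node .nil 8915968 [402,0,1,4,1] .nil)) 8916993 [402,6,6,3] (.node (.node .nil
  8916994 [402,2,5,7,5] .nil) 8916996 [402,1,4,5] .nil))) 8917000 [402,2,4,5,1] (.node (.node (.node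
  (.node .nil 8917008 [402,3,3,5] .nil) 8917024 [402,6,6,5,2,0] (.node .nil 8917056 [402,0,6,1,0]
  .nil)) 8917120 [402,6,3,4,0] (.node (.node .nil 8917248 [402,3,0,4,3] .nil) 8917504 [402,2,1]
  .nil)) 8918016 [402,7,3,7] (.node (.node (.node .nil 8919040 [402,2,7,4,0] .nil) 8921089 [1458,4,6]
  (.node .nil 8921090 [306,3,3] .nil)) 8921092 [306,5,7,1,0] (.node (.node .nil 8921096 [306,1,1,1]
  .nil) 8921104 [402,2,7,4] .nil))))) 8921120 [306,7,4,6] (.node (.node (.node (.node (.node (.node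
  .nil 8921152 [402,4,1,2,0] .nil) 8921216 [402,3,3,2] (.node .nil 8921344 [402,3,3] .nil)) 8921600
  [402,6,5,0] (.node (.node .nil 8922112 [402,0,7,2] .nil) 8923136 [402,3,4,3,1] .nil)) 8925184
  [402,6,7,2,1] (.node (.node (.node .nil 8929281 [402,2,5,4,1] .nil) 8929282 [402,3,1,6,1] (.node
  .nil 8929284 [402,3,0,5,0] .nil)) 8929288 [402,7,2,3,0] (.node (.node .nil 8929296 [402,4,5,5,1]
  .nil) 8929312 [402,2,1,0,1] .nil))) 8929344 [402,2,1,3] (.node (.node (.node (.node .nil 8929408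
  [402,3,6,4,1] .nil) 8929536 [306,7] (.node .nil 8929792 [402,2,1,0,2] .nil)) 8930304 [402,0,0,2]
  (.node (.node .nil 8931328 [402,1,6,3,2] .nil) 8933376 [402,5,6,4] .nil)) 8937472 [306,5,7,2]
  (.node (.node (.node .nil 8945665 [306,6,1,1] .nil) 8945666 [306,3,2,0] (.node .nil 8945668
  [306,6,7,2] .nil)) 8945672 [306,6,4,4] (.node (.node .nil 8945680 [402,4,2,5] .nil) 8945696
  [306,2,7,1] .nil)))) 8945728 [402,7,0,1,5] (.node (.node (.node (.node (.node .nil 8945792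
  [402,5,6,5,0] .nil) 8945920 [402,2,2,2,1] (.node .nil 8946176 [402,3,6,2,1] .nil)) 8946688
  [402,3,6,5,2] (.node (.node .nil 8947712 [402,3,2,0] .nil) 8949760 [402,7,2,4,0] .nil)) 8953856
  [402,7,3,3,0] (.node (.node (.node .nil 8962048 [306,5,0,0,0] .nil) 8978433 [306,0,1,1] (.node .nil
  8978434 [306,2,3,2] .nil)) 8978436 [306,0,4,5] (.node (.node .nil 8978440 [306,0,0,1,0] .nil)
  8978448 [402,1,6] .nil))) 8978464 [306,2,6,6] (.node (.node (.node (.node .nil 8978496 [402,5,0,0]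
  .nil) 8978560 [402,6,7,3,6] (.node .nil 8978688 [402,2,3,2] .nil)) 8978944 [402,1,1,6,1] (.node
  (.node .nil 8979456 [402,7,1,7,4] .nil) 8980480 [402,0,5,4,0] .nil)) 8982528 [402,4,0,4,0] (.node
  (.node (.node .nil 8986624 [402,4,2,3] .nil) 8994816 [1458,1,6] .nil) 9011200 [402,0,7,1,6] (.node
  (.node .nil 9043969 [402,0,6,5,0] .nil) 9043970 [402,4,7,7] .nil))))))) 9043972 [402,4,6,5,0]
  (.node (.node (.node (.node (.node (.node (.node (.node .nil 9043976 [402,2,1,3,0] .nil) 9043984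
  [402,7,2,5,2] (.node .nil 9044000 [402,2,1,6,3] .nil)) 9044032 [402,2,5,7] (.node (.node .nil
  9044096 [402,5,4,5] .nil) 9044224 [306,2,1,4] .nil)) 9044480 [402,0,4,1] (.node (.node (.node .nil
  9044992 [402,4,0,0,0] .nil) 9046016 [402,3,6,3] (.node .nil 9048064 [402,2,5] .nil)) 9052160
  [306,4] (.node (.node .nil 9060352 [402,4,0,7,2] .nil) 9076736 [1458,7,0] .nil))) 9109504
  [306,7,5,3] (.node (.node (.node (.node .nil 9175041 [306,4,5,3] .nil) 9175042 [1458,4,1] (.node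
  .nil 9175044 [306,0,2,3,0] .nil)) 9175048 [306,3,7,1] (.node (.node .nil 9175056 [402,5,1,5,0]
  .nil) 9175072 [306,5,2,4,0] .nil)) 9175104 [402,2,4,0,7] (.node (.node (.node .nil 9175168
  [402,1,3,0,4] .nil) 9175296 [402,2,3,1,0] (.node .nil 9175552 [402,6,2,1,2] .nil)) 9176064
  [402,0,7,5,0] (.node (.node .nil 9177088 [402,7,5,0,1] .nil) 9179136 [402,5,7,2,3] .nil)))) 9183232
  [402,6,7,2,5] (.node (.node (.node (.node (.node .nil 9191424 [306,3,0,4] .nil) 9207808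
  [402,2,1,5,5] (.node .nil 9240576 [402,5,3,1,2] .nil)) 9306112 [306,6,1,0] (.node (.node .nil
  9437187 [402,2,3,3,5] .nil) 9437189 [402,5,0,4,0] .nil)) 9437190 [402,3,3,0,0] (.node (.node (.node
  .nil 9437193 [402,1,1,3] .nil) 9437194 [402,1,7] (.node .nil 9437196 [402,3,4,3,2] .nil)) 9437201
  [402,0,2,7,1,2] (.node (.node .nil 9437202 [402,4,3,1,4] .nil) 9437204 [402,1,6,6,0] .nil)))
  9437208 [402,0,1,4] (.node (.node (.node (.node .nil 9437217 [402,0,2,7,1] .nil) 9437218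
  [402,5,2,0,1] (.node .nil 9437220 [402,6,4,0,0] .nil)) 9437224 [402,1,3,3,2] (.node (.node .nil
  9437232 [402,2,3,1] .nil) 9437249 [402,5,7,3,5] .nil)) 9437250 [402,0,3,0,0] (.node (.node (.node
  .nil 9437252 [402,1,1,5,5] .nil) 9437256 [402,6,1,3] (.node .nil 9437264 [402,2,2,6,1] .nil))
  9437280 [402,0,4,1,3,0] (.node (.node .nil 9437313 [402,1,2,0] .nil) 9437314 [402,4,2,5,2]
  .nil))))) 9437316 [402,0,6,7] (.node (.node (.node (.node (.node (.node .nil 9437320 [402,6,7,5,5]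
  .nil) 9437328 [402,1,7,4,3] (.node .nil 9437344 [402,6,4,7,1] .nil)) 9437376 [402,2,0] (.node
  (.node .nil 9437441 [1458,3,2,1] .nil) 9437442 [306,6] .nil)) 9437444 [306,5,6,6] (.node (.node
  (.node .nil 9437448 [306,4,3,1,0] .nil) 9437456 [402,3,1,5,5] (.node .nil 9437472 [306,4,4,1]
  .nil)) 9437504 [402,7,5,0,4] (.node (.node .nil 9437568 [402,7,6,1,0] .nil) 9437697 [402,7,3,5,1]
  .nil))) 9437698 [402,1,7,2] (.node (.node (.node (.node .nil 9437700 [402,6,7,4,3] .nil) 9437704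
  [402,3,3,0] (.node .nil 9437712 [402,6,6,7,2] .nil)) 9437728 [402,7,6,4] (.node (.node .nil 9437760
  [402,2,6,5,2] .nil) 9437824 [402,3,0,6] .nil)) 9437952 [402,2,6,5] (.node (.node (.node .nil
  9438209 [402,2,2,3] .nil) 9438210 [402,5,4] (.node .nil 9438212 [402,2,6,2] .nil)) 9438216
  [402,7,5,0,2] (.node (.node .nil 9438224 [402,3,5,1] .nil) 9438240 [402,0,2,4,2] .nil)))) 9438272
  [402,3,6,7,0,0] (.node (.node (.node (.node (.node .nil 9438336 [402,3,2,5] .nil) 9438464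
  [402,1,5,7,2] (.node .nil 9438720 [402,7,5,4] .nil)) 9439233 [402,5,3,4,1] (.node (.node .nil
  9439234 [402,5,0,3,1] .nil) 9439236 [402,0,1,6,1] .nil)) 9439240 [402,3,1,4,0] (.node (.node (.node
  .nil 9439248 [402,0,4,4,0] .nil) 9439264 [402,4,3,3] (.node .nil 9439296 [402,5,5,1] .nil)) 9439360
  [402,6,4,4,2] (.node (.node .nil 9439488 [402,7,6,2] .nil) 9439744 [402,5,4,6,1] .nil))) 9440256
  [402,6,4] (.node (.node (.node (.node .nil 9441281 [402,6,7,1,3] .nil) 9441282 [402,7,3,5,0] (.node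
  .nil 9441284 [402,0,5,6,0] .nil)) 9441288 [402,0,1,6,4] (.node (.node .nil 9441296 [402,7,0,5,0]
  .nil) 9441312 [402,4,0,2,2] .nil)) 9441344 [402,2,4,3,0] (.node (.node (.node .nil 9441408
  [402,4,1,1,1] .nil) 9441536 [402,7,7,0,0] .nil) 9441792 [402,0,6,0,3] (.node (.node .nil 9442304
  [402,6,2,1,5] .nil) 9443328 [402,4,0,4] .nil)))))) 9445377 [306,0,1,3] (.node (.node (.node (.node
  (.node (.node (.node .nil 9445378 [306,0,4,1,0] .nil) 9445380 [306,2,0,1] (.node .nil 9445384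
  [306,3,5,0,0] .nil)) 9445392 [402,4,3] (.node (.node .nil 9445408 [1458,3,0] .nil) 9445440
  [402,3,7,6] .nil)) 9445504 [402,6,7,4] (.node (.node (.node .nil 9445632 [402,0,0,6,4] .nil)
  9445888 [402,2,0,6] (.node .nil 9446400 [402,2,4,5,2] .nil)) 9447424 [402,3,3,5,1] (.node (.node
  .nil 9449472 [402,7,0,2,4] .nil) 9453569 [402,0,3,2,0] .nil))) 9453570 [402,7,2,1,2] (.node (.node
  (.node (.node .nil 9453572 [402,3,7,2,0] .nil) 9453576 [402,3,2,6,6] (.node .nil 9453584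
  [402,5,3,1,0] .nil)) 9453600 [402,4,6,2] (.node (.node .nil 9453632 [402,0,7,4] .nil) 9453696
  [402,5,5,5,0] .nil)) 9453824 [306,6,7,6] (.node (.node (.node .nil 9454080 [402,5,0,3,4] .nil)
  9454592 [402,6,3,4,0,0] (.node .nil 9455616 [402,4,7,4,0] .nil)) 9457664 [402,5,2,2,1] (.node
  (.node .nil 9461760 [306,6,4,1] .nil) 9469953 [306,6,0,6,0] .nil)))) 9469954 [306,4,7,4] (.node
  (.node (.node (.node (.node .nil 9469956 [306,6,3,0] .nil) 9469960 [1458,5,2,2] (.node .nil 9469968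
  [402,4,0,6] .nil)) 9469984 [306,2,2,4] (.node (.node .nil 9470016 [402,2,7,2,0] .nil) 9470080
  [402,7,2,6] .nil)) 9470208 [402,3,5,3,6] (.node (.node (.node .nil 9470464 [402,5,6,1,0] .nil)
  9470976 [402,1,2,3,1] (.node .nil 9472000 [402,5,7,0,0] .nil)) 9474048 [402,4,0,0,2] (.node (.node
  .nil 9478144 [402,6,0,7] .nil) 9486336 [306,4,7,2] .nil))) 9502721 [306,6,4,3] (.node (.node (.node
  (.node .nil 9502722 [1458,1,7,2] .nil) 9502724 [306,2,6] (.node .nil 9502728 [306,7,3,3] .nil))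
  9502736 [402,3,3,4,1] (.node (.node .nil 9502752 [306,0,4,0] .nil) 9502784 [402,2,2,0,0] .nil))
  9502848 [402,4,2,7] (.node (.node (.node .nil 9502976 [402,4,5,5,0,0] .nil) 9503232 [402,5,3,2,4]
  .nil) 9503744 [402,7,6,6] (.node (.node .nil 9504768 [402,7,2,3] .nil) 9506816 [402,4,2] .nil)))))
  9510912 [402,2,5,5,0] (.node (.node (.node (.node (.node (.node .nil 9519104 [306,2,6,1] .nil)
  9535488 [402,1,0,2,0] (.node .nil 9568257 [402,2,0,6,3] .nil)) 9568258 [402,2,7,7,1] (.node (.node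
  .nil 9568260 [402,1,7,6,2] .nil) 9568264 [402,7,2] .nil)) 9568272 [402,3,7,0,0] (.node (.node
  (.node .nil 9568288 [402,1,6,4,4] .nil) 9568320 [402,3,6,1,0] (.node .nil 9568384 [402,3,4,1,0]
  .nil)) 9568512 [306,7,1,6] (.node (.node .nil 9568768 [402,0,6,3,0] .nil) 9569280 [402,2,3,4]
  .nil))) 9570304 [402,5,0,0,4] (.node (.node (.node (.node .nil 9572352 [402,6,3,1] .nil) 9576448
  [306,2,7] (.node .nil 9584640 [402,0,1,4,0] .nil)) 9601024 [306,6,5,5,1] (.node (.node .nil 9633792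
  [306,6,5,3] .nil) 9699329 [306,1,3,6] .nil)) 9699330 [306,4,0,3,1] (.node (.node (.node .nil
  9699332 [306,2,6,0] .nil) 9699336 [306,2,0,3] (.node .nil 9699344 [402,3,0,3,1] .nil)) 9699360
  [306,7,0,0,0] (.node (.node .nil 9699392 [402,0,7,0,2] .nil) 9699456 [402,0,6,6,0] .nil)))) 9699584
  [402,7,4,6,1] (.node (.node (.node (.node (.node .nil 9699840 [402,3,4] .nil) 9700352 [402,4,6,7,7]
  (.node .nil 9701376 [402,4,1,6,0] .nil)) 9703424 [402,1,6,6,2] (.node (.node .nil 9707520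
  [402,3,2,0,1] .nil) 9715712 [1458,7] .nil)) 9732096 [402,3,5,5,2] (.node (.node (.node .nil 9764864
  [402,5,2,1,1,0] .nil) 9830400 [306,5] (.node .nil 9961473 [306,3] .nil)) 9961474 [306,7,0,2,0]
  (.node (.node .nil 9961476 [1458,6,3] .nil) 9961480 [306,3,0,3,0] .nil))) 9961488 [402,3,0,0,4]
  (.node (.node (.node (.node .nil 9961504 [306,4,1,5] .nil) 9961536 [402,2,4,7,2] (.node .nil
  9961600 [402,0,6,5,2] .nil)) 9961728 [402,6,0,1,2] (.node (.node .nil 9961984 [402,5,5,0,0] .nil)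
  9962496 [402,5,3,0] .nil)) 9963520 [402,0,3,6] (.node (.node (.node .nil 9965568 [402,6,6,2,2]
  .nil) 9969664 [402,7,5,2,1] .nil) 9977856 [306,1,2] (.node (.node .nil 9994240 [402,5,5,7,2] .nil)
  10027008 [402,4,2,0,2] .nil)))))))) 10092544 [306,6,3,1] (.node (.node (.node (.node (.node (.node
  (.node (.node (.node .nil 10223616 [402,2,5,1,0] .nil) 10485763 [402,1,4,2] (.node .nil 10485765
  [402,1,6,2] .nil)) 10485766 [402,5,1,7,3] (.node (.node .nil 10485769 [402,3,5,0] .nil) 10485770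
  [402,6,1] .nil)) 10485772 [402,3,1,2,4] (.node (.node (.node .nil 10485777 [402,4,1,7] .nil)
  10485778 [402,7,6,0] (.node .nil 10485780 [402,7,3,2] .nil)) 10485784 [402,6,4,4,1] (.node (.node
  .nil 10485793 [402,2,3,5,0] .nil) 10485794 [402,1,2,2] .nil))) 10485796 [402,7,5,3,2] (.node (.node
  (.node (.node .nil 10485800 [402,4,5,3,0] .nil) 10485808 [402,7,7,4,1] (.node .nil 10485825
  [402,6,4,2] .nil)) 10485826 [402,6,1,2] (.node (.node .nil 10485828 [402,3,0,2,1] .nil) 10485832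
  [402,5,1,1,3] .nil)) 10485840 [402,6,1,6,3] (.node (.node (.node .nil 10485856 [402,3,1,1,0] .nil)
  10485889 [402,3,0,5,6] (.node .nil 10485890 [402,4,5,6] .nil)) 10485892 [402,4,0] (.node (.node
  .nil 10485896 [402,3,2,1,1] .nil) 10485904 [402,0,6,6,5] .nil)))) 10485920 [402,4,6,5,2] (.node
  (.node (.node (.node (.node .nil 10485952 [402,1,4,3] .nil) 10486017 [306,7,7,1] (.node .nil
  10486018 [1458,0,4,0] .nil)) 10486020 [306,1,7,2] (.node (.node .nil 10486024 [306,6,6,4,1] .nil)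
  10486032 [402,4,4,2,4] .nil)) 10486048 [306,0,6,0,0] (.node (.node (.node .nil 10486080
  [402,1,0,5,1] .nil) 10486144 [402,5,2,3] (.node .nil 10486273 [402,6,6,2] .nil)) 10486274
  [402,6,0,3,2] (.node (.node .nil 10486276 [402,3,2,6] .nil) 10486280 [402,1,7,3] .nil))) 10486288
  [402,1,6,3] (.node (.node (.node (.node .nil 10486304 [402,5,5,6] .nil) 10486336 [402,0,5] (.node
  .nil 10486400 [402,0,1,6] .nil)) 10486528 [402,0,5,2] (.node (.node .nil 10486785 [402,7,6,6,1]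
  .nil) 10486786 [402,2,7,3,1] .nil)) 10486788 [402,0,0,3] (.node (.node (.node .nil 10486792
  [402,1,1] .nil) 10486800 [402,0,2,5,4] (.node .nil 10486816 [402,7,2,2,0] .nil)) 10486848
  [402,0,4,5,1] (.node (.node .nil 10486912 [402,1,5,4,2] .nil) 10487040 [402,2,6,5,5] .nil)))))
  10487296 [402,4,1,3] (.node (.node (.node (.node (.node (.node .nil 10487809 [402,0,7,2,0] .nil)
  10487810 [402,3,2,1,0] (.node .nil 10487812 [402,7,2,4,5] .nil)) 10487816 [402,5,5,3] (.node (.node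
  .nil 10487824 [402,0,0,6,1] .nil) 10487840 [402,4,2,4] .nil)) 10487872 [402,7,4,3,2] (.node (.node
  (.node .nil 10487936 [402,2,7,2] .nil) 10488064 [402,1,3,5,7] (.node .nil 10488320 [402,2,5,6,0,1]
  .nil)) 10488832 [402,2,2,1] (.node (.node .nil 10489857 [402,6,3,0] .nil) 10489858 [402,5,5,4,1]
  .nil))) 10489860 [402,3,5] (.node (.node (.node (.node .nil 10489864 [402,4,5,1,0] .nil) 10489872
  [402,0,5,1,2] (.node .nil 10489888 [402,7,1,1,6] .nil)) 10489920 [402,7,1,4] (.node (.node .nil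
  10489984 [402,3,6,0,4] .nil) 10490112 [402,1,0,7,4] .nil)) 10490368 [402,5,2,5,5] (.node (.node
  (.node .nil 10490880 [402,0,4,3] .nil) 10491904 [402,4,6,4,4] (.node .nil 10493953 [306,4,2] .nil))
  10493954 [306,3,3,5] (.node (.node .nil 10493956 [306,4,3,0,2] .nil) 10493960 [306,0,3,4] .nil))))
  10493968 [402,0,5,1,1] (.node (.node (.node (.node (.node .nil 10493984 [306,0,0,4] .nil) 10494016
  [402,0,1] (.node .nil 10494080 [402,2,3,5,7] .nil)) 10494208 [402,5,7,3,2] (.node (.node .nil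
  10494464 [402,5,1,4,1] .nil) 10494976 [402,4,4,0] .nil)) 10496000 [402,3,6,4] (.node (.node (.node
  .nil 10498048 [402,3,1,6,3] .nil) 10502145 [402,6,6,1] (.node .nil 10502146 [402,3,2,3,0] .nil))
  10502148 [402,2,3,0,2] (.node (.node .nil 10502152 [402,1,5,2,3] .nil) 10502160 [402,6,0,4] .nil)))
  10502176 [402,3,5,2,0] (.node (.node (.node (.node .nil 10502208 [402,5,7,7,1] .nil) 10502272
  [402,7,4] (.node .nil 10502400 [306,5,6,0,0] .nil)) 10502656 [402,4,2,2,2,1] (.node (.node .nil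
  10503168 [402,0,1,3,2] .nil) 10504192 [402,0,5,4,5] .nil)) 10506240 [402,2,6,1,4] (.node (.node
  (.node .nil 10510336 [1458,0,1] .nil) 10518529 [306,4,6] .nil) 10518530 [306,6,2,4] (.node (.node
  .nil 10518532 [1458,7,2,2] .nil) 10518536 [306,6,3,1,0] .nil)))))) 10518544 [402,3,3,6,7] (.node
  (.node (.node (.node (.node (.node (.node .nil 10518560 [306,3,0] .nil) 10518592 [402,1,0,3] (.node
  .nil 10518656 [402,5,2,0,6] .nil)) 10518784 [402,2,2,5,2] (.node (.node .nil 10519040 [402,5,2,7,1]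
  .nil) 10519552 [402,3,6,6,0] .nil)) 10520576 [402,6,5,1,5] (.node (.node (.node .nil 10522624
  [402,5,3,2,0] .nil) 10526720 [402,6,0,4,6] (.node .nil 10534912 [306,4,4,7] .nil)) 10551297
  [1458,4,1,0] (.node (.node .nil 10551298 [306,3,5,7,1] .nil) 10551300 [306,5,5] .nil))) 10551304
  [306,7,7,4] (.node (.node (.node (.node .nil 10551312 [402,3,7,3] .nil) 10551328 [306,5,5,1] (.node
  .nil 10551360 [402,7] .nil)) 10551424 [402,6,0,2] (.node (.node .nil 10551552 [402,7,1,5,1,0] .nil)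
  10551808 [402,0,4,0,0] .nil)) 10552320 [402,0,0,0,1] (.node (.node (.node .nil 10553344
  [402,1,2,6,6] .nil) 10555392 [402,2,2,3,1] (.node .nil 10559488 [402,3,0,7,6,0] .nil)) 10567680
  [306,3,4,0] (.node (.node .nil 10584064 [402,0,6,2] .nil) 10616833 [402,3,5,3,2] .nil)))) 10616834
  [402,5,2,6,2] (.node (.node (.node (.node (.node .nil 10616836 [402,6,1,6,2] .nil) 10616840
  [402,5,3,0,4] (.node .nil 10616848 [402,6,5,5] .nil)) 10616864 [402,7,1,6,0] (.node (.node .nil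
  10616896 [402,7,3,3] .nil) 10616960 [402,2,0,3,2] .nil)) 10617088 [306,3,2] (.node (.node (.node
  .nil 10617344 [402,3,3,7,6] .nil) 10617856 [402,7,7,2] (.node .nil 10618880 [402,4,6,5,3] .nil))
  10620928 [402,4,1,5] (.node (.node .nil 10625024 [306,6,1,5,0] .nil) 10633216 [402,6,3,5,1] .nil)))
  10649600 [306,0,7,2] (.node (.node (.node (.node .nil 10682368 [306,6,0] .nil) 10747905 [306,4,4]
  (.node .nil 10747906 [306,3,1,6] .nil)) 10747908 [306,5,5,0] (.node (.node .nil 10747912 [306,3,7]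
  .nil) 10747920 [402,6,5,1] .nil)) 10747936 [1458,0,6,0] (.node (.node (.node .nil 10747968
  [402,7,7,5] .nil) 10748032 [402,1,2,2,6] (.node .nil 10748160 [402,4,6,6] .nil)) 10748416
  [402,0,6,0] (.node (.node .nil 10748928 [402,7,7,0,4] .nil) 10749952 [402,6,1,4] .nil))))) 10752000
  [402,5,0,5,4,0] (.node (.node (.node (.node (.node (.node .nil 10756096 [402,5,3] .nil) 10764288
  [306,3,1,2] (.node .nil 10780672 [402,6,5,4,1] .nil)) 10813440 [402,6,3,4,1] (.node (.node .nil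
  10878976 [306,5,1,0,0] .nil) 11010049 [306,1,4,2] .nil)) 11010050 [306,7,6,0] (.node (.node (.node
  .nil 11010052 [306,0,3,1,1] .nil) 11010056 [1458,1,1] (.node .nil 11010064 [402,5] .nil)) 11010080
  [306,7,6,0,0] (.node (.node .nil 11010112 [402,1,1,3,2] .nil) 11010176 [402,6,5,3,6] .nil)))
  11010304 [402,2,2,5,1,0] (.node (.node (.node (.node .nil 11010560 [402,5,7] .nil) 11011072
  [402,4,0,4,4] (.node .nil 11012096 [402,2,1,6,0] .nil)) 11014144 [402,7,4,0,6] (.node (.node .nil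
  11018240 [402,5,0,2] .nil) 11026432 [306,0,1,0] .nil)) 11042816 [402,2,5,6] (.node (.node (.node
  .nil 11075584 [402,6,0] .nil) 11141120 [306,4,5] (.node .nil 11272192 [402,4,1,1,0] .nil)) 11534337
  [306,2,0,4] (.node (.node .nil 11534338 [306,6,1] .nil) 11534340 [306,2,7,3] .nil)))) 11534344
  [306,4,6,4] (.node (.node (.node (.node (.node .nil 11534352 [402,6,2,5] .nil) 11534368 [306,4,5,4]
  (.node .nil 11534400 [402,4,3,2,3] .nil)) 11534464 [402,0,0,1,2] (.node (.node .nil 11534592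
  [402,5,3,0,0] .nil) 11534848 [402,0,5,5,0] .nil)) 11535360 [402,2,7,3,2] (.node (.node (.node .nil
  11536384 [402,0,0,0,0] .nil) 11538432 [402,1,0,5,4] (.node .nil 11542528 [402,0,4,1,0] .nil))
  11550720 [306,3,2,4] (.node (.node .nil 11567104 [402,4,6,7,1] .nil) 11599872 [402,0,4,2] .nil)))
  11665408 [1458,1,4,0] (.node (.node (.node (.node .nil 11796480 [402,0,2,2] .nil) 12058624
  [402,6,2,6,0] (.node .nil 12582915 [402,7,6,5,0] .nil)) 12582917 [402,1,5,2,0] (.node (.node .nil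
  12582918 [402,2,7,1] .nil) 12582921 [402,1,6,7] .nil)) 12582922 [402,1,2,5] (.node (.node (.node
  .nil 12582924 [402,2,4,2,0] .nil) 12582929 [306,0,0,1] .nil) 12582930 [306,7,4,0] (.node (.node
  .nil 12582932 [306,6,2] .nil) 12582936 [1458,1] .nil))))))) 12582945 [402,7,5,4,2] (.node (.node
  (.node (.node (.node (.node (.node (.node .nil 12582946 [402,0,7,6] .nil) 12582948 [402,7,7,1,2]
  (.node .nil 12582952 [402,4,2,6,2] .nil)) 12582960 [306,0,3,3] (.node (.node .nil 12582977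
  [306,0,0,0,1] .nil) 12582978 [306,2,4] .nil)) 12582980 [306,4,0,2,0] (.node (.node (.node .nil
  12582984 [306,0,0,0] .nil) 12582992 [402,6,0,5,0] (.node .nil 12583008 [306,7,0,1] .nil)) 12583041
  [1458,6] (.node (.node .nil 12583042 [306,4,2,0,3] .nil) 12583044 [306,2] .nil))) 12583048
  [306,4,3,0] (.node (.node (.node (.node .nil 12583056 [402,1,1,6,0] .nil) 12583072 [306,2,1,0,0]
  (.node .nil 12583104 [402,0,0,1,3] .nil)) 12583169 [402,5,3,5,0] (.node (.node .nil 12583170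
  [402,7,6,2,4] .nil) 12583172 [402,0,6,0,2,0] .nil)) 12583176 [402,3,2,3] (.node (.node (.node .nil
  12583184 [402,7,3,5] .nil) 12583200 [402,0,4,2,0] (.node .nil 12583232 [402,3,1,2,0] .nil))
  12583296 [402,4,3,0] (.node (.node .nil 12583425 [306,1,1,2] .nil) 12583426 [306,0,6,1,0] .nil))))
  12583428 [306,4,6,0] (.node (.node (.node (.node (.node .nil 12583432 [306,7,4,1] .nil) 12583440
  [402,6,6,0,1] (.node .nil 12583456 [1458,2,0] .nil)) 12583488 [402,1,1,1] (.node (.node .nil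
  12583552 [402,1,3,7] .nil) 12583680 [402,5,4,0,7] .nil)) 12583937 [306,4,1] (.node (.node (.node
  .nil 12583938 [1458,4] .nil) 12583940 [306,1,2,0] (.node .nil 12583944 [306,1,6,7] .nil)) 12583952
  [402,6,6,3,4] (.node (.node .nil 12583968 [306,6,1,4] .nil) 12584000 [402,7,6,5,1] .nil))) 12584064
  [402,4,0,3] (.node (.node (.node (.node .nil 12584192 [402,1,3,0] .nil) 12584448 [402,6,6,1,6]
  (.node .nil 12584961 [306,7,6,4] .nil)) 12584962 [306,4,0] (.node (.node .nil 12584964 [306,2,5,7]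
  .nil) 12584968 [306,4,7,0,0] .nil)) 12584976 [402,0,1,5] (.node (.node (.node .nil 12584992
  [306,7,0] .nil) 12585024 [402,7,7,2,2] (.node .nil 12585088 [402,0,0,7] .nil)) 12585216 [402,5,7,1]
  (.node (.node .nil 12585472 [402,3,5,1,1] .nil) 12585984 [402,1,7,6,0] .nil))))) 12587009
  [306,6,2,2] (.node (.node (.node (.node (.node (.node .nil 12587010 [306,2,4,0] .nil) 12587012
  [1458,3,1,1] (.node .nil 12587016 [306,5,2,3] .nil)) 12587024 [402,0,6,7,2] (.node (.node .nil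
  12587040 [306,7,7,3] .nil) 12587072 [402,2,2,7] .nil)) 12587136 [402,1,6,5] (.node (.node (.node
  .nil 12587264 [402,7,1,0] .nil) 12587520 [402,3,3,5,0] (.node .nil 12588032 [402,3,6,1] .nil))
  12589056 [402,5,7,5] (.node (.node .nil 12591105 [402,4,7,5,0] .nil) 12591106 [402,5,0,2,3] .nil)))
  12591108 [402,1,6,6,1] (.node (.node (.node (.node .nil 12591112 [402,1,0,2,6] .nil) 12591120
  [402,3,2] (.node .nil 12591136 [402,4,5,4,1] .nil)) 12591168 [402,7,6,0,1] (.node (.node .nil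
  12591232 [402,5,2] .nil) 12591360 [402,7,3,1] .nil)) 12591616 [402,1,7,1,2] (.node (.node (.node
  .nil 12592128 [402,3,0,7,4] .nil) 12593152 [402,7,4,2,0] (.node .nil 12595200 [402,3,1,7,3] .nil))
  12599297 [402,5,1,2] (.node (.node .nil 12599298 [402,7,2,7,4] .nil) 12599300 [402,3,0] .nil))))
  12599304 [402,7,7] (.node (.node (.node (.node (.node .nil 12599312 [306,4,3,1] .nil) 12599328
  [402,7,1,3] (.node .nil 12599360 [1458,5,6] .nil)) 12599424 [306,5,3,1] (.node (.node .nil 12599552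
  [402,5,7,4,1] .nil) 12599808 [306,5,1,1,1] .nil)) 12600320 [306,2,7,5] (.node (.node (.node .nil
  12601344 [306,5,1,0] .nil) 12603392 [306,5,7,5] (.node .nil 12607488 [402,1,0,7] .nil)) 12615681
  [402,2,4,0,3] (.node (.node .nil 12615682 [402,6,0,2,2,0] .nil) 12615684 [402,4,4,7,3,0] .nil)))
  12615688 [402,7,0,5] (.node (.node (.node (.node .nil 12615696 [402,5,2,2,6] .nil) 12615712
  [402,3,5,4,2] (.node .nil 12615744 [402,4,0,2,0] .nil)) 12615808 [402,5,2,7] (.node (.node .nil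
  12615936 [402,1,0,5,0] .nil) 12616192 [402,2,5,2] .nil)) 12616704 [402,3,6,5,0,0] (.node (.node
  (.node .nil 12617728 [402,7,1,6,1] .nil) 12619776 [402,6,2,5,2] .nil) 12623872 [402,0,2,6,0] (.node
  (.node .nil 12632064 [402,1,0] .nil) 12648449 [402,6,3,6,0] .nil)))))) 12648450 [402,4,1,3,0]
  (.node (.node (.node (.node (.node (.node (.node .nil 12648452 [402,0,5,0] .nil) 12648456
  [402,7,4,1,2] (.node .nil 12648464 [402,2,3,1,4] .nil)) 12648480 [402,6,7,7] (.node (.node .nil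
  12648512 [402,0,2,1,1] .nil) 12648576 [402,3,1,7,2] .nil)) 12648704 [402,7,0,4] (.node (.node
  (.node .nil 12648960 [402,5,4,0] .nil) 12649472 [402,0,7,7] (.node .nil 12650496 [402,6,2,2,0]
  .nil)) 12652544 [402,5,3,7,0,1] (.node (.node .nil 12656640 [402,0,4,7] .nil) 12664832
  [402,0,6,6,2] .nil))) 12681216 [402,7,1,1,1] (.node (.node (.node (.node .nil 12713985 [402,0,2,1]
  .nil) 12713986 [402,4,7,5,2] (.node .nil 12713988 [402,5,5,0,4] .nil)) 12713992 [402,4,2,4,2]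
  (.node (.node .nil 12714000 [306,5,6,2] .nil) 12714016 [402,2,6] .nil)) 12714048 [306,7,1] (.node
  (.node (.node .nil 12714112 [306,1,5,0] .nil) 12714240 [402,3,2,5,2,0] (.node .nil 12714496
  [306,0,0,4,0] .nil)) 12715008 [306,1,5] (.node (.node .nil 12716032 [1458,5,1] .nil) 12718080
  [306,0,2,1] .nil)))) 12722176 [402,3,4,7,4] (.node (.node (.node (.node (.node .nil 12730368
  [402,2,6,7,0,0] .nil) 12746752 [402,3,2,4,0] (.node .nil 12779520 [402,0,2,1,2] .nil)) 12845057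
  [402,1,7,5,1] (.node (.node .nil 12845058 [402,2,4,2] .nil) 12845060 [402,4,6,2,1] .nil)) 12845064
  [402,5,0] (.node (.node (.node .nil 12845072 [402,4,6,2,5] .nil) 12845088 [402,6,1,2,5] (.node .nil
  12845120 [402,2,4] .nil)) 12845184 [402,2,0,0,0] (.node (.node .nil 12845312 [402,7,7,1,3] .nil)
  12845568 [402,7,7,2,0] .nil))) 12846080 [402,5,3,3,4] (.node (.node (.node (.node .nil 12847104
  [402,4,7,0,0] .nil) 12849152 [402,0,3,4] (.node .nil 12853248 [402,2,3,0,1] .nil)) 12861440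
  [402,2,1,2] (.node (.node .nil 12877824 [402,1,0,2] .nil) 12910592 [402,2,3,7] .nil)) 12976128
  [402,6,7,3,0] (.node (.node (.node .nil 13107201 [402,0,5,5,2] .nil) 13107202 [402,3,5,1,6] .nil)
  13107204 [402,2,0,2,0] (.node (.node .nil 13107208 [402,2,0,1] .nil) 13107216 [402,6,5,1,1]
  .nil))))) 13107232 [402,3,7,6,2] (.node (.node (.node (.node (.node (.node .nil 13107264
  [402,6,6,3,3] .nil) 13107328 [402,7,5,0] (.node .nil 13107456 [402,7,4,4,1] .nil)) 13107712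
  [402,1,4,6] (.node (.node .nil 13108224 [402,0,7] .nil) 13109248 [402,5,4,2,0] .nil)) 13111296
  [402,0,2,6] (.node (.node (.node .nil 13115392 [402,6,6] .nil) 13123584 [402,2,6,1,0] (.node .nil
  13139968 [402,7,3,5,3] .nil)) 13172736 [402,2,4,4] (.node (.node .nil 13238272 [402,1,3,7,1] .nil)
  13369344 [402,6,1,2,1] .nil))) 13631489 [402,7,7,1,0] (.node (.node (.node (.node .nil 13631490
  [402,4,1,6,2] .nil) 13631492 [402,0,6] (.node .nil 13631496 [402,7,5,6] .nil)) 13631504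
  [402,7,2,1,3] (.node (.node .nil 13631520 [402,6,5] .nil) 13631552 [402,5,5,6,4] .nil)) 13631616
  [402,0,5,3,0] (.node (.node (.node .nil 13631744 [402,6,7,1] .nil) 13632000 [402,1,1,2] (.node .nil
  13632512 [402,5,4,7,6] .nil)) 13633536 [402,4,5,5] (.node (.node .nil 13635584 [402,1,1,5,0] .nil)
  13639680 [402,1,7,4] .nil)))) 13647872 [402,2,2,5,4] (.node (.node (.node (.node (.node .nil
  13664256 [402,4,7,1] .nil) 13697024 [402,1,5,4] (.node .nil 13762560 [402,0,1,2,1] .nil)) 13893632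
  [402,4,2,0,0] (.node (.node .nil 14155776 [402,5,1,4,0] .nil) 14680065 [402,4,1] .nil)) 14680066
  [402,1,5,5,0] (.node (.node (.node .nil 14680068 [402,4,4,0,4] .nil) 14680072 [402,4,6,4] (.node
  .nil 14680080 [402,4,2,5,1] .nil)) 14680096 [402,1,6,0] (.node (.node .nil 14680128 [402,7,7,6,0]
  .nil) 14680192 [402,6,1,5] .nil))) 14680320 [402,5,6,7,1] (.node (.node (.node (.node .nil 14680576
  [402,3,4,6,0] .nil) 14681088 [402,1,5] (.node .nil 14682112 [402,0,6,3] .nil)) 14684160 [402,1,1,6]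
  (.node (.node .nil 14688256 [402,5,2,2] .nil) 14696448 [402,7,0,3,1] .nil)) 14712832 [402,2,0,4,0]
  (.node (.node (.node .nil 14745600 [402,1,2,2,3] .nil) 14811136 [402,1,5,2] .nil) 14942208
  [402,7,7,5,7] (.node (.node .nil 15204352 [402,3,0,0,1] .nil) 15728640 [402,6,3,3,0] .nil))))))))))

/-- Classes with representatives. -/
def repsT_S : List (ℕ × ℕ × List ℕ) :=
  [(3762,8519683,[8519683,4688,16428,827392,3211520,4197504]),
  (1458,8388615,[8388615,147496,268544,1082880,2621632,4268048]),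
  (306,8388753,[8388753,33058,534016,1441796,2168832,4210760]),
  (402,8388627,[8388627,33184,135744,1574920,2376704,4268036])]

theorem certT_S : ctAll (certNode tbsT treeT_S repsT_S (sxClv famT) sxSem) sxTree = true := by
  decide +kernel

theorem hrepsT_S : ∀ p ∈ repsT_S, sxTree.find p.2.1 = some p.2.2 := by decide +kernel

theorem hcvT_S : ∀ p ∈ repsT_S, sxClv famT p.2.1 p.2.2 = p.1 := by decide +kernel

theorem CT_S : Cert sextets sxObj sxTree sxSem (famOf famT) (clF (famOf famT)) (sxClv famT) (stabF famT) tbsT treeT_S repsT_S :=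
  sx_cert famT_nodup famT_lt gensT_ok hrepsT_S certT_S

theorem nT_S0 : ctCount (fun m _ => Nat.beq (clsOf treeT_S m) 3762) sxTree = 7 := by decide +kernel

theorem nT_S1 : ctCount (fun m _ => Nat.beq (clsOf treeT_S m) 1458) sxTree = 84 := by decide +kernel

theorem nT_S2 : ctCount (fun m _ => Nat.beq (clsOf treeT_S m) 306) sxTree = 336 := by decide +kernel

theorem nT_S3 : ctCount (fun m _ => Nat.beq (clsOf treeT_S m) 402) sxTree = 1344 := by decide +kernel

end Cfsg.Agent.Lib.Sporadic.M24TrOnSx
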