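import Cfsg.Agent.Lib.Sporadic.M24TblGroup
import Cfsg.Agent.Lib.Sporadic.M24SxKer
import Cfsg.Agent.Lib.Sporadic.M24TrioTrans
import Cfsg.Agent.Lib.Sporadic.M24SextetTab

/-!
# The stabiliser of a trio: data
-/

namespace Cfsg.Agent.Lib.Sporadic.M24TrSData

open Cfsg Cfsg.Agent.Lib.Sporadic.GolayCore Cfsg.Agent.Lib.Sporadic.M24Tbl
open Cfsg.Agent.Lib.Sporadic.M24Chain Cfsg.Agent.Lib.Sporadic.M24Basic
open Cfsg.Agent.Lib.Sporadic.M24Orbit Cfsg.Agent.Lib.Sporadic.M24Sextet Cfsg.Agent.Lib.Sporadic.M24Fast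
open Cfsg.Agent.Lib.Sporadic.M24Cert Cfsg.Agent.Lib.Sporadic.M24Classes
open Cfsg.Agent.Lib.Sporadic.M24SextetTab Cfsg.Agent.Lib.Sporadic.M24SextetTree
open Cfsg.Agent.Lib.Sporadic.M24TrioTab Cfsg.Agent.Lib.Sporadic.M24TrioTree Cfsg.Agent.Lib.Sporadic.M24TrioTrans
open Cfsg.Agent.Lib.Sporadic.M24SxKer Cfsg.Agent.Lib.Sporadic.M24TblGroup Cfsg.Agent.Lib.Sporadic.M24OctadStab
open scoped Pointwise

/-- The standard trio. -/
def oL : List ℕ := [8536111,4202192,4038912]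

/-- The sextets refining the standard trio, labelled by the nonzero vectors of a space of dimension three. -/
def lamL : List (List ℕ) := [
  [],
  [8388645,3152,147466,1581312,2457600,4199040],
  [8388650,6336,147461,1155072,2883840,4195856],
  [8536096,15,5264,622848,3416064,4196928],
  [8404998,2704,131113,1900544,2138368,4199488],
  [8519692,1728,16419,336128,3702784,4200464],
  [8519683,4688,16428,827392,3211520,4197504],
  [8405001,7680,131110,1343744,2695168,4194512]]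

/-- The keys of the sextets. -/
def lamK : List ℕ := [8388645,8388650,8536096,8404998,8519692,8519683,8405001]

/-- The tetrads through the first point. -/
def tsL : List ℕ := [8388645,147461,15,131113,16419,8519683,8405001]

/-- The elements of the kernel. -/
def elsE : List (List ℕ) := [
  [0,1,2,3,4,5,6,7,8,9,10,11,12,13,14,15,16,17,18,19,20,21,22,23],
  [0,1,2,3,6,5,4,22,20,12,11,10,9,19,14,18,21,17,15,13,8,16,7,23],
  [0,1,2,3,7,5,22,4,15,11,12,9,10,21,14,8,19,17,20,16,18,13,6,23],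
  [0,1,2,3,9,5,12,11,21,4,22,7,6,15,14,13,20,17,19,18,16,8,10,23],
  [0,1,2,3,10,5,11,12,19,22,4,6,7,20,14,16,15,17,21,8,13,18,9,23],
  [0,1,2,3,11,5,10,9,13,7,6,4,22,8,14,21,18,17,16,20,19,15,12,23],
  [0,1,2,3,12,5,9,10,16,6,7,22,4,18,14,19,8,17,13,15,21,20,11,23],
  [0,1,2,3,22,5,7,6,18,10,9,12,11,16,14,20,13,17,8,21,15,19,4,23],
  [1,0,3,2,4,14,6,7,16,9,10,11,12,18,5,19,8,23,13,15,21,20,22,17],
  [1,0,3,2,6,14,4,22,21,12,11,10,9,15,5,13,20,23,19,18,16,8,7,17],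
  [1,0,3,2,7,14,22,4,19,11,12,9,10,20,5,16,15,23,21,8,13,18,6,17],
  [1,0,3,2,9,14,12,11,20,4,22,7,6,19,5,18,21,23,15,13,8,16,10,17],
  [1,0,3,2,10,14,11,12,15,22,4,6,7,21,5,8,19,23,20,16,18,13,9,17],
  [1,0,3,2,11,14,10,9,18,7,6,4,22,16,5,20,13,23,8,21,15,19,12,17],
  [1,0,3,2,12,14,9,10,8,6,7,22,4,13,5,15,16,23,18,19,20,21,11,17],
  [1,0,3,2,22,14,7,6,13,10,9,12,11,8,5,21,18,23,16,20,19,15,4,17],
  [2,3,0,1,4,23,6,7,19,9,10,11,12,20,17,16,15,14,21,8,13,18,22,5],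
  [2,3,0,1,6,23,4,22,13,12,11,10,9,8,17,21,18,14,16,20,19,15,7,5],
  [2,3,0,1,7,23,22,4,16,11,12,9,10,18,17,19,8,14,13,15,21,20,6,5],
  [2,3,0,1,9,23,12,11,18,4,22,7,6,16,17,20,13,14,8,21,15,19,10,5],
  [2,3,0,1,10,23,11,12,8,22,4,6,7,13,17,15,16,14,18,19,20,21,9,5],
  [2,3,0,1,11,23,10,9,20,7,6,4,22,19,17,18,21,14,15,13,8,16,12,5],
  [2,3,0,1,12,23,9,10,15,6,7,22,4,21,17,8,19,14,20,16,18,13,11,5],
  [2,3,0,1,22,23,7,6,21,10,9,12,11,15,17,13,20,14,19,18,16,8,4,5],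
  [3,2,1,0,4,17,6,7,15,9,10,11,12,21,23,8,19,5,20,16,18,13,22,14],
  [3,2,1,0,6,17,4,22,18,12,11,10,9,16,23,20,13,5,8,21,15,19,7,14],
  [3,2,1,0,7,17,22,4,8,11,12,9,10,13,23,15,16,5,18,19,20,21,6,14],
  [3,2,1,0,9,17,12,11,13,4,22,7,6,8,23,21,18,5,16,20,19,15,10,14],
  [3,2,1,0,10,17,11,12,16,22,4,6,7,18,23,19,8,5,13,15,21,20,9,14],
  [3,2,1,0,11,17,10,9,21,7,6,4,22,15,23,13,20,5,19,18,16,8,12,14],
  [3,2,1,0,12,17,9,10,19,6,7,22,4,20,23,16,15,5,21,8,13,18,11,14],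
  [3,2,1,0,22,17,7,6,20,10,9,12,11,19,23,18,21,5,15,13,8,16,4,14],
  [5,14,23,17,4,0,6,7,13,9,10,11,12,8,1,21,18,3,16,20,19,15,22,2],
  [5,14,23,17,6,0,4,22,19,12,11,10,9,20,1,16,15,3,21,8,13,18,7,2],
  [5,14,23,17,7,0,22,4,21,11,12,9,10,15,1,13,20,3,19,18,16,8,6,2],
  [5,14,23,17,9,0,12,11,15,4,22,7,6,21,1,8,19,3,20,16,18,13,10,2],
  [5,14,23,17,10,0,11,12,20,22,4,6,7,19,1,18,21,3,15,13,8,16,9,2],
  [5,14,23,17,11,0,10,9,8,7,6,4,22,13,1,15,16,3,18,19,20,21,12,2],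
  [5,14,23,17,12,0,9,10,18,6,7,22,4,16,1,20,13,3,8,21,15,19,11,2],
  [5,14,23,17,22,0,7,6,16,10,9,12,11,18,1,19,8,3,13,15,21,20,4,2],
  [14,5,17,23,4,1,6,7,18,9,10,11,12,16,0,20,13,2,8,21,15,19,22,3],
  [14,5,17,23,6,1,4,22,15,12,11,10,9,21,0,8,19,2,20,16,18,13,7,3],
  [14,5,17,23,7,1,22,4,20,11,12,9,10,19,0,18,21,2,15,13,8,16,6,3],
  [14,5,17,23,9,1,12,11,19,4,22,7,6,20,0,16,15,2,21,8,13,18,10,3],
  [14,5,17,23,10,1,11,12,21,22,4,6,7,15,0,13,20,2,19,18,16,8,9,3],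
  [14,5,17,23,11,1,10,9,16,7,6,4,22,18,0,19,8,2,13,15,21,20,12,3],
  [14,5,17,23,12,1,9,10,13,6,7,22,4,8,0,21,18,2,16,20,19,15,11,3],
  [14,5,17,23,22,1,7,6,8,10,9,12,11,13,0,15,16,2,18,19,20,21,4,3],
  [17,23,14,5,4,3,6,7,21,9,10,11,12,15,2,13,20,0,19,18,16,8,22,1],
  [17,23,14,5,6,3,4,22,16,12,11,10,9,18,2,19,8,0,13,15,21,20,7,1],
  [17,23,14,5,7,3,22,4,13,11,12,9,10,8,2,21,18,0,16,20,19,15,6,1],
  [17,23,14,5,9,3,12,11,8,4,22,7,6,13,2,15,16,0,18,19,20,21,10,1],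
  [17,23,14,5,10,3,11,12,18,22,4,6,7,16,2,20,13,0,8,21,15,19,9,1],
  [17,23,14,5,11,3,10,9,15,7,6,4,22,21,2,8,19,0,20,16,18,13,12,1],
  [17,23,14,5,12,3,9,10,20,6,7,22,4,19,2,18,21,0,15,13,8,16,11,1],
  [17,23,14,5,22,3,7,6,19,10,9,12,11,20,2,16,15,0,21,8,13,18,4,1],
  [23,17,5,14,4,2,6,7,20,9,10,11,12,19,3,18,21,1,15,13,8,16,22,0],
  [23,17,5,14,6,2,4,22,8,12,11,10,9,13,3,15,16,1,18,19,20,21,7,0],
  [23,17,5,14,7,2,22,4,18,11,12,9,10,16,3,20,13,1,8,21,15,19,6,0],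
  [23,17,5,14,9,2,12,11,16,4,22,7,6,18,3,19,8,1,13,15,21,20,10,0],
  [23,17,5,14,10,2,11,12,13,22,4,6,7,8,3,21,18,1,16,20,19,15,9,0],
  [23,17,5,14,11,2,10,9,19,7,6,4,22,20,3,16,15,1,21,8,13,18,12,0],
  [23,17,5,14,12,2,9,10,21,6,7,22,4,15,3,13,20,1,19,18,16,8,11,0],
  [23,17,5,14,22,2,7,6,15,10,9,12,11,21,3,8,19,1,20,16,18,13,4,0]]

/-- The labels. -/
def labels : List ℕ := [1, 2, 3, 4, 5, 6, 7]

/-- The refining test. -/
def refB (v : List ℕ) : Bool := v.all fun t => oL.any fun o => Nat.beq (Nat.land t o) t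

theorem lam_find : labels.all (fun u => sxTree.find (lamK.getD (u - 1) 0) == some (lamL.getD u [])) = true := by
  decide +kernel

theorem lam_ref : labels.all (fun u => refB (lamL.getD u [])) = true := by decide +kernel

theorem ref_check : ctAll (fun _ v => !(refB v) || labels.any fun u => v == lamL.getD u []) sxTree = true := by
  decide +kernel

/-- Distinct labels have no common tetrad. -/
theorem lam_sep : (List.range 8).all (fun u => (List.range 8).all fun w => (u == w) || ((lamL.getD u []).all fun a => !(lamL.getD w []).contains a)) = true := by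
  decide +kernel

/-- Lines. -/
theorem lines_ex : labels.all (fun u => labels.all fun w => (u == w) ||
    ((lamL.getD u []).any fun a => (lamL.getD w []).any fun b => (lamL.getD (Nat.xor u w) []).contains (Nat.xor a b))) = true := by
  decide +kernel

theorem lines_un : labels.all (fun u => labels.all fun w => (u == w) || labels.all fun x =>
    (Nat.xor u w == x) || ((lamL.getD u []).all fun a => (lamL.getD w []).all fun b =>
      !(lamL.getD x []).contains (Nat.xor a b))) = true := by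
  decide +kernel

theorem els_ok : elsE.all (fun T => goodT T && (oL.all fun o => applyT T o == o) &&
    labels.all fun u => (lamL.getD u []).all fun a => (lamL.getD u []).contains (applyT T a)) = true := by
  decide +kernel

theorem lam_b0 : labels.all (fun u => (lamL.getD u []).all fun a => !(Nat.testBit a 0) || (a == tsL.getD (u - 1) 0)) = true := by
  decide +kernel

theorem ts_lam : labels.all (fun u => (lamL.getD u []).contains (tsL.getD (u - 1) 0) && Nat.testBit (tsL.getD (u - 1) 0) 0) = true := by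
  decide +kernel

theorem sep_O1 : (List.range 24).all (fun c => !(Nat.testBit 8536111 c) || (List.range 24).all fun c' => !(Nat.testBit 8536111 c') ||
    (c == c') || tsL.any fun t => Nat.testBit t c != Nat.testBit t c') = true := by
  decide +kernel

theorem ts_len : tsL.length = 7 := by decide +kernel

theorem els_nodup : elsE.Nodup := by decide +kernel

theorem els_length : elsE.length = 64 := by decide +kernel

theorem els_sq : elsE.all (fun T => tcomp T T == idTbl) = true := by decide +kernel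

/-- All images of the base points occur. -/
theorem els_cover : (List.range 24).all (fun x => !(Nat.testBit 8536111 x) || (List.range 24).all fun y => !(Nat.testBit 4202192 y) ||
    elsE.any fun T => (T.getD 0 0 == x) && (T.getD 4 0 == y)) = true := by
  decide +kernel

end Cfsg.Agent.Lib.Sporadic.M24TrSData
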