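import Cfsg.Agent.Lib.Sporadic.M24YtStab
import Cfsg.Agent.Lib.Sporadic.M24SextetTab

/-!
# The stabiliser of a triple on sextets: the orbits are given by the number of tetrads meeting it
-/

namespace Cfsg.Agent.Lib.Sporadic.M24YtOnSx

open Cfsg Cfsg.Agent.Lib.Sporadic.GolayCore Cfsg.Agent.Lib.Sporadic.M24Tbl
open Cfsg.Agent.Lib.Sporadic.M24Chain Cfsg.Agent.Lib.Sporadic.M24Basic
open Cfsg.Agent.Lib.Sporadic.M24Act Cfsg.Agent.Lib.Sporadic.M24Lists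
open Cfsg.Agent.Lib.Sporadic.M24Orbit Cfsg.Agent.Lib.Sporadic.M24Count
open Cfsg.Agent.Lib.Sporadic.M24Sextet Cfsg.Agent.Lib.Sporadic.M24Fast
open Cfsg.Agent.Lib.Sporadic.M24Classes Cfsg.Agent.Lib.Sporadic.M24Cert
open scoped Pointwise
open Cfsg.Agent.Lib.Sporadic.M24YtStab Cfsg.Agent.Lib.Sporadic.M24SextetTab
open Cfsg.Agent.Lib.Sporadic.M24SextetTree

/-- The number of tetrads of a family meeting a set. -/
def meetCount (Y : Finset GolayPt) (S : Finset (Finset GolayPt)) : ℕ :=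
  (S.filter fun t => (t ∩ Y).Nonempty).card

theorem meetCount_smul (g : Equiv.Perm GolayPt) (Y : Finset GolayPt) (S : Finset (Finset GolayPt)) :
    meetCount (g • Y) (g • S) = meetCount Y S := by
  unfold meetCount
  rw [show g • S = S.image (g • ·) from rfl, Finset.filter_image,
    Finset.card_image_of_injective _ (MulAction.injective g)]
  congr 1
  apply Finset.filter_congr
  intro t _
  rw [← Finset.smul_finset_inter, Finset.smul_finset_nonempty]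

/-- The count on a list of masks. -/
def meetL (y : ℕ) : List ℕ → ℕ
  | [] => 0
  | u :: l => cond (Nat.blt 0 (fpop (Nat.land u y))) 1 0 + meetL y l

theorem meetCount_famOf (y : ℕ) {v : List ℕ} (h : v.Nodup) (h' : ∀ a ∈ v, a < 2 ^ 24) :
    meetCount (ofMask y) (famOf v) = meetL y v := by
  unfold meetCount
  rw [Finset.card_filter, sum_famOf _ h h']
  clear h h'
  induction v with
  | nil => rfl
  | cons u l ih =>
    simp only [List.map_cons, List.sum_cons, meetL, ih]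
    congr 1
    have h1 : (ofMask u ∩ ofMask y).Nonempty ↔ Nat.blt 0 (fpop (Nat.land u y)) = true := by
      rw [← Finset.card_pos, ← ofMask_and, card_ofMask]
      show _ ↔ Nat.ble 1 (fpop (u &&& y)) = true
      rw [fpop_eq]
      constructor
      · exact Nat.ble_eq_true_of_le
      · exact Nat.le_of_ble_eq_true
    by_cases h2 : (ofMask u ∩ ofMask y).Nonempty
    · rw [if_pos h2, h1.1 h2]
      rfl
    · rw [if_neg h2]
      have h3 : Nat.blt 0 (fpop (Nat.land u y)) = false := by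
        rw [← Bool.not_eq_true]
        exact fun h4 => h2 (h1.2 h4)
      rw [h3]
      rfl

/-- The class values on the table. -/
def ytClv (_ : ℕ) (v : List ℕ) : ℕ := meetL 8388611 v

set_option maxRecDepth 100000 in
set_option maxHeartbeats 0 in
/-- Classes and words. -/
def treeY_S : CT :=
  (.node (.node (.node (.node (.node (.node (.node (.node (.node (.node (.node .nil 8388615 [1] .nil)
  8388619 [1,4,0] (.node .nil 8388621 [2] .nil)) 8388622 [2,7,1,1] (.node (.node .nil 8388627 [1,5,1]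
  .nil) 8388629 [2,2,6,6] .nil)) 8388630 [2,2,5,3] (.node (.node (.node .nil 8388633 [2,6,2,6] .nil)
  8388634 [2,2,4,2,0] (.node .nil 8388636 [3] .nil)) 8388643 [1,2] (.node (.node .nil 8388645
  [2,3,4,0] .nil) 8388646 [2,6,3,5] .nil))) 8388649 [2,5,0,4,0] (.node (.node (.node (.node .nil
  8388650 [2,1,4,3,2] .nil) 8388652 [2,3,6,0] (.node .nil 8388657 [2,5,7,3,1] .nil)) 8388658 [2,2]
  (.node (.node .nil 8388660 [3,4,6,5] .nil) 8388664 [3,5,0,4,0] .nil)) 8388675 [1,6] (.node (.node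
  (.node .nil 8388677 [2,3,0,2] .nil) 8388678 [2,2,0,0] (.node .nil 8388681 [2,7,6] .nil)) 8388682
  [2,3,6,5,0] (.node (.node .nil 8388684 [3,3,6,5,0] .nil) 8388689 [2,7,2,1,1] .nil)))) 8388690
  [2,3,1,1] (.node (.node (.node (.node (.node .nil 8388692 [3,4,1,3] .nil) 8388696 [3,4,5,0,1]
  (.node .nil 8388705 [2,1,4] .nil)) 8388706 [2,6,4,3] (.node (.node .nil 8388708 [3,5,2,4] .nil)
  8388712 [3,0,1,0,2] .nil)) 8388720 [3,4,0,7,0] (.node (.node (.node .nil 8388739 [1,3,1] .nil)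
  8388741 [2,6,3,7] (.node .nil 8388742 [2,4,0,2] .nil)) 8388745 [2,5,2] (.node (.node .nil 8388746
  [2,3,2,1] .nil) 8388748 [3,1,2,4,0] .nil))) 8388753 [2,2,4,0] (.node (.node (.node (.node .nil
  8388754 [2,7,6,1] .nil) 8388756 [3,2,1] (.node .nil 8388760 [3,4,3,2,4] .nil)) 8388769 [2,2,5,0]
  (.node (.node .nil 8388770 [2,0,0,3] .nil) 8388772 [3,2,3,4,0] .nil)) 8388776 [3,1,6,5,3] (.node
  (.node (.node .nil 8388784 [2,3,5,7,1] .nil) 8388801 [2,4,1,3,0] (.node .nil 8388802 [2,3,2,4]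
  .nil)) 8388804 [2,1,1,4] (.node (.node .nil 8388808 [3,1,2,3,0] .nil) 8388816 [3,5,5,6] .nil)))))
  8388832 [3,3,1,2] (.node (.node (.node (.node (.node (.node .nil 8388867 [1,4] .nil) 8388869
  [2,6,7,5] (.node .nil 8388870 [2,4,5,0] .nil)) 8388873 [2,0,2,5] (.node (.node .nil 8388874
  [2,3,6,4,0] .nil) 8388876 [3,1,5,2,3] .nil)) 8388881 [2,0,3,1,0] (.node (.node (.node .nil 8388882
  [2,5,1] .nil) 8388884 [3,0,7,6,0,0] (.node .nil 8388888 [3,3,6,4,0] .nil)) 8388897 [2,2,3,3] (.node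
  (.node .nil 8388898 [2,7,5,3,0] .nil) 8388900 [3,3,6,0,0] .nil))) 8388904 [3,3,7,7] (.node (.node
  (.node (.node .nil 8388912 [2,2,3] .nil) 8388929 [2,1,5,0,0] (.node .nil 8388930 [2,4,6,2,0] .nil))
  8388932 [3,3,1,6] (.node (.node .nil 8388936 [2,1,5,2] .nil) 8388944 [3,0,1,2,3] .nil)) 8388960
  [3,6,5,2] (.node (.node (.node .nil 8388993 [2,7,5,4] .nil) 8388994 [2,0,0,6,0] (.node .nil 8388996
  [3,2,5,2,3] .nil)) 8389000 [3,0,0,6,0] (.node (.node .nil 8389008 [2,2,6,0] .nil) 8389024 [2,0,4,1]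
  .nil)))) 8389056 [3,7,2,1,2] (.node (.node (.node (.node (.node .nil 8389123 [1,2,6] .nil) 8389125
  [2,4,5,5] (.node .nil 8389126 [2,2,5,0,1] .nil)) 8389129 [2,0,4,7,0] (.node (.node .nil 8389130
  [2,3,6,0,2] .nil) 8389132 [3,5,0,5,0] .nil)) 8389137 [2,0,6,4,0] (.node (.node (.node .nil 8389138
  [2,2,7,6] .nil) 8389140 [3,2,7,6] (.node .nil 8389144 [3,4,5,6,0] .nil)) 8389153 [2,7,0,4] (.node
  (.node .nil 8389154 [2,3,5,3] .nil) 8389156 [3,3,1] .nil))) 8389160 [3,5,6,5] (.node (.node (.node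
  (.node .nil 8389168 [3,3,1,1,1] .nil) 8389185 [2,2,3,6] (.node .nil 8389186 [2,6] .nil)) 8389188
  [3,5,2,0,1] (.node (.node .nil 8389192 [3,6,2,7] .nil) 8389200 [2,4,5,6] .nil)) 8389216 [3,7,7,3]
  (.node (.node (.node .nil 8389249 [2,2,0,2] .nil) 8389250 [2,5,7,1] .nil) 8389252 [3,1,4,1,0]
  (.node (.node .nil 8389256 [2,5,0,0] .nil) 8389264 [3,5,0,1,0] .nil)))))) 8389280 [3,3,0,4] (.node
  (.node (.node (.node (.node (.node (.node .nil 8389312 [3,5,7,7,0] .nil) 8389377 [2,6,6,6] (.node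
  .nil 8389378 [2,4,3,2] .nil)) 8389380 [3,5,5,6,0] (.node (.node .nil 8389384 [3,1,5,4,1] .nil)
  8389392 [3,6,6,6] .nil)) 8389408 [3,3,5,4,6] (.node (.node (.node .nil 8389440 [3,7,3,2,0] .nil)
  8389504 [3,0,5,1] (.node .nil 8389635 [1,5,7] .nil)) 8389637 [2,5,2,0] (.node (.node .nil 8389638
  [2,6,5,7] .nil) 8389641 [2,3,6,3] .nil))) 8389642 [2,4,3,7] (.node (.node (.node (.node .nil
  8389644 [3,2,4,7] .nil) 8389649 [2,5,6,2,1] (.node .nil 8389650 [2,7,0,1,1] .nil)) 8389652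
  [3,3,7,3] (.node (.node .nil 8389656 [3,5,4,3,0] .nil) 8389665 [2,0,7,3] .nil)) 8389666 [2,5,5]
  (.node (.node (.node .nil 8389668 [3,3,6,2,1] .nil) 8389672 [3,4,2,4] (.node .nil 8389680
  [3,6,5,4,0] .nil)) 8389697 [2,6,3,2] (.node (.node .nil 8389698 [2,2,7,2] .nil) 8389700 [3,2,2,0]
  .nil)))) 8389704 [2,7,7,3,2] (.node (.node (.node (.node (.node .nil 8389712 [3,3,7,5,5] .nil)
  8389728 [3,0,7,3] (.node .nil 8389761 [2,7,2,6,1] .nil)) 8389762 [2,7,2,1] (.node (.node .nil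
  8389764 [3,5,4,6,4] .nil) 8389768 [3,1,3,0,0] .nil)) 8389776 [3,5,4,7] (.node (.node (.node .nil
  8389792 [3,2,7,4] .nil) 8389824 [3,6,3,2] (.node .nil 8389889 [2,6,2,0,1] .nil)) 8389890 [2,0,3,7]
  (.node (.node .nil 8389892 [3,5,1,5,2] .nil) 8389896 [2,7,3,7,0] .nil))) 8389904 [3,7,1,1,1] (.node
  (.node (.node (.node .nil 8389920 [3,7,4,1,0] .nil) 8389952 [2,6,3,0,0] (.node .nil 8390016
  [3,7,0,3] .nil)) 8390145 [2,1,6,6] (.node (.node .nil 8390146 [2,2,1,1] .nil) 8390148 [2,7,7,7,1]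
  .nil)) 8390152 [3,4,5,1,0] (.node (.node (.node .nil 8390160 [3,7,7,0,0] .nil) 8390176 [3,6,6,3,0]
  (.node .nil 8390208 [3,4,4,2,0] .nil)) 8390272 [3,4,4,7,2] (.node (.node .nil 8390400 [3,3,0,4,1]
  .nil) 8390659 [1,7,0] .nil))))) 8390661 [2,4,3] (.node (.node (.node (.node (.node (.node .nil
  8390662 [2,7,4,5,1] .nil) 8390665 [2,3,6,2] (.node .nil 8390666 [2,5,0,2] .nil)) 8390668
  [3,4,1,3,2] (.node (.node .nil 8390673 [2,1,6,3] .nil) 8390674 [2,0,2,6] .nil)) 8390676 [3,7,3,6,0]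
  (.node (.node (.node .nil 8390680 [2,5,0,0,0] .nil) 8390689 [2,4,1,3] (.node .nil 8390690 [2,1,5,1]
  .nil)) 8390692 [3,2,7,4,4] (.node (.node .nil 8390696 [3,7,2] .nil) 8390704 [3,6,4,7,3] .nil)))
  8390721 [2,0,5,3,0] (.node (.node (.node (.node .nil 8390722 [2,1,5,4] .nil) 8390724 [3,0,2,0,0]
  (.node .nil 8390728 [3,1,2,6,2] .nil)) 8390736 [3,5,5,2,0] (.node (.node .nil 8390752 [3,5,6,2,1]
  .nil) 8390785 [2,6,7,4,0] .nil)) 8390786 [2,3,1,5,0] (.node (.node (.node .nil 8390788 [3,6,5,5,0]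
  .nil) 8390792 [3,4,0,5,4] (.node .nil 8390800 [3,2,5,0,1] .nil)) 8390816 [3,5,6,1,0] (.node (.node
  .nil 8390848 [3,0,5,3,0] .nil) 8390913 [2,4,6,0] .nil)))) 8390914 [2,0,2,4,1] (.node (.node (.node
  (.node (.node .nil 8390916 [2,1,4,2] .nil) 8390920 [3,1,2,7,1] (.node .nil 8390928 [3,0,2,6] .nil))
  8390944 [3,7,0,2] (.node (.node .nil 8390976 [3,1,5,6] .nil) 8391040 [3,0,1,7,1] .nil)) 8391169
  [2,0,7,7,0] (.node (.node (.node .nil 8391170 [2,0,3,6,0] .nil) 8391172 [3,4,3] (.node .nil 8391176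
  [3,5,3,6,2] .nil)) 8391184 [3,1,0,6] (.node (.node .nil 8391200 [2,3,0,1,0] .nil) 8391232
  [3,7,4,3,5] .nil))) 8391296 [3,0,2,3,0] (.node (.node (.node (.node .nil 8391424 [3,6,7,7,3] .nil)
  8391681 [2,4,0,1] (.node .nil 8391682 [2,7,1,2,2] .nil)) 8391684 [3,4,4] (.node (.node .nil 8391688
  [3,6,1,7,6] .nil) 8391696 [3,4,0,1] .nil)) 8391712 [3,0,3,2,0] (.node (.node (.node .nil 8391744
  [3,0,7,0,4] .nil) 8391808 [2,5,6,4,0] .nil) 8391936 [3,2,4,3] (.node (.node .nil 8392192 [3,5,7,2]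
  .nil) 8392707 [1,7] .nil))))))) 8392709 [2,3,0,3] (.node (.node (.node (.node (.node (.node (.node
  (.node .nil 8392710 [2,6,1,2,2] .nil) 8392713 [2,7,2,0,0] (.node .nil 8392714 [2,5,4,0] .nil))
  8392716 [3,2,1,5] (.node (.node .nil 8392721 [2,1,7,1,0] .nil) 8392722 [2,7,5,2,0] .nil)) 8392724
  [3,1,7,1,0] (.node (.node (.node .nil 8392728 [3,7,2,2,0] .nil) 8392737 [2,7,6,0] (.node .nil
  8392738 [2,2,4,2] .nil)) 8392740 [3,6,5,1] (.node (.node .nil 8392744 [3,2,1,3,1] .nil) 8392752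
  [3,6,2,3,0] .nil))) 8392769 [2,6,3,3] (.node (.node (.node (.node .nil 8392770 [2,5,7,0,2] .nil)
  8392772 [3,2,6,7] (.node .nil 8392776 [3,4,7,1,0] .nil)) 8392784 [2,4,4,0,1] (.node (.node .nil
  8392800 [3,5,4,4] .nil) 8392833 [2,7,4,4,0] .nil)) 8392834 [2,0,3,1,2] (.node (.node (.node .nil
  8392836 [3,6,3,1,2] .nil) 8392840 [3,7,2,6] (.node .nil 8392848 [3,7,0,5,0] .nil)) 8392864
  [3,1,2,1,2] (.node (.node .nil 8392896 [3,0,5,6,2] .nil) 8392961 [2,1,3,7] .nil)))) 8392962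
  [2,4,3,3] (.node (.node (.node (.node (.node .nil 8392964 [2,2,0,2,2] .nil) 8392968 [3,7,4,1,3]
  (.node .nil 8392976 [3,4,3,2,2] .nil)) 8392992 [3,7,1,0] (.node (.node .nil 8393024 [3,4,0,7] .nil)
  8393088 [3,1,3,7] .nil)) 8393217 [2,1,7,5] (.node (.node (.node .nil 8393218 [2,5,2,4,5] .nil)
  8393220 [3,2,2,4,2] (.node .nil 8393224 [3,5,4,0] .nil)) 8393232 [2,0,3,1,1] (.node (.node .nil
  8393248 [3,0,4,1,2] .nil) 8393280 [2,6,3] .nil))) 8393344 [3,7,6,4] (.node (.node (.node (.node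
  .nil 8393472 [3,2,7,2,2] .nil) 8393729 [2,2,3,7] (.node .nil 8393730 [2,0,7,5,0] .nil)) 8393732
  [3,6,4,5] (.node (.node .nil 8393736 [3,0,4,0,0] .nil) 8393744 [3,5,7,0,0] .nil)) 8393760 [2,7,4,0]
  (.node (.node (.node .nil 8393792 [3,5,5,1] .nil) 8393856 [3,3,3,2,4] (.node .nil 8393984
  [3,2,3,1,2] .nil)) 8394240 [3,6,0,1,1] (.node (.node .nil 8394753 [2,0,6,6,2] .nil) 8394754
  [2,7,4,2] .nil))))) 8394756 [2,4] (.node (.node (.node (.node (.node (.node .nil 8394760 [3,3,6,2]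
  .nil) 8394768 [3,2,1,3] (.node .nil 8394784 [3,5,7,3] .nil)) 8394816 [3,4,0] (.node (.node .nil
  8394880 [3,6,4,3] .nil) 8395008 [2,7,4,0,0] .nil)) 8395264 [3,4,3,1,0] (.node (.node (.node .nil
  8395776 [3,2,5,5,0] .nil) 8396803 [1,0] (.node .nil 8396805 [2,4,2] .nil)) 8396806 [2,2,5,6,0]
  (.node (.node .nil 8396809 [2,0,2,1,0] .nil) 8396810 [2,6,1,1,0] .nil))) 8396812 [3,7,7,3,1] (.node
  (.node (.node (.node .nil 8396817 [2,3,7,5,0] .nil) 8396818 [2,4,7,1] (.node .nil 8396820 [2,4,0,0]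
  .nil)) 8396824 [3,7,5,5,1] (.node (.node .nil 8396833 [2,0,3,4,0] .nil) 8396834 [2,0,5,0] .nil))
  8396836 [3,5,0,2,0] (.node (.node (.node .nil 8396840 [3,5,2,2,1] .nil) 8396848 [3,4,0,0,0] (.node
  .nil 8396865 [2,6,2,7,0] .nil)) 8396866 [2,5,7,4,0] (.node (.node .nil 8396868 [3,3,1,4] .nil)
  8396872 [2,7,6,3] .nil)))) 8396880 [3,6,6,6,0] (.node (.node (.node (.node (.node .nil 8396896
  [3,7,6,3,0] .nil) 8396929 [2,0,4,3] (.node .nil 8396930 [2,4,6,6,0] .nil)) 8396932 [3,0,0,0,4]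
  (.node (.node .nil 8396936 [3,5,2] .nil) 8396944 [3,1,7,6] .nil)) 8396960 [3,4,6,1,0] (.node (.node
  (.node .nil 8396992 [3,5,0,3,0] .nil) 8397057 [2,0,4,2] (.node .nil 8397058 [2,6,1,5] .nil))
  8397060 [3,6,1,5] (.node (.node .nil 8397064 [2,3,3,1,1] .nil) 8397072 [3,2,3,0] .nil))) 8397088
  [3,5,7,7] (.node (.node (.node (.node .nil 8397120 [2,5,7,6,0] .nil) 8397184 [3,6,4,7] (.node .nil
  8397313 [2,3,1,0] .nil)) 8397314 [2,5,2,2] (.node (.node .nil 8397316 [3,1,0,3,4] .nil) 8397320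
  [3,0,3,3] .nil)) 8397328 [3,6,4,2,0] (.node (.node (.node .nil 8397344 [2,5,3,0,2] .nil) 8397376
  [3,0,3,4] .nil) 8397440 [3,3,6,3,2] (.node (.node .nil 8397568 [3,4,2,6,3] .nil) 8397825 [2,5,7]
  .nil)))))) 8397826 [2,5,0,7] (.node (.node (.node (.node (.node (.node (.node .nil 8397828
  [3,2,5,6,0] .nil) 8397832 [2,3,6] (.node .nil 8397840 [3,4,7,7,0] .nil)) 8397856 [3,0,7,4] (.node
  (.node .nil 8397888 [2,4,4,2] .nil) 8397952 [3,1,0,1,5] .nil)) 8398080 [2,5,7,3] (.node (.node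
  (.node .nil 8398336 [3,2,1,7,0] .nil) 8398849 [2,3,5] (.node .nil 8398850 [2,5,2,5,1] .nil))
  8398852 [3,0,6,6,0] (.node (.node .nil 8398856 [3,5,0,2] .nil) 8398864 [3,4,4,3] .nil))) 8398880
  [2,4,6,1] (.node (.node (.node (.node .nil 8398912 [3,7,2,0] .nil) 8398976 [3,7,6,2,1] (.node .nil
  8399104 [3,1,7,7,0] .nil)) 8399360 [2,7,0,3,0] (.node (.node .nil 8399872 [3,2,7,4,0] .nil) 8400897
  [2,5,1,6] .nil)) 8400898 [2,2,0] (.node (.node (.node .nil 8400900 [3,1,5,0,1] .nil) 8400904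
  [3,6,1,1,0] (.node .nil 8400912 [3,0,5,5,2] .nil)) 8400928 [3,4,5,2] (.node (.node .nil 8400960
  [3,0,3,0,3] .nil) 8401024 [2,3,4,5,0] .nil)))) 8401152 [3,1,2,0,1] (.node (.node (.node (.node
  (.node .nil 8401408 [3,2,0] .nil) 8401920 [3,3,5,6,2] (.node .nil 8402944 [3,0,3,5,0] .nil))
  8404995 [1,3] (.node (.node .nil 8404997 [2,3,5,0] .nil) 8404998 [2,6,0] .nil)) 8405001 [2,3,3,3]
  (.node (.node (.node .nil 8405002 [2,5,0,3] .nil) 8405004 [2,6,1,5,1] (.node .nil 8405009 [2,5,3,0]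
  .nil)) 8405010 [2,7,4,0,1] (.node (.node .nil 8405012 [3,1,0] .nil) 8405016 [3,1,3,6,0] .nil)))
  8405025 [2,4,4,1] (.node (.node (.node (.node .nil 8405026 [2,3] .nil) 8405028 [2,4,3,5] (.node
  .nil 8405032 [2,3,3] .nil)) 8405040 [3,2,2,7] (.node (.node .nil 8405057 [2,4,1,7,0] .nil) 8405058
  [2,1,1,6,0] .nil)) 8405060 [3,3,4,0,1] (.node (.node (.node .nil 8405064 [3,5,0,3] .nil) 8405072
  [3,3,3,0,2] .nil) 8405088 [3,6,0,6] (.node (.node .nil 8405121 [2,4,6] .nil) 8405122 [2,1,0,4]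
  .nil))))) 8405124 [3,0,3,6,0] (.node (.node (.node (.node (.node (.node .nil 8405128 [3,7,3,0]
  .nil) 8405136 [3,2,6,0,0] (.node .nil 8405152 [3,4,6] .nil)) 8405184 [3,2,1,2,0] (.node (.node .nil
  8405249 [2,1,7,0,3] .nil) 8405250 [2,1,0,1] .nil)) 8405252 [3,7,5] (.node (.node (.node .nil
  8405256 [3,5,0,4] .nil) 8405264 [3,5,1] (.node .nil 8405280 [3,3,2,7] .nil)) 8405312 [3,6,3,1,3]
  (.node (.node .nil 8405376 [3,3,2] .nil) 8405505 [2,0,2,1] .nil))) 8405506 [2,1,1,1,3] (.node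
  (.node (.node (.node .nil 8405508 [3,0,2,1] .nil) 8405512 [3,0,5,7,0] (.node .nil 8405520
  [3,4,7,2,1] .nil)) 8405536 [3,1,1,1,3] (.node (.node .nil 8405568 [3,6,6,6,6] .nil) 8405632
  [3,2,1,6] .nil)) 8405760 [2,4,1,5] (.node (.node (.node .nil 8406017 [2,1,6,4,1] .nil) 8406018
  [2,7,5,6] (.node .nil 8406020 [3,4,3,1,6] .nil)) 8406024 [3,6,1,1] (.node (.node .nil 8406032
  [2,6,5,4] .nil) 8406048 [3,4,3,5,0] .nil)))) 8406080 [3,4,5,2,3] (.node (.node (.node (.node (.node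
  .nil 8406144 [3,5,5,1,2] .nil) 8406272 [3,2,6,4,0] (.node .nil 8406528 [3,4,2,1,1] .nil)) 8407041
  [2,2,5,3,1] (.node (.node .nil 8407042 [2,7,3,5] .nil) 8407044 [3,0,5,3] .nil)) 8407048 [3,7,7,2,0]
  (.node (.node (.node .nil 8407056 [3,3,5,4,2] .nil) 8407072 [3,7,1,4,3] (.node .nil 8407104
  [2,1,1,4,0] .nil)) 8407168 [3,2,5,4] (.node (.node .nil 8407296 [3,6,2,4,3] .nil) 8407552 [3,2,3,7]
  .nil))) 8408064 [3,1,6,2,3] (.node (.node (.node (.node .nil 8409089 [2,6,6,2] .nil) 8409090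
  [2,3,4,3] (.node .nil 8409092 [3,4,6,7,2] .nil)) 8409096 [3,1,5,2,2] (.node (.node .nil 8409104
  [3,7,4,4] .nil) 8409120 [3,6,6,2] .nil)) 8409152 [3,7,4,3] (.node (.node (.node .nil 8409216
  [2,2,1,2] .nil) 8409344 [3,4,1,5,0] .nil) 8409600 [3,6,3,0] (.node (.node .nil 8410112 [3,1,0,4,1]
  .nil) 8411136 [3,3,0,6] .nil)))))))) 8413185 [2,1,0,3,0] (.node (.node (.node (.node (.node (.node
  (.node (.node (.node .nil 8413186 [2,3,3,0,3] .nil) 8413188 [3,4,1,0,0] (.node .nil 8413192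
  [3,7,4,0] .nil)) 8413200 [3,0,2] (.node (.node .nil 8413216 [3,5,5,0,0] .nil) 8413248 [3,2] .nil))
  8413312 [2,5,4,2,0] (.node (.node (.node .nil 8413440 [3,1,0,1] .nil) 8413696 [3,0,4,7,2] (.node
  .nil 8414208 [3,4,2,7,1] .nil)) 8415232 [3,1,4,3] (.node (.node .nil 8417280 [2,7,4] .nil) 8421379
  [1,2,3] .nil))) 8421381 [2,7,4,4] (.node (.node (.node (.node .nil 8421382 [2,3,2,5,0] .nil)
  8421385 [2,5,3] (.node .nil 8421386 [2,1,4,1] .nil)) 8421388 [3,2,2,2,1] (.node (.node .nil 8421393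
  [2,1,6,2] .nil) 8421394 [2,4,2,2] .nil)) 8421396 [3,2,6,6] (.node (.node (.node .nil 8421400
  [3,2,4,2,0] .nil) 8421409 [2,5,1,3] (.node .nil 8421410 [2,3,5,2] .nil)) 8421412 [3,7,1,3] (.node
  (.node .nil 8421416 [3,3,7] .nil) 8421424 [2,2,0,0,2] .nil)))) 8421441 [2,5,0,1] (.node (.node
  (.node (.node (.node .nil 8421442 [2,1,7,3,1] .nil) 8421444 [3,1,4,0,4] (.node .nil 8421448 [3,5,4]
  .nil)) 8421456 [3,2,3,1,5,0] (.node (.node .nil 8421472 [3,7,2,3] .nil) 8421505 [2,7,7,3,1] .nil))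
  8421506 [2,6,1,1] (.node (.node (.node .nil 8421508 [3,4,0,2] .nil) 8421512 [3,1,5,0,3] (.node .nil
  8421520 [2,6,7,0] .nil)) 8421536 [2,5,6,1] (.node (.node .nil 8421568 [3,7,0,7] .nil) 8421633
  [2,0,0] .nil))) 8421634 [2,1,4,4] (.node (.node (.node (.node .nil 8421636 [3,1,4,6] .nil) 8421640
  [3,5,3] (.node .nil 8421648 [2,0,1,5,1] .nil)) 8421664 [2,7,1] (.node (.node .nil 8421696 [3,3,3]
  .nil) 8421760 [2,5,1,5,0] .nil)) 8421889 [2,3,2,3] (.node (.node (.node .nil 8421890 [2,0,6,2]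
  .nil) 8421892 [2,3,5,1] (.node .nil 8421896 [3,3,2,3] .nil)) 8421904 [3,1,0,7,3] (.node (.node .nil
  8421920 [3,4,7,7] .nil) 8421952 [3,5,0,1] .nil))))) 8422016 [3,0,6,2] (.node (.node (.node (.node
  (.node (.node .nil 8422144 [3,5,1,6] .nil) 8422401 [2,3,7,1] (.node .nil 8422402 [2,7,4,3,0] .nil))
  8422404 [2,5,3,4] (.node (.node .nil 8422408 [3,3,6,4] .nil) 8422416 [3,3,6,0,1] .nil)) 8422432
  [3,7,0,1,2] (.node (.node (.node .nil 8422464 [3,7,4,1] .nil) 8422528 [3,2,3,2,0] (.node .nil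
  8422656 [3,1,4,4] .nil)) 8422912 [2,2,7,0] (.node (.node .nil 8423425 [2,6,2,5,1] .nil) 8423426
  [2,7,0] .nil))) 8423428 [3,0,2,1,0] (.node (.node (.node (.node .nil 8423432 [3,6,3,7] .nil)
  8423440 [3,1,5,2] (.node .nil 8423456 [3,6,5,1,1] .nil)) 8423488 [2,7,0,3] (.node (.node .nil
  8423552 [3,1,6,5,1] .nil) 8423680 [3,2,7,7,0] .nil)) 8423936 [3,2,7,0,0] (.node (.node (.node .nil
  8424448 [3,4,6,4] .nil) 8425473 [2,2,2,4,1] (.node .nil 8425474 [2,0,5] .nil)) 8425476 [3,4,3,6]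
  (.node (.node .nil 8425480 [2,7,2,2] .nil) 8425488 [3,4,7,0,4] .nil)))) 8425504 [3,1,6,0] (.node
  (.node (.node (.node (.node .nil 8425536 [3,1,7,3,1] .nil) 8425600 [3,5,6,2,3] (.node .nil 8425728
  [3,1,2,4] .nil)) 8425984 [3,1,7,5] (.node (.node .nil 8426496 [3,4,7,1] .nil) 8427520 [3,4,6,0,1]
  .nil)) 8429569 [2,3,3,3,0] (.node (.node (.node .nil 8429570 [2,0,5,4,2] .nil) 8429572 [3,4,2]
  (.node .nil 8429576 [3,2,2,1,0] .nil)) 8429584 [3,7,6,6,3] (.node (.node .nil 8429600 [3,0,7,0,1]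
  .nil) 8429632 [3,5,6,4] .nil))) 8429696 [3,0,0,6] (.node (.node (.node (.node .nil 8429824
  [3,2,0,6,2] .nil) 8430080 [3,2,7,1,0] (.node .nil 8430592 [3,5,1,2] .nil)) 8431616 [3,3,5] (.node
  (.node .nil 8433664 [3,7,4,5] .nil) 8437761 [2,7,1,2] .nil)) 8437762 [2,1,1,3] (.node (.node (.node
  .nil 8437764 [3,6,0] .nil) 8437768 [3,5,1,5,1] .nil) 8437776 [3,5,1,1,0] (.node (.node .nil 8437792
  [3,1,4,2] .nil) 8437824 [2,5,5,0,1] .nil)))))) 8437888 [3,6,1,7,0] (.node (.node (.node (.node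
  (.node (.node (.node .nil 8438016 [3,5,7,5,1] .nil) 8438272 [3,4,3,0] (.node .nil 8438784 [3,7,1,2]
  .nil)) 8439808 [2,1,6,1] (.node (.node .nil 8441856 [3,2,2,6] .nil) 8445952 [3,7,6,0,1] .nil))
  8454147 [1,7,2] (.node (.node (.node .nil 8454149 [2,0,0,7,2] .nil) 8454150 [2,7,7,3] (.node .nil
  8454153 [2,5,3,5,2] .nil)) 8454154 [2,7,1,4] (.node (.node .nil 8454156 [3,1,5,0,4,0] .nil) 8454161
  [2,7,5,5] .nil))) 8454162 [2,6,4,6] (.node (.node (.node (.node .nil 8454164 [2,7,0,7] .nil)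
  8454168 [3,3,4,3] (.node .nil 8454177 [2,7,3] .nil)) 8454178 [2,2,2,1,0] (.node (.node .nil 8454180
  [3,5,7,5] .nil) 8454184 [3,4,6,0] .nil)) 8454192 [3,0,3,2,6] (.node (.node (.node .nil 8454209
  [2,1,1] .nil) 8454210 [2,2,6,1,0] (.node .nil 8454212 [3,7,2,0,0] .nil)) 8454216 [3,4,7,6,0] (.node
  (.node .nil 8454224 [3,1,3,0,2] .nil) 8454240 [3,2,3,5,5] .nil)))) 8454273 [2,0,4,0,1] (.node
  (.node (.node (.node (.node .nil 8454274 [2,4,3,6] .nil) 8454276 [3,7,3,1,3] (.node .nil 8454280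
  [2,2,0,7,1] .nil)) 8454288 [3,4,4,0,0] (.node (.node .nil 8454304 [3,7,2,2] .nil) 8454336
  [3,3,6,4,1] .nil)) 8454401 [2,7,2] (.node (.node (.node .nil 8454402 [2,1,5,1,0] .nil) 8454404
  [3,3,5,4] (.node .nil 8454408 [3,1,2,1,1] .nil)) 8454416 [3,6,4,1] (.node (.node .nil 8454432
  [3,2,3,3] .nil) 8454464 [3,0,1,7] .nil))) 8454528 [3,4,2,0,0] (.node (.node (.node (.node .nil
  8454657 [2,7,4,5] .nil) 8454658 [2,6,5,2] (.node .nil 8454660 [3,2,4,5,0] .nil)) 8454664 [2,4,7,6]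
  (.node (.node .nil 8454672 [3,5,2,2,2] .nil) 8454688 [3,2,0,0] .nil)) 8454720 [3,0,6,3] (.node
  (.node (.node .nil 8454784 [2,0,3,6,1] .nil) 8454912 [3,0,4,5] (.node .nil 8455169 [2,5,0,5] .nil))
  8455170 [2,5,1,0] (.node (.node .nil 8455172 [3,5,4,0,1] .nil) 8455176 [3,3,0,1] .nil))))) 8455184
  [3,2,7,0,2] (.node (.node (.node (.node (.node (.node .nil 8455200 [2,0,7] .nil) 8455232 [3,2,7,2]
  (.node .nil 8455296 [3,4,3,1] .nil)) 8455424 [3,6,2,4] (.node (.node .nil 8455680 [3,6,7,3,2] .nil)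
  8456193 [2,6,2,2] .nil)) 8456194 [2,3,2,7,1] (.node (.node (.node .nil 8456196 [3,5,2,1,4] .nil)
  8456200 [3,4,2,4,1] (.node .nil 8456208 [3,5] .nil)) 8456224 [3,6,2,2] (.node (.node .nil 8456256
  [2,0,7,3,1] .nil) 8456320 [3,0,5,4,0] .nil))) 8456448 [3,4,3,3,1] (.node (.node (.node (.node .nil
  8456704 [3,3,2,4,3] .nil) 8457216 [3,3,4,3,4] (.node .nil 8458241 [2,5,1,4,1] .nil)) 8458242
  [2,2,2,5] (.node (.node .nil 8458244 [3,4,5,1,1] .nil) 8458248 [3,7,5,2,4] .nil)) 8458256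
  [3,6,0,3,0] (.node (.node (.node .nil 8458272 [2,1,7,6] .nil) 8458304 [3,7,3,1] (.node .nil 8458368
  [3,5,2,6] .nil)) 8458496 [3,6,2,3] (.node (.node .nil 8458752 [3,6,7] .nil) 8459264 [2,7,6,4,1]
  .nil)))) 8460288 [3,2,4,0] (.node (.node (.node (.node (.node .nil 8462337 [2,4,5,1] .nil) 8462338
  [2,0,3,2] (.node .nil 8462340 [2,5,2,1] .nil)) 8462344 [3,5,2,1,0] (.node (.node .nil 8462352
  [2,6,2,0] .nil) 8462368 [3,7,6,6,2] .nil)) 8462400 [3,6,0,3] (.node (.node (.node .nil 8462464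
  [3,6,5,0] .nil) 8462592 [3,5,7,3,0] (.node .nil 8462848 [3,3,1,0] .nil)) 8463360 [3,3,6,0] (.node
  (.node .nil 8464384 [3,5,2,5,1] .nil) 8466432 [3,6,4,4,0] .nil))) 8470529 [2,5,7,0] (.node (.node
  (.node (.node .nil 8470530 [2,0,1] .nil) 8470532 [3,7,6,2,2] (.node .nil 8470536 [3,2,0,0,0] .nil))
  8470544 [3,1,3,1,0] (.node (.node .nil 8470560 [3,0,7,0] .nil) 8470592 [2,0,1,3] .nil)) 8470656
  [3,3,1,0,0] (.node (.node (.node .nil 8470784 [3,0,5,7] .nil) 8471040 [3,1,3,2,1] .nil) 8471552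
  [3,7,5,6] (.node (.node .nil 8472576 [2,6,2,0,0] .nil) 8474624 [3,5,7,0] .nil))))))) 8478720
  [3,1,1,6] (.node (.node (.node (.node (.node (.node (.node (.node .nil 8486913 [2,3,2,2] .nil)
  8486914 [2,2,6,5] (.node .nil 8486916 [3,1,1,7,2] .nil)) 8486920 [3,6,3] (.node (.node .nil 8486928
  [3,0,1,1] .nil) 8486944 [3,2,2,2,2] .nil)) 8486976 [2,1,5,3,0] (.node (.node (.node .nil 8487040
  [3,2,5,1,2] .nil) 8487168 [3,4,1,1,1] (.node .nil 8487424 [3,6,3,3,2] .nil)) 8487936 [3,6,0,5]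
  (.node (.node .nil 8488960 [2,0,5,4] .nil) 8491008 [3,3,2,2] .nil))) 8495104 [3,4,4,0,3] (.node
  (.node (.node (.node .nil 8503296 [2,5,1,1] .nil) 8519683 [1,6,2] (.node .nil 8519685 [2,2,2,0,1]
  .nil)) 8519686 [2,4,0,3] (.node (.node .nil 8519689 [2,6,1,0,0] .nil) 8519690 [2,5,1,0,0] .nil))
  8519692 [2,6,1,2] (.node (.node (.node .nil 8519697 [2,6,6,1,2] .nil) 8519698 [2,3,5,7,0] (.node
  .nil 8519700 [3,3,3,2,0] .nil)) 8519704 [3,7,7,4,1] (.node (.node .nil 8519713 [2,5,4,1] .nil)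
  8519714 [2,0,0,2] .nil)))) 8519716 [2,6,4,1] (.node (.node (.node (.node (.node .nil 8519720
  [2,5,3,5] .nil) 8519728 [3,0,1,6] (.node .nil 8519745 [2,6,5,0] .nil)) 8519746 [2,4,2,7] (.node
  (.node .nil 8519748 [3,3,7,2,1] .nil) 8519752 [3,0,7,3,0] .nil)) 8519760 [2,3,7,0] (.node (.node
  (.node .nil 8519776 [3,0,4,4] .nil) 8519809 [2,7,6,2,4] (.node .nil 8519810 [2,6,7,3] .nil))
  8519812 [3,5,6,6] (.node (.node .nil 8519816 [3,5,1,0,0] .nil) 8519824 [3,6,3,2,0] .nil))) 8519840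
  [3,0,3,7,3] (.node (.node (.node (.node .nil 8519872 [3,6,7,4] .nil) 8519937 [2,3,2,6] (.node .nil
  8519938 [2,2,0,1,1] .nil)) 8519940 [3,4,5,0] (.node (.node .nil 8519944 [3,5,5,5] .nil) 8519952
  [3,1,7,1] .nil)) 8519968 [3,2,5,2,0] (.node (.node (.node .nil 8520000 [3,6,3,4,0] .nil) 8520064
  [3,0,0,1,0] (.node .nil 8520193 [2,6,4,0] .nil)) 8520194 [2,7,1,5] (.node (.node .nil 8520196
  [3,4,0,4] .nil) 8520200 [3,6,6,0,0] .nil))))) 8520208 [2,4,4,7,0] (.node (.node (.node (.node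
  (.node (.node .nil 8520224 [3,3,6,6] .nil) 8520256 [2,7,3,2] (.node .nil 8520320 [3,6,6,1,0] .nil))
  8520448 [3,7,0] (.node (.node .nil 8520705 [2,0,1,1] .nil) 8520706 [2,1,1,6] .nil)) 8520708
  [3,4,0,3] (.node (.node (.node .nil 8520712 [3,7,3,5,5] .nil) 8520720 [3,1,1,1] (.node .nil 8520736
  [3,2,3,2] .nil)) 8520768 [3,7,3,4,1] (.node (.node .nil 8520832 [2,2,7] .nil) 8520960 [3,4,2,5,0]
  .nil))) 8521216 [3,3,0,0,7] (.node (.node (.node (.node .nil 8521729 [2,5,6] .nil) 8521730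
  [2,0,0,5,4] (.node .nil 8521732 [3,4,1,5,1] .nil)) 8521736 [3,6,5,4] (.node (.node .nil 8521744
  [3,7,5,1,2] .nil) 8521760 [3,5,6] .nil)) 8521792 [3,3,7,1,0] (.node (.node (.node .nil 8521856
  [2,4,3,2,2] .nil) 8521984 [3,1,0,3,0] (.node .nil 8522240 [3,6,5,0,1] .nil)) 8522752 [2,0,7,0]
  (.node (.node .nil 8523777 [2,2,1,5,2] .nil) 8523778 [2,2,5,7] .nil)))) 8523780 [3,3,0,2,2] (.node
  (.node (.node (.node (.node .nil 8523784 [3,3,2,3,0] .nil) 8523792 [2,6,7,1,1] (.node .nil 8523808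
  [3,7,6,0] .nil)) 8523840 [2,7,3,5,1] (.node (.node .nil 8523904 [3,4,3,3,0,0] .nil) 8524032
  [3,2,4,5] .nil)) 8524288 [2,6,6,0] (.node (.node (.node .nil 8524800 [3,3,5,3,0] .nil) 8525824
  [3,7,4,2] (.node .nil 8527873 [2,1,2,2] .nil)) 8527874 [2,2,1,4,0] (.node (.node .nil 8527876
  [3,2,2,0,1] .nil) 8527880 [3,0,0,0] .nil))) 8527888 [3,3,7,5,0] (.node (.node (.node (.node .nil
  8527904 [3,0,4,0,1] .nil) 8527936 [3,4,4,4,1] (.node .nil 8528000 [3,7,0,5] .nil)) 8528128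
  [3,5,3,0] (.node (.node .nil 8528384 [3,1,6,1,1] .nil) 8528896 [3,0,3,0,2] .nil)) 8529920
  [3,3,6,5,2] (.node (.node (.node .nil 8531968 [3,4,3,1,3] .nil) 8536065 [2,7,7,0] .nil) 8536066
  [2,3,3,5,0] (.node (.node .nil 8536068 [2,4,0] .nil) 8536072 [2,5,0] .nil)))))) 8536080 [3,4,1,0]
  (.node (.node (.node (.node (.node (.node (.node .nil 8536096 [2,0,4,1,0] .nil) 8536128 [3,6,7,0,1]
  (.node .nil 8536192 [3,3,0,3,4] .nil)) 8536320 [3,1,6,4] (.node (.node .nil 8536576 [3,5,1,0] .nil)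
  8537088 [3,6,5,4,5] .nil)) 8538112 [3,4,2,1] (.node (.node (.node .nil 8540160 [3,5,0,0] .nil)
  8544256 [3,2,1,1] (.node .nil 8552449 [2,6,0,2] .nil)) 8552450 [2,6,1,4] (.node (.node .nil 8552452
  [3,5,5,2,2] .nil) 8552456 [3,5,0,5] .nil))) 8552464 [3,5,1,6,0] (.node (.node (.node (.node .nil
  8552480 [3,4,5,0,0] .nil) 8552512 [3,3,5,5] (.node .nil 8552576 [3,7,7,4] .nil)) 8552704 [3,0,0]
  (.node (.node .nil 8552960 [3,3,4,1] .nil) 8553472 [3,3,7,1] .nil)) 8554496 [3,0,7,1,0] (.node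
  (.node (.node .nil 8556544 [3,1,0,2,0] .nil) 8560640 [2,2,5,4] (.node .nil 8568832 [3,5,2,1] .nil))
  8585217 [2,0,6,3,2] (.node (.node .nil 8585218 [2,6,2,5,0] .nil) 8585220 [3,6,4,1,5] .nil))))
  8585224 [3,1,3,0] (.node (.node (.node (.node (.node .nil 8585232 [3,0,2,3,1] .nil) 8585248
  [3,2,7,7,1] (.node .nil 8585280 [3,4,1,5] .nil)) 8585344 [3,1,2,5] (.node (.node .nil 8585472
  [2,6,5,1] .nil) 8585728 [3,1,7,3,0] .nil)) 8586240 [3,5,2,2] (.node (.node (.node .nil 8587264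
  [3,1,4,5,0] .nil) 8589312 [3,2,1,4,2] (.node .nil 8593408 [3,6,2,5,0] .nil)) 8601600 [3,6,0,7,2]
  (.node (.node .nil 8617984 [3,1,7,7] .nil) 8650755 [1,1] .nil))) 8650757 [2,0,3,4] (.node (.node
  (.node (.node .nil 8650758 [2,4,4,0] .nil) 8650761 [2,0,3,1] (.node .nil 8650762 [2,2,6,4] .nil))
  8650764 [3,7,1,1] (.node (.node .nil 8650769 [2,1,3,3] .nil) 8650770 [2,5,4] .nil)) 8650772
  [3,4,4,0] (.node (.node (.node .nil 8650776 [3,1,1,5,0] .nil) 8650785 [2,0,2,5,0] .nil) 8650786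
  [2,7,6,5] (.node (.node .nil 8650788 [3,5,6,0] .nil) 8650792 [3,5,7,7,1] .nil))))) 8650800
  [3,0,0,5,6] (.node (.node (.node (.node (.node (.node .nil 8650817 [2,2,4] .nil) 8650818 [2,0,7,1]
  (.node .nil 8650820 [3,2,6] .nil)) 8650824 [3,6,2] (.node (.node .nil 8650832 [3,7,1,7,0] .nil)
  8650848 [2,7,1,1,1] .nil)) 8650881 [2,5,5,1] (.node (.node (.node .nil 8650882 [2,5,5,6,1] .nil)
  8650884 [3,4,6,4,3] (.node .nil 8650888 [2,2,1,3,0] .nil)) 8650896 [3,1,7,2,0] (.node (.node .nil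
  8650912 [3,4,7,3] .nil) 8650944 [3,3,0,2,1] .nil))) 8651009 [2,4,7,1,1] (.node (.node (.node (.node
  .nil 8651010 [2,2,2,1] .nil) 8651012 [2,3,1,2] (.node .nil 8651016 [3,2,2,1] .nil)) 8651024
  [3,3,1,2,4] (.node (.node .nil 8651040 [3,7,3,3,2] .nil) 8651072 [3,4,6,2,0] .nil)) 8651136
  [3,5,7,6,3] (.node (.node (.node .nil 8651265 [2,3,7,5] .nil) 8651266 [2,2,2,4] (.node .nil 8651268
  [3,0,4,4,0] .nil)) 8651272 [2,7,6,3,0] (.node (.node .nil 8651280 [3,2,1,2] .nil) 8651296 [3,7,0,6]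
  .nil)))) 8651328 [3,0,6,4] (.node (.node (.node (.node (.node .nil 8651392 [2,7,0,2] .nil) 8651520
  [3,6,0,4] (.node .nil 8651777 [2,6,1] .nil)) 8651778 [2,6,6,1] (.node (.node .nil 8651780 [3,0,5,0]
  .nil) 8651784 [3,0,4,3,3] .nil)) 8651792 [2,5,4,3] (.node (.node (.node .nil 8651808 [3,4,4,4]
  .nil) 8651840 [3,0,6,0,1] (.node .nil 8651904 [3,7,7,5,0] .nil)) 8652032 [3,3,1,2,3] (.node (.node
  .nil 8652288 [3,6,1,2,7] .nil) 8652801 [2,0,4,6] .nil))) 8652802 [2,3,0] (.node (.node (.node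
  (.node .nil 8652804 [2,0,2,0] .nil) 8652808 [3,4,0,4,1] (.node .nil 8652816 [3,4,1,7,3] .nil))
  8652832 [3,6,4,6] (.node (.node .nil 8652864 [3,3,0] .nil) 8652928 [3,5,6,6,0] .nil)) 8653056
  [2,1,2,5] (.node (.node (.node .nil 8653312 [3,1,6,2] .nil) 8653824 [3,5,4,3,3] .nil) 8654849
  [2,2,3,2,0] (.node (.node .nil 8654850 [2,6,2,1] .nil) 8654852 [2,3,4,1] .nil))))))))) 8654856
  [3,0,3,1] (.node (.node (.node (.node (.node (.node (.node (.node (.node (.node .nil 8654864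
  [3,3,4,5,1] .nil) 8654880 [3,3,4,0,2] (.node .nil 8654912 [3,2,4] .nil)) 8654976 [3,5,5,7,0] (.node
  (.node .nil 8655104 [2,0,0,4] .nil) 8655360 [3,1,1,4] .nil)) 8655872 [3,3,1,6,4] (.node (.node
  (.node .nil 8656896 [2,5,5,7] .nil) 8658945 [2,7,0,1,0] (.node .nil 8658946 [2,6,6,4] .nil))
  8658948 [3,0,0,3] (.node (.node .nil 8658952 [3,4,6,7,3] .nil) 8658960 [3,6,5,3] .nil))) 8658976
  [3,6,3,6,0] (.node (.node (.node (.node .nil 8659008 [3,3,2,6,0] .nil) 8659072 [3,5,4,0,3] (.node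
  .nil 8659200 [3,6,5,0,4] .nil)) 8659456 [3,2,6,5,4] (.node (.node .nil 8659968 [3,2,7,1,3] .nil)
  8660992 [3,7,5,1,1] .nil)) 8663040 [3,6,2,1] (.node (.node (.node .nil 8667137 [2,3,1,3,1] .nil)
  8667138 [2,1,6,0] (.node .nil 8667140 [3,1,5,5,1] .nil)) 8667144 [3,3,6,6,3] (.node (.node .nil
  8667152 [2,4,1,3,2] .nil) 8667168 [3,2,2] .nil)))) 8667200 [3,2,2,3,2] (.node (.node (.node (.node
  (.node .nil 8667264 [3,7,0,4,1] .nil) 8667392 [3,7,5,3,2] (.node .nil 8667648 [3,1,4,5,4] .nil))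
  8668160 [2,7,4,1,1] (.node (.node .nil 8669184 [3,7,6,0,7] .nil) 8671232 [3,7,2,1,0] .nil)) 8675328
  [3,5,6,5,0] (.node (.node (.node .nil 8683521 [2,4,1,6] .nil) 8683522 [2,6,2,4] (.node .nil 8683524
  [3,6,0,2,1] .nil)) 8683528 [3,2,5,3] (.node (.node .nil 8683536 [3,0,5,2,1] .nil) 8683552 [3,5,4,2]
  .nil))) 8683584 [3,0,2,4,0] (.node (.node (.node (.node .nil 8683648 [3,7,1,5,0] .nil) 8683776
  [3,4,2,0] (.node .nil 8684032 [3,6,1,2] .nil)) 8684544 [3,0,2,1,3] (.node (.node .nil 8685568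
  [3,7,2,5] .nil) 8687616 [3,0,5] .nil)) 8691712 [2,3,0,4] (.node (.node (.node .nil 8699904
  [3,7,6,6,0] .nil) 8716289 [2,1,3,2] (.node .nil 8716290 [2,0,4,1,1] .nil)) 8716292 [3,6,1,0,3]
  (.node (.node .nil 8716296 [2,1,1,5] .nil) 8716304 [3,3,5,5,0] .nil))))) 8716320 [3,3,1,3] (.node
  (.node (.node (.node (.node (.node .nil 8716352 [3,0,3,5,6] .nil) 8716416 [2,4,5,7] (.node .nil
  8716544 [3,2,5,7,0] .nil)) 8716800 [2,2,4,5] (.node (.node .nil 8717312 [3,0,7,5] .nil) 8718336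
  [3,1,2,6,3] .nil)) 8720384 [3,1,4,7,3] (.node (.node (.node .nil 8724480 [3,4,5,7,0] .nil) 8732672
  [3,3,7,5,1] (.node .nil 8749056 [3,7,0,1] .nil)) 8781825 [2,2,1] (.node (.node .nil 8781826
  [2,2,6,1] .nil) 8781828 [3,6,7,2,2,0] .nil))) 8781832 [3,7,3,0,5] (.node (.node (.node (.node .nil
  8781840 [3,0,3] .nil) 8781856 [3,1,1,1,1] (.node .nil 8781888 [3,0,1,2,1] .nil)) 8781952 [3,2,7,0]
  (.node (.node .nil 8782080 [3,3,2,6] .nil) 8782336 [3,5,6,6,3] .nil)) 8782848 [3,1,2,0] (.node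
  (.node (.node .nil 8783872 [3,0,5,5] .nil) 8785920 [3,2,5,7] (.node .nil 8790016 [2,5,6,5] .nil))
  8798208 [3,4,0,0] (.node (.node .nil 8814592 [2,6,4,1,0] .nil) 8847360 [3,0,0,5] .nil)))) 8912899
  [1,1,6] (.node (.node (.node (.node (.node .nil 8912901 [2,4,4,5] .nil) 8912902 [2,6,2,5] (.node
  .nil 8912905 [2,5,5,6,2] .nil)) 8912906 [2,1,6] (.node (.node .nil 8912908 [3,4,6,3] .nil) 8912913
  [2,4,6,7,2] .nil)) 8912914 [2,4,7,4] (.node (.node (.node .nil 8912916 [3,7,3,0,1] .nil) 8912920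
  [2,0,1,0,1] (.node .nil 8912929 [2,1,3,6] .nil)) 8912930 [2,3,4,2,0] (.node (.node .nil 8912932
  [3,6,0,6,0] .nil) 8912936 [3,2,2,7,0] .nil))) 8912944 [3,0,5,4] (.node (.node (.node (.node .nil
  8912961 [2,4,4,1,0] .nil) 8912962 [2,5,4,0,0] (.node .nil 8912964 [2,4,2,4] .nil)) 8912968
  [3,7,6,2,7] (.node (.node .nil 8912976 [3,1,3,2] .nil) 8912992 [3,5,4,6] .nil)) 8913025 [2,6,4,0,0]
  (.node (.node (.node .nil 8913026 [2,3,6,4] .nil) 8913028 [2,3,1,3,0] .nil) 8913032 [3,3,2,1]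
  (.node (.node .nil 8913040 [3,2,6,2,1] .nil) 8913056 [3,5,1,5,6] .nil)))))) 8913088 [2,5,4,2]
  (.node (.node (.node (.node (.node (.node (.node .nil 8913153 [2,2,6,3] .nil) 8913154 [2,3,1,1,0]
  (.node .nil 8913156 [3,2,3,0,1] .nil)) 8913160 [3,0,4,0] (.node (.node .nil 8913168 [3,4,4,1,4]
  .nil) 8913184 [3,1,3,1] .nil)) 8913216 [3,5,4,2,0] (.node (.node (.node .nil 8913280 [3,6,6,7,2]
  .nil) 8913409 [2,2,6,6,0] (.node .nil 8913410 [2,3,1,5] .nil)) 8913412 [3,5,5,0,1] (.node (.node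
  .nil 8913416 [3,5,1,3] .nil) 8913424 [3,3,4,7] .nil))) 8913440 [3,7,6] (.node (.node (.node (.node
  .nil 8913472 [3,1] .nil) 8913536 [3,1,7] (.node .nil 8913664 [2,5,5,6] .nil)) 8913921 [2,5,0,1,0]
  (.node (.node .nil 8913922 [2,5,2,2,0] .nil) 8913924 [3,7,1,3,0] .nil)) 8913928 [3,4,3,7] (.node
  (.node (.node .nil 8913936 [3,1,6,3,1] .nil) 8913952 [2,7,5,0] (.node .nil 8913984 [3,3,3,3,1]
  .nil)) 8914048 [3,1,2,3] (.node (.node .nil 8914176 [3,0,5,5,0] .nil) 8914432 [3,0,4,3] .nil))))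
  8914945 [2,4,0,4] (.node (.node (.node (.node (.node .nil 8914946 [2,1,3,1,1] .nil) 8914948
  [3,6,4,0] (.node .nil 8914952 [2,5,6,4] .nil)) 8914960 [2,7,3,6] (.node (.node .nil 8914976
  [3,7,7,4,0] .nil) 8915008 [3,7,0,3,3] .nil)) 8915072 [3,1,4,3,1] (.node (.node (.node .nil 8915200
  [3,2,0,1] .nil) 8915456 [3,6,0,5,0] (.node .nil 8915968 [3,7,0,0,0] .nil)) 8916993 [2,4,1,7] (.node
  (.node .nil 8916994 [2,7] .nil) 8916996 [3,0,0,7] .nil))) 8917000 [3,0,7,2,0] (.node (.node (.node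
  (.node .nil 8917008 [3,4,7,6] .nil) 8917024 [2,4,7,2] (.node .nil 8917056 [3,0,6,0] .nil)) 8917120
  [3,3,3,6,0] (.node (.node .nil 8917248 [3,7] .nil) 8917504 [3,3,7,6,0] .nil)) 8918016 [2,0,5,5]
  (.node (.node (.node .nil 8919040 [3,6,2,3,5] .nil) 8921089 [2,7,5,4,0] (.node .nil 8921090
  [2,6,0,0,0] .nil)) 8921092 [3,4,4,5] (.node (.node .nil 8921096 [3,6,0,0,0] .nil) 8921104
  [3,4,2,7,2] .nil))))) 8921120 [3,1,4,0,0] (.node (.node (.node (.node (.node (.node .nil 8921152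
  [3,7,5,4,0] .nil) 8921216 [3,7,0,3,1] (.node .nil 8921344 [3,0,7,5,1] .nil)) 8921600 [3,3,5,6]
  (.node (.node .nil 8922112 [3,4,6,3,2] .nil) 8923136 [3,5,1,3,0] .nil)) 8925184 [3,6,0,3,3] (.node
  (.node (.node .nil 8929281 [2,4,3,0,0] .nil) 8929282 [2,5,2,7] (.node .nil 8929284 [3,2,0,4,1]
  .nil)) 8929288 [3,2,0,7,0] (.node (.node .nil 8929296 [3,5,7,4,0] .nil) 8929312 [3,1,2,7,0] .nil)))
  8929344 [3,4,2,4,0] (.node (.node (.node (.node .nil 8929408 [3,0,4,6] .nil) 8929536 [2,6,5,4,0]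
  (.node .nil 8929792 [2,6,0,5] .nil)) 8930304 [3,3,2,7,0] (.node (.node .nil 8931328 [3,5,2,7] .nil)
  8933376 [3,2,1,2,3] .nil)) 8937472 [3,0,1,0,0] (.node (.node (.node .nil 8945665 [2,3,7,4] .nil)
  8945666 [2,3,3,4] (.node .nil 8945668 [3,3,2,5,0] .nil)) 8945672 [3,1,6] (.node (.node .nil 8945680
  [3,3,5,0] .nil) 8945696 [3,7,5,5,0] .nil)))) 8945728 [3,6,0,0] (.node (.node (.node (.node (.node
  .nil 8945792 [3,4,1,2,4] .nil) 8945920 [3,6,4,5,0] (.node .nil 8946176 [3,4,2,5] .nil)) 8946688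
  [3,1,7,3] (.node (.node .nil 8947712 [3,1,6,1,0] .nil) 8949760 [3,4,3,0,4] .nil)) 8953856
  [2,2,6,6,1] (.node (.node (.node .nil 8962048 [3,3,0,3] .nil) 8978433 [2,4,6,0,0] (.node .nil
  8978434 [2,6,3,1] .nil)) 8978436 [3,7,4,6,0] (.node (.node .nil 8978440 [3,5,6,4,0] .nil) 8978448
  [3,7,4,2,4] .nil))) 8978464 [2,7,3,3] (.node (.node (.node (.node .nil 8978496 [3,7,5,6,5] .nil)
  8978560 [3,2,1,0,2] (.node .nil 8978688 [3,1,4,7,2] .nil)) 8978944 [3,2,7,3,0] (.node (.node .nil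
  8979456 [2,4,4,3,0] .nil) 8980480 [3,3,1,1,4] .nil)) 8982528 [2,7,3,6,0] (.node (.node (.node .nil
  8986624 [3,3,0,7] .nil) 8994816 [3,7,7,2] .nil) 9011200 [3,7,2,0,3] (.node (.node .nil 9043969
  [2,5,1,7,0] .nil) 9043970 [2,7,5,3] .nil))))))) 9043972 [3,7,6,3] (.node (.node (.node (.node
  (.node (.node (.node (.node .nil 9043976 [3,7,5,4] .nil) 9043984 [3,4,7,4] (.node .nil 9044000
  [3,3,4,2,0] .nil)) 9044032 [3,4,6,7] (.node (.node .nil 9044096 [3,3,5,3] .nil) 9044224 [3,2,6,3]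
  .nil)) 9044480 [3,3,2,2,1] (.node (.node (.node .nil 9044992 [3,5,5,7] .nil) 9046016 [3,0,7,0,0]
  (.node .nil 9048064 [3,2,1,7] .nil)) 9052160 [2,2,1,6,0] (.node (.node .nil 9060352 [3,3,6,6,0]
  .nil) 9076736 [2,3,2,0] .nil))) 9109504 [3,7,3,7] (.node (.node (.node (.node .nil 9175041
  [2,3,2,1,2] .nil) 9175042 [2,0,2,2] (.node .nil 9175044 [3,5,7,6,0] .nil)) 9175048 [3,7,7,1] (.node
  (.node .nil 9175056 [3,7,1,0,0] .nil) 9175072 [3,1,2,0,0] .nil)) 9175104 [3,6,4,3,7] (.node (.node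
  (.node .nil 9175168 [3,0,2,2] .nil) 9175296 [3,7,5,5] (.node .nil 9175552 [3,3,1,5] .nil)) 9176064
  [3,6,4,6,3] (.node (.node .nil 9177088 [3,7,1,1,0] .nil) 9179136 [3,6,5,7,0] .nil)))) 9183232
  [2,5,0,2,1] (.node (.node (.node (.node (.node .nil 9191424 [3,5,1,5] .nil) 9207808 [2,7,1,0]
  (.node .nil 9240576 [3,4,3,7,0] .nil)) 9306112 [2,7,5] (.node (.node .nil 9437187 [1,0,4] .nil)
  9437189 [2,1,2,2,0] .nil)) 9437190 [2,7,7,2] (.node (.node (.node .nil 9437193 [2,4,2,0] .nil)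
  9437194 [2,0,6,0,5] (.node .nil 9437196 [3,5,6,3] .nil)) 9437201 [2,2,5,1,4] (.node (.node .nil
  9437202 [2,3,7,2] .nil) 9437204 [3,7,6,2,4] .nil))) 9437208 [2,2,4,7,4] (.node (.node (.node (.node
  .nil 9437217 [2,1,0,2,0] .nil) 9437218 [2,4,5] (.node .nil 9437220 [3,2,5,2] .nil)) 9437224
  [3,2,0,0,4] (.node (.node .nil 9437232 [3,0,1,2,0] .nil) 9437249 [2,3,3,6] .nil)) 9437250
  [2,4,2,2,0] (.node (.node (.node .nil 9437252 [3,5,3,7] .nil) 9437256 [3,1,1,4,2] (.node .nil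
  9437264 [3,6,4,3,1] .nil)) 9437280 [2,1,4,3] (.node (.node .nil 9437313 [2,3,4] .nil) 9437314
  [2,6,7,2] .nil))))) 9437316 [3,5,6,0,4] (.node (.node (.node (.node (.node (.node .nil 9437320
  [3,5,4,5] .nil) 9437328 [3,4,7,2] (.node .nil 9437344 [3,1,6,0,0] .nil)) 9437376 [3,0,2,1,1] (.node
  (.node .nil 9437441 [2,7,5,1] .nil) 9437442 [2,6,0,0] .nil)) 9437444 [3,6,6,7] (.node (.node (.node
  .nil 9437448 [3,2,1,6,0] .nil) 9437456 [3,1,4,0,2] (.node .nil 9437472 [3,7,5,1] .nil)) 9437504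
  [3,2,0,2] (.node (.node .nil 9437568 [3,6,2,0] .nil) 9437697 [2,1,1,0] .nil))) 9437698 [2,3,0,0]
  (.node (.node (.node (.node .nil 9437700 [2,2,0,1] .nil) 9437704 [3,1,2,2] (.node .nil 9437712
  [3,3,2,0] .nil)) 9437728 [3,7,0,4] (.node (.node .nil 9437760 [3,2,3,6] .nil) 9437824 [3,3,6]
  .nil)) 9437952 [3,6,0,2,5] (.node (.node (.node .nil 9438209 [2,0,7,2] .nil) 9438210 [2,1,5,4,0]
  (.node .nil 9438212 [2,5,4,6] .nil)) 9438216 [3,0,7,2] (.node (.node .nil 9438224 [3,1,4,5,1] .nil)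
  9438240 [3,6,2,7,1] .nil)))) 9438272 [3,7,7,0] (.node (.node (.node (.node (.node .nil 9438336
  [3,1,1,2,0] .nil) 9438464 [3,1,5,1] (.node .nil 9438720 [2,3,0,0,3] .nil)) 9439233 [2,6,1,1,1]
  (.node (.node .nil 9439234 [2,5,0,5,1] .nil) 9439236 [3,4,6,1,2] .nil)) 9439240 [2,4,3,4] (.node
  (.node (.node .nil 9439248 [2,3,1,7] .nil) 9439264 [3,7,1,0,1] (.node .nil 9439296 [3,1,4,7] .nil))
  9439360 [3,5,4,3,1] (.node (.node .nil 9439488 [3,3] .nil) 9439744 [3,2,5,1,1] .nil))) 9440256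
  [3,7,5,3,0] (.node (.node (.node (.node .nil 9441281 [2,7,4,5,0] .nil) 9441282 [2,1,2,0] (.node
  .nil 9441284 [3,4,4,6,2] .nil)) 9441288 [3,3,0,2] (.node (.node .nil 9441296 [3,2,4,0,2] .nil)
  9441312 [3,6,0,2] .nil)) 9441344 [3,3,3,6] (.node (.node (.node .nil 9441408 [2,2,4,1] .nil)
  9441536 [3,2,5,1] .nil) 9441792 [3,2,0,1,0] (.node (.node .nil 9442304 [3,5,1,2,0] .nil) 9443328
  [3,5,2,3] .nil)))))) 9445377 [2,3,0,2,0] (.node (.node (.node (.node (.node (.node (.node .nil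
  9445378 [2,6,7,5,1] .nil) 9445380 [3,3,3,0,0] (.node .nil 9445384 [3,3,3,2,1] .nil)) 9445392
  [3,6,2,5,3] (.node (.node .nil 9445408 [3,2,0,6] .nil) 9445440 [3,4,0,2,2] .nil)) 9445504
  [2,4,6,4,0] (.node (.node (.node .nil 9445632 [3,2,6,2] .nil) 9445888 [3,4,3,5] (.node .nil 9446400
  [3,5,3,3] .nil)) 9447424 [3,0,4,3,1] (.node (.node .nil 9449472 [2,0,3,0] .nil) 9453569 [2,6,7,7,1]
  .nil))) 9453570 [2,0,4] (.node (.node (.node (.node .nil 9453572 [3,1,2,2,0] .nil) 9453576 [3,6]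
  (.node .nil 9453584 [3,0,2,3,2] .nil)) 9453600 [3,4,7,0,3] (.node (.node .nil 9453632 [3,4,5,7]
  .nil) 9453696 [2,6,1,7] .nil)) 9453824 [3,0,4] (.node (.node (.node .nil 9454080 [3,7,3] .nil)
  9454592 [3,1,6,4,1] (.node .nil 9455616 [3,4,5,4,2] .nil)) 9457664 [2,1,3,4] (.node (.node .nil
  9461760 [2,3,3,0] .nil) 9469953 [2,1,5] .nil)))) 9469954 [2,4,0,7] (.node (.node (.node (.node
  (.node .nil 9469956 [2,1,5,3] .nil) 9469960 [3,7,4,4,1] (.node .nil 9469968 [3,0] .nil)) 9469984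
  [3,7,1,4] (.node (.node .nil 9470016 [3,1,6,0,3] .nil) 9470080 [3,3,2,5] .nil)) 9470208 [3,7,2,7]
  (.node (.node (.node .nil 9470464 [2,3,2] .nil) 9470976 [2,0,1,7] (.node .nil 9472000 [3,4,1,2]
  .nil)) 9474048 [3,2,1,7,1] (.node (.node .nil 9478144 [3,7,7,2,1] .nil) 9486336 [3,0,0,5,2] .nil)))
  9502721 [2,2,2,7] (.node (.node (.node (.node .nil 9502722 [2,4,0,2,0] .nil) 9502724 [3,6,1,5,0]
  (.node .nil 9502728 [3,7,6,5,2] .nil)) 9502736 [3,2,2,3,3] (.node (.node .nil 9502752 [3,1,7,3,4]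
  .nil) 9502784 [3,2,4,6,0] .nil)) 9502848 [3,0,2,7,1] (.node (.node (.node .nil 9502976 [2,6,2]
  .nil) 9503232 [3,7,7,5,1] .nil) 9503744 [3,2,3,7,7] (.node (.node .nil 9504768 [3,5,7] .nil)
  9506816 [3,2,0,6,0] .nil))))) 9510912 [3,7,7,1,0] (.node (.node (.node (.node (.node (.node .nil
  9519104 [3,7,7,0,2] .nil) 9535488 [3,1,0,5,1] (.node .nil 9568257 [2,1,0,7] .nil)) 9568258 [2,1,7]
  (.node (.node .nil 9568260 [3,2,0,1,3] .nil) 9568264 [3,7,3,3] .nil)) 9568272 [3,5,2,3,0] (.node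
  (.node (.node .nil 9568288 [3,5,5,0,3] .nil) 9568320 [3,2,2,7,1] (.node .nil 9568384 [3,1,3,3]
  .nil)) 9568512 [2,2,3,6,1] (.node (.node .nil 9568768 [3,1,2,0,2] .nil) 9569280 [3,7,0,0] .nil)))
  9570304 [3,5,5,5,0] (.node (.node (.node (.node .nil 9572352 [3,5,3,0,0] .nil) 9576448 [3,4,5,1,2]
  (.node .nil 9584640 [3,1,1,2] .nil)) 9601024 [3,2,5,4,0] (.node (.node .nil 9633792 [2,7,7,1] .nil)
  9699329 [2,6,4] .nil)) 9699330 [2,7,6,1,0] (.node (.node (.node .nil 9699332 [3,6,4] .nil) 9699336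
  [3,2,3,6,0] (.node .nil 9699344 [3,3,1,7,5] .nil)) 9699360 [2,7,5,3,1] (.node (.node .nil 9699392
  [2,5,4,3,0] .nil) 9699456 [3,3,4] .nil)))) 9699584 [3,6,6] (.node (.node (.node (.node (.node .nil
  9699840 [3,3,6,7] .nil) 9700352 [3,4,5,1] (.node .nil 9701376 [3,2,4,6] .nil)) 9703424 [3,3,4,1,0]
  (.node (.node .nil 9707520 [3,0,7,5,6] .nil) 9715712 [3,0,2,5] .nil)) 9732096 [3,3,1,5,0] (.node
  (.node (.node .nil 9764864 [3,6,2,5] .nil) 9830400 [3,4,3,1,2] (.node .nil 9961473 [2,5,4,1,0]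
  .nil)) 9961474 [2,6,6,1,0] (.node (.node .nil 9961476 [3,6,0,4,2] .nil) 9961480 [2,5,2,4] .nil)))
  9961488 [2,5,1,4] (.node (.node (.node (.node .nil 9961504 [3,6,4,6,0] .nil) 9961536 [3,2,2,1,1]
  (.node .nil 9961600 [3,6,7,2] .nil)) 9961728 [3,2,1,0,1] (.node (.node .nil 9961984 [3,6,6,2,2]
  .nil) 9962496 [3,2,4,3,2] .nil)) 9963520 [2,1,6,4,0] (.node (.node (.node .nil 9965568 [3,1,3,4,0]
  .nil) 9969664 [3,1,7,2] .nil) 9977856 [3,5,6,7] (.node (.node .nil 9994240 [3,4,3,3] .nil) 10027008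
  [3,4,6,0,0] .nil)))))))) 10092544 [3,7,5,3] (.node (.node (.node (.node (.node (.node (.node (.node
  (.node .nil 10223616 [3,4,1,2,0] .nil) 10485763 [1,5] (.node .nil 10485765 [2,2,2,3] .nil))
  10485766 [2,4,6,3,0] (.node (.node .nil 10485769 [2,2,7,4] .nil) 10485770 [2,5,5,0] .nil)) 10485772
  [3,2,6,3,1] (.node (.node (.node .nil 10485777 [2,3,4,0,0] .nil) 10485778 [2,2,5,2] (.node .nil
  10485780 [3,7,4,3,1] .nil)) 10485784 [3,7,6,3,2] (.node (.node .nil 10485793 [2,1,6,7,0] .nil)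
  10485794 [2,0,4,0] .nil))) 10485796 [3,4,0,4,0] (.node (.node (.node (.node .nil 10485800 [3,2,0,3]
  .nil) 10485808 [3,2,3,5] (.node .nil 10485825 [2,1,6,3,0] .nil)) 10485826 [2,7,2,0,2] (.node (.node
  .nil 10485828 [2,2,2] .nil) 10485832 [3,1,2,2,6] .nil)) 10485840 [3,1,5] (.node (.node (.node .nil
  10485856 [3,0,6,2,1] .nil) 10485889 [2,4,0,7,1] (.node .nil 10485890 [2,1,4,5] .nil)) 10485892
  [2,2,5,1] (.node (.node .nil 10485896 [3,2,2,5,0] .nil) 10485904 [3,5,5,4] .nil)))) 10485920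
  [3,5,6,0,2] (.node (.node (.node (.node (.node .nil 10485952 [2,5,2,5] .nil) 10486017 [2,4,4,4,0]
  (.node .nil 10486018 [2,5,3,2] .nil)) 10486020 [3,2,2,3] (.node (.node .nil 10486024 [3,2,4,4,0]
  .nil) 10486032 [3,2,7] .nil)) 10486048 [3,6,0,2,3] (.node (.node (.node .nil 10486080 [3,4,4,1]
  .nil) 10486144 [3,0,4,0,2] (.node .nil 10486273 [2,1,2,6,0] .nil)) 10486274 [2,4,1] (.node (.node
  .nil 10486276 [3,1,6,4,0] .nil) 10486280 [3,6,2,2,3] .nil))) 10486288 [3,0,7,7] (.node (.node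
  (.node (.node .nil 10486304 [2,0,6,0] .nil) 10486336 [3,7,3,6] (.node .nil 10486400 [3,7,3,4]
  .nil)) 10486528 [3,6,5,2,2] (.node (.node .nil 10486785 [2,1,4,0] .nil) 10486786 [2,4,5,0,0] .nil))
  10486788 [3,6,1,7] (.node (.node (.node .nil 10486792 [3,2,5,0] .nil) 10486800 [2,7,2,7] (.node
  .nil 10486816 [3,0,6,1,0] .nil)) 10486848 [3,3,7,3,0] (.node (.node .nil 10486912 [3,4,5,2,0] .nil)
  10487040 [3,6,1,3,0] .nil))))) 10487296 [3,3,1,6,2] (.node (.node (.node (.node (.node (.node .nil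
  10487809 [2,2,2,2] .nil) 10487810 [2,1,2] (.node .nil 10487812 [3,0,4,2,0] .nil)) 10487816
  [3,1,1,0,0] (.node (.node .nil 10487824 [3,2,2,4,5] .nil) 10487840 [2,3,0,5] .nil)) 10487872
  [3,4,5,0,2] (.node (.node (.node .nil 10487936 [3,1,4,5] .nil) 10488064 [3,3,2,7,2] (.node .nil
  10488320 [2,3,5,4,0] .nil)) 10488832 [3,1,1,7,0] (.node (.node .nil 10489857 [2,6,6,3] .nil)
  10489858 [2,1,0,5,0] .nil))) 10489860 [3,4,5] (.node (.node (.node (.node .nil 10489864 [2,5,7,7,0]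
  .nil) 10489872 [3,3,3,7,7] (.node .nil 10489888 [3,6,1,0,1] .nil)) 10489920 [3,6,3,4] (.node (.node
  .nil 10489984 [3,4,3,2] .nil) 10490112 [3,7,2,1] .nil)) 10490368 [3,4,3,0,2] (.node (.node (.node
  .nil 10490880 [3,6,6,3] .nil) 10491904 [3,6,0,1] (.node .nil 10493953 [2,0] .nil)) 10493954
  [2,4,4,5,2] (.node (.node .nil 10493956 [3,1,1,3] .nil) 10493960 [3,6,0,7,0] .nil)))) 10493968
  [3,0,2,7] (.node (.node (.node (.node (.node .nil 10493984 [2,6,1,6] .nil) 10494016 [3,6,2,7,0]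
  (.node .nil 10494080 [3,2,0,7,2] .nil)) 10494208 [3,4,5,4] (.node (.node .nil 10494464 [2,0,3]
  .nil) 10494976 [3,1,4,0] .nil)) 10496000 [2,1,0,0] (.node (.node (.node .nil 10498048 [3,5,2,0]
  .nil) 10502145 [2,3,6,2,0] (.node .nil 10502146 [2,1,3] .nil)) 10502148 [3,2,0,1,2] (.node (.node
  .nil 10502152 [3,5,5,0] .nil) 10502160 [2,1] .nil))) 10502176 [3,5,3,0,1] (.node (.node (.node
  (.node .nil 10502208 [3,3,0,0] .nil) 10502272 [3,1,2,4,3] (.node .nil 10502400 [3,1,4] .nil))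
  10502656 [3,2,3] (.node (.node .nil 10503168 [2,4,5,2] .nil) 10504192 [3,4,1,6,0] .nil)) 10506240
  [3,1,1,3,2] (.node (.node (.node .nil 10510336 [3,2,5,2,1] .nil) 10518529 [2,5,6,0] .nil) 10518530
  [2,3,3,1] (.node (.node .nil 10518532 [3,2,4,1] .nil) 10518536 [2,2,2,0] .nil)))))) 10518544
  [3,1,7,4,1] (.node (.node (.node (.node (.node (.node (.node .nil 10518560 [3,1,7,7,1] .nil)
  10518592 [3,1,0,4,0] (.node .nil 10518656 [3,7,0,4,2] .nil)) 10518784 [3,2,0,3,0] (.node (.node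
  .nil 10519040 [3,0,3,0] .nil) 10519552 [3,3,5,0,3] .nil)) 10520576 [3,2,6,4,6] (.node (.node (.node
  .nil 10522624 [2,2,1,2,0] .nil) 10526720 [3,3,3,1] (.node .nil 10534912 [3,2,6,4,4] .nil)) 10551297
  [2,6,7,1] (.node (.node .nil 10551298 [2,4,4] .nil) 10551300 [3,5,1,4] .nil))) 10551304 [3,1,5,5]
  (.node (.node (.node (.node .nil 10551312 [3,6,7,1] .nil) 10551328 [3,7,4,6] (.node .nil 10551360
  [3,7,3,0,4] .nil)) 10551424 [3,5,6,2] (.node (.node .nil 10551552 [2,5,1,1,0] .nil) 10551808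
  [3,0,0,1,1] .nil)) 10552320 [3,2,4,3,3] (.node (.node (.node .nil 10553344 [3,4,6,7,4] .nil)
  10555392 [3,6,6,4] (.node .nil 10559488 [3,3,7,2,0] .nil)) 10567680 [3,1,3] (.node (.node .nil
  10584064 [3,6,1,2,1] .nil) 10616833 [2,4,3,0] .nil)))) 10616834 [2,3,6,5] (.node (.node (.node
  (.node (.node .nil 10616836 [3,2,2,4] .nil) 10616840 [3,4,1,2,1] (.node .nil 10616848 [3,1,3,6]
  .nil)) 10616864 [3,6,2,2,0] (.node (.node .nil 10616896 [3,4,7,4,0] .nil) 10616960 [3,6,7,3] .nil))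
  10617088 [2,5,1,5] (.node (.node (.node .nil 10617344 [3,4,1] .nil) 10617856 [3,2,7,5] (.node .nil
  10618880 [3,1,2] .nil)) 10620928 [3,7,4,0,2] (.node (.node .nil 10625024 [3,3,0,0,5] .nil) 10633216
  [3,0,1,2] .nil))) 10649600 [3,6,4,4] (.node (.node (.node (.node .nil 10682368 [2,7,5,6,1] .nil)
  10747905 [2,1,5,0] (.node .nil 10747906 [2,7,3,1] .nil)) 10747908 [3,2,5,5,1] (.node (.node .nil
  10747912 [3,3,1,2,2] .nil) 10747920 [2,2,6,5,2] .nil)) 10747936 [3,4,1,3,1] (.node (.node (.node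
  .nil 10747968 [3,2,2,5] .nil) 10748032 [3,0,4,2] (.node .nil 10748160 [3,3,7,3,3] .nil)) 10748416
  [3,0,7] (.node (.node .nil 10748928 [2,6,1,3] .nil) 10749952 [3,5,2,0,0] .nil))))) 10752000
  [3,3,0,6,0] (.node (.node (.node (.node (.node (.node .nil 10756096 [3,0,3,5] .nil) 10764288
  [2,0,6,5,2] (.node .nil 10780672 [3,7,4] .nil)) 10813440 [3,3,4,0] (.node (.node .nil 10878976
  [3,0,3,3,2] .nil) 11010049 [2,2,7,1] .nil)) 11010050 [2,7,5,2] (.node (.node (.node .nil 11010052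
  [2,1,6,4] .nil) 11010056 [3,0,0,5,0] (.node .nil 11010064 [3,5,4,1] .nil)) 11010080 [3,7,7,3,0]
  (.node (.node .nil 11010112 [2,4,1,4] .nil) 11010176 [2,5,4,5,1] .nil))) 11010304 [3,0,1,3] (.node
  (.node (.node (.node .nil 11010560 [3,2,1,2,1] .nil) 11011072 [3,2,6,0,1] (.node .nil 11012096
  [3,7,5,2] .nil)) 11014144 [3,5,6,2,0] (.node (.node .nil 11018240 [3,2,2,4,0] .nil) 11026432
  [3,4,2,3,0] .nil)) 11042816 [3,2,7,1] (.node (.node (.node .nil 11075584 [3,2,5,0,3] .nil) 11141120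
  [3,1,0,2] (.node .nil 11272192 [3,1,0,4,5] .nil)) 11534337 [2,4,6,2,1] (.node (.node .nil 11534338
  [2,3,6,1,0] .nil) 11534340 [3,4,4,3,0] .nil)))) 11534344 [3,0,6,2,2] (.node (.node (.node (.node
  (.node .nil 11534352 [3,2,4,2] .nil) 11534368 [3,7,3,2] (.node .nil 11534400 [3,1,4,3,0] .nil))
  11534464 [3,2,5,1,5] (.node (.node .nil 11534592 [2,7,2,6,0] .nil) 11534848 [3,7,6,2,0] .nil))
  11535360 [3,5,2,3,5] (.node (.node (.node .nil 11536384 [3,2,2,2] .nil) 11538432 [3,3,4,6,0] (.node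
  .nil 11542528 [3,4,4,7] .nil)) 11550720 [3,2,2,0,2] (.node (.node .nil 11567104 [3,3,0,3,5] .nil)
  11599872 [2,4,4,3] .nil))) 11665408 [2,6,6,1,1] (.node (.node (.node (.node .nil 11796480
  [3,4,7,0,0] .nil) 12058624 [3,2,6,6,4] (.node .nil 12582915 [1,2,7] .nil)) 12582917 [2,2,1,0]
  (.node (.node .nil 12582918 [2,5,7,1,0] .nil) 12582921 [2,6,3,7,0] .nil)) 12582922 [2,4,7,5] (.node
  (.node (.node .nil 12582924 [3,2,5,6] .nil) 12582929 [2,4,6,1,1] .nil) 12582930 [2,4,2,3] (.node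
  (.node .nil 12582932 [2,3,7] .nil) 12582936 [3,5,5] .nil))))))) 12582945 [2,4,3,3,1] (.node (.node
  (.node (.node (.node (.node (.node (.node .nil 12582946 [2,5,6,2] .nil) 12582948 [3,1,1,5] (.node
  .nil 12582952 [3,4,7,5] .nil)) 12582960 [3,1,3,2,3] (.node (.node .nil 12582977 [2,2,0,2,0] .nil)
  12582978 [2,1,3,0] .nil)) 12582980 [3,2,3,1,0] (.node (.node (.node .nil 12582984 [3,7,1] .nil)
  12582992 [3,6,3,5,0] (.node .nil 12583008 [2,2,3,0] .nil)) 12583041 [2,3,1] (.node (.node .nil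
  12583042 [2,3,6,1] .nil) 12583044 [3,3,7,0] .nil))) 12583048 [3,0,2,1,2] (.node (.node (.node
  (.node .nil 12583056 [3,6,7,5,0] .nil) 12583072 [3,5,5,2] (.node .nil 12583104 [3,2,3,0,0] .nil))
  12583169 [2,6,1,0] (.node (.node .nil 12583170 [2,0,7,5] .nil) 12583172 [3,0,1,5] .nil)) 12583176
  [3,4,1,4] (.node (.node (.node .nil 12583184 [3,5,3,0,2] .nil) 12583200 [3,2,1,4,0] (.node .nil
  12583232 [3,2,3,2,1] .nil)) 12583296 [3,2,4,1,2] (.node (.node .nil 12583425 [2,3,2,0,1] .nil)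
  12583426 [2,1,7,0] .nil)))) 12583428 [3,0,5,7,3] (.node (.node (.node (.node (.node .nil 12583432
  [3,4,2,1,3] .nil) 12583440 [3,6,5,7,2] (.node .nil 12583456 [3,0,5,2,3] .nil)) 12583488 [3,0,3,0,1]
  (.node (.node .nil 12583552 [3,2,1,4] .nil) 12583680 [2,4,1,1,0] .nil)) 12583937 [2,2,7,5,0] (.node
  (.node (.node .nil 12583938 [2,1,5,0,2] .nil) 12583940 [3,0,4,7] (.node .nil 12583944 [3,1,0,0]
  .nil)) 12583952 [3,5,0,7,2] (.node (.node .nil 12583968 [3,1,3,4,1] .nil) 12584000 [3,5,4,0,2]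
  .nil))) 12584064 [2,3,1,3] (.node (.node (.node (.node .nil 12584192 [3,7,4,7,4] .nil) 12584448
  [3,1,7,0] (.node .nil 12584961 [2,2,0,7] .nil)) 12584962 [2,3,1,4,0] (.node (.node .nil 12584964
  [3,2,1,0] .nil) 12584968 [3,2,0,7] .nil)) 12584976 [3,5,3,2] (.node (.node (.node .nil 12584992
  [3,6,5,7,1] .nil) 12585024 [3,7,3,5,6] (.node .nil 12585088 [2,6,5,5] .nil)) 12585216 [3,6,1,0]
  (.node (.node .nil 12585472 [3,3,2,0,1] .nil) 12585984 [2,2,5,5] .nil))))) 12587009 [2,1,0,6,0]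
  (.node (.node (.node (.node (.node (.node .nil 12587010 [2,0,1,0] .nil) 12587012 [3,0,5,6] (.node
  .nil 12587016 [2,5,3,5,0] .nil)) 12587024 [3,6,0,2,4] (.node (.node .nil 12587040 [3,3,6,3,0] .nil)
  12587072 [3,6,1,4,0] .nil)) 12587136 [3,4,0,6,1,0] (.node (.node (.node .nil 12587264 [3,0,0,4,5]
  .nil) 12587520 [3,2,2,6,0] (.node .nil 12588032 [3,5,4,5,1] .nil)) 12589056 [3,5,6,3,1] (.node
  (.node .nil 12591105 [2,2,5] .nil) 12591106 [2,4,0,4,1] .nil))) 12591108 [2,1,0,1,1] (.node (.node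
  (.node (.node .nil 12591112 [3,1,1,0] .nil) 12591120 [2,2,1,1,2] (.node .nil 12591136 [3,0,3,4,0]
  .nil)) 12591168 [3,5,7,1] (.node (.node .nil 12591232 [3,0,5,2] .nil) 12591360 [3,4,6,2] .nil))
  12591616 [3,5,7,0,4] (.node (.node (.node .nil 12592128 [3,1,5,4,4] .nil) 12593152 [3,6,0,7] (.node
  .nil 12595200 [3,5,1,1] .nil)) 12599297 [2,6,5] (.node (.node .nil 12599298 [2,3,5,2,0] .nil)
  12599300 [3,6,4,0,3] .nil)))) 12599304 [3,1,2,1] (.node (.node (.node (.node (.node .nil 12599312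
  [3,3,3,2] .nil) 12599328 [3,2,5,5,2] (.node .nil 12599360 [3,1,1,1,0] .nil)) 12599424 [3,2,3,7,0]
  (.node (.node .nil 12599552 [2,5,3,1] .nil) 12599808 [2,1,1,1] .nil)) 12600320 [3,4,5,4,1] (.node
  (.node (.node .nil 12601344 [3,6,3,6,7] .nil) 12603392 [3,7,6,4,0] (.node .nil 12607488 [3,6,3,1,5]
  .nil)) 12615681 [2,0,5,6,0] (.node (.node .nil 12615682 [2,1,1,2] .nil) 12615684 [3,4,2,1,0]
  .nil))) 12615688 [2,5] (.node (.node (.node (.node .nil 12615696 [3,3,7,5] .nil) 12615712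
  [3,2,3,5,0] (.node .nil 12615744 [3,3,0,5] .nil)) 12615808 [3,2,4,4,1] (.node (.node .nil 12615936
  [3,5,3,1,0] .nil) 12616192 [3,3,2,4] .nil)) 12616704 [3,2,7,5,0] (.node (.node (.node .nil 12617728
  [3,2,2,6,6] .nil) 12619776 [2,5,3,4,0] .nil) 12623872 [3,5,6,0,1] (.node (.node .nil 12632064
  [3,4,6,7,1] .nil) 12648449 [2,2,2,2,0] .nil)))))) 12648450 [2,0,2,0,1] (.node (.node (.node (.node
  (.node (.node (.node .nil 12648452 [2,6,0,4] .nil) 12648456 [3,6,1,1,5] (.node .nil 12648464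
  [2,1,3,1] .nil)) 12648480 [3,6,6,7,1] (.node (.node .nil 12648512 [3,1,1] .nil) 12648576 [3,5,0,6]
  .nil)) 12648704 [3,7,0,5,4] (.node (.node (.node .nil 12648960 [3,0,3,4,3] .nil) 12649472
  [3,2,4,0,0] (.node .nil 12650496 [3,2,7,2,0] .nil)) 12652544 [3,6,0,4,0] (.node (.node .nil
  12656640 [2,0,3,0,0] .nil) 12664832 [3,6,5] .nil))) 12681216 [3,0,2,0,1] (.node (.node (.node
  (.node .nil 12713985 [2,4,7,0] .nil) 12713986 [2,6,7,6,0] (.node .nil 12713988 [3,1,7,1,3] .nil))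
  12713992 [3,7,6,0,0] (.node (.node .nil 12714000 [3,6,4,4,1] .nil) 12714016 [3,4,3,4] .nil))
  12714048 [3,3,7,5,3] (.node (.node (.node .nil 12714112 [2,0,0,1] .nil) 12714240 [3,7,3,5,0] (.node
  .nil 12714496 [3,7,4,3,3] .nil)) 12715008 [2,7,3,2,0] (.node (.node .nil 12716032 [2,4,1,1] .nil)
  12718080 [3,3,5,4,0] .nil)))) 12722176 [3,5,1,6,0,0] (.node (.node (.node (.node (.node .nil
  12730368 [3,5,5,3] .nil) 12746752 [3,6,1,4] (.node .nil 12779520 [3,1,0,6,4] .nil)) 12845057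
  [2,4,1,4,1] (.node (.node .nil 12845058 [2,0,2,3] .nil) 12845060 [3,0,6,3,1] .nil)) 12845064
  [3,3,4,5] (.node (.node (.node .nil 12845072 [3,0,0,1,2] .nil) 12845088 [2,0,5,1] (.node .nil
  12845120 [2,4,6,6,3] .nil)) 12845184 [3,3,5,7] (.node (.node .nil 12845312 [3,2,6,5] .nil) 12845568
  [3,0,2,3] .nil))) 12846080 [3,3,1,7] (.node (.node (.node (.node .nil 12847104 [3,0,4,1] .nil)
  12849152 [3,6,6,5] (.node .nil 12853248 [3,4,2,6] .nil)) 12861440 [3,7,2,6,0] (.node (.node .nil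
  12877824 [3,0,5,1,0] .nil) 12910592 [3,0,2,4] .nil)) 12976128 [3,7,5,0] (.node (.node (.node .nil
  13107201 [2,7,1,6] .nil) 13107202 [2,3,0,7,2] .nil) 13107204 [3,1,2,7] (.node (.node .nil 13107208
  [3,4,4,6,0] .nil) 13107216 [3,6,0,0,5] .nil))))) 13107232 [3,2,3,0,3] (.node (.node (.node (.node
  (.node (.node .nil 13107264 [3,4,4,1,0] .nil) 13107328 [3,4,7] (.node .nil 13107456 [2,2,6] .nil))
  13107712 [2,1,5,7,0] (.node (.node .nil 13108224 [3,7,7,5,4] .nil) 13109248 [3,2,6,0] .nil))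
  13111296 [3,0,1,0] (.node (.node (.node .nil 13115392 [3,4,5,5,3] .nil) 13123584 [2,4,5,2,0] (.node
  .nil 13139968 [3,5,0] .nil)) 13172736 [3,6,3,1] (.node (.node .nil 13238272 [3,7,1,6] .nil)
  13369344 [3,5,4,5,2] .nil))) 13631489 [2,0,0,0] (.node (.node (.node (.node .nil 13631490 [2,4,1,0]
  .nil) 13631492 [3,5,0,2,0,0] (.node .nil 13631496 [3,5,1,7] .nil)) 13631504 [3,5,0,4,0,0] (.node
  (.node .nil 13631520 [2,5,7,2] .nil) 13631552 [2,6,3,0] .nil)) 13631616 [3,7,7,5,5] (.node (.node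
  (.node .nil 13631744 [3,0,6,7] .nil) 13632000 [3,5,7,6] (.node .nil 13632512 [3,0,2,0] .nil))
  13633536 [3,2,5,7,1] (.node (.node .nil 13635584 [3,0,3,1,0] .nil) 13639680 [3,7,7] .nil))))
  13647872 [3,0,6] (.node (.node (.node (.node (.node .nil 13664256 [3,4,2,0,2] .nil) 13697024
  [3,7,1,3,1] (.node .nil 13762560 [3,6,3,0,0] .nil)) 13893632 [2,0,2] (.node (.node .nil 14155776
  [3,7,0,4,0] .nil) 14680065 [2,1,0,3] .nil)) 14680066 [2,5,3,3] (.node (.node (.node .nil 14680068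
  [3,4,6,3,0] .nil) 14680072 [2,1,0] (.node .nil 14680080 [3,4,2,2,2] .nil)) 14680096 [3,0,1] (.node
  (.node .nil 14680128 [3,7,1,7] .nil) 14680192 [3,4] .nil))) 14680320 [3,1,0,3] (.node (.node (.node
  (.node .nil 14680576 [3,5,3,2,2] .nil) 14681088 [3,0,1,1,1] (.node .nil 14682112 [3,6,6,0] .nil))
  14684160 [2,6,6] (.node (.node .nil 14688256 [3,2,5] .nil) 14696448 [3,0,0,4] .nil)) 14712832
  [2,0,0,1,0] (.node (.node (.node .nil 14745600 [3,2,3,1] .nil) 14811136 [3,0,7,6] .nil) 14942208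
  [3,1,5,0] (.node (.node .nil 15204352 [3,5,0,7] .nil) 15728640 [3,6,0,2,0] .nil))))))))))

/-- Classes with representatives. -/
def repsY_S : List (ℕ × ℕ × List ℕ) :=
  [(1,8388615,[8388615,147496,268544,1082880,2621632,4268048]),
  (2,8388621,[8388621,43136,147490,1118272,2097936,4981760]),
  (3,8388636,[8388636,294978,589984,1074176,2097921,4331520])]

theorem certY_S : ctAll (certNode tbsY treeY_S repsY_S ytClv sxSem) sxTree = true := by
  decide +kernel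

theorem hrepsY_S : ∀ p ∈ repsY_S, sxTree.find p.2.1 = some p.2.2 := by decide +kernel

theorem hcvY_S : ∀ p ∈ repsY_S, ytClv p.2.1 p.2.2 = p.1 := by decide +kernel

theorem CY_S : Cert sextets sxObj sxTree sxSem (ofMask 8388611) (meetCount (ofMask 8388611)) ytClv
    (stabF famY) tbsY treeY_S repsY_S where
  sys := sx_sys
  hcl := fun m v hf => by
    obtain ⟨-, -, -, h1, h2, h3⟩ := entry_spec hf
    show meetCount _ (sextetOf (ofMask m)) = _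
    rw [← h3]
    exact meetCount_famOf _ h1 h2
  hinv := fun g _ h x _ => by
    conv_lhs => rw [← h]
    exact meetCount_smul g _ x
  hH := fun g hg => by
    refine ⟨hg.1, ?_⟩
    have h0 : g • famOf famY = famOf famY := hg.2
    have h1 : famOf famY = {ofMask 8388611} := by simp [famOf, famY]
    rw [h1, Finset.smul_finset_singleton, Finset.singleton_inj] at h0
    exact h0
  hgens := moves_of_gensFOK gensY_ok
  hreps := hrepsY_S
  cert := certY_S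

theorem nY_S1 : ctCount (fun m _ => Nat.beq (clsOf treeY_S m) 1) sxTree = 21 := by decide +kernel

theorem nY_S2 : ctCount (fun m _ => Nat.beq (clsOf treeY_S m) 2) sxTree = 630 := by decide +kernel

theorem nY_S3 : ctCount (fun m _ => Nat.beq (clsOf treeY_S m) 3) sxTree = 1120 := by decide +kernel

end Cfsg.Agent.Lib.Sporadic.M24YtOnSx
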