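import Mathlib
import Cfsg.Agent.Lib.Sporadic.LeechCen3

/-!
# The centraliser of a central element of order three in a group of Monster type
-/

set_option autoImplicit false

namespace Cfsg.Agent.Lib.Sporadic.MonsterModel

open Subgroup Cfsg Cfsg.Agent.Lib.Sporadic.GolayCore
  Cfsg.Agent.Lib.Sporadic.LeechNorm Cfsg.Agent.Lib.Sporadic.LeechFacts
  Cfsg.Agent.Lib.Sporadic.LeechAut Cfsg.Agent.Lib.Sporadic.LeechClasses
  Cfsg.Agent.Lib.Sporadic.LeechAct Cfsg.Agent.Lib.Sporadic.LeechMod2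
  Cfsg.Agent.Lib.Sporadic.LeechLocal Cfsg.Agent.Lib.Sporadic.LeechOrbits
  Cfsg.Agent.Lib.Sporadic.LeechKey
  Cfsg.Agent.Lib.Sporadic.LeechCen3

variable {G : Type*} [Group G] {z : G} {Qg : Subgroup G}

/-- The subgroup of order `27`. -/
theorem cent27_of [Finite G] (M : MModel z Qg) {s : G} (hR : M.Rel v8 s) (hs1 : s ≠ z) (hs11 : s ≠ 1) {Y : Subgroup G}
    (hc : ∃ P : Sylow 3 ↥(EE z s), Y.subgroupOf (EE z s) ≤
      (Subgroup.center ↥(P : Subgroup ↥(EE z s))).map (P : Subgroup ↥(EE z s)).subtype)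
    (hY : Y ≤ EE z s) {b : G} (hb : b ∈ Y) : Cent27 z s b := by
  haveI : Fact (Nat.Prime 3) := ⟨by norm_num⟩
  obtain ⟨P, hP⟩ := hc
  have h27 : Nat.card (P : Subgroup ↥(EE z s)) = 27 := by
    rw [Sylow.card_eq_multiplicity, fact_E M hR hs1 hs11]
    norm_num
  obtain ⟨x, hx, hxb⟩ := hP (show (⟨b, hY hb⟩ : ↥(EE z s)) ∈ Y.subgroupOf (EE z s) from hb)
  refine ⟨(P : Subgroup ↥(EE z s)).map (EE z s).subtype, map_subtype_le _, ?_, ?_, ?_⟩
  · rw [Subgroup.card_map_of_injective (EE z s).subtype_injective]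
    exact h27
  · refine ⟨⟨b, hY hb⟩, ?_, rfl⟩
    rw [← hxb]
    exact x.2
  · rintro _ ⟨w, hw, rfl⟩
    have h1 := Subgroup.mem_center_iff.1 hx ⟨w, hw⟩
    have h2 := congrArg (fun t : ↥(P : Subgroup ↥(EE z s)) => ((t : ↥(EE z s)) : G)) h1
    have h3 : ((x : ↥(EE z s)) : G) = b := congrArg Subtype.val hxb
    simp only [MulMemClass.coe_mul] at h2
    rw [h3] at h2
    exact h2

/-- The theorem. -/
theorem fischer_of_rel [Finite G] (M : MModel z Qg) {s g₀ : G} (hR : M.Rel v8 s) (hs1 : s ≠ z) (hs11 : s ≠ 1) {Y : Subgroup G}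
    (hY : Y ≤ centralizer ({z, s} : Set G)) (hY3 : Nat.card Y = 3)
    (hc : ∃ P : Sylow 3 ↥(centralizer ({z, s} : Set G)),
      Y.subgroupOf (centralizer ({z, s} : Set G)) ≤
        (Subgroup.center ↥(P : Subgroup ↥(centralizer ({z, s} : Set G)))).map (P : Subgroup ↥(centralizer ({z, s} : Set G))).subtype)
    [(TtB Y).Normal] (hg₀ : g₀ * z * g₀⁻¹ ∈ Qg) (hne₀ : g₀ * z * g₀⁻¹ ≠ z) : IsOfLargeFischerType (BtB Y) := by
  rw [centralizer_pair] at hY hc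
  have hc' : ∀ b ∈ Y, Cent27 z s b := fun b hb => cent27_of M hR hs1 hs11 hc hY hb
  obtain ⟨M', b, hC, hR'⟩ := exists_CD_Z M hR hs1 hs11 hY hY3 (fun b hb _ => hc' b hb)
  have hbY : b ∈ Y := by
    rw [hC.hB]
    exact mem_zpowers b
  have hbs : b * s = s * b := mem_centralizer_singleton_iff.1 (hY hbY).2
  obtain ⟨m, hm, e⟩ := conj_in_At_odd hC (hp4_three hC.pow) hR' hbs.symm (norm_u8 none) hg₀ hne₀ (hsyl_Z hR' hs1 hs11 hC hbs (hc' b hbY))
  have hQ : m * z * m⁻¹ ∈ Qg := by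
    rw [e]
    exact M'.rel_mem hR'
  have hne : m * z * m⁻¹ ≠ z := by
    rw [e]
    exact hs1
  obtain ⟨N', M₁, hN, hM₁, h1, h2, h3, ⟨e₁⟩, h5⟩ := exists_NM (hC.phiB FF) (hC.phiB_surj FF)
  refine ⟨hC.zb, hC.Qb FF, inferInstance, hC.setting FF (by norm_num) no_normal_two (w := 6) (by norm_num) hm hQ hne,
    N', M₁, hN, hM₁, h1, h2, h3, ?_, h5⟩
  exact ⟨Cfsg.Agent.Lib.Compute.GFModel.GF9, inferInstance, inferInstance, Cfsg.Agent.Lib.Compute.GFModel.card_GF9, ⟨e₁⟩⟩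

end Cfsg.Agent.Lib.Sporadic.MonsterModel
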