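import Mathlib
import Cfsg.Agent.Lib.Sporadic.LeechSeven3
import Cfsg.Agent.Lib.Sporadic.MonsterInst

/-!
# The centraliser of an element of order seven in a group of Monster type
-/

set_option autoImplicit false

namespace Cfsg.Agent.Lib.Sporadic.MonsterModel

open Subgroup Cfsg Cfsg.Agent.Lib.PGroup.LargeExtraspecial
  Cfsg.Agent.Lib.PGroup.LargeFz
  Cfsg.Agent.Lib.Sporadic.GolayCore
  Cfsg.Agent.Lib.Sporadic.LeechNorm Cfsg.Agent.Lib.Sporadic.LeechFacts
  Cfsg.Agent.Lib.Sporadic.LeechAut Cfsg.Agent.Lib.Sporadic.LeechClasses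
  Cfsg.Agent.Lib.Sporadic.LeechAct Cfsg.Agent.Lib.Sporadic.LeechMod2
  Cfsg.Agent.Lib.Sporadic.LeechLocal Cfsg.Agent.Lib.Sporadic.LeechOrbits
  Cfsg.Agent.Lib.Sporadic.LeechSeven Cfsg.Agent.Lib.Sporadic.LeechKey
  Cfsg.Agent.Lib.Sporadic.LeechMat Cfsg.Agent.Lib.Sporadic.LeechMonomial

local notation "SL3" => Matrix.SpecialLinearGroup (Fin 3) (ZMod 2)

/-- Conjugation of elements of prime order when the square of the prime does not divide the order of the
group. -/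
theorem conj_of_not_sq {Γ : Type*} [Group Γ] [Finite Γ] {p : ℕ} (hp : p.Prime) (h : ¬ p ^ 2 ∣ Nat.card Γ) {x y : Γ}
    (hx : x ^ p = 1) (hx1 : x ≠ 1) (hy : y ^ p = 1) (hy1 : y ≠ 1) : ∃ (e : Γ) (i : ℕ), e * x ^ i * e⁻¹ = y := by
  haveI : Fact p.Prime := ⟨hp⟩
  have key : ∀ u : Γ, u ^ p = 1 → u ≠ 1 → ∃ S : Sylow p Γ, (S : Subgroup Γ) = zpowers u := by
    intro u hu hu1
    have ho : orderOf u = p := orderOf_eq_prime hu hu1
    have hc : Nat.card (zpowers u) = p := by rw [Nat.card_zpowers, ho]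
    have hP : IsPGroup p (zpowers u) := IsPGroup.of_card (n := 1) (by rw [hc, pow_one])
    have hi : ¬ p ∣ (zpowers u).index := by
      rintro ⟨t, ht⟩
      apply h
      have := Subgroup.card_mul_index (zpowers u)
      rw [hc, ht] at this
      exact ⟨t, by rw [← this]; ring⟩
    exact ⟨hP.toSylow hi, rfl⟩
  obtain ⟨S, hS⟩ := key x hx hx1
  obtain ⟨T, hT⟩ := key y hy hy1
  obtain ⟨e, he⟩ := MulAction.exists_smul_eq Γ S T
  have h1 : y ∈ ((e • S : Sylow p Γ) : Subgroup Γ) := by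
    rw [he, hT]
    exact mem_zpowers y
  rw [Sylow.coe_subgroup_smul, hS] at h1
  obtain ⟨x', hx', e1⟩ := h1
  have hx'' : x' ∈ zpowers x := hx'
  rw [← mem_powers_iff_mem_zpowers] at hx''
  obtain ⟨i, rfl⟩ := hx''
  exact ⟨e, i, e1⟩

variable {G : Type*} [Group G] {z : G} {Qg : Subgroup G}

/-- The centraliser of two commuting elements. -/
abbrev EE (z x : G) : Subgroup G := centralizer ({z} : Set G) ⊓ centralizer ({x} : Set G)

/-- The map of `C(z) ∩ C(x)` to `Co1`. -/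
noncomputable def fEE (M : MModel z Qg) (x : G) : ↥(EE z x) →* Spor.Co1 :=
  M.pi.comp (Subgroup.inclusion (inf_le_left : EE z x ≤ centralizer ({z} : Set G)))

theorem fEE_apply (M : MModel z Qg) (x : G) (a : ↥(EE z x)) : fEE M x a = M.pi ⟨a, a.2.1⟩ := rfl

theorem fEE_ker_two (M : MModel z Qg) (x : G) : IsPGroup 2 (fEE M x).ker := by
  rintro ⟨a, ha⟩
  have h1 := (M.pi_ker ⟨a, a.2.1⟩).1 ha
  obtain ⟨k, hk⟩ := M.E.1.1 ⟨a, h1⟩
  refine ⟨k, ?_⟩
  apply Subtype.ext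
  apply Subtype.ext
  simpa using congrArg Subtype.val hk

theorem c0_ne : c0 ≠ 1 := by
  intro h
  have h1 := monom_c0
  rw [h] at h1
  exact Cfsg.Agent.Lib.Sporadic.M24N7.s7_ne (h1.unique Monom.one)

theorem c0_mem_N : c0 ∈ N := monom_mem_N monom_c0

theorem not_49_dvd_N : ¬ 7 ^ 2 ∣ Nat.card N := by
  rw [card_N]
  norm_num

theorem sylow_N {x : Co0} (hxN : x ∈ N) (hx : x ^ 7 = 1) (hx1 : x ≠ 1) :
    ∃ (n : Co0) (i : ℕ), n ∈ N ∧ n * x ^ i * n⁻¹ = c0 := by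
  obtain ⟨e, i, h⟩ := conj_of_not_sq (Γ := N) (by norm_num : Nat.Prime 7) not_49_dvd_N (x := ⟨x, hxN⟩)
    (y := ⟨c0, c0_mem_N⟩) (Subtype.ext hx) (fun h => hx1 (congrArg Subtype.val h))
    (Subtype.ext c0_pow7) (fun h => c0_ne (congrArg Subtype.val h))
  exact ⟨e, i, e.2, congrArg Subtype.val h⟩

/-- Order considerations. -/
theorem not_sq_E [Finite G] (M : MModel z Qg) {x : G} (hx : M.Rel v8 x) : ¬ 7 ^ 2 ∣ Nat.card ↥(EE z x) := by
  intro h
  have hle : (fEE M x).range ≤ N.map mkC := by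
    rintro _ ⟨a, rfl⟩
    obtain ⟨g, hg⟩ := QuotientGroup.mk'_surjective (center Co0) (fEE M x a)
    have hg' : mkC g = M.pi ⟨a, a.2.1⟩ := hg
    refine ⟨g, ?_, hg⟩
    show g ∈ N
    rw [mem_N_iff_v8]
    have h1 := M.rel_act ⟨a, a.2.1⟩ g hg' hx
    have h2 : (a : G) * x * (a : G)⁻¹ = x := by
      rw [mem_centralizer_singleton_iff.1 a.2.2]
      group
    have h3 : M.Rel (g • v8) x := by
      have e : ((⟨a, a.2.1⟩ : ↥(centralizer ({z} : Set G))) : G) * x * ((⟨a, a.2.1⟩ : ↥(centralizer ({z} : Set G))) : G)⁻¹ = x := h2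
      rw [e] at h1
      exact h1
    exact M.rel_inj h3 hx
  have h1 : Nat.card (fEE M x).range ∣ Nat.card N := by
    have h2 := Subgroup.card_dvd_of_le hle
    have h3 : Nat.card (N.map mkC) ∣ Nat.card N := by
      have e : (mkC.comp N.subtype).range = N.map mkC := by
        rw [MonoidHom.range_comp, Subgroup.range_subtype]
      rw [← e]
      exact Subgroup.card_range_dvd _
    exact h2.trans h3
  have h2 := Subgroup.card_mul_index (fEE M x).ker
  rw [Subgroup.index_ker] at h2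
  obtain ⟨k, hk⟩ := IsPGroup.iff_card.1 (fEE_ker_two M x)
  rw [hk] at h2
  rw [← h2] at h
  have hc : Nat.Coprime (7 ^ 2) (2 ^ k) := by
    apply Nat.Coprime.pow
    norm_num
  exact not_49_dvd_N ((hc.dvd_of_dvd_mul_left h).trans h1)

/-- The centraliser of a type-four lift. -/
theorem not_sq_E' [Finite G] (M : MModel z Qg) {x : G} {w : leechLattice} (hx : M.Rel w x) (hn : sqNorm (w : V) = 64) :
    ¬ 7 ^ 2 ∣ Nat.card ↥(EE z x) := by
  obtain ⟨k, hk⟩ := co0_transitive_64 v8 w (norm_u8 none) hn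
  apply not_sq_E (M.twist k)
  show M.Rel (k • v8) x
  rw [hk]
  exact hx

variable {M : MModel z Qg} {B : Subgroup G} {b : G}

/-- Every conjugate of `z` in `Q` commuting with `b` is conjugate to `z` in the centraliser of `b`. -/
theorem conj_in_At [Finite G] (hC : CD M c0 7 B b) {r : G} {w : leechLattice} (hr : M.Rel w r) (hrb : r * b = b * r)
    (hn : sqNorm (w : V) = 64) {g₀ : G} (hg₀ : g₀ * z * g₀⁻¹ ∈ Qg) (hne₀ : g₀ * z * g₀⁻¹ ≠ z) :
    ∃ m ∈ AtB B, m * z * m⁻¹ = r := by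
  obtain ⟨hcr, hrz⟩ := M.conj_of_type_four hg₀ hne₀ hr hn
  obtain ⟨g, hg⟩ := isConj_iff.1 hcr
  have hrQ := M.rel_mem hr
  have hgQ : g * z * g⁻¹ ∈ Qg := by rw [hg]; exact hrQ
  have hgne : g * z * g⁻¹ ≠ z := by rw [hg]; exact hrz
  have hsym := M.sym g hgQ hgne
  obtain ⟨hcr2, hrz2⟩ := M.conj_of_type_four hg₀ hne₀ (M.rel_z hr) hn
  obtain ⟨g', hg'⟩ := isConj_iff.1 hcr2
  have hzz := M.L.z_sq
  have hrz' : r * z = z * r := M.L.z_comm r hrQ
  have hrr : r * r = 1 := by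
    rw [← hg]
    calc g * z * g⁻¹ * (g * z * g⁻¹) = g * (z * z) * g⁻¹ := by group
      _ = 1 := by rw [hzz]; group
  set t := (g⁻¹ * z * g) * z with ht
  have htQ : t ∈ Qg := mul_mem hsym M.L.z_mem
  have ht1 : t ≠ z := by
    intro h
    apply M.L.z_ne
    have h1 : (g⁻¹ * z * g) * z = 1 * z := by rw [one_mul]; exact h
    have h2 := mul_right_cancel h1
    have : z = g * (g⁻¹ * z * g) * g⁻¹ := by group
    rw [this, h2]
    group
  have hgi : g⁻¹ * r * g = z := by rw [← hg]; group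
  have ht2 : t = (g⁻¹ * g') * z * (g⁻¹ * g')⁻¹ := by
    have e : (g⁻¹ * g') * z * (g⁻¹ * g')⁻¹ = g⁻¹ * (g' * z * g'⁻¹) * g := by group
    rw [e, hg', ht]
    calc g⁻¹ * z * g * z = g⁻¹ * z * g * (g⁻¹ * r * g) := by rw [hgi]
      _ = g⁻¹ * (z * r) * g := by group
  obtain ⟨h, hh⟩ := M.trans_conj hg.symm ht2 hrQ htQ hrz ht1
  have hhz : (h : G) * z = z * h := mem_centralizer_singleton_iff.1 h.2
  set m₃ := g * (h : G) with hm₃
  have e1 : m₃ * z * m₃⁻¹ = r := by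
    have e : m₃ * z * m₃⁻¹ = g * ((h : G) * z) * (h : G)⁻¹ * g⁻¹ := by rw [hm₃]; group
    rw [e, hhz, ← hg]
    group
  have e2 : m₃ * r * m₃⁻¹ = z * r := by
    have e : m₃ * r * m₃⁻¹ = g * ((h : G) * r * (h : G)⁻¹) * g⁻¹ := by rw [hm₃]; group
    rw [e, hh, ht]
    calc g * (g⁻¹ * z * g * z) * g⁻¹ = z * (g * z * g⁻¹) := by group
      _ = z * r := by rw [hg]
  have hbz := hC.bz
  have hcomm_conj : ∀ {x y : G}, x * y = y * x → (m₃ * x * m₃⁻¹) * (m₃ * y * m₃⁻¹) = (m₃ * y * m₃⁻¹) * (m₃ * x * m₃⁻¹) := by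
    intro x y hxy
    calc (m₃ * x * m₃⁻¹) * (m₃ * y * m₃⁻¹) = m₃ * (x * y) * m₃⁻¹ := by group
      _ = m₃ * (y * x) * m₃⁻¹ := by rw [hxy]
      _ = (m₃ * y * m₃⁻¹) * (m₃ * x * m₃⁻¹) := by group
  set u := m₃ * b * m₃⁻¹ with hu
  have hu1 : u * r = r * u := by
    have := hcomm_conj hbz
    rwa [e1] at this
  have hu2 : u * (z * r) = (z * r) * u := by
    have := hcomm_conj (hrb.symm)
    rwa [e2] at this
  have hu3 : u * z = z * u := by
    have hz : z = (z * r) * r := by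
      rw [mul_assoc, hrr, mul_one]
    calc u * z = u * ((z * r) * r) := by rw [← hz]
      _ = (u * (z * r)) * r := by group
      _ = ((z * r) * u) * r := by rw [hu2]
      _ = (z * r) * (u * r) := by group
      _ = (z * r) * (r * u) := by rw [hu1]
      _ = ((z * r) * r) * u := by group
      _ = z * u := by rw [← hz]
  have hb7 : b ^ 7 = 1 := hC.pow
  have hu7 : u ^ 7 = 1 := by
    rw [hu, conj_pow, hb7]
    group
  have hu_ne : u ≠ 1 := by
    intro h1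
    apply hC.ne
    have : b = m₃⁻¹ * u * m₃ := by rw [hu]; group
    rw [this, h1]
    group
  -- Sylow
  let bh : ↥(EE z r) := ⟨b, mem_centralizer_singleton_iff.2 hbz, mem_centralizer_singleton_iff.2 hrb.symm⟩
  let uh : ↥(EE z r) := ⟨u, mem_centralizer_singleton_iff.2 hu3, mem_centralizer_singleton_iff.2 hu1⟩
  obtain ⟨e, i, hei⟩ := conj_of_not_sq (Γ := ↥(EE z r)) (by norm_num : Nat.Prime 7) (not_sq_E' M hr hn) (x := uh) (y := bh)
    (Subtype.ext hu7) (fun h => hu_ne (congrArg Subtype.val h)) (Subtype.ext hb7) (fun h => hC.ne (congrArg Subtype.val h))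
  have hei' : (e : G) * u ^ i * (e : G)⁻¹ = b := congrArg Subtype.val hei
  have hez : (e : G) * z = z * e := mem_centralizer_singleton_iff.1 e.2.1
  have her : (e : G) * r = r * e := mem_centralizer_singleton_iff.1 e.2.2
  set m₁ := (e : G) * m₃ with hm₁
  have f1 : m₁ * z * m₁⁻¹ = r := by
    have : m₁ * z * m₁⁻¹ = (e : G) * (m₃ * z * m₃⁻¹) * (e : G)⁻¹ := by rw [hm₁]; group
    rw [this, e1, her]
    group
  have f2 : m₁ * r * m₁⁻¹ = z * r := by
    have : m₁ * r * m₁⁻¹ = (e : G) * (m₃ * r * m₃⁻¹) * (e : G)⁻¹ := by rw [hm₁]; group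
    rw [this, e2]
    calc (e : G) * (z * r) * (e : G)⁻¹ = ((e : G) * z) * r * (e : G)⁻¹ := by group
      _ = z * ((e : G) * r) * (e : G)⁻¹ := by rw [hez]; group
      _ = z * r := by rw [her]; group
  have f3 : m₁ * b ^ i * m₁⁻¹ = b := by
    have : m₁ * b ^ i * m₁⁻¹ = (e : G) * (m₃ * b ^ i * m₃⁻¹) * (e : G)⁻¹ := by rw [hm₁]; group
    rw [this, ← conj_pow, ← hu, hei']
  have f4 : m₁ * (z * r) * m₁⁻¹ = z := by
    have : m₁ * (z * r) * m₁⁻¹ = (m₁ * z * m₁⁻¹) * (m₁ * r * m₁⁻¹) := by group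
    rw [this, f1, f2, ← mul_assoc, hrz', mul_assoc, hrr, mul_one]
  -- the fourth power
  have f5 : m₁ ^ 4 * z * (m₁ ^ 4)⁻¹ = r := by
    have e3 : m₁ ^ 4 * z * (m₁ ^ 4)⁻¹ = m₁ * (m₁ * (m₁ * (m₁ * z * m₁⁻¹) * m₁⁻¹) * m₁⁻¹) * m₁⁻¹ := by
      have : m₁ ^ 4 = m₁ * m₁ * m₁ * m₁ := by simp [pow_succ]
      rw [this]
      group
    rw [e3, f1, f2, f4, f1]
  have f6 : ∀ t : ℕ, m₁ ^ t * b ^ (i ^ t) * (m₁ ^ t)⁻¹ = b := by
    intro t
    induction t with
    | zero => simp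
    | succ t ih =>
      have e3 : m₁ ^ (t + 1) * b ^ (i ^ (t + 1)) * (m₁ ^ (t + 1))⁻¹ =
          m₁ ^ t * (m₁ * (b ^ i) ^ (i ^ t) * m₁⁻¹) * (m₁ ^ t)⁻¹ := by
        rw [← pow_mul, mul_comm i, ← pow_succ, pow_succ m₁ t]
        group
      rw [e3, ← conj_pow, f3, ih]
  have hi7 : i % 7 ≠ 0 := by
    intro h0
    apply hC.ne
    have h1 : uh ^ i = 1 := by
      obtain ⟨t, ht⟩ := Nat.dvd_of_mod_eq_zero h0
      rw [ht, pow_mul]
      have : uh ^ 7 = 1 := Subtype.ext hu7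
      rw [this, one_pow]
    rw [h1] at hei
    have h2 : bh = 1 := by rw [← hei]; group
    exact congrArg Subtype.val h2
  -- the element squaring `b`
  obtain ⟨y, hy1, hy2⟩ := exists_y0 (hC.rel_fix hr hrb) hn
  obtain ⟨a₀, ha₀, ha₀r⟩ := M.exists_conj hr (M.rel_of_cl hr hy1.symm) (M.conj_ne_one hg₀ hne₀ |> fun _ => by
    intro h
    have h1 := (M.rel_two hr).1 (Or.inl h)
    have hne0 : w ≠ 0 := by
      rintro rfl
      simp [sqNorm] at hn
    rcases short_cong w 0 hne0 (by omega) (by simp [sqNorm]) h1 with h2 | h2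
    · apply hne0
      rw [h2]
      simp
    · simp [sqNorm] at h2) hrz
  have ha₀c : (a₀ : G) * r = r * a₀ := by
    calc (a₀ : G) * r = ((a₀ : G) * r * (a₀ : G)⁻¹) * a₀ := by group
      _ = r * a₀ := by rw [ha₀r]
  let ah : ↥(EE z r) := ⟨a₀, a₀.2, mem_centralizer_singleton_iff.2 ha₀c⟩
  have hfb : fEE M r bh = mkC c0 := hC.pi_b
  have hfa : fEE M r ah = mkC y := ha₀.symm
  obtain ⟨a, -, ha⟩ := lift_conj (e := 2) (fEE M r) (fEE_ker_two M r) (by norm_num : Nat.Prime 7) (by norm_num) (b := bh) (a₀ := ah)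
    (Subtype.ext hb7) (by
      rw [hfb, hfa, ← map_mul, ← map_inv, ← map_mul, ← map_pow]
      congr 1
      rw [hy2]
      group)
  have ha' : (a : G) * b * (a : G)⁻¹ = b ^ 2 := congrArg Subtype.val ha
  have haz : (a : G) * z = z * a := mem_centralizer_singleton_iff.1 a.2.1
  have f7 : ∀ k : ℕ, (a : G) ^ k * b * ((a : G) ^ k)⁻¹ = b ^ (2 ^ k) := by
    intro k
    induction k with
    | zero => simp
    | succ k ih =>
      have e3 : (a : G) ^ (k + 1) * b * ((a : G) ^ (k + 1))⁻¹ = (a : G) ^ k * ((a : G) * b * (a : G)⁻¹) * ((a : G) ^ k)⁻¹ := by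
        rw [pow_succ]
        group
      rw [e3, ha', ← conj_pow, ih, ← pow_mul, pow_succ]
  have f8 : ∀ k : ℕ, (a : G) ^ k * z * ((a : G) ^ k)⁻¹ = z := by
    intro k
    have : Commute ((a : G) ^ k) z := (show Commute (a : G) z from haz).pow_left k
    rw [this.eq]
    group
  -- choice of `k`
  have hk : ∃ k : ℕ, b ^ (2 ^ k) = b ^ (i ^ 4) := by
    have e3 : b ^ (i ^ 4) = b ^ ((i ^ 4) % 7) := pow_eq_pow_mod _ hb7
    rw [e3, Nat.pow_mod]
    have h8 : i % 7 < 7 := Nat.mod_lt _ (by norm_num)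
    generalize i % 7 = d at hi7 h8
    interval_cases d
    · exact absurd rfl hi7
    · exact ⟨0, by norm_num⟩
    · exact ⟨1, by norm_num⟩
    · exact ⟨2, by norm_num⟩
    · exact ⟨2, by norm_num⟩
    · exact ⟨1, by norm_num⟩
    · exact ⟨0, by norm_num⟩
  obtain ⟨k, hk⟩ := hk
  refine ⟨m₁ ^ 4 * (a : G) ^ k, ?_, ?_⟩
  · rw [hC.mem_At]
    have e3 : (m₁ ^ 4 * (a : G) ^ k) * b * (m₁ ^ 4 * (a : G) ^ k)⁻¹ = b := by
      have : (m₁ ^ 4 * (a : G) ^ k) * b * (m₁ ^ 4 * (a : G) ^ k)⁻¹ = m₁ ^ 4 * ((a : G) ^ k * b * ((a : G) ^ k)⁻¹) * (m₁ ^ 4)⁻¹ := by group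
      rw [this, f7, hk, f6]
    calc (m₁ ^ 4 * (a : G) ^ k) * b = ((m₁ ^ 4 * (a : G) ^ k) * b * (m₁ ^ 4 * (a : G) ^ k)⁻¹) * (m₁ ^ 4 * (a : G) ^ k) := by group
      _ = b * (m₁ ^ 4 * (a : G) ^ k) := by rw [e3]
  · have : (m₁ ^ 4 * (a : G) ^ k) * z * (m₁ ^ 4 * (a : G) ^ k)⁻¹ = m₁ ^ 4 * ((a : G) ^ k * z * ((a : G) ^ k)⁻¹) * (m₁ ^ 4)⁻¹ := by group
    rw [this, f8, f5]

/-! ### The count -/

/-- Conjugates in the centraliser. -/
theorem R_conj_iff [Finite G] (hC : CD M c0 7 B b) {g₀ : G} (hg₀ : g₀ * z * g₀⁻¹ ∈ Qg) (hne₀ : g₀ * z * g₀⁻¹ ≠ z)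
    (r : ↥(RR Qg B)) :
    (∃ m ∈ AtB B, m * z * m⁻¹ = r) ↔ ((r : G) = z ∨ ∃ w : leechLattice, M.Rel w r ∧ sqNorm (w : V) = 64) := by
  constructor
  · rintro ⟨m, -, e⟩
    by_cases h : (r : G) = z
    · exact Or.inl h
    · right
      have h1 : m * z * m⁻¹ ∈ Qg := by rw [e]; exact r.2.1
      have h2 : m * z * m⁻¹ ≠ z := by rw [e]; exact h
      obtain ⟨v, hv, hn⟩ := M.type_four h1 h2
      rw [e] at hv
      exact ⟨v, hv, hn⟩
  · rintro (h | ⟨w, hw, hn⟩)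
    · exact ⟨1, one_mem _, by simp [h]⟩
    · exact conj_in_At hC hw (hC.mem_At.1 r.2.2) hn hg₀ hne₀

/-- The representatives of type four. -/
noncomputable def T4v (a : Fin 14) : leechLattice := RLv ⟨50 + a.val, by omega⟩

theorem T4v_norm (a : Fin 14) : sqNorm (T4v a : V) = 64 :=
  (sqNorm_vecOf _).trans (RL_high ⟨50 + a.val, by omega⟩ (by simp))

theorem T4v_fix (a : Fin 14) : cl (c0 • T4v a) = cl (T4v a) := RLv_fix _

theorem T4v_inj {a a' : Fin 14} (h : cl (T4v a) = cl (T4v a')) : a = a' := by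
  have := RLv_inj h
  have h2 := congrArg Fin.val this
  simp only at h2
  exact Fin.ext (by omega)

theorem t4_cases' {v : leechLattice} (hv : cl (c0 • v) = cl v) (hn : sqNorm (v : V) = 64) :
    ∃ a, cl v = cl (T4v a) := by
  rcases t4_cases v hv hn with ⟨i, hi⟩ | ⟨i, hi⟩
  · refine ⟨⟨i.val, by omega⟩, ?_⟩
    rw [hi, ← O1v_eq_RLv]
    rfl
  · refine ⟨⟨7 + i.val, by omega⟩, ?_⟩
    rw [hi, ← O2v_eq_RLv]
    have e : (⟨57 + i.val, by omega⟩ : Fin 64) = ⟨50 + (7 + i.val), by omega⟩ := by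
      apply Fin.ext
      simp only
      omega
    rw [e]
    rfl

theorem T4v_ne (a : Fin 14) : cl (T4v a) ≠ cl 0 := by
  intro h
  have hn := T4v_norm a
  have hne0 : T4v a ≠ 0 := by
    intro h0
    rw [h0] at hn
    simp [sqNorm] at hn
  rcases short_cong (T4v a) 0 hne0 (by omega) (by simp [sqNorm]) h with h2 | h2
  · apply hne0
    rw [h2]
    simp
  · simp [sqNorm] at h2

/-- The index in the table. -/
def idx64 (a : Fin 14) : Fin 64 := ⟨50 + a.val, by omega⟩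

namespace CD

section count

variable [hn : (TtB B).Normal] [Finite G] (hC : CD M c0 7 B b)

/-- The parametrisation of the conjugates. -/
noncomputable def gR : Option (Fin 14 × Bool) → ↥(RR Qg B)
  | none => hC.zR
  | some (a, false) => hC.lft heldData (idx64 a)
  | some (a, true) => hC.zR * hC.lft heldData (idx64 a)

omit hn [Finite G] in
theorem gR_rel (a : Fin 14) (e : Bool) : M.Rel (T4v a) (hC.gR (some (a, e))) := by
  cases e
  · exact hC.lft_rel heldData (idx64 a)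
  · exact M.rel_z (hC.lft_rel heldData (idx64 a))

omit hn [Finite G] in
theorem gR_inj : Function.Injective hC.gR := by
  have hz : ∀ (a : Fin 14) (e : Bool), ((hC.gR (some (a, e)) : ↥(RR Qg B)) : G) ≠ z := by
    intro a e h
    have h1 := hC.gR_rel a e
    rw [h] at h1
    exact T4v_ne a ((M.rel_two h1).1 (Or.inr rfl))
  have hne : ∀ y : G, z * y ≠ y := by
    intro y h2
    apply M.L.z_ne
    have h3 : z * y = 1 * y := by rw [one_mul]; exact h2
    exact mul_right_cancel h3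
  intro x y h
  match x, y, h with
  | none, none, _ => rfl
  | none, some (a, e), h => exact absurd (congrArg Subtype.val h).symm (hz a e)
  | some (a, e), none, h => exact absurd (congrArg Subtype.val h) (hz a e)
  | some (a, e), some (a', e'), h =>
    have h1 := hC.gR_rel a e
    rw [h] at h1
    have h2 := T4v_inj (M.rel_inj h1 (hC.gR_rel a' e'))
    subst h2
    cases e <;> cases e'
    · rfl
    · exact absurd (congrArg Subtype.val h).symm (hne _)
    · exact absurd (congrArg Subtype.val h) (hne _)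
    · rfl

/-- The members of `R` conjugate to `z`. -/
theorem mem_gR_iff {g₀ : G} (hg₀ : g₀ * z * g₀⁻¹ ∈ Qg) (hne₀ : g₀ * z * g₀⁻¹ ≠ z) (r : ↥(RR Qg B)) :
    (∃ m ∈ AtB B, m * z * m⁻¹ = r) ↔ ∃ o, hC.gR o = r := by
  rw [R_conj_iff hC hg₀ hne₀]
  constructor
  · rintro (h | ⟨w, hw, hnw⟩)
    · exact ⟨none, Subtype.ext h.symm⟩
    · have hfix := hC.rel_fix hw (hC.mem_At.1 r.2.2)
      obtain ⟨a, ha⟩ := t4_cases' hfix hnw
      have h1 := M.rel_of_cl hw ha
      rcases M.rel_same (hC.gR_rel a false) h1 with h2 | h2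
      · exact ⟨some (a, false), Subtype.ext h2.symm⟩
      · exact ⟨some (a, true), Subtype.ext h2.symm⟩
  · rintro ⟨o, rfl⟩
    match o with
    | none => exact Or.inl rfl
    | some (a, e) => exact Or.inr ⟨T4v a, hC.gR_rel a e, T4v_norm a⟩

theorem count_29 {g₀ : G} (hg₀ : g₀ * z * g₀⁻¹ ∈ Qg) (hne₀ : g₀ * z * g₀⁻¹ ≠ z) :
    Set.ncard {x : ↥hC.XX | x ∈ hC.Qb heldData ∧ IsConj hC.zb (x : BtB B)} = 29 := by
  let f : Option (Fin 14 × Bool) → ↥hC.XX := fun o => ((hC.rho heldData (hC.gR o) : ↥(hC.Qb heldData)) : ↥hC.XX)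
  have hf : Function.Injective f := fun x y h =>
    hC.gR_inj (hC.rho_injective heldData (Subtype.ext h))
  have hS : {x : ↥hC.XX | x ∈ hC.Qb heldData ∧ IsConj hC.zb (x : BtB B)} = f '' Set.univ := by
    ext x
    simp only [Set.mem_ofPred_eq, Set.image_univ, Set.mem_range]
    constructor
    · rintro ⟨h1, h2⟩
      obtain ⟨r, hr⟩ := hC.rho_surj heldData ⟨x, h1⟩
      have e : x = hC.theta ⟨r, hC.RR_le r.2⟩ := by
        have := congrArg Subtype.val hr
        exact this.symm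
      rw [e, hC.isConj_theta_iff, mem_gR_iff hC hg₀ hne₀] at h2
      obtain ⟨o, ho⟩ := h2
      refine ⟨o, ?_⟩
      show ((hC.rho heldData (hC.gR o) : ↥(hC.Qb heldData)) : ↥hC.XX) = x
      rw [ho, hr]
    · rintro ⟨o, rfl⟩
      refine ⟨(hC.rho heldData (hC.gR o)).2, ?_⟩
      show IsConj hC.zb ((hC.theta ⟨_, hC.RR_le (hC.gR o).2⟩ : ↥hC.XX) : BtB B)
      rw [hC.isConj_theta_iff, mem_gR_iff hC hg₀ hne₀]
      exact ⟨o, rfl⟩
  rw [hS, Set.ncard_image_of_injective _ hf, Set.ncard_univ, Nat.card_eq_fintype_card]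
  simp [Fintype.card_option, Fintype.card_prod]

/-- The conclusion, given a good element of order seven. -/
theorem held_of_CD (hC : CD M c0 7 B b) {g₀ : G} (hg₀ : g₀ * z * g₀⁻¹ ∈ Qg) (hne₀ : g₀ * z * g₀⁻¹ ≠ z) : IsOfHeldType (BtB B) := by
  have hr := hC.gR_rel (0 : Fin 14) false
  obtain ⟨m, hm, e⟩ := (mem_gR_iff hC hg₀ hne₀ (hC.gR (some (0, false)))).2 ⟨_, rfl⟩
  have hQ : m * z * m⁻¹ ∈ Qg := by rw [e]; exact (hC.gR (some (0, false))).2.1
  have hne : m * z * m⁻¹ ≠ z := by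
    rw [e]
    intro h
    have h1 := hr
    rw [h] at h1
    exact T4v_ne 0 ((M.rel_two h1).1 (Or.inr rfl))
  refine ⟨hC.zb, hC.Qb heldData, inferInstance, hC.setting heldData (by norm_num) no_normal_two (w := 3) (by norm_num) hm hQ hne,
    ⟨hC.eB heldData⟩, count_29 hC hg₀ hne₀⟩

end count

end CD

/-! ### The normalisation -/

theorem centralizer_pair (z s : G) : centralizer ({z, s} : Set G) = EE z s := by
  ext a
  simp only [mem_centralizer_iff, Set.mem_insert_iff, Set.mem_singleton_iff, Subgroup.mem_inf, forall_eq_or_imp, forall_eq]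

theorem neg_sq : negCo0 * negCo0 = 1 := by
  apply co0_ext_u8
  intro i
  apply Subtype.ext
  rw [negCo0_mul_smul, one_smul]
  rw [show negCo0 • u8 i = -u8 i from rfl]
  simp

theorem neg_pow7 : negCo0 ^ 7 = negCo0 := by
  have e : negCo0 ^ 7 = (negCo0 * negCo0) * (negCo0 * negCo0) * (negCo0 * negCo0) * negCo0 := by
    simp only [pow_succ, pow_zero, one_mul, mul_assoc]
  rw [e, neg_sq]
  simp

theorem mkC_c0_ne : mkC c0 ≠ 1 := by
  intro h
  rcases (mkC_eq_one_iff _).1 h with h1 | h1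
  · exact c0_ne h1
  · have h2 := c0_pow7
    rw [h1, neg_pow7] at h2
    exact c0_ne (h1.trans h2)

/-- Choice of the element. -/
theorem exists_CD [Finite G] (M : MModel z Qg) {s : G} (hR : M.Rel v8 s) (hs1 : s ≠ z) (hs11 : s ≠ 1) {B : Subgroup G}
    (hB : B ≤ centralizer ({z, s} : Set G))
    (hBp : Nat.card B = 7 ^ (Nat.card ↥(centralizer ({z, s} : Set G))).factorization 7) :
    ∃ (M' : MModel z Qg) (b : G), CD M' c0 7 B b := by
  have hK := centralizer_pair z s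
  obtain ⟨h, hh, hhs⟩ := M.exists_conj hR (M.rel_of_cl hR (mem_N_iff_v8.1 c0_mem_N).symm) hs11 hs1
  have hhc : (h : G) * s = s * h := by
    calc (h : G) * s = ((h : G) * s * (h : G)⁻¹) * h := by group
      _ = s * h := by rw [hhs]
  let ah : ↥(EE z s) := ⟨h, h.2, mem_centralizer_singleton_iff.2 hhc⟩
  have hfa : fEE M s ah = mkC c0 := hh.symm
  have hord : orderOf (mkC c0) = 7 := orderOf_eq_prime (by rw [← map_pow, c0_pow7, map_one]) mkC_c0_ne
  have h7 : 7 ∣ Nat.card ↥(EE z s) := by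
    have h1 : orderOf (fEE M s ah) ∣ orderOf ah := orderOf_map_dvd _ _
    rw [hfa, hord] at h1
    exact h1.trans (orderOf_dvd_natCard ah)
  have hns := not_sq_E M hR
  have hfac : (Nat.card ↥(EE z s)).factorization 7 = 1 := by
    have hpos : Nat.card ↥(EE z s) ≠ 0 := Nat.card_pos.ne'
    have h1 : 1 ≤ (Nat.card ↥(EE z s)).factorization 7 :=
      (Nat.Prime.pow_dvd_iff_le_factorization (by norm_num) hpos).1 (by simpa using h7)
    have h2 : ¬ 2 ≤ (Nat.card ↥(EE z s)).factorization 7 :=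
      fun h => hns ((Nat.Prime.pow_dvd_iff_le_factorization (by norm_num) hpos).2 h)
    omega
  rw [hK, hfac, pow_one] at hBp
  have hB' : B ≤ EE z s := hK ▸ hB
  have hgen : ∀ u ∈ B, u ≠ 1 → B = zpowers u ∧ u ^ 7 = 1 := by
    intro u hu hu1
    have hu7 : u ^ 7 = 1 := by
      have : (⟨u, hu⟩ : B) ^ 7 = 1 := by
        rw [← hBp]
        exact pow_card_eq_one'
      exact congrArg Subtype.val this
    refine ⟨?_, hu7⟩
    have ho := orderOf_eq_prime (p := 7) hu7 hu1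
    symm
    apply Subgroup.eq_of_le_of_card_ge
    · rwa [zpowers_le]
    · rw [Nat.card_zpowers, ho, hBp]
  obtain ⟨b, hbB, hb1⟩ : ∃ b ∈ B, b ≠ 1 := by
    rcases B.bot_or_exists_ne_one with h | h
    · rw [h] at hBp
      simp at hBp
    · exact h
  obtain ⟨-, hb7⟩ := hgen b hbB hb1
  have hbE := hB' hbB
  have hbz : b * z = z * b := mem_centralizer_singleton_iff.1 hbE.1
  have hbs : b * s = s * b := mem_centralizer_singleton_iff.1 hbE.2
  let bh : ↥(centralizer ({z} : Set G)) := ⟨b, hbE.1⟩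
  obtain ⟨g, hg⟩ := QuotientGroup.mk'_surjective (center Co0) (M.pi bh)
  have hg' : mkC g = M.pi bh := hg
  have hgN : g ∈ N := by
    rw [mem_N_iff_v8]
    have h1 := M.rel_act bh g hg' hR
    have e : (bh : G) * s * (bh : G)⁻¹ = s := by
      show b * s * b⁻¹ = s
      rw [hbs]
      group
    rw [e] at h1
    exact M.rel_inj h1 hR
  have hmk7 : mkC (g ^ 7) = 1 := by
    rw [map_pow, hg', ← map_pow]
    have : bh ^ 7 = 1 := Subtype.ext hb7
    rw [this, map_one]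
  obtain ⟨g₁, hg1N, hg1, hg17⟩ : ∃ g₁ ∈ N, mkC g₁ = M.pi bh ∧ g₁ ^ 7 = 1 := by
    rcases (mkC_eq_one_iff _).1 hmk7 with h1 | h1
    · exact ⟨g, hgN, hg', h1⟩
    · refine ⟨negCo0 * g, ?_, ?_, ?_⟩
      · rw [mem_N_iff_v8, negCo0_mul_smul, cl_neg', mem_N_iff_v8.1 hgN]
      · rw [map_mul, mkC_neg, one_mul, hg']
      · have hc : Commute negCo0 g := (Subgroup.mem_center_iff.1 negCo0_mem_center g).symm
        rw [hc.mul_pow, neg_pow7, h1, neg_sq]
  have hg1ne : g₁ ≠ 1 := by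
    rintro rfl
    have h1 : M.pi bh = 1 := by rw [← hg1, map_one]
    obtain ⟨k, hk⟩ := CD.pi_ker_two M ⟨bh, h1⟩
    have h2 : b ^ (2 ^ k) = 1 := congrArg (fun y : ↥M.pi.ker => ((y : ↥(centralizer ({z} : Set G))) : G)) hk
    have h3 : orderOf b ∣ 2 ^ k := orderOf_dvd_of_pow_eq_one h2
    rw [orderOf_eq_prime (p := 7) hb7 hb1] at h3
    have h4 := (by norm_num : Nat.Prime 7).dvd_of_dvd_pow h3
    omega
  obtain ⟨n, i, hnN, hni⟩ := sylow_N hg1N hg17 hg1ne
  have hbiz : b ^ i * z = z * b ^ i := ((show Commute b z from hbz).pow_left i).eq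
  have hpi : (M.twist n⁻¹).pi ⟨b ^ i, mem_centralizer_singleton_iff.2 hbiz⟩ = mkC c0 := by
    show (MulAut.conj (mkC n⁻¹)⁻¹) (M.pi (bh ^ i)) = mkC c0
    rw [map_pow, ← hg1, ← hni, MulAut.conj_apply]
    simp only [map_mul, map_inv, map_pow, inv_inv]
  have hbi1 : b ^ i ≠ 1 := by
    intro h1
    have h2 : (⟨b ^ i, mem_centralizer_singleton_iff.2 hbiz⟩ : ↥(centralizer ({z} : Set G))) = 1 := Subtype.ext h1
    rw [h2, map_one] at hpi
    exact mkC_c0_ne hpi.symm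
  obtain ⟨hB1, hbi7⟩ := hgen (b ^ i) (pow_mem hbB i) hbi1
  exact ⟨M.twist n⁻¹, b ^ i,
    { prime := by norm_num
      odd := by norm_num
      hB := hB1
      bz := hbiz
      pow := hbi7
      ne := hbi1
      cpow := c0_pow7
      pi_b := hpi }⟩

/-- The theorem. -/
theorem held_of_rel [Finite G] (M : MModel z Qg) {s g₀ : G} (hR : M.Rel v8 s) (hs1 : s ≠ z) (hs11 : s ≠ 1) {B : Subgroup G}
    (hB : B ≤ centralizer ({z, s} : Set G))
    (hBp : Nat.card B = 7 ^ (Nat.card ↥(centralizer ({z, s} : Set G))).factorization 7)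
    [(TtB B).Normal] (hg₀ : g₀ * z * g₀⁻¹ ∈ Qg) (hne₀ : g₀ * z * g₀⁻¹ ≠ z) : IsOfHeldType (BtB B) := by
  obtain ⟨M', b, hC⟩ := exists_CD M hR hs1 hs11 hB hBp
  exact hC.held_of_CD hg₀ hne₀

end Cfsg.Agent.Lib.Sporadic.MonsterModel
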