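import Mathlib
import Cfsg.Agent.Lib.Sporadic.MonsterHeld
import Cfsg.Agent.Lib.Sporadic.LeechCentFw

/-!
# Elements of odd prime order in a group of Monster type
-/

set_option autoImplicit false

namespace Cfsg.Agent.Lib.Sporadic.MonsterModel

open Subgroup Cfsg Cfsg.Agent.Lib.PGroup.LargeExtraspecial
  Cfsg.Agent.Lib.PGroup.LargeFz
  Cfsg.Agent.Lib.Sporadic.GolayCore
  Cfsg.Agent.Lib.Sporadic.LeechNorm Cfsg.Agent.Lib.Sporadic.LeechFacts
  Cfsg.Agent.Lib.Sporadic.LeechAut Cfsg.Agent.Lib.Sporadic.LeechClasses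
  Cfsg.Agent.Lib.Sporadic.LeechAct Cfsg.Agent.Lib.Sporadic.LeechMod2
  Cfsg.Agent.Lib.Sporadic.LeechLocal Cfsg.Agent.Lib.Sporadic.LeechOrbits
  Cfsg.Agent.Lib.Sporadic.LeechKey
  Cfsg.Agent.Lib.Sporadic.LeechMat Cfsg.Agent.Lib.Sporadic.LeechMonomial

variable {G : Type*} [Group G] {z : G} {Qg : Subgroup G}

theorem sylow_N_p {p : ℕ} (hp : p.Prime) (hN : ¬ p ^ 2 ∣ Nat.card N) {c : Co0} (hcN : c ∈ N) (hcp : c ^ p = 1) (hc1 : c ≠ 1)
    {x : Co0} (hxN : x ∈ N) (hx : x ^ p = 1) (hx1 : x ≠ 1) :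
    ∃ (n : Co0) (i : ℕ), n ∈ N ∧ n * x ^ i * n⁻¹ = c := by
  obtain ⟨e, i, h⟩ := conj_of_not_sq (Γ := N) hp hN (x := ⟨x, hxN⟩)
    (y := ⟨c, hcN⟩) (Subtype.ext hx) (fun h => hx1 (congrArg Subtype.val h))
    (Subtype.ext hcp) (fun h => hc1 (congrArg Subtype.val h))
  exact ⟨e, i, e.2, congrArg Subtype.val h⟩

/-- Order considerations. -/
theorem not_sq_E_p [Finite G] {p : ℕ} (hp : p.Prime) (hp2 : p ≠ 2) (hN : ¬ p ^ 2 ∣ Nat.card N) (M : MModel z Qg) {x : G}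
    (hx : M.Rel v8 x) : ¬ p ^ 2 ∣ Nat.card ↥(EE z x) := by
  intro h
  have hle : (fEE M x).range ≤ N.map mkC := by
    rintro _ ⟨a, rfl⟩
    obtain ⟨g, hg⟩ := QuotientGroup.mk'_surjective (center Co0) (fEE M x a)
    have hg' : mkC g = M.pi ⟨a, a.2.1⟩ := hg
    refine ⟨g, ?_, hg⟩
    show g ∈ N
    rw [mem_N_iff_v8]
    have h1 := M.rel_act ⟨a, a.2.1⟩ g hg' hx
    have h2 : (a : G) * x * (a : G)⁻¹ = x := by
      rw [mem_centralizer_singleton_iff.1 a.2.2]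
      group
    have h3 : M.Rel (g • v8) x := by
      have e : ((⟨a, a.2.1⟩ : ↥(centralizer ({z} : Set G))) : G) * x * ((⟨a, a.2.1⟩ : ↥(centralizer ({z} : Set G))) : G)⁻¹ = x := h2
      rw [e] at h1
      exact h1
    exact M.rel_inj h3 hx
  have h1 : Nat.card (fEE M x).range ∣ Nat.card N := by
    have h2 := Subgroup.card_dvd_of_le hle
    have h3 : Nat.card (N.map mkC) ∣ Nat.card N := by
      have e : (mkC.comp N.subtype).range = N.map mkC := by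
        rw [MonoidHom.range_comp, Subgroup.range_subtype]
      rw [← e]
      exact Subgroup.card_range_dvd _
    exact h2.trans h3
  have h2 := Subgroup.card_mul_index (fEE M x).ker
  rw [Subgroup.index_ker] at h2
  obtain ⟨k, hk⟩ := IsPGroup.iff_card.1 (fEE_ker_two M x)
  rw [hk] at h2
  rw [← h2] at h
  have hc : Nat.Coprime (p ^ 2) (2 ^ k) := by
    apply Nat.Coprime.pow
    exact (Nat.coprime_primes hp Nat.prime_two).2 hp2
  exact hN ((hc.dvd_of_dvd_mul_left h).trans h1)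

/-- The centraliser of a type-four lift. -/
theorem not_sq_E'_p [Finite G] {p : ℕ} (hp : p.Prime) (hp2 : p ≠ 2) (hN : ¬ p ^ 2 ∣ Nat.card N) (M : MModel z Qg) {x : G}
    {w : leechLattice} (hx : M.Rel w x) (hn : sqNorm (w : V) = 64) :
    ¬ p ^ 2 ∣ Nat.card ↥(EE z x) := by
  obtain ⟨k, hk⟩ := co0_transitive_64 v8 w (norm_u8 none) hn
  apply not_sq_E_p hp hp2 hN (M.twist k)
  show M.Rel (k • v8) x
  rw [hk]
  exact hx

variable {M : MModel z Qg} {B : Subgroup G} {b : G} {c : Co0} {p : ℕ}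

/-- Every conjugate of `z` in `Q` commuting with `b` is conjugate to `z` in the centraliser of `b`, when fourth powers
of units are trivial modulo `p`. -/
theorem conj_in_At_odd [Finite G] (hC : CD M c p B b) (hp4 : ∀ i : ℕ, ¬ p ∣ i → b ^ (i ^ 4) = b) {r : G} {w : leechLattice}
    (hr : M.Rel w r) (hrb : r * b = b * r)
    (hn : sqNorm (w : V) = 64) {g₀ : G} (hg₀ : g₀ * z * g₀⁻¹ ∈ Qg) (hne₀ : g₀ * z * g₀⁻¹ ≠ z)
    (hsyl : ∀ m₃ u : G, u = m₃ * b * m₃⁻¹ → m₃ * z * m₃⁻¹ = r → m₃ * r * m₃⁻¹ = z * r → u * z = z * u → u * r = r * u →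
      ∃ (e : G) (i : ℕ), e * z = z * e ∧ e * r = r * e ∧ e * u ^ i * e⁻¹ = b) :
    ∃ m ∈ AtB B, m * z * m⁻¹ = r := by
  obtain ⟨hcr, hrz⟩ := M.conj_of_type_four hg₀ hne₀ hr hn
  obtain ⟨g, hg⟩ := isConj_iff.1 hcr
  have hrQ := M.rel_mem hr
  have hgQ : g * z * g⁻¹ ∈ Qg := by rw [hg]; exact hrQ
  have hgne : g * z * g⁻¹ ≠ z := by rw [hg]; exact hrz
  have hsym := M.sym g hgQ hgne
  obtain ⟨hcr2, hrz2⟩ := M.conj_of_type_four hg₀ hne₀ (M.rel_z hr) hn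
  obtain ⟨g', hg'⟩ := isConj_iff.1 hcr2
  have hzz := M.L.z_sq
  have hrz' : r * z = z * r := M.L.z_comm r hrQ
  have hrr : r * r = 1 := by
    rw [← hg]
    calc g * z * g⁻¹ * (g * z * g⁻¹) = g * (z * z) * g⁻¹ := by group
      _ = 1 := by rw [hzz]; group
  set t := (g⁻¹ * z * g) * z with ht
  have htQ : t ∈ Qg := mul_mem hsym M.L.z_mem
  have ht1 : t ≠ z := by
    intro h
    apply M.L.z_ne
    have h1 : (g⁻¹ * z * g) * z = 1 * z := by rw [one_mul]; exact h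
    have h2 := mul_right_cancel h1
    have : z = g * (g⁻¹ * z * g) * g⁻¹ := by group
    rw [this, h2]
    group
  have hgi : g⁻¹ * r * g = z := by rw [← hg]; group
  have ht2 : t = (g⁻¹ * g') * z * (g⁻¹ * g')⁻¹ := by
    have e : (g⁻¹ * g') * z * (g⁻¹ * g')⁻¹ = g⁻¹ * (g' * z * g'⁻¹) * g := by group
    rw [e, hg', ht]
    calc g⁻¹ * z * g * z = g⁻¹ * z * g * (g⁻¹ * r * g) := by rw [hgi]
      _ = g⁻¹ * (z * r) * g := by group
  obtain ⟨h, hh⟩ := M.trans_conj hg.symm ht2 hrQ htQ hrz ht1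
  have hhz : (h : G) * z = z * h := mem_centralizer_singleton_iff.1 h.2
  set m₃ := g * (h : G) with hm₃
  have e1 : m₃ * z * m₃⁻¹ = r := by
    have e : m₃ * z * m₃⁻¹ = g * ((h : G) * z) * (h : G)⁻¹ * g⁻¹ := by rw [hm₃]; group
    rw [e, hhz, ← hg]
    group
  have e2 : m₃ * r * m₃⁻¹ = z * r := by
    have e : m₃ * r * m₃⁻¹ = g * ((h : G) * r * (h : G)⁻¹) * g⁻¹ := by rw [hm₃]; group
    rw [e, hh, ht]
    calc g * (g⁻¹ * z * g * z) * g⁻¹ = z * (g * z * g⁻¹) := by group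
      _ = z * r := by rw [hg]
  have hbz := hC.bz
  have hcomm_conj : ∀ {x y : G}, x * y = y * x → (m₃ * x * m₃⁻¹) * (m₃ * y * m₃⁻¹) = (m₃ * y * m₃⁻¹) * (m₃ * x * m₃⁻¹) := by
    intro x y hxy
    calc (m₃ * x * m₃⁻¹) * (m₃ * y * m₃⁻¹) = m₃ * (x * y) * m₃⁻¹ := by group
      _ = m₃ * (y * x) * m₃⁻¹ := by rw [hxy]
      _ = (m₃ * y * m₃⁻¹) * (m₃ * x * m₃⁻¹) := by group
  set u := m₃ * b * m₃⁻¹ with hu
  have hu1 : u * r = r * u := by
    have := hcomm_conj hbz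
    rwa [e1] at this
  have hu2 : u * (z * r) = (z * r) * u := by
    have := hcomm_conj (hrb.symm)
    rwa [e2] at this
  have hu3 : u * z = z * u := by
    have hz : z = (z * r) * r := by
      rw [mul_assoc, hrr, mul_one]
    calc u * z = u * ((z * r) * r) := by rw [← hz]
      _ = (u * (z * r)) * r := by group
      _ = ((z * r) * u) * r := by rw [hu2]
      _ = (z * r) * (u * r) := by group
      _ = (z * r) * (r * u) := by rw [hu1]
      _ = ((z * r) * r) * u := by group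
      _ = z * u := by rw [← hz]
  have hb7 : b ^ p = 1 := hC.pow
  have hu7 : u ^ p = 1 := by
    rw [hu, conj_pow, hb7]
    group
  obtain ⟨e, i, hez, her, hei'⟩ := hsyl m₃ u hu e1 e2 hu3 hu1
  set m₁ := e * m₃ with hm₁
  have f1 : m₁ * z * m₁⁻¹ = r := by
    have : m₁ * z * m₁⁻¹ = e * (m₃ * z * m₃⁻¹) * e⁻¹ := by rw [hm₁]; group
    rw [this, e1, her]
    group
  have f2 : m₁ * r * m₁⁻¹ = z * r := by
    have : m₁ * r * m₁⁻¹ = e * (m₃ * r * m₃⁻¹) * e⁻¹ := by rw [hm₁]; group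
    rw [this, e2]
    calc e * (z * r) * e⁻¹ = (e * z) * r * e⁻¹ := by group
      _ = z * (e * r) * e⁻¹ := by rw [hez]; group
      _ = z * r := by rw [her]; group
  have f3 : m₁ * b ^ i * m₁⁻¹ = b := by
    have : m₁ * b ^ i * m₁⁻¹ = e * (m₃ * b ^ i * m₃⁻¹) * e⁻¹ := by rw [hm₁]; group
    rw [this, ← conj_pow, ← hu, hei']
  have f4 : m₁ * (z * r) * m₁⁻¹ = z := by
    have : m₁ * (z * r) * m₁⁻¹ = (m₁ * z * m₁⁻¹) * (m₁ * r * m₁⁻¹) := by group
    rw [this, f1, f2, ← mul_assoc, hrz', mul_assoc, hrr, mul_one]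
  have f5 : m₁ ^ 4 * z * (m₁ ^ 4)⁻¹ = r := by
    have e3 : m₁ ^ 4 * z * (m₁ ^ 4)⁻¹ = m₁ * (m₁ * (m₁ * (m₁ * z * m₁⁻¹) * m₁⁻¹) * m₁⁻¹) * m₁⁻¹ := by
      have : m₁ ^ 4 = m₁ * m₁ * m₁ * m₁ := by simp [pow_succ]
      rw [this]
      group
    rw [e3, f1, f2, f4, f1]
  have f6 : ∀ t : ℕ, m₁ ^ t * b ^ (i ^ t) * (m₁ ^ t)⁻¹ = b := by
    intro t
    induction t with
    | zero => simp
    | succ t ih =>
      have e3 : m₁ ^ (t + 1) * b ^ (i ^ (t + 1)) * (m₁ ^ (t + 1))⁻¹ =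
          m₁ ^ t * (m₁ * (b ^ i) ^ (i ^ t) * m₁⁻¹) * (m₁ ^ t)⁻¹ := by
        rw [← pow_mul, mul_comm i, ← pow_succ, pow_succ m₁ t]
        group
      rw [e3, ← conj_pow, f3, ih]
  have hi7 : ¬ p ∣ i := by
    intro h0
    apply hC.ne
    obtain ⟨t, ht⟩ := h0
    have h1 : u ^ i = 1 := by
      rw [ht, pow_mul, hu7, one_pow]
    rw [h1] at hei'
    rw [← hei']
    group
  have f7 := f6 4
  rw [hp4 i hi7] at f7
  refine ⟨m₁ ^ 4, ?_, f5⟩
  rw [hC.mem_At]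
  calc m₁ ^ 4 * b = (m₁ ^ 4 * b * (m₁ ^ 4)⁻¹) * m₁ ^ 4 := by group
    _ = b * m₁ ^ 4 := by rw [f7]

theorem hp4_five (h5 : b ^ 5 = 1) (i : ℕ) (hi : ¬ 5 ∣ i) : b ^ (i ^ 4) = b := by
  have e3 : b ^ (i ^ 4) = b ^ ((i ^ 4) % 5) := pow_eq_pow_mod _ h5
  rw [e3, Nat.pow_mod]
  have h8 : i % 5 < 5 := Nat.mod_lt _ (by norm_num)
  have h9 : i % 5 ≠ 0 := fun h => hi (Nat.dvd_of_mod_eq_zero h)
  generalize i % 5 = d at h8 h9
  interval_cases d
  · exact absurd rfl h9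
  all_goals norm_num

theorem hp4_three (h5 : b ^ 3 = 1) (i : ℕ) (hi : ¬ 3 ∣ i) : b ^ (i ^ 4) = b := by
  have e3 : b ^ (i ^ 4) = b ^ ((i ^ 4) % 3) := pow_eq_pow_mod _ h5
  rw [e3, Nat.pow_mod]
  have h8 : i % 3 < 3 := Nat.mod_lt _ (by norm_num)
  have h9 : i % 3 ≠ 0 := fun h => hi (Nat.dvd_of_mod_eq_zero h)
  generalize i % 3 = d at h8 h9
  interval_cases d
  · exact absurd rfl h9
  all_goals norm_num

/-- An element `b` when the square of the prime does not divide the order of the stabiliser. -/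
theorem conj_in_At_p [Finite G] (hC : CD M c p B b) (hp4 : ∀ i : ℕ, ¬ p ∣ i → b ^ (i ^ 4) = b) (hN : ¬ p ^ 2 ∣ Nat.card N)
    {r : G} {w : leechLattice} (hr : M.Rel w r) (hrb : r * b = b * r)
    (hn : sqNorm (w : V) = 64) {g₀ : G} (hg₀ : g₀ * z * g₀⁻¹ ∈ Qg) (hne₀ : g₀ * z * g₀⁻¹ ≠ z) :
    ∃ m ∈ AtB B, m * z * m⁻¹ = r := by
  refine conj_in_At_odd hC hp4 hr hrb hn hg₀ hne₀ ?_
  intro m₃ u hu e1 e2 hu3 hu1
  have hb7 : b ^ p = 1 := hC.pow
  have hu7 : u ^ p = 1 := by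
    rw [hu, conj_pow, hb7]
    group
  have hu_ne : u ≠ 1 := by
    intro h1
    apply hC.ne
    have : b = m₃⁻¹ * u * m₃ := by rw [hu]; group
    rw [this, h1]
    group
  let bh : ↥(EE z r) := ⟨b, mem_centralizer_singleton_iff.2 hC.bz, mem_centralizer_singleton_iff.2 hrb.symm⟩
  let uh : ↥(EE z r) := ⟨u, mem_centralizer_singleton_iff.2 hu3, mem_centralizer_singleton_iff.2 hu1⟩
  obtain ⟨e, i, hei⟩ := conj_of_not_sq (Γ := ↥(EE z r)) hC.prime (not_sq_E'_p hC.prime hC.odd hN M hr hn) (x := uh) (y := bh)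
    (Subtype.ext hu7) (fun h => hu_ne (congrArg Subtype.val h)) (Subtype.ext hb7) (fun h => hC.ne (congrArg Subtype.val h))
  exact ⟨e, i, mem_centralizer_singleton_iff.1 e.2.1, mem_centralizer_singleton_iff.1 e.2.2, congrArg Subtype.val hei⟩

/-- Choice of the element. -/
theorem exists_CD_p [Finite G] (hp : p.Prime) (hp2 : p ≠ 2) (hN : ¬ p ^ 2 ∣ Nat.card N) (hcN : c ∈ N) (hcp : c ^ p = 1)
    (hc1 : mkC c ≠ 1)
    (M : MModel z Qg) {s : G} (hR : M.Rel v8 s) (hs1 : s ≠ z) (hs11 : s ≠ 1) {B : Subgroup G}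
    (hB : B ≤ centralizer ({z, s} : Set G))
    (hBp : Nat.card B = p ^ (Nat.card ↥(centralizer ({z, s} : Set G))).factorization p) :
    ∃ (M' : MModel z Qg) (b : G), CD M' c p B b := by
  haveI : Fact p.Prime := ⟨hp⟩
  have hK := centralizer_pair z s
  have hpo : Odd p := hp.odd_of_ne_two hp2
  have hc1' : c ≠ 1 := by
    rintro rfl
    exact hc1 (map_one _)
  obtain ⟨h, hh, hhs⟩ := M.exists_conj hR (M.rel_of_cl hR (mem_N_iff_v8.1 hcN).symm) hs11 hs1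
  have hhc : (h : G) * s = s * h := by
    calc (h : G) * s = ((h : G) * s * (h : G)⁻¹) * h := by group
      _ = s * h := by rw [hhs]
  let ah : ↥(EE z s) := ⟨h, h.2, mem_centralizer_singleton_iff.2 hhc⟩
  have hfa : fEE M s ah = mkC c := hh.symm
  have hord : orderOf (mkC c) = p := orderOf_eq_prime (by rw [← map_pow, hcp, map_one]) hc1
  have h7 : p ∣ Nat.card ↥(EE z s) := by
    have h1 : orderOf (fEE M s ah) ∣ orderOf ah := orderOf_map_dvd _ _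
    rw [hfa, hord] at h1
    exact h1.trans (orderOf_dvd_natCard ah)
  have hns := not_sq_E_p hp hp2 hN M hR
  have hfac : (Nat.card ↥(EE z s)).factorization p = 1 := by
    have hpos : Nat.card ↥(EE z s) ≠ 0 := Nat.card_pos.ne'
    have h1 : 1 ≤ (Nat.card ↥(EE z s)).factorization p :=
      (Nat.Prime.pow_dvd_iff_le_factorization hp hpos).1 (by simpa using h7)
    have h2 : ¬ 2 ≤ (Nat.card ↥(EE z s)).factorization p :=
      fun h => hns ((Nat.Prime.pow_dvd_iff_le_factorization hp hpos).2 h)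
    omega
  rw [hK, hfac, pow_one] at hBp
  have hB' : B ≤ EE z s := hK ▸ hB
  have hgen : ∀ u ∈ B, u ≠ 1 → B = zpowers u ∧ u ^ p = 1 := by
    intro u hu hu1
    have hu7 : u ^ p = 1 := by
      have : (⟨u, hu⟩ : B) ^ p = 1 := by
        have e := pow_card_eq_one' (x := (⟨u, hu⟩ : B))
        rwa [hBp] at e
      exact congrArg Subtype.val this
    refine ⟨?_, hu7⟩
    have ho := orderOf_eq_prime (p := p) hu7 hu1
    symm
    apply Subgroup.eq_of_le_of_card_ge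
    · rwa [zpowers_le]
    · rw [Nat.card_zpowers, ho, hBp]
  obtain ⟨b, hbB, hb1⟩ : ∃ b ∈ B, b ≠ 1 := by
    rcases B.bot_or_exists_ne_one with h | h
    · rw [h] at hBp
      simp at hBp
      exact absurd hBp.symm hp.ne_one
    · exact h
  obtain ⟨-, hb7⟩ := hgen b hbB hb1
  have hbE := hB' hbB
  have hbz : b * z = z * b := mem_centralizer_singleton_iff.1 hbE.1
  have hbs : b * s = s * b := mem_centralizer_singleton_iff.1 hbE.2
  let bh : ↥(centralizer ({z} : Set G)) := ⟨b, hbE.1⟩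
  obtain ⟨g, hg⟩ := QuotientGroup.mk'_surjective (center Co0) (M.pi bh)
  have hg' : mkC g = M.pi bh := hg
  have hgN : g ∈ N := by
    rw [mem_N_iff_v8]
    have h1 := M.rel_act bh g hg' hR
    have e : (bh : G) * s * (bh : G)⁻¹ = s := by
      show b * s * b⁻¹ = s
      rw [hbs]
      group
    rw [e] at h1
    exact M.rel_inj h1 hR
  have hmk7 : mkC (g ^ p) = 1 := by
    rw [map_pow, hg', ← map_pow]
    have : bh ^ p = 1 := Subtype.ext hb7
    rw [this, map_one]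
  obtain ⟨g₁, hg1N, hg1, hg17⟩ : ∃ g₁ ∈ N, mkC g₁ = M.pi bh ∧ g₁ ^ p = 1 := by
    rcases (mkC_eq_one_iff _).1 hmk7 with h1 | h1
    · exact ⟨g, hgN, hg', h1⟩
    · refine ⟨negCo0 * g, ?_, ?_, ?_⟩
      · rw [mem_N_iff_v8, negCo0_mul_smul, Cfsg.Agent.Lib.Sporadic.LeechSeven.cl_neg', mem_N_iff_v8.1 hgN]
      · rw [map_mul, mkC_neg, one_mul, hg']
      · have hc : Commute negCo0 g := (Subgroup.mem_center_iff.1 negCo0_mem_center g).symm
        rw [hc.mul_pow, Cfsg.Agent.Lib.Sporadic.LeechCentFw.neg_pow_odd hpo, h1, Cfsg.Agent.Lib.Sporadic.LeechCentFw.neg_sq]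
  have hg1ne : g₁ ≠ 1 := by
    rintro rfl
    have h1 : M.pi bh = 1 := by rw [← hg1, map_one]
    obtain ⟨k, hk⟩ := CD.pi_ker_two M ⟨bh, h1⟩
    have h2 : b ^ (2 ^ k) = 1 := congrArg (fun y : ↥M.pi.ker => ((y : ↥(centralizer ({z} : Set G))) : G)) hk
    have h3 : orderOf b ∣ 2 ^ k := orderOf_dvd_of_pow_eq_one h2
    rw [orderOf_eq_prime (p := p) hb7 hb1] at h3
    have h4 := hp.dvd_of_dvd_pow h3
    exact hp2 ((Nat.prime_dvd_prime_iff_eq hp Nat.prime_two).1 h4)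
  obtain ⟨n, i, hnN, hni⟩ := sylow_N_p hp hN hcN hcp hc1' hg1N hg17 hg1ne
  have hbiz : b ^ i * z = z * b ^ i := ((show Commute b z from hbz).pow_left i).eq
  have hpi : (M.twist n⁻¹).pi ⟨b ^ i, mem_centralizer_singleton_iff.2 hbiz⟩ = mkC c := by
    show (MulAut.conj (mkC n⁻¹)⁻¹) (M.pi (bh ^ i)) = mkC c
    rw [map_pow, ← hg1, ← hni, MulAut.conj_apply]
    simp only [map_mul, map_inv, map_pow, inv_inv]
  have hbi1 : b ^ i ≠ 1 := by
    intro h1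
    have h2 : (⟨b ^ i, mem_centralizer_singleton_iff.2 hbiz⟩ : ↥(centralizer ({z} : Set G))) = 1 := Subtype.ext h1
    rw [h2, map_one] at hpi
    exact hc1 hpi.symm
  obtain ⟨hB1, hbi7⟩ := hgen (b ^ i) (pow_mem hbB i) hbi1
  exact ⟨M.twist n⁻¹, b ^ i,
    { prime := hp
      odd := hp2
      hB := hB1
      bz := hbiz
      pow := hbi7
      ne := hbi1
      cpow := hcp
      pi_b := hpi }⟩

end Cfsg.Agent.Lib.Sporadic.MonsterModel
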