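import Mathlib
import Cfsg.Agent.Lib.Sporadic.LeechFive
import Cfsg.Agent.Lib.Sporadic.MonsterOdd

/-!
# The centraliser of an element of order five in a group of Monster type
-/

set_option autoImplicit false

namespace Cfsg.Agent.Lib.Sporadic.MonsterModel

open Subgroup Cfsg Cfsg.Agent.Lib.Sporadic.GolayCore
  Cfsg.Agent.Lib.Sporadic.LeechNorm Cfsg.Agent.Lib.Sporadic.LeechFacts
  Cfsg.Agent.Lib.Sporadic.LeechAut Cfsg.Agent.Lib.Sporadic.LeechClasses
  Cfsg.Agent.Lib.Sporadic.LeechAct Cfsg.Agent.Lib.Sporadic.LeechMod2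
  Cfsg.Agent.Lib.Sporadic.LeechLocal Cfsg.Agent.Lib.Sporadic.LeechOrbits
  Cfsg.Agent.Lib.Sporadic.LeechKey
  Cfsg.Agent.Lib.Sporadic.LeechFive
  Cfsg.Agent.Lib.Sporadic.LeechCentFw

theorem not_25_dvd_N : ¬ 5 ^ 2 ∣ Nat.card N := by
  rw [card_N]
  norm_num

variable {G : Type*} [Group G] {z : G} {Qg : Subgroup G}

/-- Classes of norm `64` are not zero. -/
theorem cl_ne_zero_of_norm {v : leechLattice} (hn : sqNorm (v : V) = 64) : cl v ≠ cl 0 := by
  intro h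
  have hne0 : v ≠ 0 := by
    rintro rfl
    simp [sqNorm] at hn
  rcases short_cong v 0 hne0 (by omega) (by simp [sqNorm]) h with h2 | h2
  · apply hne0
    rw [h2]
    simp
  · simp [sqNorm] at h2

/-- The theorem. -/
theorem hn_of_rel [Finite G] (M : MModel z Qg) {s g₀ : G} (hR : M.Rel v8 s) (hs1 : s ≠ z) (hs11 : s ≠ 1) {B : Subgroup G}
    (hB : B ≤ centralizer ({z, s} : Set G))
    (hBp : Nat.card B = 5 ^ (Nat.card ↥(centralizer ({z, s} : Set G))).factorization 5)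
    [(TtB B).Normal] (hg₀ : g₀ * z * g₀⁻¹ ∈ Qg) (hne₀ : g₀ * z * g₀⁻¹ ≠ z) : IsOfHaradaNortonType (BtB B) := by
  obtain ⟨M', b, hC⟩ := exists_CD_p (p := 5) (by norm_num) (by norm_num) not_25_dvd_N c5_mem c5_pow mkC_c5_ne M hR hs1 hs11 hB hBp
  let i : Fin 256 := ⟨181, by norm_num⟩
  let r := hC.lft hnData i
  have hr : M'.Rel (hnData.reps i) r := hC.lft_rel hnData i
  have hnr : sqNorm (hnData.reps i : V) = 64 := tab.T_norm ⟨0, by norm_num⟩
  obtain ⟨m, hm, e⟩ := conj_in_At_p hC (hp4_five hC.pow) not_25_dvd_N hr (hC.mem_At.1 r.2.2) hnr hg₀ hne₀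
  have hQ : m * z * m⁻¹ ∈ Qg := by
    rw [e]
    exact r.2.1
  have hne : m * z * m⁻¹ ≠ z := by
    rw [e]
    intro h
    have h1 := hr
    rw [h] at h1
    exact cl_ne_zero_of_norm hnr ((M'.rel_two h1).1 (Or.inr rfl))
  exact ⟨hC.zb, hC.Qb hnData, inferInstance, hC.setting hnData (by norm_num) no_normal_two (w := 4) (by norm_num) hm hQ hne,
    ⟨hC.eB hnData⟩⟩

end Cfsg.Agent.Lib.Sporadic.MonsterModel
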