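import Mathlib
import Cfsg.Agent.Lib.Sporadic.MonsterInst

/-!
# `Q` is of plus type
-/

set_option autoImplicit false

namespace Cfsg.Agent.Lib.Sporadic.MonsterModel

open Subgroup Cfsg Cfsg.Agent.Lib.PGroup.LargeExtraspecial
  Cfsg.Agent.Lib.Sporadic.GolayCore
  Cfsg.Agent.Lib.Sporadic.LeechNorm Cfsg.Agent.Lib.Sporadic.LeechFacts
  Cfsg.Agent.Lib.Sporadic.LeechAut Cfsg.Agent.Lib.Sporadic.LeechClasses
  Cfsg.Agent.Lib.Sporadic.LeechAct Cfsg.Agent.Lib.Sporadic.LeechMod2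
  Cfsg.Agent.Lib.Sporadic.LeechLocal Cfsg.Agent.Lib.Sporadic.LeechMat

/-! ### Explicit vectors -/

def fL : List (List ℤ) := [
  [8,0,0,0,0,0,0,0,0,0,0,0,0,0,0,0,0,0,0,0,0,0,0,0],
  [4,4,0,0,0,0,0,0,0,0,0,0,0,0,0,0,0,0,0,0,0,0,0,0],
  [4,0,4,0,0,0,0,0,0,0,0,0,0,0,0,0,0,0,0,0,0,0,0,0],
  [4,0,0,4,0,0,0,0,0,0,0,0,0,0,0,0,0,0,0,0,0,0,0,0],
  [4,0,0,0,4,0,0,0,0,0,0,0,0,0,0,0,0,0,0,0,0,0,0,0],
  [4,0,0,0,0,4,0,0,0,0,0,0,0,0,0,0,0,0,0,0,0,0,0,0],
  [4,0,0,0,0,0,4,0,0,0,0,0,0,0,0,0,0,0,0,0,0,0,0,0],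
  [4,0,0,0,0,0,0,4,0,0,0,0,0,0,0,0,0,0,0,0,0,0,0,0],
  [4,0,0,0,0,0,0,0,4,0,0,0,0,0,0,0,0,0,0,0,0,0,0,0],
  [4,0,0,0,0,0,0,0,0,4,0,0,0,0,0,0,0,0,0,0,0,0,0,0],
  [4,0,0,0,0,0,0,0,0,0,4,0,0,0,0,0,0,0,0,0,0,0,0,0],
  [4,0,0,0,0,0,0,0,0,0,0,4,0,0,0,0,0,0,0,0,0,0,0,0]]

def gL : List (List ℤ) := [
  [7,5,5,5,9,9,9,5,5,13,9,9,-1,1,3,1,3,3,-1,1,1,1,3,3],
  [6,0,6,6,6,10,6,6,6,6,6,6,0,0,0,0,0,2,2,0,2,2,0,2],
  [6,6,0,6,6,6,6,6,6,10,6,6,0,0,2,0,2,2,0,2,0,2,0,0],
  [6,6,6,0,6,6,6,6,6,6,10,6,0,0,2,2,2,0,0,0,2,0,0,2],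
  [6,6,6,6,0,6,10,6,6,6,6,6,0,0,2,2,0,0,2,0,0,2,2,0],
  [8,4,8,8,8,14,8,8,8,8,8,8,0,2,2,0,0,2,2,0,2,2,0,2],
  [8,8,8,8,4,8,14,8,8,8,8,8,0,0,2,2,0,0,2,2,0,2,2,2],
  [6,6,6,6,6,6,6,0,6,6,6,10,0,2,0,0,2,0,0,0,0,2,2,2],
  [4,8,8,8,8,8,8,8,14,8,8,8,0,2,0,2,2,0,2,2,2,2,0,0],
  [8,8,4,8,8,8,8,8,8,14,8,8,0,0,2,0,2,2,0,2,2,2,2,0],
  [6,6,6,10,6,6,6,6,6,6,0,6,0,2,0,0,0,2,2,2,0,0,2,0],
  [8,8,8,8,8,8,8,4,8,8,8,14,0,2,0,2,2,2,0,0,0,2,2,2]]

/-- The inner product of two lists. -/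
def dotLp (a b : List ℤ) : ℤ := ((List.range 24).map fun n => a.getD n 0 * b.getD n 0).sum

theorem dotInt_vecOf' (a b : List ℤ) : dotInt (vecOf a) (vecOf b) = dotLp a b :=
  sum_golayPt (fun n => a.getD n 0 * b.getD n 0)

theorem fL_ok : ∀ i : Fin 12, inLattice (fL.getD i []) = true := by decide +kernel

theorem gL_ok : ∀ i : Fin 12, inLattice (gL.getD i []) = true := by decide +kernel

theorem fg_ok : ∀ i j : Fin 12, dotLp (fL.getD i []) (gL.getD j []) % 16 = if i = j then 8 else 0 := by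
  decide +kernel

theorem f4_ok : ∀ (i : Fin 12) (k : GolayPt), vecOf (fL.getD i []) k % 4 = 0 := by
  decide +kernel

noncomputable def fE (i : Fin 12) : leechLattice := ⟨vecOf (fL.getD i []), inLattice_sound (fL_ok i)⟩

noncomputable def gE (i : Fin 12) : leechLattice := ⟨vecOf (gL.getD i []), inLattice_sound (gL_ok i)⟩

/-- Vectors with coordinates divisible by `4`. -/
def L4 : AddSubgroup leechLattice where
  carrier := {v | ∀ k, (4 : ℤ) ∣ (v : V) k}
  zero_mem' := fun k => by simp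
  add_mem' := fun ha hb k => dvd_add (ha k) (hb k)
  neg_mem' := fun ha k => (dvd_neg).2 (ha k)

theorem mem_L4 {v : leechLattice} : v ∈ L4 ↔ ∀ k, (4 : ℤ) ∣ (v : V) k := Iff.rfl

theorem fE_mem (i : Fin 12) : fE i ∈ L4 := fun k => Int.dvd_of_emod_eq_zero (f4_ok i k)

theorem eight_dvd_dot {x y : V} (hx : x ∈ leechLattice) (hy : y ∈ leechLattice) : (8 : ℤ) ∣ dotInt x y := by
  have h1 := sixteen_dvd _ hx
  have h2 := sixteen_dvd _ hy
  have h3 := sixteen_dvd _ (leechLattice.add_mem hx hy)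
  rw [sqNorm_add] at h3
  omega

theorem sum_dvd_of_mem {v : leechLattice} (hv : v ∈ L4) : (8 : ℤ) ∣ ∑ k, (v : V) k := by
  have h1 := eight_dvd_dot v.2 Cfsg.Agent.Lib.Sporadic.LeechMonomial.v0_mem
  have h2 : dotInt (v : V) Cfsg.Agent.Lib.Sporadic.LeechMonomial.v0 = (∑ k, (v : V) k) - 4 * (v : V) none := by
    unfold dotInt Cfsg.Agent.Lib.Sporadic.LeechMonomial.v0
    have : ∀ k, (v : V) k * (if k = none then (-3 : ℤ) else 1) = (v : V) k - (if k = none then 4 * (v : V) none else 0) := by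
      intro k
      by_cases h : k = none
      · subst h
        simp
        ring
      · simp [h]
    simp only [this]
    rw [Finset.sum_sub_distrib]
    simp
  rw [h2] at h1
  obtain ⟨a, ha⟩ := hv none
  rw [ha] at h1
  omega

theorem norm_L4 {v : leechLattice} (hv : v ∈ L4) : ((sqNorm (v : V) / 16 : ℤ) : ZMod 2) = 0 := by
  obtain ⟨c, hc⟩ := thirtytwo_dvd_of_four_dvd (v : V) hv (sum_dvd_of_mem hv)
  have : sqNorm (v : V) / 16 = 2 * c := by
    rw [hc]
    omega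
  rw [this]
  push_cast
  have h2 : (2 : ZMod 2) = 0 := by decide
  rw [h2, zero_mul]

/-- The combination of the vectors `f`. -/
noncomputable def vb (b : Fin 12 → Bool) : leechLattice := ∑ i, if b i then fE i else 0

theorem vb_mem (b : Fin 12 → Bool) : vb b ∈ L4 := by
  apply sum_mem
  intro i _
  split_ifs
  · exact fE_mem i
  · exact zero_mem _

/-- Inner product with a vector, as a homomorphism. -/
def dotHom (g : V) : leechLattice →+ ℤ where
  toFun v := dotInt (v : V) g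
  map_zero' := by simp [dotInt]
  map_add' := by
    intro a b
    simp only [AddSubgroup.coe_add, dotInt_add_left]

theorem dotHom_apply (g : V) (v : leechLattice) : dotHom g v = dotInt (v : V) g := rfl

theorem cl_dot {v w : leechLattice} (h : cl v = cl w) (g : leechLattice) :
    (16 : ℤ) ∣ dotInt (v : V) (g : V) - dotInt (w : V) (g : V) := by
  obtain ⟨u, hu, e⟩ := (cl_eq_iff v w).1 h
  have e1 : (v : V) = (w : V) + (u + u) := by
    have : (v : V) = w + 2 • u := by rw [← e]; abel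
    rw [this, two_nsmul]
  rw [e1, dotInt_add_left, dotInt_add_left]
  obtain ⟨c, hc⟩ := eight_dvd_dot hu g.2
  rw [hc]
  exact ⟨c, by ring⟩

theorem vb_inj {b b' : Fin 12 → Bool} (h : cl (vb b) = cl (vb b')) : b = b' := by
  funext j
  have h1 := cl_dot h (gE j)
  have h2 : ∀ c : Fin 12 → Bool, dotInt (vb c : V) (gE j : V) =
      ∑ i, if c i then dotInt (fE i : V) (gE j : V) else 0 := by
    intro c
    rw [← dotHom_apply, vb, map_sum]
    apply Finset.sum_congr rfl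
    intro i _
    split_ifs
    · rfl
    · simp
  rw [h2, h2, ← Finset.sum_sub_distrib] at h1
  have h3 : ∀ i, dotInt (fE i : V) (gE j : V) % 16 = if i = j then 8 else 0 := by
    intro i
    have := fg_ok i j
    rwa [← dotInt_vecOf'] at this
  have h4 : (16 : ℤ) ∣ (if b j then (8 : ℤ) else 0) - (if b' j then 8 else 0) := by
    have h5 : ∀ i, (16 : ℤ) ∣ ((if b i then dotInt (fE i : V) (gE j : V) else 0) -
        (if b' i then dotInt (fE i : V) (gE j : V) else 0)) -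
        (if i = j then (if b j then (8 : ℤ) else 0) - (if b' j then 8 else 0) else 0) := by
      intro i
      have h6 := h3 i
      by_cases hij : i = j
      · subst hij
        rw [if_pos rfl] at h6
        rw [if_pos rfl]
        cases b i <;> cases b' i <;> simp <;> omega
      · rw [if_neg hij] at h6
        rw [if_neg hij]
        cases b i <;> cases b' i <;> simp <;> omega
    have h7 := Finset.dvd_sum (fun i (_ : i ∈ Finset.univ) => h5 i)
    rw [Finset.sum_sub_distrib, Finset.sum_ite_eq' Finset.univ j] at h7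
    simp only [Finset.mem_univ, if_true] at h7
    omega
  cases hb : b j <;> cases hb' : b' j <;> simp [hb, hb'] at h4 ⊢ <;> omega

namespace MModel

variable {G : Type*} [Group G] {z : G} {Qg : Subgroup G} (M : MModel z Qg)

/-- The elementary abelian subgroup attached to `L4`. -/
def EL : Subgroup G where
  carrier := {x | ∃ v ∈ L4, M.Rel v x}
  one_mem' := by
    obtain ⟨y, hy⟩ := M.rel_exists 0
    refine ⟨0, zero_mem _, ?_⟩
    rcases (M.rel_two hy).2 rfl with rfl | rfl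
    · exact hy
    · have := M.rel_z hy
      rwa [M.L.z_sq] at this
  mul_mem' := by
    rintro x y ⟨v, hv, hx⟩ ⟨w, hw, hy⟩
    exact ⟨v + w, add_mem hv hw, M.rel_add hx hy⟩
  inv_mem' := by
    rintro x ⟨v, hv, hx⟩
    have h1 : x * x = 1 := (M.sq_iff hx).2 (norm_L4 hv)
    rw [inv_eq_of_mul_eq_one_left h1]
    exact ⟨v, hv, hx⟩

theorem EL_sq {x : G} (hx : x ∈ M.EL) : x * x = 1 := by
  obtain ⟨v, hv, h⟩ := hx
  exact (M.sq_iff h).2 (norm_L4 hv)

theorem EL_le : M.EL ≤ Qg := by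
  rintro x ⟨v, -, h⟩
  exact M.rel_mem h

theorem EL_comm {x y : G} (hx : x ∈ M.EL) (hy : y ∈ M.EL) : x * y = y * x := by
  have h1 := M.EL_sq (mul_mem hx hy)
  have h4 : x⁻¹ = x := inv_eq_of_mul_eq_one_left (M.EL_sq hx)
  have h5 : y⁻¹ = y := inv_eq_of_mul_eq_one_left (M.EL_sq hy)
  have h6 : (x * y)⁻¹ = x * y := inv_eq_of_mul_eq_one_left h1
  rw [mul_inv_rev, h4, h5] at h6
  exact h6.symm

theorem card_EL : Nat.card M.EL = 2 ^ 13 := by
  apply le_antisymm (M.card_le_of_comm _ M.EL_le (fun a ha b hb => M.EL_comm ha hb))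
  haveI hfin : Finite Qg := Nat.finite_of_card_ne_zero (by rw [M.card_Q]; norm_num)
  haveI : Finite M.EL := Finite.of_injective _ (Subgroup.inclusion_injective M.EL_le)
  choose x hx using fun b : Fin 12 → Bool => M.rel_exists (vb b)
  have hzE : z ∈ M.EL := by
    obtain ⟨y, hy⟩ := M.rel_exists 0
    refine ⟨0, zero_mem _, ?_⟩
    rcases (M.rel_two hy).2 rfl with rfl | rfl
    · have := M.rel_z hy
      rwa [mul_one] at this
    · exact hy
  have hxE : ∀ b, x b ∈ M.EL := fun b => ⟨vb b, vb_mem b, hx b⟩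
  let f : (Fin 12 → Bool) × Bool → M.EL := fun p =>
    if p.2 then ⟨z * x p.1, mul_mem hzE (hxE p.1)⟩ else ⟨x p.1, hxE p.1⟩
  have hf : Function.Injective f := by
    rintro ⟨b, e⟩ ⟨b', e'⟩ h
    have h1 : (if e then z * x b else x b) = (if e' then z * x b' else x b') := by
      have := congrArg Subtype.val h
      simp only [f] at this
      split_ifs at this ⊢ <;> exact this
    have hb : b = b' := by
      apply vb_inj
      have hr1 : M.Rel (vb b) (if e then z * x b else x b) := by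
        split_ifs
        · exact M.rel_z (hx b)
        · exact hx b
      have hr2 : M.Rel (vb b') (if e' then z * x b' else x b') := by
        split_ifs
        · exact M.rel_z (hx b')
        · exact hx b'
      rw [← h1] at hr2
      exact M.rel_inj hr1 hr2
    subst hb
    have he : e = e' := by
      cases e <;> cases e' <;> simp at h1 ⊢
      · apply M.L.z_ne
        have := congrArg (fun t => t * (x b)⁻¹) h1
        simpa using this.symm
      · apply M.L.z_ne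
        have := congrArg (fun t => t * (x b)⁻¹) h1
        simpa using this
    rw [he]
  have h1 := Nat.card_le_card_of_injective f hf
  have h3 : Nat.card ((Fin 12 → Bool) × Bool) = 2 ^ 13 := by
    rw [Nat.card_eq_fintype_card, Fintype.card_prod, Fintype.card_fun]
    simp
  rwa [h3] at h1

end MModel

end Cfsg.Agent.Lib.Sporadic.MonsterModel
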