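import Mathlib
import Cfsg.Agent.Lib.Sporadic.MonsterOdd
import Cfsg.Agent.Lib.Sporadic.M24Three

/-!
# Elements of order three in a group of Monster type
-/

set_option autoImplicit false

namespace Cfsg.Agent.Lib.Sporadic.MonsterModel

open Subgroup Cfsg Cfsg.Agent.Lib.PGroup.LargeExtraspecial
  Cfsg.Agent.Lib.PGroup.LargeFz
  Cfsg.Agent.Lib.Sporadic.GolayCore
  Cfsg.Agent.Lib.Sporadic.LeechNorm Cfsg.Agent.Lib.Sporadic.LeechFacts
  Cfsg.Agent.Lib.Sporadic.LeechAut Cfsg.Agent.Lib.Sporadic.LeechClasses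
  Cfsg.Agent.Lib.Sporadic.LeechAct Cfsg.Agent.Lib.Sporadic.LeechMod2
  Cfsg.Agent.Lib.Sporadic.LeechLocal Cfsg.Agent.Lib.Sporadic.LeechOrbits
  Cfsg.Agent.Lib.Sporadic.LeechKey
  Cfsg.Agent.Lib.Sporadic.LeechMat Cfsg.Agent.Lib.Sporadic.LeechMonomial
  Cfsg.Agent.Lib.Sporadic.M24Three

section general

variable {Γ Δ : Type*} [Group Γ] [Group Δ] [Finite Γ]

theorem not_sq_of_ker (f : Γ →* Δ) (hk : IsPGroup 2 f.ker) {p : ℕ} (hp : p.Prime) (hp2 : p ≠ 2)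
    (hr : ¬ p ^ 2 ∣ Nat.card f.range) : ¬ p ^ 2 ∣ Nat.card Γ := by
  intro h
  have h2 := Subgroup.card_mul_index f.ker
  rw [Subgroup.index_ker] at h2
  obtain ⟨k, hk'⟩ := IsPGroup.iff_card.1 hk
  rw [hk'] at h2
  rw [← h2] at h
  have hc : Nat.Coprime (p ^ 2) (2 ^ k) := by
    apply Nat.Coprime.pow
    exact (Nat.coprime_primes hp Nat.prime_two).2 hp2
  exact hr (hc.dvd_of_dvd_mul_left h)

omit [Finite Γ] in
theorem eq_one_of_two_three (c : Γ) {a b : ℕ} (h1 : c ^ (2 ^ a) = 1) (h2 : c ^ (3 ^ b) = 1) : c = 1 := by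
  have hg : Nat.gcd (2 ^ a) (3 ^ b) = 1 := Nat.Coprime.pow a b (by norm_num)
  have h3 := pow_gcd_eq_one.2 ⟨h1, h2⟩
  rw [hg, pow_one] at h3
  exact h3

theorem fact_two_mul (k m : ℕ) (hm : m ≠ 0) : (2 ^ k * m).factorization 3 = m.factorization 3 := by
  rw [Nat.factorization_mul (by positivity) hm, Finsupp.add_apply, Nat.factorization_eq_zero_of_not_dvd, zero_add]
  intro h
  have := Nat.Prime.dvd_of_dvd_pow (by norm_num) h
  omega

theorem fact_27 : (27 : ℕ).factorization 3 = 3 := by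
  have hp : Nat.Prime 3 := by norm_num
  have h0 : (27 : ℕ) ≠ 0 := by norm_num
  apply le_antisymm
  · by_contra h
    have h1 : 4 ≤ (27 : ℕ).factorization 3 := by omega
    have h2 := (Nat.Prime.pow_dvd_iff_le_factorization hp h0).2 h1
    norm_num at h2
  · exact (Nat.Prime.pow_dvd_iff_le_factorization hp h0).1 (by norm_num)

theorem central_lift (f : Γ →* Δ) (hk : IsPGroup 2 f.ker) (T : Subgroup Δ) (hT : T ≤ f.range) (hc : Nat.card T = 27)
    {y : Γ} (hy : y ^ 3 = 1) (hfy : f y ∈ T) (hcent : ∀ x ∈ T, x * f y = f y * x) :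
    ∃ P : Subgroup Γ, Nat.card P = 27 ∧ y ∈ P ∧ ∀ x ∈ P, x * y = y * x := by
  haveI : Fact (Nat.Prime 3) := ⟨by norm_num⟩
  set T₁ : Subgroup Γ := T.comap f with hT₁
  let y₁ : T₁ := ⟨y, hfy⟩
  have hy₁ : y₁ ^ 3 = 1 := Subtype.ext hy
  have hpg : IsPGroup 3 (zpowers y₁) := by
    rintro ⟨g, hg⟩
    obtain ⟨n, rfl⟩ := mem_zpowers_iff.1 hg
    refine ⟨1, Subtype.ext ?_⟩
    show (y₁ ^ n) ^ (3 ^ 1) = 1
    rw [pow_one, ← zpow_natCast, ← zpow_mul, mul_comm, zpow_mul, zpow_natCast, hy₁, one_zpow]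
  obtain ⟨Q₁, hQ₁⟩ := hpg.exists_le_sylow
  let f₁ : T₁ →* Δ := f.comp T₁.subtype
  have hk₁ : IsPGroup 2 f₁.ker := by
    rintro ⟨a, ha⟩
    obtain ⟨k, hk'⟩ := hk ⟨a.1, ha⟩
    have h9 : (a : Γ) ^ (2 ^ k) = 1 := congrArg Subtype.val hk'
    exact ⟨k, Subtype.ext (Subtype.ext h9)⟩
  have hr₁ : f₁.range = T := by
    ext x
    constructor
    · rintro ⟨a, rfl⟩
      exact a.2
    · intro hx
      obtain ⟨a, rfl⟩ := hT hx
      exact ⟨⟨a, hx⟩, rfl⟩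
  have hcard : ∃ k, Nat.card T₁ = 2 ^ k * 27 := by
    have h2 := Subgroup.card_mul_index f₁.ker
    rw [Subgroup.index_ker, hr₁, hc] at h2
    obtain ⟨k, hk'⟩ := IsPGroup.iff_card.1 hk₁
    rw [hk'] at h2
    exact ⟨k, h2.symm⟩
  obtain ⟨k, hck⟩ := hcard
  have hQc : Nat.card Q₁ = 27 := by
    rw [Sylow.card_eq_multiplicity, hck, fact_two_mul k 27 (by norm_num), fact_27]
    norm_num
  refine ⟨(Q₁ : Subgroup T₁).map T₁.subtype, ?_, ⟨y₁, hQ₁ (mem_zpowers y₁), rfl⟩, ?_⟩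
  · rw [Subgroup.card_map_of_injective T₁.subtype_injective]
    exact hQc
  · rintro _ ⟨x₁, hx₁, rfl⟩
    have hx₁' : x₁ ∈ (Q₁ : Subgroup T₁) := hx₁
    have hy₁' : y₁ ∈ (Q₁ : Subgroup T₁) := hQ₁ (mem_zpowers y₁)
    set c : T₁ := x₁ * y₁ * x₁⁻¹ * y₁⁻¹ with hc'
    have hcQ : c ∈ (Q₁ : Subgroup T₁) := mul_mem (mul_mem (mul_mem hx₁' hy₁') (inv_mem hx₁')) (inv_mem hy₁')
    have hcK : c ∈ f₁.ker := by
      rw [MonoidHom.mem_ker, hc']
      have h1 : f₁ x₁ * f₁ y₁ = f₁ y₁ * f₁ x₁ := hcent _ x₁.2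
      simp only [map_mul, map_inv]
      rw [h1]
      group
    obtain ⟨a, ha⟩ := hk₁ ⟨c, hcK⟩
    obtain ⟨b, hb⟩ := Q₁.2 ⟨c, hcQ⟩
    have hc1 : c = 1 := eq_one_of_two_three c (congrArg Subtype.val ha) (congrArg Subtype.val hb)
    have h2 : x₁ * y₁ = y₁ * x₁ := by
      rw [hc'] at hc1
      have h3 : x₁ * y₁ * x₁⁻¹ = y₁ := by
        have := mul_eq_one_iff_eq_inv.1 hc1
        rwa [inv_inv] at this
      have h4 := mul_inv_eq_iff_eq_mul.1 h3
      exact h4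
    exact congrArg Subtype.val h2

end general

variable {G : Type*} [Group G] {z : G} {Qg : Subgroup G}

/-- The relation between elements centralising `z` and `x`, and permutations. -/
def PR (M : MModel z Qg) (x : G) (a : ↥(EE z x)) (τ : Equiv.Perm GolayPt) : Prop :=
  ∃ g : Co0, mkC g = fEE M x a ∧ Monom g τ

theorem monom_unique_of_mkC {g g' : Co0} {σ τ : Equiv.Perm GolayPt} (h : mkC g = mkC g') (h1 : Monom g σ) (h2 : Monom g' τ) :
    σ = τ := by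
  have e : mkC (g' * g⁻¹) = 1 := by
    rw [map_mul, map_inv, h]
    group
  rcases (mkC_eq_one_iff _).1 e with h3 | h3
  · have : g' = g := by
      have := mul_inv_eq_one.1 h3
      exact this
    rw [this] at h2
    exact h1.unique h2
  · have : g' = negCo0 * g := by
      have := mul_inv_eq_iff_eq_mul.1 h3
      exact this
    rw [this] at h2
    exact (monom_neg_mul h1).unique h2

theorem PR.unique {M : MModel z Qg} {x : G} {a : ↥(EE z x)} {σ τ : Equiv.Perm GolayPt} (h1 : PR M x a σ) (h2 : PR M x a τ) :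
    σ = τ := by
  obtain ⟨g, hg, hm⟩ := h1
  obtain ⟨g', hg', hm'⟩ := h2
  exact monom_unique_of_mkC (hg.trans hg'.symm) hm hm'

theorem PR.mul {M : MModel z Qg} {x : G} {a b : ↥(EE z x)} {σ τ : Equiv.Perm GolayPt} (h1 : PR M x a σ) (h2 : PR M x b τ) :
    PR M x (a * b) (σ * τ) := by
  obtain ⟨g, hg, hm⟩ := h1
  obtain ⟨g', hg', hm'⟩ := h2
  exact ⟨g * g', by rw [map_mul, hg, hg', map_mul], hm.mul hm'⟩

theorem mem_N_of_fEE (M : MModel z Qg) {x : G} (hx : M.Rel v8 x) (a : ↥(EE z x)) {g : Co0} (hg' : mkC g = fEE M x a) : g ∈ N := by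
  rw [mem_N_iff_v8]
  have h1 := M.rel_act ⟨a, a.2.1⟩ g hg' hx
  have h2 : (a : G) * x * (a : G)⁻¹ = x := by
    rw [mem_centralizer_singleton_iff.1 a.2.2]
    group
  have h3 : M.Rel (g • v8) x := by
    have e : ((⟨a, a.2.1⟩ : ↥(centralizer ({z} : Set G))) : G) * x * ((⟨a, a.2.1⟩ : ↥(centralizer ({z} : Set G))) : G)⁻¹ = x := h2
    rw [e] at h1
    exact h1
  exact M.rel_inj h3 hx

theorem PR_exists (M : MModel z Qg) {x : G} (hx : M.Rel v8 x) (a : ↥(EE z x)) : ∃ τ, τ ∈ M24 ∧ PR M x a τ := by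
  obtain ⟨g, hg⟩ := QuotientGroup.mk'_surjective (center Co0) (fEE M x a)
  have hg' : mkC g = fEE M x a := hg
  have hgN := mem_N_of_fEE M hx a hg'
  obtain ⟨σ, c, rfl⟩ := exists_form hgN
  exact ⟨σ.1, σ.2, _, hg', monom_monoElt σ c⟩

/-- The permutation attached to an element centralising `z` and `x`. -/
noncomputable def psiE (M : MModel z Qg) {x : G} (hx : M.Rel v8 x) : ↥(EE z x) →* Equiv.Perm GolayPt :=
  MonoidHom.mk' (fun a => (PR_exists M hx a).choose) (by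
    intro a b
    exact ((PR_exists M hx (a * b)).choose_spec.2).unique
      (((PR_exists M hx a).choose_spec.2).mul ((PR_exists M hx b).choose_spec.2)))

theorem psiE_spec (M : MModel z Qg) {x : G} (hx : M.Rel v8 x) (a : ↥(EE z x)) : PR M x a (psiE M hx a) :=
  (PR_exists M hx a).choose_spec.2

theorem psiE_mem (M : MModel z Qg) {x : G} (hx : M.Rel v8 x) (a : ↥(EE z x)) : psiE M hx a ∈ M24 :=
  (PR_exists M hx a).choose_spec.1

theorem psiE_eq (M : MModel z Qg) {x : G} (hx : M.Rel v8 x) {a : ↥(EE z x)} {τ : Equiv.Perm GolayPt} (h : PR M x a τ) :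
    psiE M hx a = τ :=
  (psiE_spec M hx a).unique h

theorem psiE_surj (M : MModel z Qg) {x : G} (hx : M.Rel v8 x) (hs1 : x ≠ z) (hs11 : x ≠ 1) {τ : Equiv.Perm GolayPt} (hτ : τ ∈ M24) :
    ∃ a, psiE M hx a = τ := by
  have hcN : permCo0 τ hτ ∈ N := monom_mem_N (monom_perm ⟨τ, hτ⟩)
  obtain ⟨h, hh, hhs⟩ := M.exists_conj hx (M.rel_of_cl hx (mem_N_iff_v8.1 hcN).symm) hs11 hs1
  have hhc : (h : G) * x = x * h := by
    calc (h : G) * x = ((h : G) * x * (h : G)⁻¹) * h := by group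
      _ = x * h := by rw [hhs]
  exact ⟨⟨h, h.2, mem_centralizer_singleton_iff.2 hhc⟩, psiE_eq M hx ⟨_, hh, monom_perm ⟨τ, hτ⟩⟩⟩

theorem psiE_ker (M : MModel z Qg) {x : G} (hx : M.Rel v8 x) : IsPGroup 2 (psiE M hx).ker := by
  rintro ⟨a, ha⟩
  obtain ⟨g, hg, hm⟩ := psiE_spec M hx a
  have ha' : psiE M hx a = 1 := ha
  rw [ha'] at hm
  have h1 : g * g = 1 := signSub_mul_self hm
  have h2 : a * a ∈ (fEE M x).ker := by
    rw [MonoidHom.mem_ker, map_mul, ← hg, ← map_mul, h1, map_one]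
  obtain ⟨k, hk⟩ := fEE_ker_two M x ⟨a * a, h2⟩
  have h3 : (a * a) ^ (2 ^ k) = 1 := congrArg Subtype.val hk
  refine ⟨k + 1, Subtype.ext ?_⟩
  show a ^ (2 ^ (k + 1)) = 1
  rw [pow_succ', pow_mul, pow_two]
  exact h3

theorem psiE_range (M : MModel z Qg) {x : G} (hx : M.Rel v8 x) (hs1 : x ≠ z) (hs11 : x ≠ 1) : (psiE M hx).range = M24 := by
  ext τ
  constructor
  · rintro ⟨a, rfl⟩
    exact psiE_mem M hx a
  · intro hτ
    exact psiE_surj M hx hs1 hs11 hτ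

theorem fact_E [Finite G] (M : MModel z Qg) {x : G} (hx : M.Rel v8 x) (hs1 : x ≠ z) (hs11 : x ≠ 1) :
    (Nat.card ↥(EE z x)).factorization 3 = 3 := by
  have h2 := Subgroup.card_mul_index (psiE M hx).ker
  rw [Subgroup.index_ker, psiE_range M hx hs1 hs11, Cfsg.Agent.Lib.Sporadic.M24Basic.card_M24] at h2
  obtain ⟨k, hk'⟩ := IsPGroup.iff_card.1 (psiE_ker M hx)
  rw [hk'] at h2
  rw [← h2, fact_two_mul k _ (by norm_num), fact_three]

/-- `y` is central in a subgroup of order `27` of the centraliser of `z` and `x`. -/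
def Cent27 (z x y : G) : Prop :=
  ∃ P : Subgroup G, P ≤ EE z x ∧ Nat.card P = 27 ∧ y ∈ P ∧ ∀ w ∈ P, w * y = y * w

theorem dich [Finite G] (M : MModel z Qg) {x : G} (hx : M.Rel v8 x) (hs1 : x ≠ z) (hs11 : x ≠ 1) (a : ↥(EE z x))
    (h3 : a ^ 3 = 1) (h1 : a ≠ 1) : Cent27 z x (a : G) ∨ ∃ w ∈ M24, w * psiE M hx a * w⁻¹ = S3 := by
  have hτ1 : psiE M hx a ≠ 1 := by
    intro h
    obtain ⟨k, hk⟩ := psiE_ker M hx ⟨a, h⟩
    exact h1 (eq_one_of_two_three a (b := 1) (congrArg Subtype.val hk) (by simpa using h3))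
  have hτ3 : psiE M hx a ^ 3 = 1 := by rw [← map_pow, h3, map_one]
  rcases lemmaA _ (psiE_mem M hx a) hτ3 hτ1 with ⟨T, hTM, hc, hm, hcent⟩ | h
  · left
    obtain ⟨P, h4, h5, h6⟩ := central_lift (psiE M hx) (psiE_ker M hx) T (by rw [psiE_range M hx hs1 hs11]; exact hTM) hc h3 hm hcent
    refine ⟨P.map (EE z x).subtype, ?_, ?_, ⟨a, h5, rfl⟩, ?_⟩
    · exact map_subtype_le P
    · rw [Subgroup.card_map_of_injective (EE z x).subtype_injective]
      exact h4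
    · rintro _ ⟨w, hw, rfl⟩
      exact congrArg Subtype.val (h6 w hw)
  · exact Or.inr h

theorem no_cent27 [Finite G] (M : MModel z Qg) {x : G} (hx : M.Rel v8 x) (hs1 : x ≠ z) (hs11 : x ≠ 1) {Y : Subgroup G}
    (hnc : ∀ P : Sylow 3 ↥(EE z x), ¬ Y.subgroupOf (EE z x) ≤ (Subgroup.center ↥(P : Subgroup ↥(EE z x))).map (P : Subgroup ↥(EE z x)).subtype)
    (b : G) (hYb : Y = zpowers b) : ¬ Cent27 z x b := by
  haveI : Fact (Nat.Prime 3) := ⟨by norm_num⟩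
  rintro ⟨P, hP, hc, hbP, hcomm⟩
  let Q : Subgroup ↥(EE z x) := P.subgroupOf (EE z x)
  have hQ : Nat.card Q = 27 := by
    rw [← hc]
    exact Nat.card_congr (Subgroup.subgroupOfEquivOfLe hP).toEquiv
  have hcq : Nat.card Q = 3 ^ (Nat.card ↥(EE z x)).factorization 3 := by
    rw [hQ, fact_E M hx hs1 hs11]
    norm_num
  have key : ∀ S : Sylow 3 ↥(EE z x), (S : Subgroup ↥(EE z x)) = Q →
      Y.subgroupOf (EE z x) ≤ (Subgroup.center ↥(S : Subgroup ↥(EE z x))).map (S : Subgroup ↥(EE z x)).subtype := by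
    intro S hS
    rintro ⟨y, hyE⟩ hy
    have hyY : y ∈ Y := hy
    rw [hYb] at hyY
    obtain ⟨n, rfl⟩ := mem_zpowers_iff.1 hyY
    have hyP : b ^ n ∈ P := zpow_mem hbP n
    have hmem : (⟨b ^ n, hyE⟩ : ↥(EE z x)) ∈ (S : Subgroup ↥(EE z x)) := by
      rw [hS]
      exact hyP
    refine ⟨⟨⟨b ^ n, hyE⟩, hmem⟩, Subgroup.mem_center_iff.2 ?_, rfl⟩
    rintro ⟨⟨w, hwE⟩, hwS⟩
    have hwP : (⟨w, hwE⟩ : ↥(EE z x)) ∈ Q := by
      rw [← hS]
      exact hwS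
    have hwP' : w ∈ P := hwP
    apply Subtype.ext
    apply Subtype.ext
    show w * b ^ n = b ^ n * w
    exact ((show Commute w b from hcomm w hwP').zpow_right n).eq
  exact hnc _ (key (Sylow.ofCard Q hcq) rfl)

/-- Complements of sign changes. -/
theorem h1_vanish {g c : Co0} {σ : Equiv.Perm GolayPt} (hg : Monom g σ) (hc : Monom c σ) (hg3 : g ^ 3 = 1) (hc3 : c ^ 3 = 1) :
    ∃ d ∈ signSub, d * c * d⁻¹ = g := by
  set e := g * c⁻¹ with he
  have he1 : e ∈ signSub := by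
    have h := hg.mul hc.inv
    rw [mul_inv_cancel] at h
    exact h
  set e₁ := c * e * c⁻¹ with he₁
  have hconj : ∀ {a : Co0}, a ∈ signSub → c * a * c⁻¹ ∈ signSub := by
    intro a ha
    have h := (hc.mul ha).mul hc.inv
    rw [mul_one, mul_inv_cancel] at h
    exact h
  have he₁1 : e₁ ∈ signSub := hconj he1
  set e₂ := c * e₁ * c⁻¹ with he₂
  have hge : g = e * c := by
    rw [he]
    group
  have h1 : e * e₁ * e₂ = 1 := by
    have h2 : g ^ 3 = e * e₁ * e₂ * c ^ 3 := by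
      rw [he₂, he₁, hge]
      simp only [pow_succ, pow_zero, one_mul]
      group
    rw [hg3, hc3, mul_one] at h2
    exact h2.symm
  have hee : e * e = 1 := signSub_mul_self he1
  have h3 : e₁ * e₂ = e := by
    have h4 : e * (e * e₁ * e₂) = e * 1 := by rw [h1]
    calc e₁ * e₂ = (e * e) * (e₁ * e₂) := by rw [hee, one_mul]
      _ = e * (e * e₁ * e₂) := by group
      _ = e := by rw [h1, mul_one]
  have hinv : e₁⁻¹ = e₁ := by
    rw [inv_eq_iff_mul_eq_one]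
    exact signSub_mul_self he₁1
  refine ⟨e₁, he₁1, ?_⟩
  calc e₁ * c * e₁⁻¹ = e₁ * c * e₁ := by rw [hinv]
    _ = e₁ * (c * e₁ * c⁻¹) * c := by group
    _ = g := by rw [← he₂, h3, ← hge]

/-- The element of the automorphism group of the lattice. -/
noncomputable def c33 : Co0 := permCo0 S3 S3_mem

theorem monom_c33 : Monom c33 S3 := monom_perm ⟨S3, S3_mem⟩

theorem c33_pow : c33 ^ 3 = 1 := by
  have e : ∀ (σ : Equiv.Perm GolayPt) (h : σ ∈ Cfsg.M24), σ = 1 → permCo0 σ h = 1 := by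
    rintro σ h rfl
    exact Cfsg.Agent.Lib.Sporadic.LeechCentFw.perm_one h
  rw [c33, Cfsg.Agent.Lib.Sporadic.LeechCentFw.perm_pow]
  exact e _ _ S3_pow

/-- Choice of the element of order three. -/
theorem exists_CD_3 [Finite G] (M : MModel z Qg) {s : G} (hR : M.Rel v8 s) (hs1 : s ≠ z) (hs11 : s ≠ 1) {Y : Subgroup G}
    (hY : Y ≤ EE z s) (hY3 : Nat.card Y = 3) (hnc : ∀ b : G, Y = zpowers b → ¬ Cent27 z s b) :
    ∃ (M' : MModel z Qg) (b : G), CD M' c33 3 Y b ∧ M'.Rel v8 s := by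
  have hgen : ∀ u ∈ Y, u ≠ 1 → Y = zpowers u ∧ u ^ 3 = 1 := by
    intro u hu hu1
    have hu7 : u ^ 3 = 1 := by
      have : (⟨u, hu⟩ : Y) ^ 3 = 1 := by
        have e := pow_card_eq_one' (x := (⟨u, hu⟩ : Y))
        rwa [hY3] at e
      exact congrArg Subtype.val this
    refine ⟨?_, hu7⟩
    have ho := orderOf_eq_prime (p := 3) (hp := ⟨by norm_num⟩) hu7 hu1
    symm
    apply Subgroup.eq_of_le_of_card_ge
    · rwa [zpowers_le]
    · rw [Nat.card_zpowers, ho, hY3]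
  obtain ⟨b, hbY, hb1⟩ : ∃ b ∈ Y, b ≠ 1 := by
    rcases Y.bot_or_exists_ne_one with h | h
    · rw [h] at hY3
      simp at hY3
    · exact h
  obtain ⟨hYb, hb3⟩ := hgen b hbY hb1
  have hbE := hY hbY
  have hbz : b * z = z * b := mem_centralizer_singleton_iff.1 hbE.1
  let a : ↥(EE z s) := ⟨b, hbE⟩
  have ha3 : a ^ 3 = 1 := Subtype.ext hb3
  have ha1 : a ≠ 1 := fun h => hb1 (congrArg Subtype.val h)
  rcases dich M hR hs1 hs11 a ha3 ha1 with h | ⟨w, hw, hwτ⟩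
  · exact absurd h (hnc b hYb)
  obtain ⟨g₀, hg₀, hm₀⟩ := psiE_spec M hR a
  obtain ⟨g₁, hg₁, hm₁, hg₁3⟩ : ∃ g₁, mkC g₁ = fEE M s a ∧ Monom g₁ (psiE M hR a) ∧ g₁ ^ 3 = 1 := by
    have hmk : mkC (g₀ ^ 3) = 1 := by rw [map_pow, hg₀, ← map_pow, ha3, map_one]
    rcases (mkC_eq_one_iff _).1 hmk with h1 | h1
    · exact ⟨g₀, hg₀, hm₀, h1⟩
    · refine ⟨negCo0 * g₀, ?_, monom_neg_mul hm₀, ?_⟩
      · rw [map_mul, mkC_neg, one_mul, hg₀]
      · have hc : Commute negCo0 g₀ := (Subgroup.mem_center_iff.1 negCo0_mem_center g₀).symm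
        rw [hc.mul_pow, Cfsg.Agent.Lib.Sporadic.LeechCentFw.neg_pow_odd (by decide), h1,
          Cfsg.Agent.Lib.Sporadic.LeechCentFw.neg_sq]
  set n₁ := permCo0 w hw with hn₁d
  have hn₁ : Monom n₁ w := monom_perm ⟨w, hw⟩
  set g₂ := n₁ * g₁ * n₁⁻¹ with hg₂d
  have hg₂ : Monom g₂ S3 := by
    have := (hn₁.mul hm₁).mul hn₁.inv
    rwa [hwτ] at this
  have hg₂3 : g₂ ^ 3 = 1 := by
    rw [hg₂d, conj_pow, hg₁3]
    group
  obtain ⟨d, hd, hdc⟩ := h1_vanish hg₂ monom_c33 hg₂3 c33_pow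
  set n := d⁻¹ * n₁ with hnd
  have hn : n * g₁ * n⁻¹ = c33 := by
    have e : n * g₁ * n⁻¹ = d⁻¹ * g₂ * d := by
      rw [hnd, hg₂d]
      group
    rw [e, ← hdc]
    group
  have hnN : n ∈ N := mul_mem (monom_mem_N (show Monom d⁻¹ 1 from inv_mem hd)) (monom_mem_N hn₁)
  refine ⟨M.twist n⁻¹, b, ?_, ?_⟩
  · refine
      { prime := by norm_num
        odd := by norm_num
        hB := hYb
        bz := hbz
        pow := hb3
        ne := hb1
        cpow := c33_pow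
        pi_b := ?_ }
    show (MulAut.conj (mkC n⁻¹)⁻¹) (M.pi ⟨b, mem_centralizer_singleton_iff.2 hbz⟩) = mkC c33
    have e : M.pi ⟨b, mem_centralizer_singleton_iff.2 hbz⟩ = mkC g₁ := hg₁.symm
    rw [e, ← hn, MulAut.conj_apply]
    simp only [map_mul, map_inv, inv_inv]
  · show M.Rel (n⁻¹ • v8) s
    exact M.rel_of_cl hR (mem_N_iff_v8.1 (inv_mem hnN)).symm

/-- Conjugates of the element of order three. -/
theorem hsyl_3 [Finite G] {M : MModel z Qg} {s : G} (hR : M.Rel v8 s) (hs1 : s ≠ z) (hs11 : s ≠ 1) {Y : Subgroup G} {b : G}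
    (hC : CD M c33 3 Y b) (hbs : b * s = s * b) (hnc : ∀ b : G, Y = zpowers b → ¬ Cent27 z s b) :
    ∀ m₃ u : G, u = m₃ * b * m₃⁻¹ → m₃ * z * m₃⁻¹ = s → m₃ * s * m₃⁻¹ = z * s → u * z = z * u → u * s = s * u →
      ∃ (e : G) (i : ℕ), e * z = z * e ∧ e * s = s * e ∧ e * u ^ i * e⁻¹ = b := by
  intro m₃ u hu e1 e2 hu3 hu1
  have hb3 : b ^ 3 = 1 := hC.pow
  have hu7 : u ^ 3 = 1 := by
    rw [hu, conj_pow, hb3]
    group
  have hu_ne : u ≠ 1 := by
    intro h1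
    apply hC.ne
    have : b = m₃⁻¹ * u * m₃ := by rw [hu]; group
    rw [this, h1]
    group
  let u₁ : ↥(EE z s) := ⟨u, mem_centralizer_singleton_iff.2 hu3, mem_centralizer_singleton_iff.2 hu1⟩
  have hu₁3 : u₁ ^ 3 = 1 := Subtype.ext hu7
  have hu₁1 : u₁ ≠ 1 := fun h => hu_ne (congrArg Subtype.val h)
  rcases dich M hR hs1 hs11 u₁ hu₁3 hu₁1 with hc | ⟨w, hw, hwτ⟩
  · exfalso
    apply hnc b hC.hB
    obtain ⟨P, hP, hc27, huP, hcomm⟩ := hc
    have huP' : u ∈ P := huP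
    have hcomm' : ∀ w ∈ P, w * u = u * w := hcomm
    have e3 : m₃⁻¹ * s * m₃ = z := by rw [← e1]; group
    have e4 : m₃⁻¹ * (z * s) * m₃ = s := by rw [← e2]; group
    refine ⟨P.map (MulAut.conj m₃⁻¹).toMonoidHom, ?_, ?_, ?_, ?_⟩
    · rintro _ ⟨x, hx, rfl⟩
      have hxE := hP hx
      have hx1 : x * z = z * x := mem_centralizer_singleton_iff.1 hxE.1
      have hx2 : x * s = s * x := mem_centralizer_singleton_iff.1 hxE.2
      refine ⟨mem_centralizer_singleton_iff.2 ?_, mem_centralizer_singleton_iff.2 ?_⟩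
      · show m₃⁻¹ * x * m₃⁻¹⁻¹ * z = z * (m₃⁻¹ * x * m₃⁻¹⁻¹)
        rw [← e3]
        calc m₃⁻¹ * x * m₃⁻¹⁻¹ * (m₃⁻¹ * s * m₃) = m₃⁻¹ * (x * s) * m₃ := by group
          _ = m₃⁻¹ * (s * x) * m₃ := by rw [hx2]
          _ = m₃⁻¹ * s * m₃ * (m₃⁻¹ * x * m₃⁻¹⁻¹) := by group
      · show m₃⁻¹ * x * m₃⁻¹⁻¹ * s = s * (m₃⁻¹ * x * m₃⁻¹⁻¹)
        have hx3 : x * (z * s) = (z * s) * x := by
          calc x * (z * s) = (x * z) * s := by group
            _ = z * (x * s) := by rw [hx1]; group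
            _ = z * (s * x) := by rw [hx2]
            _ = (z * s) * x := by group
        rw [← e4]
        calc m₃⁻¹ * x * m₃⁻¹⁻¹ * (m₃⁻¹ * (z * s) * m₃) = m₃⁻¹ * (x * (z * s)) * m₃ := by group
          _ = m₃⁻¹ * ((z * s) * x) * m₃ := by rw [hx3]
          _ = m₃⁻¹ * (z * s) * m₃ * (m₃⁻¹ * x * m₃⁻¹⁻¹) := by group
    · rw [Subgroup.card_map_of_injective (MulAut.conj m₃⁻¹).injective, hc27]
    · refine ⟨u, huP', ?_⟩
      show m₃⁻¹ * u * m₃⁻¹⁻¹ = b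
      rw [hu]
      group
    · rintro _ ⟨x, hx, rfl⟩
      have h5 := hcomm' x hx
      have hb : b = m₃⁻¹ * u * m₃⁻¹⁻¹ := by
        rw [hu]
        group
      show m₃⁻¹ * x * m₃⁻¹⁻¹ * b = b * (m₃⁻¹ * x * m₃⁻¹⁻¹)
      rw [hb]
      calc m₃⁻¹ * x * m₃⁻¹⁻¹ * (m₃⁻¹ * u * m₃⁻¹⁻¹) = m₃⁻¹ * (x * u) * m₃ := by group
        _ = m₃⁻¹ * (u * x) * m₃ := by rw [h5]
        _ = m₃⁻¹ * u * m₃⁻¹⁻¹ * (m₃⁻¹ * x * m₃⁻¹⁻¹) := by group
  · obtain ⟨a₁, ha₁⟩ := psiE_surj M hR hs1 hs11 hw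
    have hbz := hC.bz
    let b₁ : ↥(EE z s) := ⟨b, mem_centralizer_singleton_iff.2 hbz, mem_centralizer_singleton_iff.2 hbs⟩
    have hb₁ : psiE M hR b₁ = S3 := psiE_eq M hR ⟨c33, hC.pi_b.symm, monom_c33⟩
    set y : ↥(EE z s) := a₁ * u₁ * a₁⁻¹ with hy
    have hyS : psiE M hR y = S3 := by
      rw [hy, map_mul, map_mul, map_inv, ha₁, hwτ]
    let H : Subgroup ↥(EE z s) := (zpowers S3).comap (psiE M hR)
    let f : H →* Equiv.Perm GolayPt := (psiE M hR).comp H.subtype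
    have hk : IsPGroup 2 f.ker := by
      rintro ⟨a, ha⟩
      obtain ⟨k, hk'⟩ := psiE_ker M hR ⟨a.1, ha⟩
      have h9 : (a : ↥(EE z s)) ^ (2 ^ k) = 1 := congrArg Subtype.val hk'
      exact ⟨k, Subtype.ext (Subtype.ext h9)⟩
    have hr : ¬ 3 ^ 2 ∣ Nat.card f.range := by
      intro h9
      have hle : f.range ≤ zpowers S3 := by
        rintro _ ⟨a, rfl⟩
        exact a.2
      have h1 := Subgroup.card_dvd_of_le hle
      rw [Nat.card_zpowers] at h1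
      have h2 : orderOf S3 ∣ 3 := orderOf_dvd_of_pow_eq_one S3_pow
      have h3 := (h9.trans h1).trans h2
      norm_num at h3
    have hN := not_sq_of_ker f hk (by norm_num : Nat.Prime 3) (by norm_num) hr
    have hyH : y ∈ H := by
      show psiE M hR y ∈ zpowers S3
      rw [hyS]
      exact mem_zpowers _
    have hbH : b₁ ∈ H := by
      show psiE M hR b₁ ∈ zpowers S3
      rw [hb₁]
      exact mem_zpowers _
    have hy3 : y ^ 3 = 1 := by
      rw [hy, conj_pow, hu₁3]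
      group
    have hy1 : y ≠ 1 := by
      intro h
      apply hu₁1
      have : u₁ = a₁⁻¹ * y * a₁ := by rw [hy]; group
      rw [this, h]
      group
    obtain ⟨e, i, hei⟩ := conj_of_not_sq (Γ := H) (by norm_num : Nat.Prime 3) hN (x := ⟨y, hyH⟩) (y := ⟨b₁, hbH⟩)
      (Subtype.ext hy3) (fun h => hy1 (congrArg Subtype.val h)) (Subtype.ext (Subtype.ext hb3))
      (fun h => hC.ne (congrArg (fun t : H => ((t : ↥(EE z s)) : G)) h))
    have h6 : ((e : ↥(EE z s)) : G) * (((a₁ : G) * u * (a₁ : G)⁻¹)) ^ i * ((e : ↥(EE z s)) : G)⁻¹ = b :=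
      congrArg (fun t : H => ((t : ↥(EE z s)) : G)) hei
    rw [conj_pow] at h6
    have hE : ((e : ↥(EE z s)) : G) * (a₁ : G) ∈ EE z s := mul_mem e.1.2 a₁.2
    refine ⟨((e : ↥(EE z s)) : G) * (a₁ : G), i, mem_centralizer_singleton_iff.1 hE.1, mem_centralizer_singleton_iff.1 hE.2, ?_⟩
    rw [← h6]
    group

end Cfsg.Agent.Lib.Sporadic.MonsterModel
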