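import Mathlib
import Cfsg.Agent.Lib.Sporadic.LeechThree
import Cfsg.Agent.Lib.Sporadic.MonsterThreeA

/-!
# The centraliser of an element of order three in a group of Monster type
-/

set_option autoImplicit false

namespace Cfsg.Agent.Lib.Sporadic.MonsterModel

open Subgroup Cfsg Cfsg.Agent.Lib.Sporadic.GolayCore
  Cfsg.Agent.Lib.Sporadic.LeechNorm Cfsg.Agent.Lib.Sporadic.LeechFacts
  Cfsg.Agent.Lib.Sporadic.LeechAut Cfsg.Agent.Lib.Sporadic.LeechClasses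
  Cfsg.Agent.Lib.Sporadic.LeechAct Cfsg.Agent.Lib.Sporadic.LeechMod2
  Cfsg.Agent.Lib.Sporadic.LeechLocal Cfsg.Agent.Lib.Sporadic.LeechOrbits
  Cfsg.Agent.Lib.Sporadic.LeechKey
  Cfsg.Agent.Lib.Sporadic.LeechThree
  Cfsg.Agent.Lib.Sporadic.LeechCentFw

variable {G : Type*} [Group G] {z : G} {Qg : Subgroup G}

/-- The theorem. -/
theorem thompson_of_rel [Finite G] (M : MModel z Qg) {s g₀ : G} (hR : M.Rel v8 s) (hs1 : s ≠ z) (hs11 : s ≠ 1) {Y : Subgroup G}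
    (hY : Y ≤ centralizer ({z, s} : Set G)) (hY3 : Nat.card Y = 3)
    (hnc : ∀ P : Sylow 3 ↥(centralizer ({z, s} : Set G)),
      ¬ Y.subgroupOf (centralizer ({z, s} : Set G)) ≤
        (Subgroup.center ↥(P : Subgroup ↥(centralizer ({z, s} : Set G)))).map (P : Subgroup ↥(centralizer ({z, s} : Set G))).subtype)
    [(TtB Y).Normal] (hg₀ : g₀ * z * g₀⁻¹ ∈ Qg) (hne₀ : g₀ * z * g₀⁻¹ ≠ z) : IsOfThompsonType (BtB Y) := by
  rw [centralizer_pair] at hY hnc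
  have hnc' := no_cent27 M hR hs1 hs11 hnc
  obtain ⟨M', b, hC, hR'⟩ := exists_CD_3 M hR hs1 hs11 hY hY3 hnc'
  have hbY : b ∈ Y := by
    rw [hC.hB]
    exact mem_zpowers b
  have hbs : b * s = s * b := mem_centralizer_singleton_iff.1 (hY hbY).2
  obtain ⟨m, hm, e⟩ := conj_in_At_odd hC (hp4_three hC.pow) hR' hbs.symm (norm_u8 none) hg₀ hne₀ (hsyl_3 hR' hs1 hs11 hC hbs hnc')
  have hC3 : CD M' c3 3 Y b := hC
  have hQ : m * z * m⁻¹ ∈ Qg := by
    rw [e]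
    exact M'.rel_mem hR'
  have hne : m * z * m⁻¹ ≠ z := by
    rw [e]
    exact hs1
  exact ⟨hC3.zb, hC3.Qb hnData, inferInstance, hC3.setting hnData (by norm_num) no_normal_two (w := 4) (by norm_num) hm hQ hne,
    ⟨hC3.eB hnData⟩⟩

end Cfsg.Agent.Lib.Sporadic.MonsterModel
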