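import Mathlib
import Cfsg.Agent.Lib.Sporadic.MonsterThreeA

/-!
# Central elements of order three in a group of Monster type
-/

set_option autoImplicit false
set_option maxRecDepth 100000

namespace Cfsg.Agent.Lib.Sporadic.M24Three

open Cfsg Subgroup Cfsg.Agent.Lib.Compute.M24 Cfsg.Agent.Lib.Compute.M24Enum

theorem Wit_chkZ : ∀ a ∈ P0L, P0L.all (fun b => mulL a b == mulL b a) = true → a = idL ∨ ∃ x ∈ Wit, x.1 = a ∧ validL x.2 = true ∧ inM24 x.2 = true ∧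
    mulL x.2 a = mulL Zt x.2 := by decide +kernel

/-- The central element of order three. -/
noncomputable def SZ : P := ofL Zt

theorem toL_SZ : toL SZ = Zt := toL_ofL Zt_valid

theorem SZ_mem : SZ ∈ M24 := P0_le (by show toL _ ∈ P0L; rw [toL_SZ]; exact Zt_mem)

theorem SZ_pow : SZ ^ 3 = 1 := by
  apply eq_of_toL
  rw [toL_pow, toL_SZ, toL_one]
  decide +kernel

/-- Central elements of order three. -/
theorem lemmaZ (τ : P) (hτ : τ ∈ M24) (h1 : τ ≠ 1) (T : Subgroup P) (hTM : T ≤ M24) (hc : Nat.card T = 27) (hm : τ ∈ T)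
    (hcent : ∀ x ∈ T, x * τ = τ * x) : ∃ w ∈ M24, w * τ * w⁻¹ = SZ := by
  haveI : Fact (Nat.Prime 3) := ⟨by norm_num⟩
  let Q : Subgroup ↥M24 := P0.subgroupOf M24
  have hQ : Nat.card Q = 27 := by
    rw [← card_P0]
    exact Nat.card_congr (Subgroup.subgroupOfEquivOfLe P0_le).toEquiv
  have hQc : Nat.card Q = 3 ^ (Nat.card ↥M24).factorization 3 := by
    rw [hQ, Cfsg.Agent.Lib.Sporadic.M24Basic.card_M24, fact_three]
    norm_num
  let R : Subgroup ↥M24 := T.subgroupOf M24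
  have hR : Nat.card R = 27 := by
    rw [← hc]
    exact Nat.card_congr (Subgroup.subgroupOfEquivOfLe hTM).toEquiv
  have hRc : Nat.card R = 3 ^ (Nat.card ↥M24).factorization 3 := by
    rw [hR, Cfsg.Agent.Lib.Sporadic.M24Basic.card_M24, fact_three]
    norm_num
  let Syl : Sylow 3 ↥M24 := Sylow.ofCard Q hQc
  let SylR : Sylow 3 ↥M24 := Sylow.ofCard R hRc
  obtain ⟨g, hg⟩ := MulAction.exists_smul_eq ↥M24 Syl SylR
  have hmem : ∀ y : ↥M24, (y : P) ∈ T → (g⁻¹ * y * g : ↥M24) ∈ Q := by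
    intro y hy
    have hy2 : y ∈ (SylR : Subgroup ↥M24) := hy
    rw [← hg, Sylow.coe_subgroup_smul, Subgroup.mem_pointwise_smul_iff_inv_smul_mem] at hy2
    have h6 : (g⁻¹ * y * g) ∈ (Syl : Subgroup ↥M24) := by
      simpa [MulAut.smul_def, MulAut.conj_apply] using hy2
    exact h6
  have hmem' : ∀ y : ↥M24, (y : P) ∈ P0 → (g * y * g⁻¹ : ↥M24) ∈ R := by
    intro y hy
    have hy2 : y ∈ (Syl : Subgroup ↥M24) := hy
    have h6 : (g * y * g⁻¹) ∈ (SylR : Subgroup ↥M24) := by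
      rw [← hg, Sylow.coe_subgroup_smul]
      exact ⟨y, hy2, rfl⟩
    exact h6
  let τ₁ : ↥M24 := ⟨τ, hτ⟩
  set e : P := ((g⁻¹ * τ₁ * g : ↥M24) : P) with he_def
  have heP : toL e ∈ P0L := hmem τ₁ hm
  have he1 : e = (g : P)⁻¹ * τ * (g : P) := rfl
  have hcen : P0L.all (fun b => mulL (toL e) b == mulL b (toL e)) = true := by
    rw [List.all_eq_true]
    intro b hb
    rw [beq_iff_eq]
    have hv := P0_valid b hb
    have hb1 : toL (ofL b) = b := toL_ofL hv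
    have hbP : ofL b ∈ P0 := by
      show toL _ ∈ P0L
      rw [hb1]
      exact hb
    have hbM : ofL b ∈ M24 := P0_le hbP
    have h3 : ((g * ⟨ofL b, hbM⟩ * g⁻¹ : ↥M24) : P) ∈ T := hmem' ⟨ofL b, hbM⟩ hbP
    have h4 := hcent _ h3
    have h5 : e * ofL b = ofL b * e := by
      have e1 : ((g * ⟨ofL b, hbM⟩ * g⁻¹ : ↥M24) : P) = (g : P) * ofL b * (g : P)⁻¹ := rfl
      rw [e1] at h4
      rw [he1]
      calc (g : P)⁻¹ * τ * (g : P) * ofL b = (g : P)⁻¹ * (τ * ((g : P) * ofL b * (g : P)⁻¹)) * (g : P) := by group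
        _ = (g : P)⁻¹ * (((g : P) * ofL b * (g : P)⁻¹) * τ) * (g : P) := by rw [h4]
        _ = ofL b * ((g : P)⁻¹ * τ * (g : P)) := by group
    rw [← hb1, ← Cfsg.Agent.Lib.Compute.M24Enum.toL_mul, h5, Cfsg.Agent.Lib.Compute.M24Enum.toL_mul]
  rcases Wit_chkZ _ heP hcen with h | ⟨x, hx, hxe, hv, hm2, hc3⟩
  · exfalso
    have : e = 1 := eq_of_toL (by rw [h, toL_one])
    apply h1
    rw [he1] at this
    have h5 : τ = (g : P) * ((g : P)⁻¹ * τ * (g : P)) * (g : P)⁻¹ := by group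
    rw [h5, this]
    group
  · have hwM : ofL x.2 ∈ M24 := mem_M24_of_inM24 (codes_ofL hv) hm2
    set w := ofL x.2 with hw
    have htw : toL w = x.2 := toL_ofL hv
    have hwe : w * e = SZ * w := eq_of_toL (by rw [Cfsg.Agent.Lib.Compute.M24Enum.toL_mul, Cfsg.Agent.Lib.Compute.M24Enum.toL_mul, htw, toL_SZ, hc3])
    refine ⟨w * (g : P)⁻¹, mul_mem hwM (inv_mem g.2), ?_⟩
    have hconj : (w * (g : P)⁻¹) * τ * (w * (g : P)⁻¹)⁻¹ = w * e * w⁻¹ := by
      rw [he1]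
      group
    rw [hconj, hwe]
    group

end Cfsg.Agent.Lib.Sporadic.M24Three

namespace Cfsg.Agent.Lib.Sporadic.MonsterModel

open Subgroup Cfsg Cfsg.Agent.Lib.PGroup.LargeExtraspecial
  Cfsg.Agent.Lib.PGroup.LargeFz
  Cfsg.Agent.Lib.Sporadic.GolayCore
  Cfsg.Agent.Lib.Sporadic.LeechNorm Cfsg.Agent.Lib.Sporadic.LeechFacts
  Cfsg.Agent.Lib.Sporadic.LeechAut Cfsg.Agent.Lib.Sporadic.LeechClasses
  Cfsg.Agent.Lib.Sporadic.LeechAct Cfsg.Agent.Lib.Sporadic.LeechMod2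
  Cfsg.Agent.Lib.Sporadic.LeechLocal Cfsg.Agent.Lib.Sporadic.LeechOrbits
  Cfsg.Agent.Lib.Sporadic.LeechKey
  Cfsg.Agent.Lib.Sporadic.LeechMat Cfsg.Agent.Lib.Sporadic.LeechMonomial
  Cfsg.Agent.Lib.Sporadic.M24Three

variable {G : Type*} [Group G] {z : G} {Qg : Subgroup G}

/-- The element of the automorphism group of the lattice. -/
noncomputable def c3z : Co0 := permCo0 SZ SZ_mem

theorem monom_c3z : Monom c3z SZ := monom_perm ⟨SZ, SZ_mem⟩

theorem c3z_pow : c3z ^ 3 = 1 := by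
  have e : ∀ (σ : Equiv.Perm GolayPt) (h : σ ∈ Cfsg.M24), σ = 1 → permCo0 σ h = 1 := by
    rintro σ h rfl
    exact Cfsg.Agent.Lib.Sporadic.LeechCentFw.perm_one h
  rw [c3z, Cfsg.Agent.Lib.Sporadic.LeechCentFw.perm_pow]
  exact e _ _ SZ_pow

/-- A central element maps to the class of the central element of order three. -/
theorem conj_of_Cent27 [Finite G] (M : MModel z Qg) {x : G} (hx : M.Rel v8 x) (hs1 : x ≠ z) (hs11 : x ≠ 1) (a : ↥(EE z x))
    (h3 : a ^ 3 = 1) (h1 : a ≠ 1) (hc : Cent27 z x (a : G)) : ∃ w ∈ M24, w * psiE M hx a * w⁻¹ = SZ := by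
  obtain ⟨P, hP, hc27, haP, hcomm⟩ := hc
  have hτ1 : psiE M hx a ≠ 1 := by
    intro h
    obtain ⟨k, hk⟩ := psiE_ker M hx ⟨a, h⟩
    exact h1 (eq_one_of_two_three a (b := 1) (congrArg Subtype.val hk) (by simpa using h3))
  let P₁ : Subgroup ↥(EE z x) := P.subgroupOf (EE z x)
  have hP₁ : Nat.card P₁ = 27 := by
    rw [← hc27]
    exact Nat.card_congr (Subgroup.subgroupOfEquivOfLe hP).toEquiv
  have hinj : Function.Injective ((psiE M hx).comp P₁.subtype) := by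
    rw [injective_iff_map_eq_one]
    rintro ⟨y, hy⟩ hy1
    obtain ⟨k, hk⟩ := psiE_ker M hx ⟨y, hy1⟩
    have hk' : y ^ (2 ^ k) = 1 := congrArg Subtype.val hk
    have h27 : (⟨y, hy⟩ : P₁) ^ 27 = 1 := by
      have := pow_card_eq_one' (x := (⟨y, hy⟩ : P₁))
      rwa [hP₁] at this
    have h27' : y ^ (3 ^ 3) = 1 := congrArg Subtype.val h27
    have := eq_one_of_two_three y hk' h27'
    exact Subtype.ext this
  let T : Subgroup (Equiv.Perm GolayPt) := P₁.map (psiE M hx)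
  have hTc : Nat.card T = 27 := by
    have e : T = ((psiE M hx).comp P₁.subtype).range := by
      rw [MonoidHom.range_comp, Subgroup.range_subtype]
    rw [e, Nat.card_congr (MonoidHom.ofInjective hinj).symm.toEquiv, hP₁]
  have hTM : T ≤ M24 := by
    rintro _ ⟨y, _, rfl⟩
    exact psiE_mem M hx y
  have hm : psiE M hx a ∈ T := ⟨a, haP, rfl⟩
  have hcent : ∀ y ∈ T, y * psiE M hx a = psiE M hx a * y := by
    rintro _ ⟨y, hy, rfl⟩
    rw [← map_mul, ← map_mul]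
    congr 1
    exact Subtype.ext (hcomm _ hy)
  exact lemmaZ _ (psiE_mem M hx a) hτ1 T hTM hTc hm hcent

/-- Choice of the element of order three. -/
theorem exists_CD_Z [Finite G] (M : MModel z Qg) {s : G} (hR : M.Rel v8 s) (hs1 : s ≠ z) (hs11 : s ≠ 1) {Y : Subgroup G}
    (hY : Y ≤ EE z s) (hY3 : Nat.card Y = 3) (hnc : ∀ b ∈ Y, Y = zpowers b → Cent27 z s b) :
    ∃ (M' : MModel z Qg) (b : G), CD M' c3z 3 Y b ∧ M'.Rel v8 s := by
  have hgen : ∀ u ∈ Y, u ≠ 1 → Y = zpowers u ∧ u ^ 3 = 1 := by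
    intro u hu hu1
    have hu7 : u ^ 3 = 1 := by
      have : (⟨u, hu⟩ : Y) ^ 3 = 1 := by
        have e := pow_card_eq_one' (x := (⟨u, hu⟩ : Y))
        rwa [hY3] at e
      exact congrArg Subtype.val this
    refine ⟨?_, hu7⟩
    have ho := orderOf_eq_prime (p := 3) (hp := ⟨by norm_num⟩) hu7 hu1
    symm
    apply Subgroup.eq_of_le_of_card_ge
    · rwa [zpowers_le]
    · rw [Nat.card_zpowers, ho, hY3]
  obtain ⟨b, hbY, hb1⟩ : ∃ b ∈ Y, b ≠ 1 := by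
    rcases Y.bot_or_exists_ne_one with h | h
    · rw [h] at hY3
      simp at hY3
    · exact h
  obtain ⟨hYb, hb3⟩ := hgen b hbY hb1
  have hbE := hY hbY
  have hbz : b * z = z * b := mem_centralizer_singleton_iff.1 hbE.1
  let a : ↥(EE z s) := ⟨b, hbE⟩
  have ha3 : a ^ 3 = 1 := Subtype.ext hb3
  have ha1 : a ≠ 1 := fun h => hb1 (congrArg Subtype.val h)
  obtain ⟨w, hw, hwτ⟩ := conj_of_Cent27 M hR hs1 hs11 a ha3 ha1 (hnc b hbY hYb)
  obtain ⟨g₀, hg₀, hm₀⟩ := psiE_spec M hR a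
  obtain ⟨g₁, hg₁, hm₁, hg₁3⟩ : ∃ g₁, mkC g₁ = fEE M s a ∧ Monom g₁ (psiE M hR a) ∧ g₁ ^ 3 = 1 := by
    have hmk : mkC (g₀ ^ 3) = 1 := by rw [map_pow, hg₀, ← map_pow, ha3, map_one]
    rcases (mkC_eq_one_iff _).1 hmk with h1 | h1
    · exact ⟨g₀, hg₀, hm₀, h1⟩
    · refine ⟨negCo0 * g₀, ?_, monom_neg_mul hm₀, ?_⟩
      · rw [map_mul, mkC_neg, one_mul, hg₀]
      · have hc : Commute negCo0 g₀ := (Subgroup.mem_center_iff.1 negCo0_mem_center g₀).symm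
        rw [hc.mul_pow, Cfsg.Agent.Lib.Sporadic.LeechCentFw.neg_pow_odd (by decide), h1,
          Cfsg.Agent.Lib.Sporadic.LeechCentFw.neg_sq]
  set n₁ := permCo0 w hw with hn₁d
  have hn₁ : Monom n₁ w := monom_perm ⟨w, hw⟩
  set g₂ := n₁ * g₁ * n₁⁻¹ with hg₂d
  have hg₂ : Monom g₂ SZ := by
    have := (hn₁.mul hm₁).mul hn₁.inv
    rwa [hwτ] at this
  have hg₂3 : g₂ ^ 3 = 1 := by
    rw [hg₂d, conj_pow, hg₁3]
    group
  obtain ⟨d, hd, hdc⟩ := h1_vanish hg₂ monom_c3z hg₂3 c3z_pow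
  set n := d⁻¹ * n₁ with hnd
  have hn : n * g₁ * n⁻¹ = c3z := by
    have e : n * g₁ * n⁻¹ = d⁻¹ * g₂ * d := by
      rw [hnd, hg₂d]
      group
    rw [e, ← hdc]
    group
  have hnN : n ∈ N := mul_mem (monom_mem_N (show Monom d⁻¹ 1 from inv_mem hd)) (monom_mem_N hn₁)
  refine ⟨M.twist n⁻¹, b, ?_, ?_⟩
  · refine
      { prime := by norm_num
        odd := by norm_num
        hB := hYb
        bz := hbz
        pow := hb3
        ne := hb1
        cpow := c3z_pow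
        pi_b := ?_ }
    show (MulAut.conj (mkC n⁻¹)⁻¹) (M.pi ⟨b, mem_centralizer_singleton_iff.2 hbz⟩) = mkC c3z
    have e : M.pi ⟨b, mem_centralizer_singleton_iff.2 hbz⟩ = mkC g₁ := hg₁.symm
    rw [e, ← hn, MulAut.conj_apply]
    simp only [map_mul, map_inv, inv_inv]
  · show M.Rel (n⁻¹ • v8) s
    exact M.rel_of_cl hR (mem_N_iff_v8.1 (inv_mem hnN)).symm

/-- Conjugates of the element of order three. -/
theorem hsyl_Z [Finite G] {M : MModel z Qg} {s : G} (hR : M.Rel v8 s) (hs1 : s ≠ z) (hs11 : s ≠ 1) {Y : Subgroup G} {b : G}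
    (hC : CD M c3z 3 Y b) (hbs : b * s = s * b) (hcen : Cent27 z s b) :
    ∀ m₃ u : G, u = m₃ * b * m₃⁻¹ → m₃ * z * m₃⁻¹ = s → m₃ * s * m₃⁻¹ = z * s → u * z = z * u → u * s = s * u →
      ∃ (e : G) (i : ℕ), e * z = z * e ∧ e * s = s * e ∧ e * u ^ i * e⁻¹ = b := by
  intro m₃ u hu e1 e2 hu3 hu1
  have hb3 : b ^ 3 = 1 := hC.pow
  have hu7 : u ^ 3 = 1 := by
    rw [hu, conj_pow, hb3]
    group
  have hu_ne : u ≠ 1 := by
    intro h1
    apply hC.ne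
    have : b = m₃⁻¹ * u * m₃ := by rw [hu]; group
    rw [this, h1]
    group
  let u₁ : ↥(EE z s) := ⟨u, mem_centralizer_singleton_iff.2 hu3, mem_centralizer_singleton_iff.2 hu1⟩
  have hu₁3 : u₁ ^ 3 = 1 := Subtype.ext hu7
  have hu₁1 : u₁ ≠ 1 := fun h => hu_ne (congrArg Subtype.val h)
  have hcu : Cent27 z s u := by
    obtain ⟨P, hP, hc27, hbP, hcomm⟩ := hcen
    have hcomm' : ∀ w ∈ P, w * b = b * w := hcomm
    refine ⟨P.map (MulAut.conj m₃).toMonoidHom, ?_, ?_, ?_, ?_⟩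
    · rintro _ ⟨x, hx, rfl⟩
      have hxE := hP hx
      have hx1 : x * z = z * x := mem_centralizer_singleton_iff.1 hxE.1
      have hx2 : x * s = s * x := mem_centralizer_singleton_iff.1 hxE.2
      show m₃ * x * m₃⁻¹ ∈ EE z s
      have hys : m₃ * x * m₃⁻¹ * s = s * (m₃ * x * m₃⁻¹) := by
        rw [← e1]
        calc m₃ * x * m₃⁻¹ * (m₃ * z * m₃⁻¹) = m₃ * (x * z) * m₃⁻¹ := by group
          _ = m₃ * (z * x) * m₃⁻¹ := by rw [hx1]
          _ = m₃ * z * m₃⁻¹ * (m₃ * x * m₃⁻¹) := by group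
      have hyzs : m₃ * x * m₃⁻¹ * (z * s) = (z * s) * (m₃ * x * m₃⁻¹) := by
        rw [← e2]
        calc m₃ * x * m₃⁻¹ * (m₃ * s * m₃⁻¹) = m₃ * (x * s) * m₃⁻¹ := by group
          _ = m₃ * (s * x) * m₃⁻¹ := by rw [hx2]
          _ = m₃ * s * m₃⁻¹ * (m₃ * x * m₃⁻¹) := by group
      have hyz : m₃ * x * m₃⁻¹ * z = z * (m₃ * x * m₃⁻¹) := by
        apply mul_right_cancel (b := s)
        calc m₃ * x * m₃⁻¹ * z * s = m₃ * x * m₃⁻¹ * (z * s) := by group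
          _ = (z * s) * (m₃ * x * m₃⁻¹) := hyzs
          _ = z * (s * (m₃ * x * m₃⁻¹)) := by group
          _ = z * (m₃ * x * m₃⁻¹ * s) := by rw [hys]
          _ = z * (m₃ * x * m₃⁻¹) * s := by group
      exact ⟨mem_centralizer_singleton_iff.2 hyz, mem_centralizer_singleton_iff.2 hys⟩
    · rw [Subgroup.card_map_of_injective (MulAut.conj m₃).injective, hc27]
    · refine ⟨b, hbP, ?_⟩
      rw [hu]
      rfl
    · rintro _ ⟨x, hx, rfl⟩
      have h5 := hcomm' x hx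
      show m₃ * x * m₃⁻¹ * u = u * (m₃ * x * m₃⁻¹)
      rw [hu]
      calc m₃ * x * m₃⁻¹ * (m₃ * b * m₃⁻¹) = m₃ * (x * b) * m₃⁻¹ := by group
        _ = m₃ * (b * x) * m₃⁻¹ := by rw [h5]
        _ = m₃ * b * m₃⁻¹ * (m₃ * x * m₃⁻¹) := by group
  obtain ⟨w, hw, hwτ⟩ := conj_of_Cent27 M hR hs1 hs11 u₁ hu₁3 hu₁1 hcu
  obtain ⟨a₁, ha₁⟩ := psiE_surj M hR hs1 hs11 hw
  have hbz := hC.bz
  let b₁ : ↥(EE z s) := ⟨b, mem_centralizer_singleton_iff.2 hbz, mem_centralizer_singleton_iff.2 hbs⟩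
  have hb₁ : psiE M hR b₁ = SZ := psiE_eq M hR ⟨c3z, hC.pi_b.symm, monom_c3z⟩
  set y : ↥(EE z s) := a₁ * u₁ * a₁⁻¹ with hy
  have hyS : psiE M hR y = SZ := by
    rw [hy, map_mul, map_mul, map_inv, ha₁, hwτ]
  let H : Subgroup ↥(EE z s) := (zpowers SZ).comap (psiE M hR)
  let f : H →* Equiv.Perm GolayPt := (psiE M hR).comp H.subtype
  have hk : IsPGroup 2 f.ker := by
    rintro ⟨a, ha⟩
    obtain ⟨k, hk'⟩ := psiE_ker M hR ⟨a.1, ha⟩
    have h9 : (a : ↥(EE z s)) ^ (2 ^ k) = 1 := congrArg Subtype.val hk'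
    exact ⟨k, Subtype.ext (Subtype.ext h9)⟩
  have hr : ¬ 3 ^ 2 ∣ Nat.card f.range := by
    intro h9
    have hle : f.range ≤ zpowers SZ := by
      rintro _ ⟨a, rfl⟩
      exact a.2
    have h1 := Subgroup.card_dvd_of_le hle
    rw [Nat.card_zpowers] at h1
    have h2 : orderOf SZ ∣ 3 := orderOf_dvd_of_pow_eq_one SZ_pow
    have h3 := (h9.trans h1).trans h2
    norm_num at h3
  have hN := not_sq_of_ker f hk (by norm_num : Nat.Prime 3) (by norm_num) hr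
  have hyH : y ∈ H := by
    show psiE M hR y ∈ zpowers SZ
    rw [hyS]
    exact mem_zpowers _
  have hbH : b₁ ∈ H := by
    show psiE M hR b₁ ∈ zpowers SZ
    rw [hb₁]
    exact mem_zpowers _
  have hy3 : y ^ 3 = 1 := by
    rw [hy, conj_pow, hu₁3]
    group
  have hy1 : y ≠ 1 := by
    intro h
    apply hu₁1
    have : u₁ = a₁⁻¹ * y * a₁ := by rw [hy]; group
    rw [this, h]
    group
  obtain ⟨e, i, hei⟩ := conj_of_not_sq (Γ := H) (by norm_num : Nat.Prime 3) hN (x := ⟨y, hyH⟩) (y := ⟨b₁, hbH⟩)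
    (Subtype.ext hy3) (fun h => hy1 (congrArg Subtype.val h)) (Subtype.ext (Subtype.ext hb3))
    (fun h => hC.ne (congrArg (fun t : H => ((t : ↥(EE z s)) : G)) h))
  have h6 : ((e : ↥(EE z s)) : G) * (((a₁ : G) * u * (a₁ : G)⁻¹)) ^ i * ((e : ↥(EE z s)) : G)⁻¹ = b :=
    congrArg (fun t : H => ((t : ↥(EE z s)) : G)) hei
  rw [conj_pow] at h6
  have hE : ((e : ↥(EE z s)) : G) * (a₁ : G) ∈ EE z s := mul_mem e.1.2 a₁.2
  refine ⟨((e : ↥(EE z s)) : G) * (a₁ : G), i, mem_centralizer_singleton_iff.1 hE.1, mem_centralizer_singleton_iff.1 hE.2, ?_⟩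
  rw [← h6]
  group

end Cfsg.Agent.Lib.Sporadic.MonsterModel
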